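import Mathlib.Topology.KrullDimension
import Mathlib.Topology.Sober
import Groth.Prelude.Def_Flat

/-!
Krull dimensions of sober spaces through the coheight in the specialization order.
-/

universe u

open TopologicalSpace Topology Set Order

namespace Groth.Agent.Lib.AlgSpDecent.SpecOrder

variable {X : Type*} [TopologicalSpace X]

/-- The coheight of a point in the specialization order: chains of generizations. -/
noncomputable def cohtPt (x : X) : ℕ∞ := @Order.coheight X (specializationPreorder X) x

theorem isMax_iff {x : X} [T0Space X] :
    @IsMax X (specializationPreorder X).toLE x ↔ ∀ y, y ⤳ x → y = x := by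
  constructor
  · intro h y hy
    exact (hy.antisymm (h hy)).eq
  · intro h y hy
    rw [h y hy]
    exact @le_refl X (specializationPreorder X) x

theorem cohtPt_eq_zero [T0Space X] {x : X} : cohtPt x = 0 ↔ ∀ y, y ⤳ x → y = x := by
  letI := specializationPreorder X
  exact Order.coheight_eq_zero.trans isMax_iff

variable [QuasiSober X] [T0Space X]

theorem exists_component_iff (x : X) :
    (∃ T ∈ irreducibleComponents X, IsGenericPoint x T) ↔ ∀ y, y ⤳ x → y = x := by
  constructor
  · rintro ⟨T, hT, hx⟩ y hy
    have h1 : closure {x} ⊆ closure {y} := specializes_iff_closure_subset.1 hy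
    rw [hx.def] at h1
    have h2 : closure {y} ⊆ T := hT.2 isIrreducible_singleton.closure h1
    have : IsGenericPoint y T := subset_antisymm h2 h1
    exact this.eq hx
  · intro h
    refine ⟨closure {x}, ⟨isIrreducible_singleton.closure, fun Z hZ hle => ?_⟩, isGenericPoint_closure⟩
    obtain ⟨y, hy⟩ := QuasiSober.sober hZ.closure isClosed_closure
    have hyx : y ⤳ x := hy.specializes (subset_closure (hle (subset_closure rfl)))
    rw [← h y hyx, hy.def]
    exact subset_closure

theorem coheight_irreducibleCloseds (T : IrreducibleCloseds X) {x : X}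
    (hx : IsGenericPoint x (T : Set X)) : Order.coheight T = cohtPt x := by
  letI := specializationOrder X
  have h : irreducibleSetEquivPoints T = x :=
    (T.2.isGenericPoint_genericPoint_closure).eq (by rwa [closure_eq_iff_isClosed.2 T.3])
  rw [← Order.coheight_orderIso (irreducibleSetEquivPoints (α := X)) T, h]
  rfl

theorem topologicalKrullDim_eq_iSup :
    topologicalKrullDim X = ⨆ x : X, (cohtPt x : WithBot ℕ∞) := by
  letI := specializationOrder X
  rw [topologicalKrullDim, Order.krullDim_eq_of_orderIso (irreducibleSetEquivPoints (α := X)),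
    Order.krullDim_eq_iSup_coheight]
  rfl

theorem topologicalKrullDim_open {O : Set X} (hO : IsOpen O) :
    topologicalKrullDim O = ⨆ x : O, (cohtPt x.1 : WithBot ℕ∞) := by
  have := hO.isOpenEmbedding_subtypeVal.quasiSober
  rw [topologicalKrullDim_eq_iSup]
  refine iSup_congr fun x => ?_
  have h : cohtPt x.1 = cohtPt x := by
    letI := specializationPreorder X
    letI := specializationPreorder O
    exact hO.isOpenEmbedding_subtypeVal.coheight_eq (Subtype.val : O → X)
  rw [h]

section Map

variable {Y : Type*} [TopologicalSpace Y] [T0Space Y] [QuasiSober Y]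

omit [QuasiSober X] [QuasiSober Y] in
/-- A continuous map without specializations in fibres along which generizations lift preserves
coheights. -/
theorem cohtPt_map (f : Y → X) (hf : Continuous f)
    (hfib : ∀ y y', f y = f y' → y' ⤳ y → y = y')
    (hlift : ∀ y x', x' ⤳ f y → ∃ y', y' ⤳ y ∧ f y' = x') (y : Y) :
    cohtPt (f y) = cohtPt y := by
  letI := specializationOrder X
  letI := specializationOrder Y
  refine (Order.coheight_eq_of_strictMono f (fun a b hab => ?_) (fun {a b} hab => ?_) y).symm
  · have hle : b ⤳ a := hab.le
    exact lt_of_le_of_ne (show f b ⤳ f a from hle.map hf) fun he => hab.ne (hfib a b he hle)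
  · obtain ⟨a', ha', rfl⟩ := hlift a b hab.le
    exact ⟨a', lt_of_le_of_ne ha' fun he => hab.ne (congrArg f he), rfl⟩

end Map

end Groth.Agent.Lib.AlgSpDecent.SpecOrder
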