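import Groth.Agent.Lib.AlgSpDecent.Specialize
import Groth.Agent.Lib.AlgSpDecent.SpecOrder
import Mathlib.AlgebraicGeometry.Properties
import Mathlib.AlgebraicGeometry.Noetherian
import Mathlib.RingTheory.Ideal.KrullsHeightTheorem

/-!
Locally Noetherian spaces have no specializations in fibres of etale charts.
-/

universe u

open CategoryTheory CategoryTheory.Limits AlgebraicGeometry Opposite Topology

namespace Groth.Agent.Lib.AlgSpDecent.LocNoeth

open AlgSp Core Fibre Specialize SpecOrder

variable {S : Scheme.{u}} {F : Sp S}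

theorem cohtPt_add_one_le {X : Type*} [TopologicalSpace X] {x y : X} (h : y ⤳ x)
    (hn : ¬ x ⤳ y) : cohtPt y + 1 ≤ cohtPt x := by
  letI := specializationPreorder X
  exact Order.coheight_add_one_le (lt_iff_le_not_ge.2 ⟨h, hn⟩)

theorem cohtPt_ne_top {X : Scheme.{u}} [IsLocallyNoetherian X] (x : X) : cohtPt x ≠ ⊤ := by
  obtain ⟨R, f, hf, hx, -⟩ := Scheme.exists_affine_mem_range_and_range_subset
    (show x ∈ (⊤ : X.Opens) from trivial)
  have := hf
  obtain ⟨P, rfl⟩ := hx
  have : IsLocallyNoetherian (Spec R) := isLocallyNoetherian_of_isOpenImmersion f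
  have : IsNoetherianRing R := isLocallyNoetherian_Spec.1 ‹_›
  intro h
  have h1 : Order.coheight (f.base P) = ⊤ := h
  rw [coheight_eq_of_isOpenImmersion] at h1
  rw [← idealHeight_eq_coheight] at h1
  exact Ideal.height_ne_top_of_isPrime h1

theorem eq_of_specializes_locNoeth (hX : IsLocNoethSp F) {U : Over S} {a : (yon S).obj U ⟶ F}
    (ha : RepWith @Etale a) {u u' : ↥U.left} (he : Points.ofPt a u = Points.ofPt a u')
    (hs : u' ⤳ u) : u = u' := by
  by_contra hne
  obtain ⟨U₀, b, hb, hbs, hU₀⟩ := hX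
  let V := ha.rep.pullback b
  let t := (ha.rep.fst' b).left
  have ht : Etale t := hb.property a _ _ (ha.rep.isPullback' b).flip
  have hsnd : Etale (ha.rep.snd b).left := ha.property_snd b
  have : IsLocallyNoetherian U₀.left := hU₀
  have : IsLocallyNoetherian V.left := LocallyOfFiniteType.isLocallyNoetherian (ha.rep.snd b).left
  obtain ⟨u₀, hu₀⟩ := surjective_ofPt hbs (Points.ofPt a u)
  obtain ⟨v, hv, -⟩ := exists_point_of_scheme_isPullback (ha.rep.isPullback' b) u u₀ hu₀.symm
  have key : ∀ (n : ℕ) (v : ↥V.left), (∃ w, w ⤳ t v ∧ t v ≠ w ∧ Points.ofPt a (t v) = Points.ofPt a w) →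
      (n : ℕ∞) ≤ cohtPt v := by
    intro n
    induction n with
    | zero => exact fun _ _ => bot_le
    | succ n ih =>
      rintro v ⟨w, hw, hwne, hwe⟩
      obtain ⟨w', h1, h2, h3⟩ := exists_strict_generization ha hwe hw hwne
      obtain ⟨v', hv', rfl⟩ := exists_generization t hw
      have hnot : ¬ v ⤳ v' := fun h => hwne (h.map t.continuous |>.antisymm hw).eq
      have := ih v' ⟨w', h1, fun e => h2 e.symm, h3.symm⟩
      calc ((n + 1 : ℕ) : ℕ∞) = (n : ℕ∞) + 1 := by push_cast; rfl
        _ ≤ cohtPt v' + 1 := by gcongr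
        _ ≤ cohtPt v := cohtPt_add_one_le hv' hnot
  refine cohtPt_ne_top v (ENat.eq_top_iff_forall_ge.2 fun n => key n v ?_)
  have h' : t v = u := hv
  rw [h']
  exact ⟨u', hs, hne, he⟩

end Groth.Agent.Lib.AlgSpDecent.LocNoeth
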