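import Groth.Agent.Lib.AlgSpDecent.DimCharts
import Groth.Agent.Lib.AlgSpDecent.LocNoeth
import Mathlib.AlgebraicGeometry.Artinian
import Mathlib.AlgebraicGeometry.Morphisms.FiniteType
import Mathlib.Topology.JacobsonSpace
import Groth.Prelude.Def_AlgSp3

/-!
Isolated points of spaces locally of finite type over a field.
-/

universe u

open CategoryTheory CategoryTheory.Limits AlgebraicGeometry Opposite Topology TopologicalSpace

namespace Groth.Agent.Lib.AlgSpDecent.IsolatedPt

open AlgSp Core Fibre Specialize SpecOrder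

theorem isOpen_singleton_of_extremal {X : Scheme.{u}} [IsLocallyNoetherian X] {x : X}
    (hgen : ∀ y, y ⤳ x → y = x) (hsp : ∀ y, x ⤳ y → y = x) : IsOpen ({x} : Set X) := by
  obtain ⟨_, ⟨V, hV, rfl⟩, hxV, -⟩ := X.isBasis_affineOpens.exists_subset_of_mem_open
    (Set.mem_univ x) isOpen_univ
  change X.Opens at V
  have : IsNoetherianRing Γ(X, V) := IsLocallyNoetherian.component_noetherian ⟨V, hV⟩
  have : NoetherianSpace ↥(V : Scheme.{u}) := noetherianSpace_of_isAffineOpen V hV
  let C := {Z ∈ irreducibleComponents ↥(V : Scheme.{u}) | (⟨x, hxV⟩ : V) ∉ Z}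
  have hCf : C.Finite := (NoetherianSpace.finite_irreducibleComponents).subset fun _ h => h.1
  have hcl : IsClosed (⋃ Z ∈ C, Z) :=
    hCf.isClosed_biUnion fun Z hZ => isClosed_of_mem_irreducibleComponents Z hZ.1
  have key : ((⋃ Z ∈ C, Z)ᶜ : Set ↥(V : Scheme.{u})) = {⟨x, hxV⟩} := by
    ext y
    constructor
    · intro hy
      obtain ⟨Z, hZ, hyZ⟩ : ∃ Z ∈ irreducibleComponents ↥(V : Scheme.{u}), y ∈ Z :=
        ⟨irreducibleComponent y, irreducibleComponent_mem_irreducibleComponents y,
          mem_irreducibleComponent⟩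
      have hxZ : (⟨x, hxV⟩ : V) ∈ Z := by
        by_contra h
        exact hy (Set.mem_biUnion (show Z ∈ C from ⟨hZ, h⟩) hyZ)
      obtain ⟨g, hg⟩ := QuasiSober.sober hZ.1 (isClosed_of_mem_irreducibleComponents Z hZ)
      have hgx : g = ⟨x, hxV⟩ :=
        Subtype.ext (hgen _ ((hg.specializes hxZ).map continuous_subtype_val))
      have hgy : (⟨x, hxV⟩ : V) ⤳ y := hgx ▸ hg.specializes hyZ
      exact Subtype.ext (hsp _ (hgy.map continuous_subtype_val))
    · rintro rfl h
      obtain ⟨Z, hZ, hyZ⟩ := Set.mem_iUnion₂.1 h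
      exact hZ.2 hyZ
  have h1 : IsOpen ({⟨x, hxV⟩} : Set ↥(V : Scheme.{u})) := key ▸ hcl.isOpen_compl
  have h2 := h1.trans V.2
  erw [Set.image_singleton] at h2
  exact h2

theorem localDim_eq_zero_iff {X : Scheme.{u}} [IsLocallyNoetherian X] (x : X) :
    FlatMor.localDim ↥X x = 0 ↔ IsOpen ({x} : Set X) := by
  constructor
  · intro h
    have hlt : FlatMor.localDim ↥X x < 1 := h ▸ zero_lt_one
    obtain ⟨⟨W, hxW⟩, hW⟩ := iInf_lt_iff.1 hlt
    have hW0 : topologicalKrullDim (W : Set X) ≤ 0 := by
      generalize topologicalKrullDim (W : Set X) = d at hW ⊢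
      induction d using WithBot.recBotCoe with
      | bot => exact bot_le
      | coe d =>
        have : d < 1 := WithBot.coe_lt_coe.1 hW
        exact WithBot.coe_le_coe.2 (ENat.lt_one_iff_eq_zero.1 this).le
    change X.Opens at W
    have : IsLocallyArtinian (W : Scheme.{u}) :=
      IsLocallyArtinian.of_topologicalKrullDim_le_zero hW0
    have h1 : IsOpen ({⟨x, hxW⟩} : Set ↥(W : Scheme.{u})) := isOpen_discrete _
    have h2 := h1.trans W.2
    erw [Set.image_singleton] at h2
    exact h2
  · intro h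
    refine le_antisymm (iInf_le_of_le ⟨⟨{x}, h⟩, rfl⟩ ?_) ?_
    · have : DiscreteTopology ↥({x} : Set ↥X) := inferInstance
      exact topologicalKrullDim_zero_of_discreteTopology _
    · refine le_iInf fun W => ?_
      rw [topologicalKrullDim_open W.1.isOpen]
      exact le_iSup_of_le ⟨x, W.2⟩ (WithBot.coe_le_coe.2 zero_le)

variable {k : Type u} [Field k] {F : Sp (Spec (CommRingCat.of k))}
  (p : F ⟶ (yon (Spec (CommRingCat.of k))).obj (Over.mk (𝟙 _)))
  (hp : LocP @LocallyOfFiniteType p)

include hp in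
theorem locallyOfFiniteType_chart {U : Over (Spec (CommRingCat.of k))}
    {a : (yon _).obj U ⟶ F} (ha : RepWith @Etale a) : LocallyOfFiniteType U.hom := by
  obtain ⟨h, hh⟩ := (yon (Spec (CommRingCat.of k))).map_surjective (a ≫ p)
  have h1 : LocallyOfFiniteType h.left :=
    hp a (𝟙 _) h ha (AlgSp.repWith_id @Etale _) (by rw [Category.comp_id, hh])
  have e : h.left = U.hom := by
    have := Over.w h
    simp only [Over.mk_hom] at this
    exact (Category.comp_id _).symm.trans this
  rwa [e] at h1

include hp in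
theorem isLocallyNoetherian_chart {U : Over (Spec (CommRingCat.of k))}
    {a : (yon _).obj U ⟶ F} (ha : RepWith @Etale a) : IsLocallyNoetherian U.left :=
  have := locallyOfFiniteType_chart p hp ha
  LocallyOfFiniteType.isLocallyNoetherian U.hom

include hp in
theorem jacobsonSpace_chart {U : Over (Spec (CommRingCat.of k))}
    {a : (yon _).obj U ⟶ F} (ha : RepWith @Etale a) : JacobsonSpace ↥U.left :=
  have := locallyOfFiniteType_chart p hp ha
  LocallyOfFiniteType.jacobsonSpace U.hom

include hp in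
theorem isLocNoethSp (hA : IsAlgSpace F) : IsLocNoethSp F := by
  obtain ⟨U, a, ha, hs⟩ := hA.atlas
  exact ⟨U, a, ha, hs, isLocallyNoetherian_chart p hp ha⟩

include hp in
/-- An isolated point pulls back to open and closed points. -/
theorem isOpen_singleton_chart (hA : IsAlgSpace F) {U : Over (Spec (CommRingCat.of k))}
    {a : (yon _).obj U ⟶ F} (ha : RepWith @Etale a) {u : ↥U.left}
    (hx : IsOpen ({Points.ofPt a u} : Set (Points F))) :
    IsOpen ({u} : Set ↥U.left) ∧ IsClosed ({u} : Set ↥U.left) := by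
  have := jacobsonSpace_chart p hp ha
  have := isLocallyNoetherian_chart p hp ha
  have hLN := isLocNoethSp p hp hA
  have hP : IsOpen (Points.ofPt a ⁻¹' {Points.ofPt a u}) := hx.preimage (Points.continuous_ofPt a)
  have hclosed : ∀ v, Points.ofPt a v = Points.ofPt a u → IsClosed ({v} : Set ↥U.left) := by
    intro v hv
    have hne : (closure ({v} : Set ↥U.left) ∩ Points.ofPt a ⁻¹' {Points.ofPt a u}).Nonempty :=
      ⟨v, subset_closure rfl, hv⟩
    obtain ⟨c, ⟨hcv, hcP⟩, hcc⟩ := nonempty_inter_closedPoints hne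
      (isClosed_closure.isLocallyClosed.inter hP.isLocallyClosed)
    have : c = v := LocNoeth.eq_of_specializes_locNoeth hLN ha (hcP.trans hv.symm)
      (specializes_iff_mem_closure.2 hcv)
    exact this ▸ hcc
  have hcl := hclosed u rfl
  refine ⟨isOpen_singleton_of_extremal (fun y hy => ?_) (fun y hy => ?_), hcl⟩
  · have hyP : y ∈ Points.ofPt a ⁻¹' {Points.ofPt a u} := hy.mem_open hP rfl
    exact (LocNoeth.eq_of_specializes_locNoeth hLN ha hyP.symm hy).symm
  · exact (hcl.closure_subset (specializes_iff_mem_closure.1 hy) : y = u)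

end Groth.Agent.Lib.AlgSpDecent.IsolatedPt
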