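import Groth.Agent.Lib.AlgSpDecent.Fibre
import Groth.Agent.Lib.AlgSpace.OpenSub
import Mathlib.AlgebraicGeometry.Gluing
import Mathlib.AlgebraicGeometry.Morphisms.FlatMono

/-!
A union of open subschemes of an algebraic space is an open subscheme.
-/

universe u

open CategoryTheory CategoryTheory.Limits AlgebraicGeometry Opposite

namespace Groth.Agent.Lib.AlgSpDecent.Glue

open AlgSp Core Fibre

variable {S : Scheme.{u}} {F : Sp S} {ι : Type u} {Q : ι → Over S}
  {l : ∀ i, (yon S).obj (Q i) ⟶ F} (hl : ∀ i, RepWith @IsOpenImmersion (l i))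

theorem mono_l {Q₀ : Over S} {l₀ : (yon S).obj Q₀ ⟶ F} (h : RepWith @IsOpenImmersion l₀) :
    Mono l₀ :=
  AlgSpace.mono_of_repWith (P := @IsOpenImmersion)
    (fun _ _ g (_ : IsOpenImmersion g) ↦ (inferInstance : Mono g)) h

theorem isOpenImmersion_fst' (i j : ι) : IsOpenImmersion ((hl i).rep.fst' (l j)).left :=
  (hl j).property (l i) _ _ ((hl i).rep.isPullback' (l j)).flip

theorem fst'_eq_snd (i : ι) : (hl i).rep.fst' (l i) = (hl i).rep.snd (l i) := by
  have := mono_l (hl i)
  apply (yon S).map_injective
  rw [← cancel_mono (l i), ((hl i).rep.isPullback' (l i)).w]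

theorem isIso_fst' (i : ι) : IsIso ((hl i).rep.fst' (l i)) := by
  have := mono_l (hl i)
  have := ((hl i).rep.isPullback' (l i)).isIso_fst_of_mono
  exact isIso_of_reflects_iso _ (yon S)

set_option backward.isDefEq.respectTransparency false in
open Functor.relativelyRepresentable in
/-- The gluing data over `S`. -/
noncomputable def overGlueData : CategoryTheory.GlueData (Over S) where
  J := ι
  U := Q
  V := fun (i, j) => (hl i).rep.pullback (l j)
  f i j := (hl i).rep.fst' (l j)
  f_mono i j := by
    have := isOpenImmersion_fst' hl i j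
    exact Over.mono_of_mono_left _
  f_hasPullback := fun _ _ _ => inferInstance
  f_id i := isIso_fst' hl i
  t i j := (hl i).rep.symmetry (hl j).rep
  t_id i := by apply (hl i).rep.hom_ext' <;> simp [fst'_eq_snd hl i]
  t' i j k := lift₃ _ _ _ (pullback₃.p₂ _ _ _) (pullback₃.p₃ _ _ _) (pullback₃.p₁ _ _ _)
    (by simp) (by simp)
  t_fac i j k := (hl j).rep.hom_ext' (by simp) (by simp)
  cocycle i j k := pullback₃.hom_ext (by simp) (by simp) (by simp)

/-- The gluing data of schemes. -/
noncomputable def glueData : Scheme.GlueData.{u} :=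
  { (overGlueData hl).mapGlueData (Over.forget S) with
    f_open := fun i j => isOpenImmersion_fst' hl i j }

/-- The structure map of the union. -/
noncomputable def unionHom : (glueData hl).glued ⟶ S :=
  Multicoequalizer.desc _ _ (fun i => (Q i).hom) (by
    rintro ⟨i, j⟩
    show ((hl i).rep.fst' (l j)).left ≫ (Q i).hom =
      (((hl i).rep.symmetry (hl j).rep).left ≫ ((hl j).rep.fst' (l i)).left) ≫ (Q j).hom
    rw [← Over.comp_left, Over.w, Over.w])

/-- The union. -/
noncomputable def union : Over S := Over.mk (unionHom hl)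

/-- The inclusion of a piece. -/
noncomputable def incl (i : ι) : Q i ⟶ union hl :=
  Over.homMk ((glueData hl).ι i) (Multicoequalizer.π_desc _ _ _ _ _)

theorem isOpenImmersion_incl (i : ι) : IsOpenImmersion (incl hl i).left :=
  inferInstanceAs (IsOpenImmersion ((glueData hl).ι i))

theorem exists_incl (x : ↥(union hl).left) : ∃ i y, (incl hl i).left y = x :=
  (glueData hl).ι_jointly_surjective x

theorem incl_mem_J : Sieve.ofArrows Q (incl hl) ∈ AlgSp.J S (union hl) :=
  AlgSpace.ofArrows_mem_J Q _
    (fun i => by have := isOpenImmersion_incl hl i; infer_instance)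
    (fun i => by have := isOpenImmersion_incl hl i; infer_instance) (exists_incl hl)

theorem glue_condition (i j : ι) :
    (hl i).rep.symmetry (hl j).rep ≫ (hl j).rep.fst' (l i) ≫ incl hl j =
      (hl i).rep.fst' (l j) ≫ incl hl i :=
  Over.OverMorphism.ext ((glueData hl).glue_condition i j)

theorem comp_incl_eq {T : Over S} {i j : ι} (a : T ⟶ Q i) (b : T ⟶ Q j)
    (h : (yon S).map a ≫ l i = (yon S).map b ≫ l j) : a ≫ incl hl i = b ≫ incl hl j := by
  conv_lhs => rw [← (hl i).rep.lift'_fst a b h, Category.assoc, ← glue_condition hl i j,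
    Functor.relativelyRepresentable.symmetry_fst_assoc]
  rw [← Category.assoc, (hl i).rep.lift'_snd a b h]

theorem eq_of_comp_incl_eq {T : Over S} {i j : ι} (a : T ⟶ Q i) (b : T ⟶ Q j)
    (h : a ≫ incl hl i = b ≫ incl hl j) : (yon S).map a ≫ l i = (yon S).map b ≫ l j := by
  let D := glueData hl
  have h' : a.left ≫ D.ι i = b.left ≫ D.ι j := congrArg (fun m => m.left) h
  obtain ⟨w, hw₁, hw₂⟩ : ∃ w : T.left ⟶ ((hl i).rep.pullback (l j)).left,
      w ≫ ((hl i).rep.fst' (l j)).left = a.left ∧
        w ≫ (((hl i).rep.symmetry (hl j).rep).left ≫ ((hl j).rep.fst' (l i)).left) = b.left :=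
    ⟨(D.vPullbackConeIsLimit i j).lift (PullbackCone.mk a.left b.left h'),
      (D.vPullbackConeIsLimit i j).fac _ WalkingCospan.left,
      (D.vPullbackConeIsLimit i j).fac _ WalkingCospan.right⟩
  let w' : T ⟶ (hl i).rep.pullback (l j) := Over.homMk w (by
    rw [← Over.w ((hl i).rep.fst' (l j)), reassoc_of% hw₁, Over.w])
  have h1 : w' ≫ (hl i).rep.fst' (l j) = a := Over.OverMorphism.ext hw₁
  have h2 : w' ≫ (hl i).rep.snd (l j) = b := by
    rw [← Functor.relativelyRepresentable.symmetry_fst (hl i).rep (hl j).rep]
    exact Over.OverMorphism.ext hw₂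
  rw [← h1, ← h2, Functor.map_comp, Functor.map_comp, Category.assoc, Category.assoc,
    ((hl i).rep.isPullback' (l j)).w]

include hl in
theorem exists_union (hF : IsAlgSpace F) :
    ∃ (G : Over S) (m : (yon S).obj G ⟶ F), RepWith @IsOpenImmersion m ∧
      Set.range (Points.map m) = ⋃ i, Set.range (Points.map (l i)) := by
  obtain ⟨m, hm, -⟩ := AlgSpace.exists_desc_of_family Q (incl hl) (incl_mem_J hl) l
    (fun i j W gi gj e => eq_of_comp_incl_eq hl gi gj e)
  have hmono : Mono m := by
    refine AlgSpace.mono_of_yon _ fun T a b hab => ?_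
    obtain ⟨a, rfl⟩ := (yon S).map_surjective a
    obtain ⟨b, rfl⟩ := (yon S).map_surjective b
    change (yon S).map a ≫ m = (yon S).map b ≫ m at hab
    congr 1
    apply Over.OverMorphism.ext
    let 𝒱 := (glueData hl).openCover.pullback₁ a.left
    refine Scheme.Cover.hom_ext 𝒱 _ _ fun (i : ι) => ?_
    let 𝒲 := (glueData hl).openCover.pullback₁ ((pullback.fst a.left (incl hl i).left) ≫ b.left)
    refine Scheme.Cover.hom_ext 𝒲 _ _ fun (j : ι) => ?_
    let u : pullback a.left (incl hl i).left ⟶ T.left := pullback.fst a.left (incl hl i).left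
    let v := pullback.fst (u ≫ b.left) (incl hl j).left
    show v ≫ u ≫ a.left = v ≫ u ≫ b.left
    let W : Over S := Over.mk ((v ≫ u) ≫ T.hom)
    let w : W ⟶ T := Over.homMk (v ≫ u) rfl
    have e1 : (v ≫ pullback.snd a.left (incl hl i).left) ≫ (incl hl i).left = (v ≫ u) ≫ a.left := by
      simp only [Category.assoc, u, pullback.condition]
    have e2 : pullback.snd (u ≫ b.left) (incl hl j).left ≫ (incl hl j).left = (v ≫ u) ≫ b.left := by
      rw [← pullback.condition, Category.assoc]
    let a' : W ⟶ Q i := Over.homMk (v ≫ pullback.snd a.left (incl hl i).left) (by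
      rw [← Over.w (incl hl i), ← Category.assoc, e1, Category.assoc, Over.w a]; rfl)
    let b' : W ⟶ Q j := Over.homMk (pullback.snd (u ≫ b.left) (incl hl j).left) (by
      rw [← Over.w (incl hl j), ← Category.assoc, e2, Category.assoc, Over.w b]; simp [W])
    have ha : a' ≫ incl hl i = w ≫ a := Over.OverMorphism.ext e1
    have hb : b' ≫ incl hl j = w ≫ b := Over.OverMorphism.ext e2
    have hQ : (yon S).map a' ≫ l i = (yon S).map b' ≫ l j := by
      rw [← hm i, ← hm j, ← Category.assoc, ← Category.assoc, ← Functor.map_comp, ← Functor.map_comp,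
        ha, hb, Functor.map_comp, Functor.map_comp, Category.assoc, Category.assoc, hab]
    have := congrArg (fun m => m.left) (ha.symm.trans ((comp_incl_eq hl a' b' hQ).trans hb))
    simpa [w] using this
  refine ⟨union hl, m, ?_, ?_⟩
  · have : (MorphismProperty.inverseImage (@IsOpenImmersion) (Over.forget S)).RespectsIso :=
      inverseImage_forget_respectsIso @IsOpenImmersion
    let hr := hF.representable_from_yon m
    refine MorphismProperty.relative.of_exists fun T t => ⟨_, _, _, hr.isPullback t, ?_⟩
    let q := hr.fst' t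
    let π := hr.snd t
    have : Mono π.left := by
      have : Mono ((yon S).map π) := (hr.isPullback' t).mono_snd_of_mono inferInstance
      have : Mono π := (yon S).mono_of_mono_map this
      infer_instance
    let 𝒰 : (hr.pullback t).left.OpenCover := (glueData hl).openCover.pullback₁ q.left
    have key : ∀ i : ι, IsOpenImmersion (pullback.fst q.left (incl hl i).left ≫ π.left) := by
      intro i
      have sq₁ : IsPullback ((yon S).map (pullback.snd q (incl hl i)))
          ((yon S).map (pullback.fst q (incl hl i))) ((yon S).map (incl hl i)) ((yon S).map q) :=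
        (isPullback_yon_pullback q (incl hl i)).flip
      have sq₂ : IsPullback ((yon S).map (pullback.snd q (incl hl i)))
          ((yon S).map (pullback.fst q (incl hl i) ≫ π)) (l i) t := by
        rw [← hm i, Functor.map_comp]
        exact sq₁.paste_vert (hr.isPullback' t)
      have h : IsOpenImmersion ((pullback.fst q (incl hl i)).left ≫ π.left) :=
        (hl i).property t _ _ sq₂
      let e : (pullback q (incl hl i)).left ≅ pullback q.left (incl hl i).left :=
        ((IsPullback.of_hasPullback q (incl hl i)).map (Over.forget S)).isoPullback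
      have he : e.hom ≫ pullback.fst q.left (incl hl i).left = (pullback.fst q (incl hl i)).left :=
        IsPullback.isoPullback_hom_fst _
      rw [← he, Category.assoc] at h
      exact (MorphismProperty.cancel_left_of_respectsIso @IsOpenImmersion e.hom _).1 h
    have : Flat π.left := IsZariskiLocalAtSource.of_openCover (P := @Flat) 𝒰 fun i => by
      have := key i
      exact (inferInstance : Flat (pullback.fst q.left (incl hl i).left ≫ π.left))
    have : LocallyOfFinitePresentation π.left :=
      IsZariskiLocalAtSource.of_openCover (P := @LocallyOfFinitePresentation) 𝒰 fun i => by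
      have := key i
      exact (inferInstance :
        LocallyOfFinitePresentation (pullback.fst q.left (incl hl i).left ≫ π.left))
    exact IsOpenImmersion.of_flat_of_mono π.left
  · ext x
    rw [range_points_map_yon]
    constructor
    · rintro ⟨g, rfl⟩
      obtain ⟨i, y, rfl⟩ := exists_incl hl g
      refine Set.mem_iUnion.2 ⟨i, Points.ofScheme (Q i) y, ?_⟩
      rw [map_ofScheme, ← hm i, ofPt_map_comp]
    · intro hx
      obtain ⟨i, hi⟩ := Set.mem_iUnion.1 hx
      rw [range_points_map_yon] at hi
      obtain ⟨y, rfl⟩ := hi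
      exact ⟨_, (by rw [← hm i, ofPt_map_comp])⟩

end Groth.Agent.Lib.AlgSpDecent.Glue
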