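import Groth.Prelude.Def_AlgSpDec
import Mathlib.AlgebraicGeometry.Morphisms.UniversallyOpen
import Mathlib.AlgebraicGeometry.Morphisms.FlatMono
import Mathlib.AlgebraicGeometry.PullbackCarrier

/-!
Basic facts on field-valued points and points of sheaves on the big fppf site, used in the
theory of decent spaces.
-/

universe u

open CategoryTheory CategoryTheory.Limits AlgebraicGeometry Opposite

namespace Groth.Agent.Lib.AlgSpDecent.Core

open AlgSp

variable {S : Scheme.{u}} {F G H : Sp S}

/-- The field-valued point given by a morphism from the spectrum of a field. -/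
noncomputable def ofHom {K : Type u} [Field K] {str : Spec (CommRingCat.of K) ⟶ S}
    (g : (yon S).obj (Over.mk str) ⟶ F) : FieldPt F :=
  ⟨K, str, (J S).uliftYonedaEquiv g⟩

@[simp] theorem toHom_ofHom {K : Type u} [Field K] {str : Spec (CommRingCat.of K) ⟶ S}
    (g : (yon S).obj (Over.mk str) ⟶ F) : (ofHom g).toHom = g :=
  Equiv.symm_apply_apply _ _

@[simp] theorem ofHom_toHom (p : FieldPt F) : ofHom (str := p.str) p.toHom = p := by
  obtain ⟨K, str, v⟩ := p
  simp [ofHom, FieldPt.toHom]

theorem uliftYonedaEquiv_comp_map {T U : Over S} (φ : T ⟶ U) (g : (yon S).obj U ⟶ F) :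
    (J S).uliftYonedaEquiv ((yon S).map φ ≫ g) = F.obj.map φ.op ((J S).uliftYonedaEquiv g) :=
  (GrothendieckTopology.uliftYonedaEquiv_naturality' _ g φ.op).symm

/-- Two field-valued points are equivalent iff their morphisms agree over a common field. -/
theorem rel_iff {p q : FieldPt F} :
    FieldPt.Rel p q ↔ ∃ (Ω : Type u) (_ : Field Ω) (w : Spec (CommRingCat.of Ω) ⟶ S)
      (a : Over.mk w ⟶ p.pt) (b : Over.mk w ⟶ q.pt),
        (yon S).map a ≫ p.toHom = (yon S).map b ≫ q.toHom := by
  refine exists_congr fun Ω => exists_congr fun _ => exists_congr fun w => exists_congr fun a =>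
    exists_congr fun b => ?_
  constructor
  · intro h
    apply (J S).uliftYonedaEquiv.injective
    rw [uliftYonedaEquiv_comp_map, uliftYonedaEquiv_comp_map, FieldPt.uliftYonedaEquiv_toHom,
      FieldPt.uliftYonedaEquiv_toHom]
    exact h
  · intro h
    have := congrArg (J S).uliftYonedaEquiv h
    rwa [uliftYonedaEquiv_comp_map, uliftYonedaEquiv_comp_map, FieldPt.uliftYonedaEquiv_toHom,
      FieldPt.uliftYonedaEquiv_toHom] at this

theorem ofPt_comp {T : Over S} (g : (yon S).obj T ⟶ F) (f : F ⟶ G) (t : ↥T.left) :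
    Points.ofPt (g ≫ f) t = Points.map f (Points.ofPt g t) := rfl

theorem ofPt_yon_map {T U : Over S} (φ : T ⟶ U) (t : ↥T.left) :
    Points.ofPt ((yon S).map φ) t = Points.ofScheme U (φ.left t) := by
  rw [← Points.ofScheme_toScheme U (Points.ofPt ((yon S).map φ) t), Points.toScheme_ofPt]

theorem ofPt_map_comp {T U : Over S} (φ : T ⟶ U) (g : (yon S).obj U ⟶ F) (t : ↥T.left) :
    Points.ofPt ((yon S).map φ ≫ g) t = Points.ofPt g (φ.left t) := by
  rw [ofPt_comp, ofPt_yon_map, ← Points.ofPt_eq_map_ofScheme]

theorem range_map_comp {T U : Over S} (φ : T ⟶ U) (g : (yon S).obj U ⟶ F) :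
    Set.range (Points.ofPt ((yon S).map φ ≫ g)) = Points.ofPt g '' Set.range φ.left := by
  ext x
  simp [ofPt_map_comp]

/-- The unique point of `Spec K`. -/
instance subsingleton_pt (p : FieldPt F) : Subsingleton ↥p.pt.left :=
  inferInstanceAs (Subsingleton (PrimeSpectrum p.K))

instance nonempty_pt (p : FieldPt F) : Nonempty ↥p.pt.left :=
  inferInstanceAs (Nonempty (PrimeSpectrum p.K))

theorem map_ofScheme {T : Over S} (g : (yon S).obj T ⟶ F) (t : ↥T.left) :
    Points.map g (Points.ofScheme T t) = Points.ofPt g t :=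
  (Points.ofPt_eq_map_ofScheme g t).symm

theorem range_points_map_yon {T : Over S} (g : (yon S).obj T ⟶ F) :
    Set.range (Points.map g) = Set.range (Points.ofPt g) := by
  ext x
  constructor
  · rintro ⟨y, rfl⟩
    obtain ⟨t, rfl⟩ := (Points.schemeEquiv T).surjective y
    exact ⟨t, (map_ofScheme g t).symm⟩
  · rintro ⟨t, rfl⟩
    exact ⟨_, map_ofScheme g t⟩

/-- Monomorphisms are injective on points. -/
theorem injective_map_of_mono (i : F ⟶ G) [Mono i] : Function.Injective (Points.map i) := by
  intro x y h
  induction x using Points.ind with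
  | h p =>
  induction y using Points.ind with
  | h q =>
  rw [Points.map_mk, Points.map_mk, Points.mk_eq_mk_iff, rel_iff] at h
  obtain ⟨Ω, _, w, a, b, h⟩ := h
  rw [Points.mk_eq_mk_iff, rel_iff]
  refine ⟨Ω, inferInstance, w, a, b, ?_⟩
  rw [← cancel_mono i, Category.assoc, Category.assoc]
  rw [FieldPt.toHom_map, FieldPt.toHom_map] at h
  exact h

/-- `|X ×_Y Z| → |X| ×_{|Y|} |Z|` is surjective for every pullback square of sheaves. -/
theorem exists_point_of_isPullback {P : Sp S} {fst : P ⟶ F} {snd : P ⟶ G} {f : F ⟶ H}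
    {g : G ⟶ H} (sq : IsPullback fst snd f g) (x : Points F) (y : Points G)
    (h : Points.map f x = Points.map g y) :
    ∃ z : Points P, Points.map fst z = x ∧ Points.map snd z = y := by
  induction x using Points.ind with
  | h p =>
  induction y using Points.ind with
  | h q =>
  rw [Points.map_mk, Points.map_mk, Points.mk_eq_mk_iff, rel_iff] at h
  obtain ⟨Ω, _, w, a, b, h⟩ := h
  change Over.mk w ⟶ p.pt at a
  change Over.mk w ⟶ q.pt at b
  rw [FieldPt.toHom_map, FieldPt.toHom_map] at h
  have h' : ((yon S).map a ≫ p.toHom) ≫ f = ((yon S).map b ≫ q.toHom) ≫ g := by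
    rw [Category.assoc, Category.assoc]; exact h
  refine ⟨Points.mk (ofHom (sq.lift _ _ h')), ?_, ?_⟩
  · rw [Points.map_mk, Points.mk_eq_mk_iff, rel_iff]
    refine ⟨Ω, inferInstance, w, 𝟙 _, a, ?_⟩
    rw [FieldPt.toHom_map, toHom_ofHom]
    erw [CategoryTheory.Functor.map_id, Category.id_comp]
    exact sq.lift_fst _ _ h'
  · rw [Points.map_mk, Points.mk_eq_mk_iff, rel_iff]
    refine ⟨Ω, inferInstance, w, 𝟙 _, b, ?_⟩
    rw [FieldPt.toHom_map, toHom_ofHom]
    erw [CategoryTheory.Functor.map_id, Category.id_comp]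
    exact sq.lift_snd _ _ h'

theorem range_map_snd_of_isPullback {P : Sp S} {fst : P ⟶ F} {snd : P ⟶ G} {f : F ⟶ H}
    {g : G ⟶ H} (sq : IsPullback fst snd f g) :
    Set.range (Points.map snd) = Points.map g ⁻¹' Set.range (Points.map f) := by
  ext y
  constructor
  · rintro ⟨z, rfl⟩
    exact ⟨Points.map fst z, by rw [← Points.map_comp, ← Points.map_comp, sq.w]⟩
  · rintro ⟨x, hx⟩
    obtain ⟨z, _, hz⟩ := exists_point_of_isPullback sq x y hx
    exact ⟨z, hz⟩

/-- The scheme form of `exists_point_of_isPullback`. -/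
theorem exists_point_of_scheme_isPullback {U T V : Over S} {a : (yon S).obj U ⟶ F}
    {g : (yon S).obj T ⟶ F} {fst : V ⟶ U} {snd : V ⟶ T}
    (sq : IsPullback ((yon S).map fst) ((yon S).map snd) a g) (u : ↥U.left) (t : ↥T.left)
    (h : Points.ofPt a u = Points.ofPt g t) :
    ∃ v : ↥V.left, fst.left v = u ∧ snd.left v = t := by
  obtain ⟨z, hz₁, hz₂⟩ := exists_point_of_isPullback sq (Points.ofScheme U u) (Points.ofScheme T t)
    (by rw [map_ofScheme, map_ofScheme]; exact h)
  obtain ⟨v, rfl⟩ := (Points.schemeEquiv V).surjective z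
  refine ⟨v, ?_, ?_⟩
  · have h' : Points.ofScheme U (fst.left v) = Points.ofScheme U u := by
      rw [← ofPt_yon_map, ← map_ofScheme]; exact hz₁
    exact (Points.schemeEquiv U).injective h'
  · have h' : Points.ofScheme T (snd.left v) = Points.ofScheme T t := by
      rw [← ofPt_yon_map, ← map_ofScheme]; exact hz₂
    exact (Points.schemeEquiv T).injective h'

theorem ofPt_eq_of_scheme_isPullback {U T V : Over S} {a : (yon S).obj U ⟶ F}
    {g : (yon S).obj T ⟶ F} {fst : (yon S).obj V ⟶ (yon S).obj U} {snd : V ⟶ T}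
    (w : fst ≫ a = (yon S).map snd ≫ g) (φ : V ⟶ U) (hφ : (yon S).map φ = fst) (v : ↥V.left) :
    Points.ofPt a (φ.left v) = Points.ofPt g (snd.left v) := by
  subst hφ
  rw [← ofPt_map_comp, w, ofPt_map_comp]

/-- An isomorphism of sheaves gives a homeomorphism on points. -/
noncomputable def homeoOfIso (e : F ≅ G) : Points F ≃ₜ Points G where
  toFun := Points.map e.hom
  invFun := Points.map e.inv
  left_inv x := by rw [← Points.map_comp, e.hom_inv_id, Points.map_id]
  right_inv x := by rw [← Points.map_comp, e.inv_hom_id, Points.map_id]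
  continuous_toFun := Points.continuous_map _
  continuous_invFun := Points.continuous_map _

section Chart

variable {U : Over S} {a : (yon S).obj U ⟶ F}

/-- The two projections of a representable pullback. -/
theorem isPullback_fst' {T : Over S} (hr : Representable a) (g : (yon S).obj T ⟶ F) :
    IsPullback ((yon S).map (hr.fst' g)) ((yon S).map (hr.snd g)) a g :=
  hr.isPullback' g

theorem preimage_image_eq {T : Over S} (hr : Representable a) (g : (yon S).obj T ⟶ F)
    (W : Set ↥U.left) :
    Points.ofPt g ⁻¹' (Points.ofPt a '' W) =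
      (hr.snd g).left '' ((hr.fst' g).left ⁻¹' W) := by
  ext t
  constructor
  · rintro ⟨u, hu, he⟩
    obtain ⟨v, hv₁, hv₂⟩ := exists_point_of_scheme_isPullback (hr.isPullback' g) u t he
    exact ⟨v, by rw [Set.mem_preimage, hv₁]; exact hu, hv₂⟩
  · rintro ⟨v, hv, rfl⟩
    refine ⟨(hr.fst' g).left v, hv, ?_⟩
    exact ofPt_eq_of_scheme_isPullback (hr.isPullback' g).w _ rfl v

/-- Maps from schemes that are representable and universally open are open on points. -/
theorem isOpenMap_ofPt_of_universallyOpen (ha : RepWith @UniversallyOpen a) :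
    IsOpenMap (Points.ofPt a) := by
  intro W hW
  rw [Points.isOpen_iff]
  intro T g
  rw [preimage_image_eq ha.rep g W]
  have : UniversallyOpen (ha.rep.snd g).left := ha.property_snd g
  exact (ha.rep.snd g).left.isOpenMap _ (hW.preimage (ha.rep.fst' g).left.continuous)

theorem repWith_mono {P Q : MorphismProperty Scheme.{u}}
    (h : ∀ {A B : Scheme.{u}} (f : A ⟶ B), P f → Q f) {f : F ⟶ G} (hf : RepWith P f) :
    RepWith Q f :=
  ⟨hf.rep, fun _ _ g fst snd sq => h _ (hf.property g fst snd sq)⟩

theorem universallyOpen_of_etale (ha : RepWith @Etale a) : RepWith @UniversallyOpen a :=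
  repWith_mono (P := @Etale) (fun _ h => by have := h; infer_instance) ha

theorem flat_of_etale (ha : RepWith @Etale a) : RepWith @Flat a :=
  repWith_mono (P := @Etale) (fun _ h => by have := h; infer_instance) ha

/-- Etale charts are open on points. -/
theorem isOpenMap_ofPt (ha : RepWith @Etale a) : IsOpenMap (Points.ofPt a) :=
  isOpenMap_ofPt_of_universallyOpen (universallyOpen_of_etale ha)

theorem isOpen_range_ofPt (ha : RepWith @Etale a) : IsOpen (Set.range (Points.ofPt a)) :=
  (isOpenMap_ofPt ha).isOpen_range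

/-- A representable surjective map from a scheme hits every point. -/
theorem surjective_ofPt (hs : RepWith @Surjective a) : Function.Surjective (Points.ofPt a) := by
  intro x
  induction x using Points.ind with
  | h p =>
  obtain ⟨t⟩ := nonempty_pt p
  have : Surjective (hs.rep.snd p.toHom).left := hs.property_snd p.toHom
  obtain ⟨v, hv⟩ := (hs.rep.snd p.toHom).left.surjective t
  refine ⟨(hs.rep.fst' p.toHom).left v, ?_⟩
  rw [ofPt_eq_of_scheme_isPullback (hs.rep.isPullback' p.toHom).w _ rfl v, hv]
  exact Points.ofPt_toHom p t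

/-- A representable map from a scheme that hits every point is surjective. -/
theorem repWith_surjective_of_surjective (hr : Representable a)
    (h : Function.Surjective (Points.ofPt a)) : RepWith @Surjective a := by
  have : (MorphismProperty.inverseImage (@Surjective) (Over.forget S)).RespectsIso :=
    MorphismProperty.RespectsIso.inverseImage _ _
  refine MorphismProperty.relative.of_exists fun T g => ⟨_, _, _, hr.isPullback g, ⟨fun t => ?_⟩⟩
  obtain ⟨u, hu⟩ := h (Points.ofPt g t)
  obtain ⟨v, _, hv⟩ := exists_point_of_scheme_isPullback (hr.isPullback' g) u t hu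
  exact ⟨v, hv⟩

theorem isOpen_iff_chart (ha : RepWith @Etale a) (hs : RepWith @Surjective a)
    {W : Set (Points F)} : IsOpen W ↔ IsOpen (Points.ofPt a ⁻¹' W) :=
  ⟨fun h => h.preimage (Points.continuous_ofPt a),
    fun h => by simpa [Set.image_preimage_eq W (surjective_ofPt hs)] using isOpenMap_ofPt ha _ h⟩

theorem isQuotientMap_ofPt (ha : RepWith @Etale a) (hs : RepWith @Surjective a) :
    Topology.IsQuotientMap (Points.ofPt a) :=
  (isOpenMap_ofPt ha).isQuotientMap (Points.continuous_ofPt a) (surjective_ofPt hs)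

/-- The closure of a set of points pulls back to the closure along an etale chart. -/
theorem preimage_closure (ha : RepWith @Etale a) (A : Set (Points F)) :
    Points.ofPt a ⁻¹' closure A = closure (Points.ofPt a ⁻¹' A) :=
  (isOpenMap_ofPt ha).preimage_closure_eq_closure_preimage (Points.continuous_ofPt a) A

end Chart

end Groth.Agent.Lib.AlgSpDecent.Core
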