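import Groth.Agent.Lib.AlgSpDecent.Core
import Mathlib.AlgebraicGeometry.Morphisms.QuasiFinite
import Mathlib.AlgebraicGeometry.Morphisms.QuasiSeparated
import Mathlib.RingTheory.Unramified.LocalStructure

/-!
Quasi-compactness of field-valued points and fibres of etale charts over points.
-/

universe u

open CategoryTheory CategoryTheory.Limits AlgebraicGeometry Opposite

namespace Groth.Agent.Lib.AlgSpDecent.Fibre

open AlgSp Core

variable {S : Scheme.{u}} {F G : Sp S}

/-- Base change in `Over S` pastes with pullback squares of sheaves. -/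
theorem isPullback_yon_pullback {A B C : Over S} (f : A ⟶ C) (g : B ⟶ C) :
    IsPullback ((yon S).map (pullback.fst f g)) ((yon S).map (pullback.snd f g))
      ((yon S).map f) ((yon S).map g) :=
  (IsPullback.of_hasPullback f g).map (yon S)

theorem surjective_left_pullback_fst {A B C : Over S} (f : A ⟶ C) (g : B ⟶ C)
    [Surjective g.left] : Surjective (pullback.fst f g).left :=
  MorphismProperty.of_isPullback (P := @Surjective)
    ((IsPullback.of_hasPullback f g).map (Over.forget S)).flip ‹_›

theorem quasiCompact_of_surjective_comp {X Y Z : Scheme.{u}} (c : X ⟶ Y) (f : Y ⟶ Z)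
    [Surjective c] [hq : QuasiCompact (c ≫ f)] : QuasiCompact f := by
  constructor
  intro U hU hc
  have := (hq.isCompact_preimage U hU hc).image c.continuous
  have key : c '' ((c ≫ f) ⁻¹' U) = f ⁻¹' U := by
    rw [Scheme.Hom.comp_base, TopCat.coe_comp, Set.preimage_comp,
      Set.image_preimage_eq _ c.surjective]
  rwa [key] at this

/-- Quasi-compactness of a map from a scheme descends along a surjection of the source. -/
theorem repWith_qc_of_surjective_comp {A B : Over S} (c : A ⟶ B) [Surjective c.left]
    {g : (yon S).obj B ⟶ F} (hg : Representable g)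
    (h : RepWith @QuasiCompact ((yon S).map c ≫ g)) : RepWith @QuasiCompact g := by
  have : (MorphismProperty.inverseImage (@QuasiCompact) (Over.forget S)).RespectsIso :=
    inverseImage_forget_respectsIso @QuasiCompact
  refine MorphismProperty.relative.of_exists fun T t => ⟨_, _, _, hg.isPullback t, ?_⟩
  let q := hg.fst' t
  have sq₁ : IsPullback ((yon S).map (pullback.snd q c)) ((yon S).map (pullback.fst q c))
      ((yon S).map c) ((yon S).map q) := (isPullback_yon_pullback q c).flip
  have sq₂ : IsPullback ((yon S).map (pullback.snd q c))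
      ((yon S).map (pullback.fst q c ≫ hg.snd t)) ((yon S).map c ≫ g) t := by
    rw [Functor.map_comp]
    exact sq₁.paste_vert (hg.isPullback' t)
  have hq : QuasiCompact ((pullback.fst q c).left ≫ (hg.snd t).left) := by
    exact h.property t _ _ sq₂
  have : Surjective (pullback.fst q c).left := surjective_left_pullback_fst q c
  exact quasiCompact_of_surjective_comp (pullback.fst q c).left (hg.snd t).left

theorem quasiCompact_of_spec {p : FieldPt F} {T : Over S} (f : T ⟶ p.pt) [IsAffine T.left] :
    QuasiCompact f.left := by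
  have : IsAffine p.pt.left := inferInstanceAs (IsAffine (Spec (CommRingCat.of p.K)))
  infer_instance

theorem surjective_of_spec {p : FieldPt F} {T : Over S} (f : T ⟶ p.pt) [Nonempty ↥T.left] :
    Surjective f.left :=
  ⟨fun y => ⟨Classical.arbitrary _, Subsingleton.elim _ _⟩⟩

/-- Quasi-compactness of the morphism of a field-valued point only depends on its class. -/
theorem repWith_qc_of_mk_eq {p q : FieldPt F} (hp : Representable p.toHom)
    (hq : RepWith @QuasiCompact q.toHom) (h : Points.mk p = Points.mk q) :
    RepWith @QuasiCompact p.toHom := by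
  rw [Points.mk_eq_mk_iff, rel_iff] at h
  obtain ⟨Ω, _, w, a, b, h⟩ := h
  have : IsAffine (Over.mk w).left := inferInstanceAs (IsAffine (Spec (CommRingCat.of Ω)))
  have : Nonempty ↥(Over.mk w).left := inferInstanceAs (Nonempty (PrimeSpectrum Ω))
  have hb : RepWith @QuasiCompact ((yon S).map b) :=
    (repWith_yon_map_iff _ b).2 (quasiCompact_of_spec b)
  have := surjective_of_spec a
  refine repWith_qc_of_surjective_comp a hp ?_
  rw [h]
  exact (repWith_isMultiplicative @QuasiCompact).comp_mem _ _ hb hq

/-- Quasi-compactness of a representable map may be checked on an open covering by etale charts. -/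
theorem repWith_qc_of_cover {L : Over S} {q : (yon S).obj L ⟶ F} (hq : Representable q)
    {ι : Type u} (U : ι → Over S) (φ : ∀ i, (yon S).obj (U i) ⟶ F)
    (hφ : ∀ i, RepWith @Etale (φ i))
    (hsurj : ∀ x : Points F, ∃ (i : ι) (v : ↥(U i).left), Points.ofPt (φ i) v = x)
    (h : ∀ i, QuasiCompact (hq.snd (φ i)).left) : RepWith @QuasiCompact q := by
  have : (MorphismProperty.inverseImage (@QuasiCompact) (Over.forget S)).RespectsIso :=
    inverseImage_forget_respectsIso @QuasiCompact
  refine MorphismProperty.relative.of_exists fun T t => ⟨_, _, _, hq.isPullback t, ⟨?_⟩⟩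
  intro K hKo hK
  -- choose for every point of `K` an affine open piece of some chart pullback hitting it
  have key : ∀ x : ↥K, ∃ (A : Set ↥T.left), IsOpen A ∧ x.1 ∈ A ∧ A ⊆ K ∧
      IsCompact ((hq.snd t).left ⁻¹' A) := by
    rintro ⟨x, hx⟩
    obtain ⟨i, v, hv⟩ := hsurj (Points.ofPt t x)
    obtain ⟨w, hw₁, hw₂⟩ := exists_point_of_scheme_isPullback ((hφ i).rep.isPullback' t) v x hv
    let P := (hφ i).rep.pullback t
    let π : P ⟶ T := (hφ i).rep.snd t
    let ψ : P ⟶ U i := (hφ i).rep.fst' t
    obtain ⟨_, ⟨W, hW, rfl⟩, hwW, hWK⟩ := P.left.isBasis_affineOpens.exists_subset_of_mem_open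
      (show w ∈ π.left ⁻¹' K from (congrArg (· ∈ K) hw₂).mpr hx) (hKo.preimage π.left.continuous)
    change P.left.Opens at W
    let j : Over.mk (W.ι ≫ P.hom) ⟶ P := Over.homMk W.ι rfl
    let c : Over.mk (W.ι ≫ P.hom) ⟶ U i := j ≫ ψ
    have hcw : (yon S).map (j ≫ π) ≫ t = (yon S).map c ≫ φ i := by
      simp only [c, Functor.map_comp, Category.assoc]
      rw [((hφ i).rep.isPullback' t).w]
    let V := hq.pullback (φ i)
    let r : V ⟶ U i := hq.snd (φ i)
    have sq₂ : IsPullback ((yon S).map (pullback.fst r c) ≫ hq.fst (φ i))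
        ((yon S).map (pullback.snd r c)) q ((yon S).map c ≫ φ i) :=
      (isPullback_yon_pullback r c).paste_horiz (hq.isPullback (φ i))
    obtain ⟨d, hd₁, hd₂⟩ : ∃ d : pullback r c ⟶ hq.pullback t,
        (yon S).map d ≫ hq.fst t = (yon S).map (pullback.fst r c) ≫ hq.fst (φ i) ∧
          d ≫ hq.snd t = pullback.snd r c ≫ (j ≫ π) :=
      ⟨hq.lift ((yon S).map (pullback.fst r c) ≫ hq.fst (φ i)) (pullback.snd r c ≫ (j ≫ π))
          (by rw [sq₂.w, ← hcw, ← Category.assoc, ← Functor.map_comp]), by simp, by simp⟩
    have sq₃ : IsPullback ((yon S).map d) ((yon S).map (pullback.snd r c))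
        ((yon S).map (hq.snd t)) ((yon S).map (j ≫ π)) := by
      refine IsPullback.of_right ?_ ?_ (hq.isPullback t)
      · rw [hd₁, hcw]; exact sq₂
      · rw [← Functor.map_comp, ← Functor.map_comp, hd₂]
    refine ⟨π.left '' W, ?_, ⟨w, hwW, hw₂⟩, Set.image_subset_iff.2 hWK, ?_⟩
    · have : Etale π.left := (hφ i).property_snd t
      exact π.left.isOpenMap _ W.isOpen
    have hqr : QuasiCompact (pullback.snd r c).left :=
      MorphismProperty.of_isPullback (P := @QuasiCompact)
        ((IsPullback.of_hasPullback r c).map (Over.forget S)) (h i)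
    have hc' : CompactSpace ↥(Over.mk (W.ι ≫ P.hom)).left := isCompact_iff_compactSpace.mp hW.isCompact
    have : CompactSpace ↥(pullback r c).left :=
      QuasiCompact.compactSpace_of_compactSpace (pullback.snd r c).left
    have hrange : (hq.snd t).left ⁻¹' (π.left '' W) = Set.range d.left := by
      ext z
      constructor
      · rintro ⟨w', hw', hz⟩
        obtain ⟨e, he, -⟩ := exists_point_of_scheme_isPullback (a := (yon S).map (hq.snd t))
          (g := (yon S).map (j ≫ π)) sq₃ z (⟨w', hw'⟩ : W)
          ((ofPt_yon_map (hq.snd t) z).trans ((congrArg _ hz.symm).trans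
            (ofPt_yon_map (j ≫ π) (⟨w', hw'⟩ : W)).symm))
        exact ⟨e, he⟩
      · rintro ⟨e, rfl⟩
        refine ⟨j.left ((pullback.snd r c).left e), ((pullback.snd r c).left e).2, ?_⟩
        have := congrArg (fun k => k.left e) hd₂
        simpa using this.symm
    rw [hrange]
    exact isCompact_range d.left.continuous
  choose A hAo hxA hAK hAc using key
  obtain ⟨s, hs⟩ := hK.elim_finite_subcover A hAo (fun x hx => Set.mem_iUnion.2 ⟨⟨x, hx⟩, hxA _⟩)
  have : (hq.snd t).left ⁻¹' K = ⋃ x ∈ s, (hq.snd t).left ⁻¹' A x := by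
    refine Set.Subset.antisymm ?_ ?_
    · rw [← Set.preimage_iUnion₂]; exact Set.preimage_mono hs
    · exact Set.iUnion₂_subset fun x _ => Set.preimage_mono (hAK x)
  change IsCompact ((hq.snd t).left ⁻¹' K)
  rw [this]
  exact s.finite_toSet.isCompact_biUnion fun x _ => hAc x

theorem locallyQuasiFinite_of_etale {A B : Scheme.{u}} (f : A ⟶ B) [Etale f] :
    LocallyQuasiFinite f := by
  rw [HasRingHomProperty.iff_appLE (P := @LocallyQuasiFinite)]
  intro U V e
  have := HasRingHomProperty.appLE (P := @Etale) f ‹_› U V e
  algebraize [(Scheme.Hom.appLE f U.1 V.1 e).hom]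
  exact inferInstanceAs (Algebra.QuasiFinite _ _)

section FieldFibre

variable {U : Over S} {a : (yon S).obj U ⟶ F} (p : FieldPt F)

theorem quasiCompact_of_compact_affine {A B : Scheme.{u}} (f : A ⟶ B) [CompactSpace A] [IsAffine B] :
    QuasiCompact f := inferInstance

theorem etale_snd (ha : RepWith @Etale a) : Etale (ha.rep.snd p.toHom).left :=
  ha.property_snd _

theorem discreteTopology_pullback (ha : RepWith @Etale a) :
    DiscreteTopology ↥(ha.rep.pullback p.toHom).left := by
  have := etale_snd p ha
  have := locallyQuasiFinite_of_etale (ha.rep.snd p.toHom).left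
  have : IsLocallyArtinian p.pt.left :=
    inferInstanceAs (IsLocallyArtinian (Spec (CommRingCat.of p.K)))
  have := IsLocallyArtinian.of_locallyQuasiFinite (f := (ha.rep.snd p.toHom).left)
  infer_instance

theorem range_fst (hr : Representable a) :
    Set.range (hr.fst' p.toHom).left = Points.ofPt a ⁻¹' {Points.mk p} := by
  ext u
  constructor
  · rintro ⟨e, rfl⟩
    exact (ofPt_eq_of_scheme_isPullback (hr.isPullback' p.toHom).w _ rfl e).trans
      (Points.ofPt_toHom p _)
  · intro hu
    obtain ⟨t⟩ := nonempty_pt p
    obtain ⟨e, he, -⟩ := exists_point_of_scheme_isPullback (hr.isPullback' p.toHom) u t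
      (hu.trans (Points.ofPt_toHom p t).symm)
    exact ⟨e, he⟩

theorem mono_fst (hr : Representable a) [Mono p.toHom] : Mono (hr.fst' p.toHom).left := by
  have hm : Mono ((yon S).map (hr.fst' p.toHom)) := by
    constructor
    intro Z g h hgh
    apply (hr.isPullback' p.toHom).hom_ext hgh
    rw [← cancel_mono p.toHom, Category.assoc, Category.assoc, ← (hr.isPullback' p.toHom).w,
      reassoc_of% hgh]
  have := (yon S).mono_of_mono_map hm
  infer_instance

theorem injective_fst (hr : Representable a) [Mono p.toHom] :
    Function.Injective (hr.fst' p.toHom).left := by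
  have := mono_fst p hr
  exact (hr.fst' p.toHom).left.injective

/-- A quasi-compact field-valued point meets every affine etale chart in finitely many points. -/
theorem finite_pullback_of_qc (hq : RepWith @QuasiCompact p.toHom) (ha : RepWith @Etale a)
    [CompactSpace ↥U.left] : Finite ↥(ha.rep.pullback p.toHom).left := by
  have := hq.property a _ (ha.rep.fst' p.toHom) (ha.rep.isPullback' p.toHom).flip
  have : QuasiCompact (ha.rep.fst' p.toHom).left := this
  have : CompactSpace ↥(ha.rep.pullback p.toHom).left :=
    QuasiCompact.compactSpace_of_compactSpace (ha.rep.fst' p.toHom).left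
  have := discreteTopology_pullback p ha
  exact finite_of_compact_of_discrete

theorem finite_fibre_of_finite_pullback (hr : Representable a)
    [Finite ↥(hr.pullback p.toHom).left] : (Points.ofPt a ⁻¹' {Points.mk p}).Finite := by
  rw [← range_fst p hr]
  exact Set.finite_range _

theorem finite_pullback_of_finite_fibre (hr : Representable a) [Mono p.toHom]
    (h : (Points.ofPt a ⁻¹' {Points.mk p}).Finite) : Finite ↥(hr.pullback p.toHom).left := by
  rw [← range_fst p hr] at h
  have := h.to_subtype
  exact Finite.of_injective_finite_range (injective_fst p hr)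

end FieldFibre

theorem finite_fibre_of_qc_point {U : Over S} {a : (yon S).obj U ⟶ F} {x : Points F}
    (hx : ∃ p : FieldPt F, Points.mk p = x ∧ RepWith @QuasiCompact p.toHom)
    (ha : RepWith @Etale a) [CompactSpace ↥U.left] : (Points.ofPt a ⁻¹' {x}).Finite := by
  obtain ⟨p, rfl, hq⟩ := hx
  have := finite_pullback_of_qc p hq ha
  exact finite_fibre_of_finite_pullback p ha.rep

/-- Quasi-compactness of a field-valued point from finiteness of its fibres in affine charts. -/
theorem repWith_qc_of_finite_pullback (p : FieldPt F) (hp : Representable p.toHom) {ι : Type u}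
    (U : ι → Over S) (φ : ∀ i, (yon S).obj (U i) ⟶ F) (hφ : ∀ i, RepWith @Etale (φ i))
    (hsurj : ∀ x : Points F, ∃ (i : ι) (v : ↥(U i).left), Points.ofPt (φ i) v = x)
    [∀ i, IsAffine (U i).left]
    (hfin : ∀ i, Finite ↥((hφ i).rep.pullback p.toHom).left) : RepWith @QuasiCompact p.toHom := by
  refine repWith_qc_of_cover hp U φ hφ hsurj fun i => ?_
  let e := (yon S).preimageIso ((hp.isPullback' (φ i)).flip.isoIsPullback _ _ ((hφ i).rep.isPullback' p.toHom))
  have : Finite ↥(hp.pullback (φ i)).left := by
    have := hfin i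
    exact Finite.of_injective (fun v => e.hom.left v)
      ((Over.forget S).mapIso e).schemeIsoToHomeo.injective
  infer_instance

end Groth.Agent.Lib.AlgSpDecent.Fibre
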