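import Groth.Agent.Lib.AlgSpDecent.AffineQuot
import Groth.Agent.Lib.AlgSpDecent.Fibre
import Groth.Agent.Lib.AlgSpace.OpenSub
import Groth.Agent.Lib.SourceDescent.Scheme
import Mathlib.AlgebraicGeometry.Morphisms.FlatMono

/-!
Open subschemes of algebraic spaces from charts with finite self fibre product.
-/

universe u

open CategoryTheory CategoryTheory.Limits AlgebraicGeometry Opposite

namespace Groth.Agent.Lib.AlgSpDecent.OpenScheme

open AlgSp Core Fibre

variable {S : Scheme.{u}} {F : Sp S}

theorem repWith_isOpenImmersion_of_comp {U Q : Over S} (c : U ⟶ Q) [Etale c.left]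
    [Surjective c.left] {l : (yon S).obj Q ⟶ F} (hl : Representable l) [Mono l]
    (ha : RepWith @Etale ((yon S).map c ≫ l)) : RepWith @IsOpenImmersion l := by
  have : (MorphismProperty.inverseImage (@IsOpenImmersion) (Over.forget S)).RespectsIso :=
    inverseImage_forget_respectsIso @IsOpenImmersion
  refine MorphismProperty.relative.of_exists fun T t => ⟨_, _, _, hl.isPullback t, ?_⟩
  let q := hl.fst' t
  let π := hl.snd t
  have sq₁ : IsPullback ((yon S).map (pullback.snd q c)) ((yon S).map (pullback.fst q c))
      ((yon S).map c) ((yon S).map q) := (isPullback_yon_pullback q c).flip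
  have sq₂ : IsPullback ((yon S).map (pullback.snd q c))
      ((yon S).map (pullback.fst q c ≫ π)) ((yon S).map c ≫ l) t := by
    rw [Functor.map_comp]
    exact sq₁.paste_vert (hl.isPullback' t)
  have het : Etale ((pullback.fst q c).left ≫ π.left) := ha.property t _ _ sq₂
  have : Surjective (pullback.fst q c).left := surjective_left_pullback_fst q c
  have : Etale (pullback.fst q c).left :=
    MorphismProperty.of_isPullback (P := @Etale)
      ((IsPullback.of_hasPullback q c).map (Over.forget S)).flip ‹_›
  have hπ : Etale π.left :=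
    SourceDescent.Scheme.etale.descends _ _ ‹Etale (pullback.fst q c).left› ‹_› het
  have hm : Mono ((yon S).map π) := (hl.isPullback' t).mono_snd_of_mono inferInstance
  have : Mono π := (yon S).mono_of_mono_map hm
  have : Mono π.left := inferInstance
  exact IsOpenImmersion.of_flat_of_mono π.left

theorem range_map_eq {U Q : Over S} (c : U ⟶ Q) [Surjective c.left]
    (l : (yon S).obj Q ⟶ F) :
    Set.range (Points.map l) = Set.range (Points.ofPt ((yon S).map c ≫ l)) := by
  rw [range_map_comp, c.left.surjective.range_eq, Set.image_univ, range_points_map_yon]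

/-- An affine etale chart with finite self fibre product has image an open subscheme. -/
theorem exists_open_scheme (hF : IsAlgSpace F) {U : Over S} [IsAffine U.left]
    {a : (yon S).obj U ⟶ F} (ha : RepWith @Etale a) [IsFinite (ha.rep.snd a).left] :
    ∃ (Q : Over S) (c : U ⟶ Q) (l : (yon S).obj Q ⟶ F), IsAffine Q.left ∧ IsFinite c.left ∧
      Etale c.left ∧ Surjective c.left ∧ (yon S).map c ≫ l = a ∧
      RepWith @IsOpenImmersion l ∧ Set.range (Points.map l) = Set.range (Points.ofPt a) := by
  obtain ⟨Q, c, l, hQ, hfin, het, hsur, hl, hm⟩ := AffineQuot.exists_mono_quotient ha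
  refine ⟨Q, c, l, hQ, hfin, het, hsur, hl,
    repWith_isOpenImmersion_of_comp c (hF.representable_from_yon l) (hl ▸ ha), ?_⟩
  rw [range_map_eq c l, hl]

theorem isIso_of_surjective {G : Sp S} {j : G ⟶ F} (hj : RepWith @IsOpenImmersion j)
    (hs : Function.Surjective (Points.map j)) : IsIso j := by
  obtain ⟨g, hg⟩ := (AlgSpace.exists_lift_iff_range_subset hj (𝟙 F)).2
    (by rw [hs.range_eq]; exact Set.subset_univ _)
  have : Mono j := AlgSpace.mono_of_repWith (P := @IsOpenImmersion)
    (fun _ _ g (_ : IsOpenImmersion g) ↦ (inferInstance : Mono g)) hj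
  exact ⟨g, by rw [← cancel_mono j, Category.assoc, hg]; simp, hg⟩

theorem isRepresentable_yon (Q : Over S) : ((yon S).obj Q).obj.IsRepresentable :=
  (AlgSp.representableByOfIso (Iso.refl ((yon S).obj Q))).isRepresentable

theorem isRepresentable_of_iso {Q : Over S} (e : (yon S).obj Q ≅ F) : F.obj.IsRepresentable :=
  (AlgSp.representableByOfIso e).isRepresentable

end Groth.Agent.Lib.AlgSpDecent.OpenScheme
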