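import Groth.Agent.Lib.AlgSpDecent.Fibre

/-!
Specializations and generalizations along etale charts.
-/

universe u

open CategoryTheory CategoryTheory.Limits AlgebraicGeometry Opposite Topology

namespace Groth.Agent.Lib.AlgSpDecent.Specialize

open AlgSp Core Fibre

variable {S : Scheme.{u}} {F G : Sp S}

/-- The inclusion of an open subscheme, over `S`. -/
noncomputable def openIncl {U : Over S} (W : U.left.Opens) : Over.mk (W.ι ≫ U.hom) ⟶ U :=
  Over.homMk W.ι rfl

@[simp] theorem openIncl_left {U : Over S} (W : U.left.Opens) : (openIncl W).left = W.ι := rfl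

theorem repWith_etale_openIncl_comp {U : Over S} (W : U.left.Opens) {a : (yon S).obj U ⟶ F}
    (ha : RepWith @Etale a) : RepWith @Etale ((yon S).map (openIncl W) ≫ a) :=
  (repWith_isMultiplicative @Etale).comp_mem _ _
    ((repWith_yon_map_iff _ _).2 (inferInstanceAs (Etale W.ι))) ha

theorem ofPt_openIncl_comp {U : Over S} (W : U.left.Opens) (a : (yon S).obj U ⟶ F) (w : W) :
    Points.ofPt ((yon S).map (openIncl W) ≫ a) w = Points.ofPt a w.1 :=
  ofPt_map_comp (openIncl W) a w

/-- Every point of an algebraic space lies in an affine etale chart. -/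
theorem exists_affine_chart (hF : IsAlgSpace F) :
    ∃ (ι : Type u) (U : ι → Over S) (φ : ∀ i, (yon S).obj (U i) ⟶ F),
      (∀ i, IsAffine (U i).left) ∧ (∀ i, RepWith @Etale (φ i)) ∧
        ∀ x : Points F, ∃ (i : ι) (v : ↥(U i).left), Points.ofPt (φ i) v = x := by
  obtain ⟨U, a, ha, hs⟩ := hF.atlas
  refine ⟨U.left.affineOpens, fun W => Over.mk (W.1.ι ≫ U.hom),
    fun W => (yon S).map (openIncl W.1) ≫ a, fun W => W.2,
    fun W => repWith_etale_openIncl_comp _ ha, fun x => ?_⟩
  obtain ⟨u, rfl⟩ := surjective_ofPt hs x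
  obtain ⟨_, ⟨W, hW, rfl⟩, huW, -⟩ := U.left.isBasis_affineOpens.exists_subset_of_mem_open
    (Set.mem_univ u) isOpen_univ
  exact ⟨⟨W, hW⟩, ⟨u, huW⟩, ofPt_openIncl_comp W a ⟨u, huW⟩⟩

/-- Etale morphisms of schemes have no specializations in their fibres. -/
theorem eq_of_specializes_of_etale {A B : Scheme.{u}} (f : A ⟶ B) [Etale f] {x y : A}
    (h : x ⤳ y) (he : f x = f y) : x = y := by
  have := locallyQuasiFinite_of_etale f
  have hd := (f.isDiscrete_preimage_singleton (f y)).to_subtype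
  have hs : (⟨x, he⟩ : f ⁻¹' {f y}) ⤳ ⟨y, rfl⟩ := (subtype_specializes_iff _ _).2 h
  exact congrArg Subtype.val hs.eq

theorem exists_generization {A B : Scheme.{u}} (f : A ⟶ B) [Flat f] {y : A} {x : B}
    (h : x ⤳ f y) : ∃ y', y' ⤳ y ∧ f y' = x :=
  Flat.generalizingMap f h

/-- The self pullback of a chart: two points with the same image are related. -/
theorem exists_rel {U : Over S} {a : (yon S).obj U ⟶ F} (hr : Representable a) (u u' : ↥U.left)
    (he : Points.ofPt a u = Points.ofPt a u') :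
    ∃ r : ↥(hr.pullback a).left, (hr.fst' a).left r = u ∧ (hr.snd a).left r = u' :=
  exists_point_of_scheme_isPullback (hr.isPullback' a) u u' he

/-- In a fibre of an etale chart a strict specialization can be continued by a strict
generization. -/
theorem exists_strict_generization {U : Over S} {a : (yon S).obj U ⟶ F} (ha : RepWith @Etale a)
    {u u' : ↥U.left} (he : Points.ofPt a u = Points.ofPt a u') (hs : u' ⤳ u) (hne : u ≠ u') :
    ∃ u'', u'' ⤳ u' ∧ u'' ≠ u' ∧ Points.ofPt a u'' = Points.ofPt a u' := by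
  have ht : Etale (ha.rep.snd a).left := ha.property_snd a
  have hs' : Etale (ha.rep.fst' a).left :=
    ha.property a _ _ (ha.rep.isPullback' a).flip
  obtain ⟨r, hr₁, hr₂⟩ := exists_rel ha.rep u' u he.symm
  obtain ⟨r', hr', hr'₂⟩ := exists_generization (ha.rep.snd a).left (y := r) (hr₂.symm ▸ hs)
  refine ⟨(ha.rep.fst' a).left r', hr₁ ▸ hr'.map (ha.rep.fst' a).left.continuous, ?_, ?_⟩
  · intro hc
    have := eq_of_specializes_of_etale (ha.rep.fst' a).left hr' (hc.trans hr₁.symm)
    subst this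
    exact hne (hr₂.symm.trans hr'₂)
  · rw [ofPt_eq_of_scheme_isPullback (ha.rep.isPullback' a).w _ rfl r', hr'₂]

/-- If the fibres over `x` in affine etale charts are finite, there are no specializations among
points over `x` in any etale chart. -/
theorem eq_of_specializes {x : Points F}
    (hx : ∀ (V : Over S) (b : (yon S).obj V ⟶ F), IsAffine V.left → RepWith @Etale b →
      (Points.ofPt b ⁻¹' {x}).Finite)
    {U : Over S} {a : (yon S).obj U ⟶ F} (ha : RepWith @Etale a) {u u' : ↥U.left}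
    (hu : Points.ofPt a u = x) (hu' : Points.ofPt a u' = x) (hs : u' ⤳ u) : u = u' := by
  obtain ⟨_, ⟨W, hW, rfl⟩, huW, -⟩ := U.left.isBasis_affineOpens.exists_subset_of_mem_open
    (Set.mem_univ u) isOpen_univ
  change U.left.Opens at W
  have hfin : {v | v ∈ W ∧ Points.ofPt a v = x}.Finite := by
    have := (hx (Over.mk (W.ι ≫ U.hom)) _ hW (repWith_etale_openIncl_comp W ha)).image
      (fun w : W => w.1)
    refine this.subset ?_
    rintro v ⟨hv, hvx⟩
    exact ⟨⟨v, hv⟩, (ofPt_openIncl_comp W a ⟨v, hv⟩).trans hvx, rfl⟩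
  suffices ∀ (n : ℕ) (v v' : ↥U.left), v ∈ W → Points.ofPt a v = x → Points.ofPt a v' = x →
      v' ⤳ v → {z | (z ∈ W ∧ Points.ofPt a z = x) ∧ z ⤳ v'}.ncard = n → v = v' from
    this _ u u' huW hu hu' hs rfl
  intro n
  induction n using Nat.strong_induction_on with
  | _ n ih =>
    intro v v' hv hvx hv'x hvs hn
    by_contra hne
    obtain ⟨v'', h1, h2, h3⟩ := exists_strict_generization ha (hvx.trans hv'x.symm) hvs hne
    have hv' : v' ∈ W := hvs.mem_open W.isOpen hv
    have hlt : {z | (z ∈ W ∧ Points.ofPt a z = x) ∧ z ⤳ v''}.ncard < n := by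
      rw [← hn]
      apply Set.ncard_lt_ncard ?_ (hfin.subset fun z hz => hz.1)
      have hsub : {z | (z ∈ W ∧ Points.ofPt a z = x) ∧ z ⤳ v''} ⊆
          {z | (z ∈ W ∧ Points.ofPt a z = x) ∧ z ⤳ v'} := fun z hz => ⟨hz.1, hz.2.trans h1⟩
      rw [Set.ssubset_iff_of_subset hsub]
      exact ⟨v', show (v' ∈ W ∧ Points.ofPt a v' = x) ∧ v' ⤳ v' from ⟨⟨hv', hv'x⟩, specializes_rfl⟩,
        fun h => h2 ((h1.antisymm h.2).eq)⟩
    exact h2 (ih _ hlt v' v'' hv' hv'x (h3.trans hv'x) h1 rfl).symm

theorem finite_fibres_of_qc_point {x : Points F}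
    (hx : ∃ p : FieldPt F, Points.mk p = x ∧ RepWith @QuasiCompact p.toHom) :
    ∀ (V : Over S) (b : (yon S).obj V ⟶ F), IsAffine V.left → RepWith @Etale b →
      (Points.ofPt b ⁻¹' {x}).Finite :=
  fun _ _ hV hb => by have := hV; exact finite_fibre_of_qc_point hx hb

/-- Generizations lift along etale charts to a given point, towards a point with finite fibres. -/
theorem exists_lift_generization {x x' : Points F} (h : x' ⤳ x)
    (hx' : ∀ (V : Over S) (b : (yon S).obj V ⟶ F), IsAffine V.left → RepWith @Etale b →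
      (Points.ofPt b ⁻¹' {x'}).Finite)
    {U : Over S} {a : (yon S).obj U ⟶ F} (ha : RepWith @Etale a) {u : ↥U.left}
    (hu : Points.ofPt a u = x) : ∃ u' : ↥U.left, u' ⤳ u ∧ Points.ofPt a u' = x' := by
  obtain ⟨_, ⟨W, hW, rfl⟩, huW, -⟩ := U.left.isBasis_affineOpens.exists_subset_of_mem_open
    (Set.mem_univ u) isOpen_univ
  change U.left.Opens at W
  have hb := repWith_etale_openIncl_comp W ha
  have hfin := hx' (Over.mk (W.ι ≫ U.hom)) _ hW hb
  have hmem : (⟨u, huW⟩ : W) ∈
      closure (Points.ofPt ((yon S).map (openIncl W) ≫ a) ⁻¹' {x'}) := by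
    rw [← preimage_closure hb]
    show Points.ofPt ((yon S).map (openIncl W) ≫ a) ⟨u, huW⟩ ∈ closure {x'}
    rw [← specializes_iff_mem_closure]
    exact ((ofPt_openIncl_comp W a ⟨u, huW⟩).trans hu) ▸ h
  have hcl : ∀ (s : Set W) (z : W), s.Finite → z ∈ closure s → ∃ y ∈ s, y ⤳ z := by
    intro s z hs hz
    rw [← Set.biUnion_of_singleton s, hs.closure_biUnion] at hz
    obtain ⟨y, hy, hz⟩ := Set.mem_iUnion₂.1 hz
    exact ⟨y, hy, specializes_iff_mem_closure.2 hz⟩
  obtain ⟨y, hy, hys⟩ := hcl _ _ hfin hmem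
  exact ⟨y.1, hys.map continuous_subtype_val, (ofPt_openIncl_comp W a y).symm.trans hy⟩

end Groth.Agent.Lib.AlgSpDecent.Specialize
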