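import Groth.Agent.Lib.AlgSpDecent.ClosedPoint
import Groth.Agent.Lib.AlgSpMor.OverField
import Groth.Agent.Lib.AlgSpMor.Perm

/-!
Rational points of decent spaces over a field are closed; separation of decent group spaces.
-/

universe u

open CategoryTheory CategoryTheory.Limits AlgebraicGeometry Opposite Topology

namespace Groth.Agent.Lib.AlgSpDecent.DecentSection

open AlgSp Core Fibre Specialize Decent

variable {S : Scheme.{u}}

/-- A section of the structure map of a decent space over a field is a closed immersion. -/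
theorem repWith_isClosedImmersion_section {X : Sp S} (hX : IsAlgSpace X) (hd : IsDecent X)
    {k : Type u} [Field k] {σ : Spec (CommRingCat.of k) ⟶ S} (π : X ⟶ (yon S).obj (Over.mk σ))
    (e : (yon S).obj (Over.mk σ) ⟶ X) (he : e ≫ π = 𝟙 _) : RepWith @IsClosedImmersion e := by
  suffices ∀ p : FieldPt X, p.toHom ≫ (show X ⟶ (yon S).obj (Over.mk σ) from π) = p.toHom ≫ π →
      ∀ (h : p.pt = Over.mk σ), eqToHom (congrArg (yon S).obj h) ≫ e = p.toHom →
        RepWith @IsClosedImmersion p.toHom by
    let p : FieldPt X := Core.ofHom (str := σ) e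
    have hp : p.toHom = e := Core.toHom_ofHom e
    have := this p rfl rfl ((Category.id_comp e).trans hp.symm)
    rwa [hp] at this
  intro p _ h hpe
  have hsplit : p.toHom ≫ π = eqToHom (congrArg (yon S).obj h) := by
    rw [← hpe, Category.assoc, he, Category.comp_id]
  have : Mono p.toHom := ⟨fun a b hab => by
    rw [← cancel_mono (eqToHom (congrArg (yon S).obj h)), ← hsplit, reassoc_of% hab]⟩
  obtain ⟨q, hq₁, -, hq₂⟩ := hd (Points.mk p)
  refine ClosedPoint.repWith_isClosedImmersion hX hd p
    (repWith_qc_of_mk_eq (representable_toHom hX p) hq₂ hq₁.symm) ?_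
  obtain ⟨U, a, ha, hs⟩ := hX.atlas
  refine isClosed_of_closure_subset fun z hz => ?_
  obtain ⟨u', rfl⟩ := Core.surjective_ofPt hs z
  obtain ⟨u, hu, hue⟩ := IsDecent.exists_lift hd ha (specializes_iff_mem_closure.2 hz)
  rw [← hue]
  suffices IsClosed ({u} : Set ↥U.left) by
    rw [show u' = u from hu.mem_closed this rfl]
    exact rfl
  let E := ha.rep.pullback p.toHom
  let g : E ⟶ U := ha.rep.fst' p.toHom
  let πE : E ⟶ p.pt := ha.rep.snd p.toHom
  obtain ⟨m, hm⟩ := (yon S).map_surjective (a ≫ π ≫ eqToHom (congrArg (yon S).obj h).symm)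
  have hgm : g ≫ m = πE := (yon S).map_injective (by
    rw [Functor.map_comp, hm, reassoc_of% (ha.rep.isPullback' p.toHom).w, reassoc_of% hsplit,
      eqToHom_trans, eqToHom_refl, Category.comp_id])
  obtain ⟨ε, hε⟩ : u ∈ Set.range g.left := (range_fst p ha.rep).ge hue
  have : DiscreteTopology ↥E.left := discreteTopology_pullback p ha
  have : Etale πE.left := etale_snd p ha
  have : IsClosedImmersion (E.left.fromSpecResidueField ε) :=
    isClosed_singleton_iff_isClosedImmersion.1 (isClosed_discrete _)
  have : JacobsonSpace ↥p.pt.left := inferInstanceAs (JacobsonSpace ↥(Spec (CommRingCat.of p.K)))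
  have hfin : IsFinite (E.left.fromSpecResidueField ε ≫ g.left ≫ m.left) := by
    rw [← Over.comp_left, hgm]
    exact isFinite_iff_locallyOfFiniteType_of_jacobsonSpace.2 inferInstance
  refine isClosed_of_closure_subset fun w hw => ?_
  obtain ⟨W, hW, hwW, -⟩ := exists_isAffineOpen_mem_and_subset (U := (⊤ : U.left.Opens)) (x := w) trivial
  have huW : u ∈ W := (specializes_iff_mem_closure.2 hw).mem_open W.2 hwW
  let c := E.left.fromSpecResidueField ε ≫ g.left
  have hr : Set.range c ⊆ Set.range W.ι := by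
    rintro _ ⟨t, rfl⟩
    rw [Scheme.Opens.range_ι, Scheme.Hom.comp_apply, Scheme.fromSpecResidueField_apply, hε]
    exact huW
  let c' := IsOpenImmersion.lift W.ι c hr
  have hc' : c' ≫ W.ι = c := IsOpenImmersion.lift_fac _ _ hr
  have : IsAffine (W : Scheme.{u}) := hW
  have : IsAffine p.pt.left := inferInstanceAs (IsAffine (Spec (CommRingCat.of p.K)))
  have : IsFinite (c' ≫ W.ι ≫ m.left) := by
    rw [← Category.assoc, hc']
    simpa only [c, Category.assoc] using hfin
  have : IsFinite c' := IsFinite.of_comp c' (W.ι ≫ m.left)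
  have hcu : ∀ t, (c' t).1 = u := fun t => by
    show W.ι (c' t) = u
    rw [← Scheme.Hom.comp_apply, hc', Scheme.Hom.comp_apply, Scheme.fromSpecResidueField_apply, hε]
  let t₀ : ↥(Spec (E.left.residueField ε)) := IsLocalRing.closedPoint _
  have hspec : c' t₀ ⤳ (⟨w, hwW⟩ : ↥W) := by
    refine subtype_specializes_iff _ _ |>.2 ?_
    rw [hcu]
    exact specializes_iff_mem_closure.2 hw
  obtain ⟨t, ht⟩ := hspec.mem_closed c'.isClosedMap.isClosed_range ⟨t₀, rfl⟩
  exact ((congrArg Subtype.val ht).symm.trans (hcu t))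

open Groth.Agent.Lib.AlgSpace in
/-- Separation from a shear map and a closed identity. -/
theorem repWith_diagonal_of_shear {U R P : Sp S} {s t : R ⟶ U} {e : U ⟶ R} {fst snd c : P ⟶ R}
    {δ : R ⟶ P} (sq₁ : IsPullback fst snd s t) (sq₂ : IsPullback snd c s s) (hes : e ≫ s = 𝟙 U)
    (h₁ : δ ≫ fst = t ≫ e) (h₂ : δ ≫ snd = 𝟙 R) (h₃ : δ ≫ c = 𝟙 R)
    (he : RepWith @IsClosedImmersion e) : RepWith @IsClosedImmersion (pullback.diagonal s) := by
  have sqδ : IsPullback t δ e fst := by
    refine IsPullback.of_bot (v₁₁ := δ) ?_ h₁.symm sq₁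
    rw [h₂, hes]
    exact IsPullback.of_vert_isIso ⟨by simp⟩
  have hδ : RepWith @IsClosedImmersion δ := repWith_baseChange sqδ he
  have hd : pullback.diagonal s = δ ≫ sq₂.isoPullback.hom := by
    apply pullback.hom_ext
    · rw [pullback.diagonal_fst, Category.assoc, sq₂.isoPullback_hom_fst, h₂]
    · rw [pullback.diagonal_snd, Category.assoc, sq₂.isoPullback_hom_snd, h₃]
  have sq : IsPullback (𝟙 R) (pullback.diagonal s) δ sq₂.isoPullback.inv :=
    IsPullback.of_horiz_isIso ⟨by simp [hd]⟩
  exact repWith_baseChange sq hδ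

/-- The spectrum of a field is separated over the base. -/
theorem repWith_diag_yon_field {k : Type u} [Field k] (σ : Spec (CommRingCat.of k) ⟶ S) :
    RepWith @IsClosedImmersion (Limits.diag ((yon S).obj (Over.mk σ))) := by
  rw [repWith_diag_yon_iff]
  have : IsSeparated σ := inferInstance
  exact this.isClosedImmersion_diagonal

end Groth.Agent.Lib.AlgSpDecent.DecentSection
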