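import Groth.Agent.Lib.AlgSpDecent.QS

/-!
Finiteness of fibres of charts and of their self fibre products.
-/

universe u

open CategoryTheory CategoryTheory.Limits AlgebraicGeometry Opposite Topology

namespace Groth.Agent.Lib.AlgSpDecent.FiniteFibre

open AlgSp Core Fibre Specialize Decent Criteria

variable {S : Scheme.{u}} {F : Sp S} {U : Over S}

/-- Finite fibre of the self pullback of a chart gives finite fibre at the point of the chart. -/
theorem finite_pullback_ofPt {a : (yon S).obj U ⟶ F} (hr : Representable a) {x : Points F}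
    (u : ↥U.left) (hu : Points.ofPt a u = x) {R : Over S} {s t : R ⟶ U}
    (sq : IsPullback ((yon S).map t) ((yon S).map s) a a)
    (h : (Points.ofPt ((yon S).map t ≫ a) ⁻¹' {x}).Finite) :
    Finite ↥(hr.pullback (FieldPt.ofPt a u).toHom).left := by
  let q := FieldPt.ofPt a u
  let i : q.pt ⟶ U := Over.homMk (U.left.fromSpecResidueField u) rfl
  have hqi : q.toHom = (yon S).map i ≫ a := FieldPt.toHom_ofPt a u
  let P := pullback s i
  have sqP : IsPullback ((yon S).map (pullback.fst s i ≫ t)) ((yon S).map (pullback.snd s i))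
      a q.toHom := by
    have := (isPullback_yon_pullback s i).paste_horiz sq
    rw [← Functor.map_comp, ← hqi] at this
    exact this
  let e : hr.pullback q.toHom ≅ P :=
    (yon S).preimageIso ((hr.isPullback' q.toHom).isoIsPullback _ _ sqP)
  have hi : IsPreimmersion i.left := inferInstanceAs (IsPreimmersion (U.left.fromSpecResidueField u))
  have hfst : IsPreimmersion (pullback.fst s i).left :=
    MorphismProperty.of_isPullback (P := @IsPreimmersion)
      ((IsPullback.of_hasPullback s i).map (Over.forget S)).flip hi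
  have hrange : (Set.range (pullback.fst s i).left).Finite := by
    refine h.subset ?_
    rintro _ ⟨z, rfl⟩
    show Points.ofPt ((yon S).map t ≫ a) ((pullback.fst s i).left z) = x
    rw [← ofPt_map_comp (pullback.fst s i), ← Category.assoc, ← Functor.map_comp]
    have := ofPt_eq_of_scheme_isPullback sqP.w _ rfl z
    rw [ofPt_map_comp]
    rw [this, Points.ofPt_toHom]
    exact hu
  have := hrange.to_subtype
  have : Finite ↥P.left := Finite.of_injective_finite_range (pullback.fst s i).left.isEmbedding.injective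
  exact Finite.of_equiv ↥P.left ((Over.forget S).mapIso e).symm.schemeIsoToHomeo.toEquiv

/-- A quasi-compact point has finite fibre in the self pullback of an affine chart. -/
theorem finite_fibre_self_pullback {a : (yon S).obj U ⟶ F} (ha : RepWith @Etale a)
    [IsAffine U.left] (p : FieldPt F) (hp : RepWith @QuasiCompact p.toHom) {R : Over S}
    {s t : R ⟶ U} (sq : IsPullback ((yon S).map t) ((yon S).map s) a a) :
    (Points.ofPt ((yon S).map t ≫ a) ⁻¹' {Points.mk p}).Finite := by
  let E := ha.rep.pullback p.toHom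
  let π := ha.rep.snd p.toHom
  let ψ := ha.rep.fst' p.toHom
  have sqE : IsPullback ((yon S).map ψ) ((yon S).map π) a p.toHom := ha.rep.isPullback' p.toHom
  have hE : Finite ↥E.left := finite_pullback_of_qc p hp ha
  have hπ : Etale π.left := etale_snd p ha
  have : IsAffine p.pt.left := inferInstanceAs (IsAffine (Spec (CommRingCat.of p.K)))
  have hπq : QuasiCompact π.left := inferInstance
  let D := pullback π π
  have sqD := (IsPullback.of_hasPullback π π).map (Over.forget S)
  have hDq : QuasiCompact (pullback.fst π π).left :=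
    MorphismProperty.of_isPullback (P := @QuasiCompact) sqD.flip hπq
  have hDe : Etale (pullback.fst π π).left :=
    MorphismProperty.of_isPullback (P := @Etale) sqD.flip hπ
  have : IsLocallyArtinian p.pt.left :=
    inferInstanceAs (IsLocallyArtinian (Spec (CommRingCat.of p.K)))
  have := locallyQuasiFinite_of_etale π.left
  have hEa : IsLocallyArtinian E.left := IsLocallyArtinian.of_locallyQuasiFinite (f := π.left)
  have := locallyQuasiFinite_of_etale (pullback.fst π π).left
  have : IsLocallyArtinian D.left :=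
    IsLocallyArtinian.of_locallyQuasiFinite (f := (pullback.fst π π).left)
  have : CompactSpace ↥D.left :=
    QuasiCompact.compactSpace_of_compactSpace (pullback.fst π π).left
  have : Finite ↥D.left := finite_of_compact_of_discrete
  have hw : (yon S).map (pullback.fst π π ≫ ψ) ≫ a = (yon S).map (pullback.snd π π ≫ ψ) ≫ a := by
    rw [Functor.map_comp, Functor.map_comp, Category.assoc, Category.assoc, sqE.w,
      ← Category.assoc, ← Category.assoc, ← Functor.map_comp, ← Functor.map_comp, pullback.condition]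
  obtain ⟨d, hd⟩ := (yon S).map_surjective (sq.lift _ _ hw)
  refine (Set.finite_range d.left).subset fun r hr => ?_
  let hR : Representable ((yon S).map t ≫ a) :=
    MorphismProperty.comp_mem Representable _ _ (representable_yon_map t) ha.rep
  obtain ⟨pt⟩ := nonempty_pt p
  obtain ⟨w, hw₁, -⟩ := exists_point_of_scheme_isPullback (hR.isPullback' p.toHom) r pt
    ((Set.mem_singleton_iff.1 hr).trans (Points.ofPt_toHom p pt).symm)
  let φ := hR.fst' p.toHom
  let ρ := hR.snd p.toHom
  have hφ : (yon S).map (φ ≫ t) ≫ a = (yon S).map ρ ≫ p.toHom := by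
    rw [Functor.map_comp, Category.assoc]; exact (hR.isPullback' p.toHom).w
  have hφ' : (yon S).map (φ ≫ s) ≫ a = (yon S).map ρ ≫ p.toHom := by
    refine Eq.trans ?_ hφ
    rw [Functor.map_comp, Functor.map_comp, Category.assoc, Category.assoc]
    exact congrArg _ sq.w.symm
  let l₁ := ha.rep.lift' (φ ≫ t) ρ hφ
  let l₂ := ha.rep.lift' (φ ≫ s) ρ hφ'
  have h₁ : l₁ ≫ π = ρ := ha.rep.lift'_snd _ _ hφ
  have h₂ : l₂ ≫ π = ρ := ha.rep.lift'_snd _ _ hφ'
  let l : hR.pullback p.toHom ⟶ D := pullback.lift l₁ l₂ (h₁.trans h₂.symm)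
  have key : l ≫ d = φ := by
    apply (yon S).map_injective
    refine sq.hom_ext ?_ ?_
    · rw [Functor.map_comp, Category.assoc, hd, sq.lift_fst, ← Functor.map_comp, ← Functor.map_comp,
        pullback.lift_fst_assoc]
      exact congrArg _ (ha.rep.lift'_fst _ _ hφ)
    · rw [Functor.map_comp, Category.assoc, hd, sq.lift_snd, ← Functor.map_comp, ← Functor.map_comp,
        pullback.lift_snd_assoc]
      exact congrArg _ (ha.rep.lift'_fst _ _ hφ')
  refine ⟨l.left w, ?_⟩
  rw [← hw₁]
  exact congrArg (fun m : hR.pullback p.toHom ⟶ R => m.left w) key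

/-- Finite fibres in a covering family of charts give finite fibres in every affine chart. -/
theorem finite_fibre_of_cover {x : Points F} {ι : Type u} (U : ι → Over S)
    (φ : ∀ i, (yon S).obj (U i) ⟶ F) (hφ : ∀ i, RepWith @Etale (φ i))
    (hsurj : ∀ y : Points F, ∃ (i : ι) (v : ↥(U i).left), Points.ofPt (φ i) v = y)
    (hfin : ∀ i, (Points.ofPt (φ i) ⁻¹' {x}).Finite)
    {V : Over S} [IsAffine V.left] {ψ : (yon S).obj V ⟶ F} (hψ : RepWith @Etale ψ) :
    (Points.ofPt ψ ⁻¹' {x}).Finite := by
  have key : ∀ v : ↥V.left, ∃ A : Set ↥V.left, IsOpen A ∧ v ∈ A ∧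
      (A ∩ Points.ofPt ψ ⁻¹' {x}).Finite := by
    intro v
    obtain ⟨i, w, hw⟩ := hsurj (Points.ofPt ψ v)
    have sq := (hφ i).rep.isPullback' ψ
    obtain ⟨z, hz₁, hz₂⟩ := exists_point_of_scheme_isPullback sq w v hw
    let π := (hφ i).rep.snd ψ
    let χ := (hφ i).rep.fst' ψ
    have hπ : Etale π.left := (hφ i).property_snd ψ
    have hχ : Etale χ.left := hψ.property (φ i) _ _ sq.flip
    obtain ⟨_, ⟨U', hU', rfl⟩, hwU, -⟩ := (U i).left.isBasis_affineOpens.exists_subset_of_mem_open
      (Set.mem_univ w) isOpen_univ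
    change (U i).left.Opens at U'
    obtain ⟨_, ⟨W, hW, rfl⟩, hzW, hWU⟩ :=
      ((hφ i).rep.pullback ψ).left.isBasis_affineOpens.exists_subset_of_mem_open
        (show z ∈ (χ.left ⁻¹ᵁ U' : Set _) from (congrArg (· ∈ U') hz₁).mpr hwU) (χ.left ⁻¹ᵁ U').isOpen
    change ((hφ i).rep.pullback ψ).left.Opens at W
    refine ⟨π.left '' W, π.left.isOpenMap _ W.isOpen, ⟨z, hzW, hz₂⟩, ?_⟩
    let g : (W : Scheme.{u}) ⟶ (U' : Scheme.{u}) := IsOpenImmersion.lift U'.ι (W.ι ≫ χ.left)
      (by rw [Scheme.Opens.range_ι]; rintro _ ⟨y, rfl⟩; exact hWU y.2)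
    have hg : g ≫ U'.ι = W.ι ≫ χ.left := IsOpenImmersion.lift_fac _ _ _
    have := locallyQuasiFinite_of_etale χ.left
    have : LocallyQuasiFinite g := by
      have : LocallyQuasiFinite (g ≫ U'.ι) := by rw [hg]; infer_instance
      exact LocallyQuasiFinite.of_comp g U'.ι
    have : IsAffine (W : Scheme.{u}) := hW
    have : IsAffine (U' : Scheme.{u}) := hU'
    have hfinW : (g ⁻¹' (U'.ι ⁻¹' (Points.ofPt (φ i) ⁻¹' {x}))).Finite :=
      g.finite_preimage ((hfin i).preimage U'.ι.injective.injOn)
    refine ((hfinW.image W.ι).image π.left).subset ?_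
    rintro _ ⟨⟨y, hy, rfl⟩, hyx⟩
    refine ⟨y, ⟨⟨y, hy⟩, ?_, rfl⟩, rfl⟩
    show Points.ofPt (φ i) (U'.ι (g ⟨y, hy⟩)) = x
    have hgy : U'.ι (g ⟨y, hy⟩) = χ.left y := congrArg (fun m => m (⟨y, hy⟩ : W)) hg
    rw [hgy]
    exact (ofPt_eq_of_scheme_isPullback sq.w _ rfl y).trans hyx
  choose A hA hmem hAf using key
  obtain ⟨s, hs⟩ := isCompact_univ.elim_finite_subcover A hA
    (fun v _ => Set.mem_iUnion.2 ⟨v, hmem v⟩)
  refine (s.finite_toSet.biUnion fun v _ => hAf v).subset fun v hv => ?_
  obtain ⟨j, hj, hvj⟩ := Set.mem_iUnion₂.1 (hs (Set.mem_univ v))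
  exact Set.mem_biUnion hj ⟨hvj, hv⟩

/-- Decency passes to the source of an etale morphism. -/
theorem isDecent_of_isEtaleMor {X Y : Sp S} {f : X ⟶ Y} (hX : IsAlgSpace X)
    (hf : IsEtaleMor f) (hY : IsDecent Y) : IsDecent X := by
  intro x
  obtain ⟨q, rfl⟩ := Points.mk_surjective x
  obtain ⟨r, hr, -, hrq⟩ := hY (Points.map f (Points.mk q))
  obtain ⟨ι, U, φ, hU, hφ, hsurj⟩ := exists_affine_chart hX
  refine exists_mono_qc_of_cover hX q U φ hφ hsurj fun i => ?_
  have hφf : RepWith @Etale (φ i ≫ f) := hf (φ i) (hφ i)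
  have := finite_pullback_of_qc r hrq hφf
  have : Finite ↥(hφf.rep.pullback (q.map f).toHom).left :=
    finite_pullback_of_mk_eq hφf ((Points.map_mk f q).symm.trans hr.symm)
  have hw : (yon S).map ((hφ i).rep.fst' q.toHom) ≫ φ i ≫ f =
      (yon S).map ((hφ i).rep.snd q.toHom) ≫ (q.map f).toHom := by
    rw [FieldPt.toHom_map, reassoc_of% ((hφ i).rep.isPullback' q.toHom).w]
  obtain ⟨e, he₁, he₂⟩ : ∃ e, e ≫ hφf.rep.fst' (q.map f).toHom = (hφ i).rep.fst' q.toHom ∧
      e ≫ hφf.rep.snd (q.map f).toHom = (hφ i).rep.snd q.toHom :=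
    ⟨hφf.rep.lift' (g := (q.map f).toHom) _ _ hw, hφf.rep.lift'_fst _ _ hw, hφf.rep.lift'_snd _ _ hw⟩
  have : Mono e := ⟨fun a b hab => by
    apply (hφ i).rep.hom_ext'
    · have := congrArg (· ≫ hφf.rep.fst' (q.map f).toHom) hab
      simp only [Category.assoc, he₁] at this
      exact this
    · have := congrArg (· ≫ hφf.rep.snd (q.map f).toHom) hab
      simp only [Category.assoc, he₂] at this
      exact this⟩
  exact Finite.of_injective _ e.left.injective

end Groth.Agent.Lib.AlgSpDecent.FiniteFibre
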