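import Groth.Agent.Lib.AlgSpDecent.Criteria
import Groth.Agent.Lib.AlgSpace.Local
import Groth.Agent.Lib.AlgSpMor.AffineDescent

/-!
Points algebraic over closed points of the base, in decent spaces.
-/

universe u

open CategoryTheory CategoryTheory.Limits AlgebraicGeometry Opposite Topology

namespace Groth.Agent.Lib.AlgSpDecent.AlgPoint

open AlgSp Core Fibre Specialize Decent

variable {S : Scheme.{u}} {F : Sp S} {k : Type u} [Field k]
  {str : Spec (CommRingCat.of k) ⟶ S} {p : (yon S).obj (Over.mk str) ⟶ F}

/-- A field-valued point of a decent space is quasi-compact. -/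
theorem repWith_qc (hA : IsAlgSpace F) (hF : IsDecent F)
    (p : (yon S).obj (Over.mk str) ⟶ F) : RepWith @QuasiCompact p := by
  let q : FieldPt F := ⟨k, str, (J S).uliftYonedaEquiv p⟩
  have hq : q.toHom = p := (J S).uliftYonedaEquiv.symm_apply_apply p
  obtain ⟨q', hq', -, hqc⟩ := hF (Points.mk q)
  exact hq ▸ repWith_qc_of_mk_eq (representable_toHom hA q) hqc hq'.symm

/-- Over an affine etale chart the point is a finite scheme over the field. -/
theorem isFinite_fst (hA : IsAlgSpace F) (hF : IsDecent F) {V E : Over S} [IsAffine V.left]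
    {b : (yon S).obj V ⟶ F} (hb : RepWith @Etale b) {fst : E ⟶ Over.mk str} {snd : E ⟶ V}
    (sq : IsPullback ((yon S).map fst) ((yon S).map snd) p b) : IsFinite fst.left := by
  have he : Etale fst.left := hb.property p _ _ sq.flip
  have hq : QuasiCompact snd.left := (repWith_qc hA hF p).property b _ _ sq
  have : CompactSpace ↥E.left := QuasiCompact.compactSpace_of_compactSpace snd.left
  have : IsAffine (Over.mk str).left := inferInstanceAs (IsAffine (Spec (CommRingCat.of k)))
  have : IsLocallyArtinian (Over.mk str).left :=
    inferInstanceAs (IsLocallyArtinian (Spec (CommRingCat.of k)))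
  have := locallyQuasiFinite_of_etale fst.left
  exact IsFinite.of_locallyQuasiFinite fst.left

/-- Local criterion along affine charts. -/
theorem repWith_of_affine (hA : IsAlgSpace F) (P : MorphismProperty Scheme.{u})
    [P.IsStableUnderBaseChange] [IsZariskiLocalAtTarget P]
    [P.IsLocalAtTarget Scheme.fppfPrecoverage]
    (h : ∀ (V E : Over S) (b : (yon S).obj V ⟶ F), IsAffine V.left → RepWith @Etale b →
      ∀ (fst : E ⟶ Over.mk str) (snd : E ⟶ V),
        IsPullback ((yon S).map fst) ((yon S).map snd) p b → P snd.left) : RepWith P p := by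
  obtain ⟨U, a, ha, hs⟩ := hA.atlas
  have hp : Representable p := hA.representable_from_yon p
  have := AlgSpace.isLocallySurjective_of_etale ha hs
  have sq := hp.isPullback' a
  refine AlgSpace.repWith_of_isLocallySurjective hp a sq P ((repWith_yon_map_iff _ _).2 ?_)
  refine (IsZariskiLocalAtTarget.iff_of_openCover (P := P) U.left.affineCover).2 fun i => ?_
  let c : Over.mk (U.left.affineCover.f i ≫ U.hom) ⟶ U := Over.homMk (U.left.affineCover.f i) rfl
  have : Etale c.left := inferInstanceAs (Etale (U.left.affineCover.f i))
  have sqp := IsPullback.of_hasPullback (hp.snd a) c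
  have sq2 := (sqp.map (yon S)).paste_horiz sq
  rw [← Functor.map_comp] at sq2
  have hP := h _ _ _ (inferInstanceAs (IsAffine (U.left.affineCover.X i)))
    ((repWith_isMultiplicative @Etale).comp_mem _ _ ((repWith_yon_map_iff _ c).2 ‹_›) ha) _ _ sq2
  exact (P.arrow_mk_iso_iff (Arrow.isoMk ((sqp.map (Over.forget S)).isoPullback) (Iso.refl _)
    (((sqp.map (Over.forget S)).isoPullback_hom_snd).trans (Category.comp_id _).symm))).1 hP

theorem isFinite_snd (hA : IsAlgSpace F) (hF : IsDecent F) [IsFinite str] {V E : Over S}
    [IsAffine V.left] {b : (yon S).obj V ⟶ F} (hb : RepWith @Etale b) {fst : E ⟶ Over.mk str}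
    {snd : E ⟶ V} (sq : IsPullback ((yon S).map fst) ((yon S).map snd) p b) :
    IsFinite snd.left := by
  have := isFinite_fst hA hF hb sq
  have : IsFinite (Over.mk str).hom := ‹IsFinite str›
  have : IsFinite E.hom := by rw [← Over.w fst]; infer_instance
  have : IsFinite (snd.left ≫ V.hom) := by rw [Over.w snd]; exact this
  have : IsSeparated V.hom := inferInstance
  exact MorphismProperty.of_postcomp (W := @IsFinite) (W' := @IsSeparated) snd.left V.hom ‹_› ‹_›

theorem repWith_isFinite (hA : IsAlgSpace F) (hF : IsDecent F) [IsFinite str] :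
    RepWith @IsFinite p := by
  have := AlgSpMor.AffineDescent.isLocalAtTarget_isFinite.{u}
  exact repWith_of_affine hA _ fun V E b _ hb fst snd sq => isFinite_snd hA hF hb sq

theorem repWith_isClosedImmersion (hA : IsAlgSpace F) (hF : IsDecent F) [IsClosedImmersion str] :
    RepWith @IsClosedImmersion p := by
  have := AlgSpMor.Sep.isLocalAtTarget_fppf_isClosedImmersion.{u}
  refine repWith_of_affine hA _ fun V E b _ hb fst snd sq => ?_
  have hf : IsFinite snd.left := isFinite_snd hA hF hb sq
  have : Mono str := inferInstance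
  have : Mono p := by
    refine ⟨fun {G} g h _ => ?_⟩
    have hsub : ∀ {T : Over S} (x y : T ⟶ Over.mk str), x = y := fun x y =>
      Over.OverMorphism.ext ((cancel_mono str).1 ((Over.w x).trans (Over.w y).symm))
    ext T x
    exact ULift.ext _ _ (hsub _ _)
  have hm : Mono ((yon S).map snd) := sq.mono_snd_of_mono inferInstance
  have : Mono snd := (yon S).mono_of_mono_map hm
  exact (IsClosedImmersion.iff_isFinite_and_mono snd.left).2 ⟨hf, inferInstance⟩

theorem repWith_isIntegralHom (hA : IsAlgSpace F) (hF : IsDecent F) [IsIntegralHom str] :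
    RepWith @IsIntegralHom p := by
  have := AlgSpMor.AffineDescent.isLocalAtTarget_isIntegralHom.{u}
  refine repWith_of_affine hA _ fun V E b _ hb fst snd sq => ?_
  have := isFinite_fst hA hF hb sq
  have : IsIntegralHom (Over.mk str).hom := ‹IsIntegralHom str›
  have : IsIntegralHom E.hom := by rw [← Over.w fst]; infer_instance
  have : IsIntegralHom (snd.left ≫ V.hom) := by rw [Over.w snd]; exact this
  have : IsSeparated V.hom := inferInstance
  exact IsIntegralHom.of_comp snd.left V.hom

/-- The range of an integral morphism is closed. -/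
theorem isClosed_range {G : Sp S} {f : G ⟶ F} (hA : IsAlgSpace F)
    (hf : RepWith @IsIntegralHom f) : IsClosed (Set.range (Points.map f)) := by
  obtain ⟨U, a, ha, hs⟩ := hA.atlas
  rw [← isOpen_compl_iff, isOpen_iff_chart ha hs, Set.preimage_compl, isOpen_compl_iff]
  have sq := hf.rep.isPullback a
  have e := AlgSpace.preimage_image_map sq Set.univ
  rw [Set.image_univ, Set.preimage_univ, Set.image_univ] at e
  rw [e]
  have : IsIntegralHom (hf.rep.snd a).left := hf.property a _ _ sq
  exact (hf.rep.snd a).left.isClosedMap.isClosed_range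

end Groth.Agent.Lib.AlgSpDecent.AlgPoint
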