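import Groth.Agent.Lib.AlgSpDecent.Criteria
import Groth.Agent.Lib.AlgSpace.DiagProp
import Groth.Prelude.Def_AlgSp3

/-!
Quasi-separated spaces and quasi-separated morphisms are decent.
-/

universe u

open CategoryTheory CategoryTheory.Limits AlgebraicGeometry Opposite Topology

namespace Groth.Agent.Lib.AlgSpDecent.QS

open AlgSp Core Fibre Specialize Decent Criteria

variable {S : Scheme.{u}}

/-- If `E` is the base change of a quasi-compact map along a map from a compact scheme, it is
compact. -/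
theorem compactSpace_of_isPullback {H K : Sp S} {D : H ⟶ K} (hD : RepWith @QuasiCompact D)
    {E W : Over S} {top : (yon S).obj E ⟶ H} {e : E ⟶ W} {ρ : (yon S).obj W ⟶ K}
    (sq : IsPullback top ((yon S).map e) D ρ) [CompactSpace ↥W.left] : CompactSpace ↥E.left :=
  haveI : QuasiCompact e.left := hD.property ρ top e sq
  QuasiCompact.compactSpace_of_compactSpace e.left

theorem compactSpace_over_pullback {U V T : Over S} (g : U ⟶ T) (h : V ⟶ T) [IsAffine U.left]
    [IsAffine V.left] (W : T.left.Opens) (hW : IsAffineOpen W) (hg : Set.range g.left ⊆ W)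
    (hh : Set.range h.left ⊆ W) : CompactSpace ↥(pullback g h).left := by
  have sq := (IsPullback.of_hasPullback g h).map (Over.forget S)
  have : CompactSpace ↥(pullback ((Over.forget S).map g) ((Over.forget S).map h)) :=
    compactSpace_pullback_of_range_subset g.left h.left W hW hg hh
  exact sq.isoPullback.symm.schemeIsoToHomeo.compactSpace

theorem compactSpace_over_prod {U V : Over S} [IsAffine U.left] [IsAffine V.left]
    (W : S.Opens) (hW : IsAffineOpen W) (hg : Set.range U.hom ⊆ W) (hh : Set.range V.hom ⊆ W) :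
    CompactSpace ↥(U ⨯ V).left := by
  have := compactSpace_pullback_of_range_subset U.hom V.hom W hW hg hh
  exact (Over.prodLeftIsoPullback U V).symm.schemeIsoToHomeo.compactSpace

/-- Affine charts mapping into affine opens of a given scheme. -/
theorem exists_affine_chart_over {F : Sp S} (hF : IsAlgSpace F) {T : Scheme.{u}}
    (τ : ∀ (V : Over S), ((yon S).obj V ⟶ F) → (V.left ⟶ T))
    (hτ : ∀ {V V' : Over S} (c : V' ⟶ V) (a : (yon S).obj V ⟶ F),
      τ V' ((yon S).map c ≫ a) = c.left ≫ τ V a) :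
    ∃ (ι : Type u) (U : ι → Over S) (φ : ∀ i, (yon S).obj (U i) ⟶ F),
      (∀ i, IsAffine (U i).left) ∧ (∀ i, RepWith @Etale (φ i)) ∧
        (∀ x : Points F, ∃ (i : ι) (v : ↥(U i).left), Points.ofPt (φ i) v = x) ∧
        ∀ i, ∃ W : T.Opens, IsAffineOpen W ∧ Set.range (τ _ (φ i)) ⊆ W := by
  obtain ⟨U, a, ha, hs⟩ := hF.atlas
  let I := {W : U.left.affineOpens // ∃ V : T.Opens, IsAffineOpen V ∧ W.1 ≤ τ U a ⁻¹ᵁ V}
  refine ⟨I, fun W => Over.mk (W.1.1.ι ≫ U.hom), fun W => (yon S).map (openIncl W.1.1) ≫ a,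
    fun W => W.1.2, fun W => repWith_etale_openIncl_comp _ ha, fun x => ?_, fun W => ?_⟩
  · obtain ⟨u, rfl⟩ := surjective_ofPt hs x
    obtain ⟨_, ⟨V, hV, rfl⟩, huV, -⟩ := T.isBasis_affineOpens.exists_subset_of_mem_open
      (Set.mem_univ (τ U a u)) isOpen_univ
    change T.Opens at V
    obtain ⟨_, ⟨W, hW, rfl⟩, huW, hWV⟩ := U.left.isBasis_affineOpens.exists_subset_of_mem_open
      (show u ∈ (τ U a ⁻¹ᵁ V : Set ↥U.left) from huV) (τ U a ⁻¹ᵁ V).isOpen
    exact ⟨⟨⟨W, hW⟩, V, hV, hWV⟩, ⟨u, huW⟩, ofPt_openIncl_comp W a ⟨u, huW⟩⟩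
  · obtain ⟨V, hV, hle⟩ := W.2
    refine ⟨V, hV, ?_⟩
    rw [hτ]
    rintro _ ⟨w, rfl⟩
    exact hle w.2


/-- Quasi-separated algebraic spaces are decent. -/
theorem isDecent_of_isQuasiSeparatedSp {F : Sp S} (hF : IsAlgSpace F)
    (hqs : IsQuasiSeparatedSp F) : IsDecent F := by
  intro x
  obtain ⟨q, rfl⟩ := Points.mk_surjective x
  obtain ⟨ι, U, φ, hU, hφ, hsurj, hW⟩ :=
    exists_affine_chart_over hF (fun V _ => V.hom) (fun c _ => (Over.w c).symm)
  refine exists_mono_qc_of_cover hF q U φ hφ hsurj fun i => ?_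
  obtain ⟨W, hWa, hUW⟩ := hW i
  let E := (hφ i).rep.pullback q.toHom
  rcases isEmpty_or_nonempty ↥E.left with hE | hE
  · infer_instance
  have sq := (hφ i).rep.isPullback' q.toHom
  have sqD := AlgSpace.isPullback_diag_yonProd sq
  have : IsAffine q.pt.left := inferInstanceAs (IsAffine (Spec (CommRingCat.of q.K)))
  have hq : Set.range q.pt.hom ⊆ W := by
    rintro _ ⟨t, rfl⟩
    obtain ⟨e⟩ := hE
    rw [Subsingleton.elim t (((hφ i).rep.snd q.toHom).left e)]
    have h1 := congrArg (fun m => m e) (Over.w ((hφ i).rep.snd q.toHom))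
    have h2 := congrArg (fun m => m e) (Over.w ((hφ i).rep.fst' q.toHom))
    simp only [Scheme.Hom.comp_apply] at h1 h2
    rw [h1, ← h2]
    exact hUW ⟨_, rfl⟩
  have := hU i
  have := compactSpace_over_prod (U := U i) (V := q.pt) W hWa hUW hq
  have : CompactSpace ↥E.left := compactSpace_of_isPullback hqs sqD
  have := discreteTopology_pullback q (hφ i)
  exact finite_of_compact_of_discrete

/-- The source of a quasi-separated morphism base changed to a scheme is decent. -/
theorem isDecentMor_of_isQuasiSeparatedMor {X Y : Sp S} {f : X ⟶ Y} (hX : IsAlgSpace X)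
    (hY : IsAlgSpace Y) (hf : IsQuasiSeparatedMor f) : IsDecentMor f := by
  intro T F' g fst snd sq x
  have hF : IsAlgSpace F' :=
    AlgSpace.isAlgSpace_of_isPullback sq hY.diag hX (IsAlgSpace.yon_obj T)
  obtain ⟨q, rfl⟩ := Points.mk_surjective x
  let τ : ∀ (V : Over S), ((yon S).obj V ⟶ F') → (V ⟶ T) := fun V a => (yon S).preimage (a ≫ snd)
  have hτ : ∀ V a, (yon S).map (τ V a) = a ≫ snd := fun V a => (yon S).map_preimage _
  obtain ⟨ι, U, φ, hU, hφ, hsurj, hW⟩ :=
    exists_affine_chart_over hF (T := T.left) (fun V a => (τ V a).left) (fun {V V'} c a => by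
      change _ = (c ≫ τ V a).left
      congr 1
      apply (yon S).map_injective
      rw [Functor.map_comp, hτ, hτ, Category.assoc])
  refine exists_mono_qc_of_cover hF q U φ hφ hsurj fun i => ?_
  obtain ⟨W, hWa, hUW⟩ := hW i
  let E := (hφ i).rep.pullback q.toHom
  let π := (hφ i).rep.snd q.toHom
  let ψ := (hφ i).rep.fst' q.toHom
  rcases isEmpty_or_nonempty ↥E.left with hE | hE
  · infer_instance
  have sqE : IsPullback ((yon S).map ψ) ((yon S).map π) (φ i) q.toHom :=
    (hφ i).rep.isPullback' q.toHom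
  let g₁ := τ _ (φ i)
  let g₂ := τ _ q.toHom
  have hcomm : ψ ≫ g₁ = π ≫ g₂ := by
    apply (yon S).map_injective
    rw [Functor.map_comp, Functor.map_comp, hτ, hτ, reassoc_of% sqE.w]
  have : IsAffine q.pt.left := inferInstanceAs (IsAffine (Spec (CommRingCat.of q.K)))
  have hq : Set.range g₂.left ⊆ W := by
    rintro _ ⟨t, rfl⟩
    obtain ⟨e⟩ := hE
    rw [Subsingleton.elim t (π.left e)]
    have h1 := congrArg (fun m => m.left e) hcomm
    simp only [Over.comp_left, Scheme.Hom.comp_apply] at h1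
    rw [← h1]
    exact hUW ⟨_, rfl⟩
  have := hU i
  have := compactSpace_over_pullback g₁ g₂ W hWa hUW hq
  let a' := (yon S).map (pullback.fst g₁ g₂) ≫ φ i
  let b' := (yon S).map (pullback.snd g₁ g₂) ≫ q.toHom
  have hab : a' ≫ snd = b' ≫ snd := by
    simp only [a', b', Category.assoc]
    rw [← hτ _ (φ i), ← hτ _ q.toHom, ← Functor.map_comp, ← Functor.map_comp]
    exact congrArg _ pullback.condition
  obtain ⟨ρ, hρ₁, hρ₂⟩ : ∃ ρ : (yon S).obj (pullback g₁ g₂) ⟶ pullback f f,
      ρ ≫ pullback.fst f f = a' ≫ fst ∧ ρ ≫ pullback.snd f f = b' ≫ fst :=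
    ⟨pullback.lift (a' ≫ fst) (b' ≫ fst) (by simp only [Category.assoc, sq.w]; rw [reassoc_of% hab]),
      pullback.lift_fst _ _ _, pullback.lift_snd _ _ _⟩
  let e : E ⟶ pullback g₁ g₂ := pullback.lift ψ π hcomm
  have he₁ : (yon S).map e ≫ a' = (yon S).map ψ ≫ φ i := by
    simp only [a', ← Category.assoc, ← Functor.map_comp, e, pullback.lift_fst]
  have he₂ : (yon S).map e ≫ b' = (yon S).map π ≫ q.toHom := by
    simp only [b', ← Category.assoc, ← Functor.map_comp, e, pullback.lift_snd]
  have sqD : IsPullback ((yon S).map ψ ≫ φ i ≫ fst) ((yon S).map e) (pullback.diagonal f) ρ := by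
    refine AlgSpace.isPullback_of_yon ?_ (fun R c c' _ h2 => ?_) (fun R x w h => ?_)
    · apply pullback.hom_ext
      · simp [hρ₁, reassoc_of% he₁]
      · simp [hρ₂, reassoc_of% he₂, reassoc_of% sqE.w]
    · apply sqE.hom_ext
      · have := congrArg (· ≫ (yon S).map (pullback.fst g₁ g₂)) h2
        simp only [Category.assoc, ← Functor.map_comp] at this
        rwa [pullback.lift_fst] at this
      · have := congrArg (· ≫ (yon S).map (pullback.snd g₁ g₂)) h2
        simp only [Category.assoc, ← Functor.map_comp] at this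
        rwa [pullback.lift_snd] at this
    · have h1 : x = w ≫ a' ≫ fst := by simpa [hρ₁] using congrArg (· ≫ pullback.fst f f) h
      have h2 : x = w ≫ b' ≫ fst := by simpa [hρ₂] using congrArg (· ≫ pullback.snd f f) h
      have heq : w ≫ a' = w ≫ b' := by
        apply sq.hom_ext
        · simp only [Category.assoc]; exact h1.symm.trans h2
        · simp only [Category.assoc, hab]
      refine ⟨sqE.lift (w ≫ (yon S).map (pullback.fst g₁ g₂)) (w ≫ (yon S).map (pullback.snd g₁ g₂))
        (by simpa [a', b'] using heq), ?_, ?_⟩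
      · rw [h1]; simp [a']
      · obtain ⟨w, rfl⟩ := (yon S).map_surjective w
        obtain ⟨l, hl⟩ := (yon S).map_surjective (sqE.lift ((yon S).map w ≫ (yon S).map (pullback.fst g₁ g₂))
          ((yon S).map w ≫ (yon S).map (pullback.snd g₁ g₂)) (by simpa [a', b'] using heq))
        rw [← hl, ← Functor.map_comp]
        congr 1
        apply pullback.hom_ext <;> apply (yon S).map_injective
        · rw [Category.assoc, pullback.lift_fst, Functor.map_comp, hl, sqE.lift_fst, Functor.map_comp]
        · rw [Category.assoc, pullback.lift_snd, Functor.map_comp, hl, sqE.lift_snd, Functor.map_comp]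
  have : CompactSpace ↥E.left := compactSpace_of_isPullback hf sqD
  have := discreteTopology_pullback q (hφ i)
  exact finite_of_compact_of_discrete

end Groth.Agent.Lib.AlgSpDecent.QS
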