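import Groth.Agent.Lib.AlgSpDecent.SpecTop
import Mathlib.AlgebraicGeometry.Morphisms.QuasiFinite
import Mathlib.AlgebraicGeometry.Morphisms.Separated
import Mathlib.AlgebraicGeometry.Morphisms.Finite
import Mathlib.AlgebraicGeometry.Limits
import Mathlib.RingTheory.QuasiFinite.Basic
import Mathlib.RingTheory.Localization.Integral
import Mathlib.RingTheory.Localization.InvSubmonoid

/-!
A separated quasi-compact locally quasi-finite morphism of finite type is finite over a
neighbourhood of every minimal point of an affine target.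
-/

universe u

open CategoryTheory CategoryTheory.Limits AlgebraicGeometry TensorProduct Topology

namespace Groth.Agent.Lib.AlgSpDecent.GenericFinite

section Ring

variable {A B : Type u} [CommRing A] [CommRing B] [Algebra A B]

/-- An element vanishing in the fibre of a minimal prime is killed, up to a power, by an element
outside the prime. -/
theorem exists_mul_pow_eq_zero (P : Ideal A) [P.IsPrime] (hmin : ∀ Q : Ideal A, Q.IsPrime → Q ≤ P → Q = P)
    (w : B) (hw : (1 : P.ResidueField) ⊗ₜ[A] w = 0) :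
    ∃ c ∉ P, ∃ n : ℕ, algebraMap A B c * w ^ n = 0 := by
  by_contra hcon
  push Not at hcon
  let M : Submonoid B := Submonoid.map (algebraMap A B : A →* B) P.primeCompl ⊔ Submonoid.powers w
  have hdis : Disjoint ((⊥ : Ideal B) : Set B) M := by
    rw [Set.disjoint_left]
    intro a ha haM
    obtain ⟨_, ⟨c, hc, rfl⟩, _, ⟨n, rfl⟩, hprod⟩ := Submonoid.mem_sup.1 haM
    exact hcon c hc n (hprod.trans ha)
  obtain ⟨q, hq, -, hqM⟩ := Ideal.exists_le_prime_disjoint ⊥ M hdis
  have hqP : q.under A = P := by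
    refine hmin _ (Ideal.IsPrime.under A q) fun a ha => ?_
    by_contra hc
    exact Set.disjoint_left.1 hqM ha
      ((le_sup_left : _ ≤ M) ⟨a, hc, rfl⟩)
  have hwq : w ∉ q := fun h => Set.disjoint_left.1 hqM h
    ((le_sup_right : Submonoid.powers w ≤ M) (Submonoid.mem_powers w))
  let K := FractionRing (B ⧸ q)
  have hker : ∀ a : A, algebraMap A K a = 0 ↔ a ∈ P := by
    intro a
    rw [IsScalarTower.algebraMap_apply A (B ⧸ q) K,
      map_eq_zero_iff _ (IsFractionRing.injective (B ⧸ q) K),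
      IsScalarTower.algebraMap_apply A B (B ⧸ q), Ideal.Quotient.algebraMap_eq,
      Ideal.Quotient.eq_zero_iff_mem, ← hqP]
    rfl
  let g : P.ResidueField →ₐ[A] K :=
    Ideal.ResidueField.liftₐ P (Algebra.ofId A K) (fun a ha => (hker a).2 ha)
      (fun a ha => isUnit_iff_ne_zero.2 fun h0 => ha ((hker a).1 h0))
  let m : P.ResidueField ⊗[A] B →ₐ[A] K :=
    Algebra.TensorProduct.lift g (IsScalarTower.toAlgHom A B K) fun _ _ => .all _ _
  have := congrArg m hw
  rw [map_zero] at this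
  simp only [m, Algebra.TensorProduct.lift_tmul, map_one, one_mul, IsScalarTower.coe_toAlgHom'] at this
  rw [IsScalarTower.algebraMap_apply B (B ⧸ q) K,
    map_eq_zero_iff _ (IsFractionRing.injective (B ⧸ q) K), Ideal.Quotient.algebraMap_eq,
    Ideal.Quotient.eq_zero_iff_mem] at this
  exact hwq this

theorem exists_integral_relation [Algebra.QuasiFinite A B] (P : Ideal A) [P.IsPrime]
    (hmin : ∀ Q : Ideal A, Q.IsPrime → Q ≤ P → Q = P) (y : B) :
    ∃ c ∉ P, ∃ d ∉ P, ∃ q : Polynomial A, q.Monic ∧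
      algebraMap A B c * Polynomial.aeval (algebraMap A B d * y) q = 0 := by
  have : Module.Finite P.ResidueField (P.ResidueField ⊗[A] B) :=
    inferInstanceAs (Module.Finite P.ResidueField (P.Fiber B))
  let z : P.ResidueField ⊗[A] B := (1 : P.ResidueField) ⊗ₜ[A] y
  have hz : IsIntegral P.ResidueField z := IsIntegral.of_finite _ _
  obtain ⟨⟨m, hm⟩, hmz⟩ :=
    IsIntegral.exists_multiple_integral_of_isLocalization (nonZeroDivisors (A ⧸ P)) z hz
  obtain ⟨d, rfl⟩ := Ideal.Quotient.mk_surjective m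
  have hd : d ∉ P := fun h => nonZeroDivisors.ne_zero hm (Ideal.Quotient.eq_zero_iff_mem.2 h)
  have : Algebra.IsIntegral A (A ⧸ P) :=
    Algebra.IsIntegral.of_surjective (Ideal.Quotient.mkₐ A P) Ideal.Quotient.mk_surjective
  have hint : IsIntegral A ((Ideal.Quotient.mk P d) • z) := isIntegral_trans (R := A) _ hmz
  obtain ⟨p, hp, hpz⟩ := hint
  rw [← Polynomial.aeval_def] at hpz
  have he : (Ideal.Quotient.mk P d) • z = (1 : P.ResidueField) ⊗ₜ[A] (algebraMap A B d * y) := by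
    show (Ideal.Quotient.mk P d • (1 : P.ResidueField)) ⊗ₜ[A] y = _
    rw [← Algebra.smul_def d y, ← smul_tmul]
    congr 1
    rw [Algebra.smul_def, Algebra.smul_def, mul_one, mul_one,
      IsScalarTower.algebraMap_apply A (A ⧸ P) P.ResidueField]
    rfl
  rw [he] at hpz
  have hw : (1 : P.ResidueField) ⊗ₜ[A] (Polynomial.aeval (algebraMap A B d * y) p) = 0 := by
    rw [← hpz]
    exact (Polynomial.aeval_algHom_apply
      (Algebra.TensorProduct.includeRight : B →ₐ[A] P.ResidueField ⊗[A] B) _ p).symm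
  obtain ⟨c, hc, n, hn⟩ := exists_mul_pow_eq_zero P hmin _ hw
  exact ⟨c, hc, d, hd, p ^ n, hp.pow n, by rw [map_pow]; exact hn⟩

/-- Finiteness after inverting an element outside a minimal prime. -/
theorem exists_finite_away [Algebra.QuasiFinite A B] [Algebra.FiniteType A B] (P : Ideal A)
    [P.IsPrime] (hmin : ∀ Q : Ideal A, Q.IsPrime → Q ≤ P → Q = P) :
    ∃ h ∉ P, ∀ (A' B' : Type u) [CommRing A'] [CommRing B'] [Algebra A A'] [Algebra B B']
      [IsLocalization.Away h A'] [IsLocalization.Away (algebraMap A B h) B'] (φ' : A' →+* B'),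
      φ'.comp (algebraMap A A') = (algebraMap B B').comp (algebraMap A B) → φ'.Finite := by
  classical
  obtain ⟨G, hG⟩ := Algebra.FiniteType.out (R := A) (A := B)
  choose c hc d hd q hq hrel using fun y : B => exists_integral_relation P hmin y
  refine ⟨∏ y ∈ G, c y * d y, fun hmem => ?_, ?_⟩
  · obtain ⟨y, -, hy⟩ := (Ideal.IsPrime.prod_mem_iff (hp := inferInstance)).1 hmem
    exact (Ideal.IsPrime.mem_or_mem inferInstance hy).elim (hc y) (hd y)
  intro A' B' _ _ _ _ hA' hB' φ' hφ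
  let h := ∏ y ∈ G, c y * d y
  let _ : Algebra A' B' := φ'.toAlgebra
  let _ : Algebra A B' := (φ'.comp (algebraMap A A')).toAlgebra
  have : IsScalarTower A A' B' := IsScalarTower.of_algebraMap_eq fun _ => rfl
  have : IsScalarTower A B B' := IsScalarTower.of_algebraMap_eq fun x => congrArg (fun m => m x) hφ
  have hunit : ∀ a : A, a ∣ h → IsUnit (algebraMap A A' a) := fun a ha =>
    isUnit_of_dvd_unit ((algebraMap A A').map_dvd ha) (IsLocalization.Away.algebraMap_isUnit h)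
  let Cl := integralClosure A' B'
  have hgen : ∀ y ∈ G, algebraMap B B' y ∈ Cl := by
    intro y hy
    have hdvd : c y * d y ∣ h := Finset.dvd_prod_of_mem _ hy
    have hc' := hunit (c y) (dvd_trans (dvd_mul_right _ _) hdvd)
    obtain ⟨e, he⟩ := hunit (d y) (dvd_trans (dvd_mul_left _ _) hdvd)
    let z : B' := algebraMap B B' (algebraMap A B (d y) * y)
    have hz0 : Polynomial.aeval z (q y) = 0 := by
      have h0 := congrArg (algebraMap B B') (hrel y)
      rw [map_mul, map_zero, ← IsScalarTower.algebraMap_apply, ← Polynomial.aeval_algebraMap_apply,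
        IsScalarTower.algebraMap_apply A A' B'] at h0
      exact (hc'.map (algebraMap A' B')).mul_right_eq_zero.1 h0
    have hzi : IsIntegral A' z := IsIntegral.tower_top ⟨q y, hq y, hz0⟩
    have : algebraMap B B' y = algebraMap A' B' (e⁻¹ : A'ˣ) * z := by
      simp only [z]
      rw [map_mul, ← IsScalarTower.algebraMap_apply, IsScalarTower.algebraMap_apply A A' B', ← he,
        ← mul_assoc, ← map_mul, Units.inv_mul, map_one, one_mul]
    show IsIntegral A' (algebraMap B B' y)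
    rw [this]
    exact isIntegral_algebraMap.mul hzi
  have hall : ∀ b : B, algebraMap B B' b ∈ Cl := by
    intro b
    have hb : b ∈ Algebra.adjoin A (G : Set B) := hG ▸ Algebra.mem_top
    induction hb using Algebra.adjoin_induction with
    | mem x hx => exact hgen x hx
    | algebraMap r =>
      rw [← IsScalarTower.algebraMap_apply, IsScalarTower.algebraMap_apply A A' B']
      exact isIntegral_algebraMap
    | add x y _ _ hx hy => rw [map_add]; exact add_mem hx hy
    | mul x y _ _ hx hy => rw [map_mul]; exact mul_mem hx hy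
  have hint : Algebra.IsIntegral A' B' := by
    refine ⟨fun z => ?_⟩
    obtain ⟨⟨b, ⟨_, k, rfl⟩⟩, hb⟩ := IsLocalization.surj (Submonoid.powers (algebraMap A B h)) z
    obtain ⟨e, he⟩ := (IsLocalization.Away.algebraMap_isUnit (S := A') h).pow k
    have h1 : algebraMap B B' (algebraMap A B h ^ k) = algebraMap A' B' (e : A') := by
      rw [he, map_pow, map_pow, ← IsScalarTower.algebraMap_apply, ← IsScalarTower.algebraMap_apply]
    have h2 : z = algebraMap A' B' (e⁻¹ : A'ˣ) * algebraMap B B' b := by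
      rw [← hb, h1, mul_comm z, ← mul_assoc, ← map_mul, Units.inv_mul, map_one, one_mul]
    rw [h2]
    exact isIntegral_algebraMap.mul (hall b)
  have : Algebra.FiniteType A B' := by
    have : Algebra.FiniteType B B' :=
      IsLocalization.finiteType_of_monoid_fg (Submonoid.powers (algebraMap A B h)) B'
    exact Algebra.FiniteType.trans (S := B) ‹_› ‹_›
  have : Algebra.FiniteType A' B' := Algebra.FiniteType.of_restrictScalars_finiteType A A' B'
  exact Algebra.IsIntegral.finite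

end Ring

/-- A point of the target outside the image of a compact open part of a closed subset has a
neighbourhood missing that image, if it is minimal. -/
theorem exists_nhd_disjoint {R V : Scheme.{u}} [IsAffine V] (f : R ⟶ V) {η : V}
    (hmin : ∀ y : V, y ⤳ η → y = η) {C K : Set R} (hC : IsClosed C) (hK : IsOpen K)
    (hKc : IsCompact K) (hη : η ∉ f '' (C ∩ K)) :
    ∃ N : Set V, IsOpen N ∧ η ∈ N ∧ Disjoint N (f '' (C ∩ K)) := by
  have key : ∀ k ∈ K, ∃ W : R.Opens, IsAffineOpen W ∧ k ∈ W ∧ (W : Set R) ⊆ K ∧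
      ∃ N : Set V, IsOpen N ∧ η ∈ N ∧ Disjoint N (f '' (C ∩ W)) := by
    intro k hk
    obtain ⟨_, ⟨W, hW, rfl⟩, hkW, hWK⟩ := R.isBasis_affineOpens.exists_subset_of_mem_open hk hK
    change R.Opens at W
    refine ⟨W, hW, hkW, hWK, ?_⟩
    obtain ⟨A, α, hα⟩ : ∃ (A : CommRingCat.{u}) (α : V ⟶ Spec A), IsIso α :=
      ⟨_, V.isoSpec.hom, inferInstance⟩
    let g := W.ι ≫ f ≫ α
    have : IsAffine (W : Scheme.{u}) := hW
    let β := (W : Scheme.{u}).isoSpec
    obtain ⟨φ, hφ⟩ : ∃ φ, Spec.map φ = β.inv ≫ g := ⟨_, Spec.map_preimage _⟩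
    let C' : Set (PrimeSpectrum Γ(W, ⊤)) := (β.inv ≫ W.ι) ⁻¹' C
    have hC' : IsClosed C' := hC.preimage (β.inv ≫ W.ι).continuous
    obtain ⟨J, hJ⟩ := (PrimeSpectrum.isClosed_iff_zeroLocus_ideal C').1 hC'
    let p : PrimeSpectrum A := α η
    have hpmin : ∀ y : PrimeSpectrum A, y ⤳ p → y = p := by
      intro y hy
      obtain ⟨y', rfl⟩ := α.surjective y
      rw [hmin y' (α.isOpenEmbedding.isInducing.specializes_iff.1 hy)]
    by_contra hcon
    push Not at hcon
    have hdis : Disjoint (J : Set Γ(W, ⊤))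
        (Submonoid.map (φ.hom : A →* Γ(W, ⊤)) p.asIdeal.primeCompl) := by
      rw [Set.disjoint_left]
      rintro _ haJ ⟨h, hh, rfl⟩
      refine hcon (α ⁻¹' (PrimeSpectrum.basicOpen h : Set (PrimeSpectrum A))) ((PrimeSpectrum.basicOpen h).isOpen.preimage α.continuous) hh ?_
      rw [Set.disjoint_left]
      rintro _ hxN ⟨w, ⟨hwC, hwW⟩, rfl⟩
      obtain ⟨x, hx⟩ := β.inv.surjective ⟨w, hwW⟩
      have hxC : x ∈ C' := by
        show (β.inv ≫ W.ι) x ∈ C
        rw [Scheme.Hom.comp_apply, hx]; exact hwC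
      rw [hJ] at hxC
      have hpx : Spec.map φ x = α (f w) := by
        rw [hφ, Scheme.Hom.comp_apply, hx]
        rfl
      have : h ∉ (Spec.map φ x).asIdeal := by rw [hpx]; exact hxN
      exact this (hxC haJ)
    obtain ⟨q, hq, hJq, hqM⟩ := Ideal.exists_le_prime_disjoint _ _ hdis
    let x : PrimeSpectrum Γ(W, ⊤) := ⟨q, hq⟩
    have hxp : Spec.map φ x = p := by
      refine hpmin _ ((PrimeSpectrum.le_iff_specializes _ _).1 fun a ha => ?_)
      by_contra hc
      exact Set.disjoint_left.1 hqM ha ⟨a, hc, rfl⟩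
    apply hη
    have hxC : x ∈ C' := by rw [hJ]; exact hJq
    refine ⟨(β.inv ≫ W.ι) x, ⟨hxC, hWK (β.inv x).2⟩, α.isOpenEmbedding.injective ?_⟩
    show α (f ((β.inv ≫ W.ι) x)) = p
    rw [← hxp, hφ]
    rfl
  choose W hW hkW hWK N hN hηN hdis using key
  obtain ⟨s, hs⟩ := hKc.elim_finite_subcover (fun k : K => (W k.1 k.2 : Set R))
    (fun k => (W k.1 k.2).isOpen) (fun k hk => Set.mem_iUnion.2 ⟨⟨k, hk⟩, hkW k hk⟩)
  refine ⟨⋂ k ∈ s, N k.1 k.2, isOpen_biInter_finset fun k _ => hN k.1 k.2,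
    Set.mem_iInter₂.2 fun k _ => hηN k.1 k.2, ?_⟩
  rw [Set.disjoint_left]
  rintro _ hx ⟨z, ⟨hzC, hzK⟩, rfl⟩
  obtain ⟨k, hk, hzk⟩ := Set.mem_iUnion₂.1 (hs hzK)
  exact Set.disjoint_left.1 (hdis k.1 k.2) (Set.mem_iInter₂.1 hx k hk) ⟨z, ⟨hzC, hzk⟩, rfl⟩

/-- Finiteness over a neighbourhood of a minimal point, for an affine preimage. -/
theorem exists_isFinite_of_isAffine {R V : Scheme.{u}} [IsAffine V] (f : R ⟶ V)
    [LocallyOfFiniteType f] [LocallyQuasiFinite f] {U : V.Opens} (hU : IsAffineOpen U)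
    (hfU : IsAffineOpen (f ⁻¹ᵁ U)) {η : V} (hη : η ∈ U) (hmin : ∀ y : V, y ⤳ η → y = η) :
    ∃ D : V.Opens, IsAffineOpen D ∧ η ∈ D ∧ D ≤ U ∧ IsFinite (f ∣_ D) := by
  have hmin' : ∀ Q : Ideal Γ(V, U), Q.IsPrime → Q ≤ (hU.primeIdealOf ⟨η, hη⟩).asIdeal →
      Q = (hU.primeIdealOf ⟨η, hη⟩).asIdeal := by
    intro Q hQ hle
    have hs : (⟨Q, hQ⟩ : Spec Γ(V, U)) ⤳ hU.primeIdealOf ⟨η, hη⟩ :=
      (PrimeSpectrum.le_iff_specializes _ _).1 hle
    have h2 := hs.map hU.fromSpec.continuous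
    rw [hU.fromSpec_primeIdealOf] at h2
    have h3 := hmin _ h2
    have : (⟨Q, hQ⟩ : Spec Γ(V, U)) = hU.primeIdealOf ⟨η, hη⟩ :=
      hU.fromSpec.isOpenEmbedding.injective (h3.trans (hU.fromSpec_primeIdealOf ⟨η, hη⟩).symm)
    exact congrArg PrimeSpectrum.asIdeal this
  have hft := HasRingHomProperty.appLE (P := @LocallyOfFiniteType) f ‹_› ⟨U, hU⟩ ⟨_, hfU⟩ le_rfl
  have hqf := HasRingHomProperty.appLE (P := @LocallyQuasiFinite) f ‹_› ⟨U, hU⟩ ⟨_, hfU⟩ le_rfl
  simp only [Scheme.Hom.appLE_eq_app] at hft hqf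
  let _ : Algebra Γ(V, U) Γ(R, f ⁻¹ᵁ U) := (f.app U).hom.toAlgebra
  have : Algebra.FiniteType Γ(V, U) Γ(R, f ⁻¹ᵁ U) := hft
  have : Algebra.QuasiFinite Γ(V, U) Γ(R, f ⁻¹ᵁ U) := hqf
  obtain ⟨h, hh, hfin⟩ := exists_finite_away (hU.primeIdealOf ⟨η, hη⟩).asIdeal hmin'
    (B := Γ(R, f ⁻¹ᵁ U))
  have hDa := hU.basicOpen h
  refine ⟨V.basicOpen h, hDa, ?_, V.basicOpen_le h, ?_⟩
  · have : hU.primeIdealOf ⟨η, hη⟩ ∈ hU.fromSpec ⁻¹ᵁ V.basicOpen h := by
      rw [hU.fromSpec_preimage_basicOpen]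
      exact hh
    exact (congrArg (fun x => x ∈ V.basicOpen h) (hU.fromSpec_primeIdealOf ⟨η, hη⟩)).mp this
  have : IsAffine (V.basicOpen h : Scheme.{u}) := hDa
  rw [HasAffineProperty.iff_of_isAffine (P := @IsFinite)]
  have hpre : IsAffineOpen (f ⁻¹ᵁ V.basicOpen h) := by
    rw [Scheme.preimage_basicOpen]
    exact hfU.basicOpen _
  refine ⟨hpre, ?_⟩
  have h1 : (f.app (V.basicOpen h)).hom.Finite := by
    have := hU.isLocalization_basicOpen h
    have := hfU.isLocalization_basicOpen (f.app U h)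
    rw [hU.app_basicOpen_eq_away_map f hfU h, CommRingCat.hom_comp]
    refine RingHom.Finite.comp (RingHom.Finite.of_surjective _
      (ConcreteCategory.bijective_of_isIso _).2) ?_
    exact hfin _ _ _ (by rw [CommRingCat.hom_ofHom, IsLocalization.Away.map, IsLocalization.map_comp]; rfl)
  rw [Scheme.Hom.appTop, morphismRestrict_app]
  have e : (V.basicOpen h).ι ''ᵁ ⊤ = V.basicOpen h := Scheme.Opens.ι_image_top _
  have h2 : (f.app ((V.basicOpen h).ι ''ᵁ ⊤)).hom.Finite := by rw [e]; exact h1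
  refine RingHom.Finite.comp (RingHom.Finite.of_surjective (R.presheaf.map _).hom ?_) h2
  have : IsIso (R.presheaf.map
      (eqToHom (image_morphismRestrict_preimage f (V.basicOpen h) ⊤)).op) := inferInstance
  exact (ConcreteCategory.bijective_of_isIso (R.presheaf.map
      (eqToHom (image_morphismRestrict_preimage f (V.basicOpen h) ⊤)).op)).2

/-- Finiteness over an affine neighbourhood of a minimal point. -/
theorem exists_isFinite {R V : Scheme.{u}} [IsAffine V] (f : R ⟶ V) [IsSeparated f]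
    [QuasiCompact f] [LocallyOfFiniteType f] [LocallyQuasiFinite f] {η : V}
    (hmin : ∀ y : V, y ⤳ η → y = η) :
    ∃ D : V.Opens, IsAffineOpen D ∧ η ∈ D ∧ IsFinite (f ∣_ D) := by
  classical
  have hfin : (f ⁻¹' {η}).Finite := f.finite_preimage_singleton η
  have := hfin.to_subtype
  have hsep : R.IsSeparated := ⟨by rw [← terminal.comp_from f]; infer_instance⟩
  have : CompactSpace R := QuasiCompact.compactSpace_of_compactSpace f
  have key : ∀ z : ↥(f ⁻¹' {η}), ∃ W : R.Opens, IsAffineOpen W ∧ z.1 ∈ W ∧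
      ∀ z' : ↥(f ⁻¹' {η}), z'.1 ∈ W → z' = z := by
    intro z
    let s := f ⁻¹' {η} \ {z.1}
    have hs : s.Finite := hfin.sdiff
    have hz : z.1 ∉ closure s := by
      rw [← Set.biUnion_of_singleton s, hs.closure_biUnion]
      intro hc
      obtain ⟨y, hy, hyz⟩ := Set.mem_iUnion₂.1 hc
      have hd := (f.isDiscrete_preimage_singleton η).to_subtype
      have : (⟨y, hy.1⟩ : f ⁻¹' {η}) ⤳ z :=
        (subtype_specializes_iff _ _).2 (specializes_iff_mem_closure.2 hyz)
      exact hy.2 (congrArg Subtype.val this.eq)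
    obtain ⟨_, ⟨W, hW, rfl⟩, hzW, hWs⟩ :=
      R.isBasis_affineOpens.exists_subset_of_mem_open (show z.1 ∈ (closure s)ᶜ from hz)
        isClosed_closure.isOpen_compl
    refine ⟨W, hW, hzW, fun z' hz' => ?_⟩
    by_contra hne
    exact hWs hz' (subset_closure ⟨z'.2, fun e => hne (Subtype.ext e)⟩)
  choose W hW hzW hWu using key
  obtain ⟨N₁, hN₁, hηN₁, hd₁⟩ := exists_nhd_disjoint f hmin
    (isOpen_iUnion fun z => (W z).isOpen).isClosed_compl isOpen_univ isCompact_univ
    (by rintro ⟨z, ⟨hz, -⟩, he⟩; exact hz (Set.mem_iUnion.2 ⟨⟨z, he⟩, hzW _⟩))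
  have key2 : ∀ i : ↥(f ⁻¹' {η}) × ↥(f ⁻¹' {η}), ∃ N : Set V, IsOpen N ∧ η ∈ N ∧
      (i.1 ≠ i.2 → Disjoint (f ⁻¹' N) ((W i.1 : Set R) ∩ W i.2)) := by
    intro i
    by_cases hi : i.1 = i.2
    · exact ⟨Set.univ, isOpen_univ, trivial, fun h => absurd hi h⟩
    obtain ⟨N, hN, hηN, hd⟩ := exists_nhd_disjoint f hmin (C := Set.univ)
      (K := (W i.1 : Set R) ∩ W i.2) isClosed_univ ((W i.1).isOpen.inter (W i.2).isOpen)
      ((hW i.1).inf (hW i.2)).isCompact (by
        rintro ⟨z, ⟨-, h1, h2⟩, he⟩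
        exact hi ((hWu i.1 ⟨z, he⟩ h1).symm.trans (hWu i.2 ⟨z, he⟩ h2)))
    refine ⟨N, hN, hηN, fun _ => Set.disjoint_left.2 fun z hzN hzW => ?_⟩
    exact Set.disjoint_left.1 hd hzN ⟨z, ⟨trivial, hzW⟩, rfl⟩
  choose N₂ hN₂ hηN₂ hd₂ using key2
  obtain ⟨_, ⟨U, hU, rfl⟩, hηU, hUsub⟩ := V.isBasis_affineOpens.exists_subset_of_mem_open
    (show η ∈ N₁ ∩ ⋂ i, N₂ i from ⟨hηN₁, Set.mem_iInter.2 hηN₂⟩)
    (hN₁.inter (isOpen_iInter_of_finite hN₂))
  change V.Opens at U
  have hfU : IsAffineOpen (f ⁻¹ᵁ U) := by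
    have e : f ⁻¹ᵁ U = ⨆ z, f ⁻¹ᵁ U ⊓ W z := by
      ext x
      simp only [TopologicalSpace.Opens.coe_iSup, TopologicalSpace.Opens.coe_inf, Set.mem_iUnion,
        Set.mem_inter_iff, exists_and_left]
      refine ⟨fun hx => ⟨hx, ?_⟩, fun hx => hx.1⟩
      by_contra hc
      exact Set.disjoint_left.1 hd₁ (hUsub hx).1
        ⟨x, ⟨fun h => hc (Set.mem_iUnion.1 h), trivial⟩, rfl⟩
    rw [e]
    refine IsAffineOpen.iSup_of_disjoint (fun z => ?_) fun z z' hne => ?_
    · have : IsAffine (W z : Scheme.{u}) := hW z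
      have : IsAffineHom ((W z).ι ≫ f) := inferInstance
      have := (hU.preimage ((W z).ι ≫ f)).image_of_isOpenImmersion (W z).ι
      convert this using 1
      rw [Scheme.Hom.comp_preimage, Scheme.Hom.image_preimage_eq_opensRange_inf,
        Scheme.Opens.opensRange_ι, inf_comm]
    · rw [Function.onFun, disjoint_iff]
      ext x
      simp only [TopologicalSpace.Opens.coe_inf, Set.mem_inter_iff, TopologicalSpace.Opens.coe_bot,
        Set.mem_empty_iff_false, iff_false]
      rintro ⟨⟨hxU, hx1⟩, -, hx2⟩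
      exact Set.disjoint_left.1 (hd₂ (z, z') hne)
        (Set.mem_iInter.1 (hUsub hxU).2 (z, z')) ⟨hx1, hx2⟩
  obtain ⟨D, hD, hηD, -, hfin⟩ := exists_isFinite_of_isAffine f hU hfU hηU hmin
  exact ⟨D, hD, hηD, hfin⟩

end Groth.Agent.Lib.AlgSpDecent.GenericFinite
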