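import Groth.Agent.Lib.AlgSpDecent.SelfFibre

/-!
The space of points of a decent space is quasi-sober.
-/

universe u

open CategoryTheory CategoryTheory.Limits AlgebraicGeometry Opposite Topology

namespace Groth.Agent.Lib.AlgSpDecent.Sober

open AlgSp Core Fibre Specialize Decent Criteria

variable {S : Scheme.{u}} {F : Sp S} {U : Over S} {a : (yon S).obj U ⟶ F}

/-- A minimal point of the preimage of a closed set lying in an open is minimal in the whole
preimage, and so is every point of the open with the same image. -/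
theorem minimal_of_same_image (hF : IsDecent F) (ha : RepWith @Etale a) {T : Set (Points F)}
    {η z : ↥U.left} (hηT : Points.ofPt a η ∈ T)
    (hmin : ∀ y ∈ Points.ofPt a ⁻¹' T, y ⤳ η → y = η) (hz : Points.ofPt a z = Points.ofPt a η) :
    ∀ y ∈ Points.ofPt a ⁻¹' T, y ⤳ z → y = z := by
  intro y hy hyz
  have h : Points.ofPt a y ⤳ Points.ofPt a η := hz ▸ hyz.map (Points.continuous_ofPt a)
  obtain ⟨y', hy', he⟩ := IsDecent.exists_lift hF ha h
  have := hmin y' (show Points.ofPt a y' ∈ T from he ▸ hy) hy'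
  subst this
  exact (IsDecent.eq_of_specializes hF ha (hz.trans he) hyz).symm

theorem map_eq_of_minimal (hF : IsDecent F) (ha : RepWith @Etale a) [IsAffine U.left]
    {T : Set (Points F)} (hTi : IsIrreducible T) (hTc : IsClosed T)
    {O : Set ↥U.left} (hO : IsOpen O) (hOc : IsCompact O)
    {R' : Set ↥(ha.rep.pullback a).left} (hR'o : IsOpen R') (hR'c : IsCompact R')
    (hR' : (ha.rep.snd a).left ⁻¹' (O ∩ Points.ofPt a ⁻¹' T) ⊆ R')
    {η η' : ↥U.left} (hη : η ∈ O) (hη' : η' ∈ O) (hηT : Points.ofPt a η ∈ T)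
    (hη'T : Points.ofPt a η' ∈ T)
    (hmin : ∀ y ∈ Points.ofPt a ⁻¹' T, y ⤳ η → y = η)
    (hmin' : ∀ y ∈ Points.ofPt a ⁻¹' T, y ⤳ η' → y = η') :
    Points.ofPt a η = Points.ofPt a η' := by
  by_contra hne
  let R := ha.rep.pullback a
  let s := (ha.rep.fst' a).left
  let t := (ha.rep.snd a).left
  have : Etale t := ha.property_snd a
  have : IsSeparated t := SelfFibre.isSeparated_snd ha.rep
  have : IsSeparated (terminal.from U.left) := inferInstance
  have : IsSeparated (t ≫ terminal.from U.left) := inferInstance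
  have hRsep : R.left.IsSeparated := ⟨by
    rw [← terminal.comp_from t]; infer_instance⟩
  let Fz := Points.ofPt a ⁻¹' {Points.ofPt a η'}
  have hFz : Fz.Finite := IsDecent.finite_fibres hF _ U a ‹_› ha
  have hηcl : η ∉ closure Fz := by
    rw [← Set.biUnion_of_singleton Fz, hFz.closure_biUnion]
    intro hc
    obtain ⟨z, hz, hzη⟩ := Set.mem_iUnion₂.1 hc
    have hzη' : Points.ofPt a z = Points.ofPt a η' := hz
    have := hmin z (show Points.ofPt a z ∈ T from hzη' ▸ hη'T) (specializes_iff_mem_closure.2 hzη)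
    exact hne (this ▸ hzη')
  obtain ⟨_, ⟨V, hV, rfl⟩, hηV, hVsub⟩ := U.left.isBasis_affineOpens.exists_subset_of_mem_open
    (show η ∈ O ∩ (closure Fz)ᶜ from ⟨hη, hηcl⟩) (hO.inter isClosed_closure.isOpen_compl)
  change U.left.Opens at V
  let R₁ := R' ∩ s ⁻¹' V
  have hR₁o : IsOpen R₁ := hR'o.inter (V.isOpen.preimage s.continuous)
  have hR₁c : IsCompact R₁ := by
    let W' : R.left.Opens := ⟨R', hR'o⟩
    have : CompactSpace ↥(W' : Scheme.{u}) := isCompact_iff_compactSpace.mp hR'c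
    have : QuasiCompact (W'.ι ≫ s) := inferInstance
    have := ((W'.ι ≫ s).isCompact_preimage (U := V) hV.isCompact).image W'.ι.continuous
    have e : W'.ι '' ((W'.ι ≫ s) ⁻¹' V) = R₁ := by
      rw [Scheme.Hom.comp_base, TopCat.coe_comp, Set.preimage_comp, Set.image_preimage_eq_range_inter,
        Scheme.Opens.range_ι]
      rfl
    exact e ▸ this
  let Q := t '' R₁
  have hη'Q : η' ∉ Q := by
    rintro ⟨r, ⟨-, hrV⟩, hrt⟩
    refine (hVsub hrV).2 (subset_closure ?_)
    show Points.ofPt a (s r) = Points.ofPt a η'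
    rw [ofPt_eq_of_scheme_isPullback (ha.rep.isPullback' a).w _ rfl r]
    exact congrArg (Points.ofPt a) hrt
  obtain ⟨N, hN, hη'N, hdis⟩ := SpecTop.exists_open_disjoint_compact
    (hTc.preimage (Points.continuous_ofPt a)) hmin' (t.isOpenMap _ hR₁o)
    (hR₁c.image t.continuous) hη'Q
  obtain ⟨x, hxT, ⟨u', hu'V, hu'x⟩, ⟨u, ⟨huN, huO⟩, hux⟩⟩ :=
    hTi.isPreirreducible _ _ (isOpenMap_ofPt ha _ V.isOpen) (isOpenMap_ofPt ha _ (hN.inter hO))
      ⟨_, hηT, η, hηV, rfl⟩ ⟨_, hη'T, η', ⟨hη'N, hη'⟩, rfl⟩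
  obtain ⟨r, hr₁, hr₂⟩ := exists_rel ha.rep u' u (hu'x.trans hux.symm)
  have huT : u ∈ Points.ofPt a ⁻¹' T := show Points.ofPt a u ∈ T from hux ▸ hxT
  have hrR : r ∈ R' := hR' (show t r ∈ O ∩ _ from hr₂.symm ▸ ⟨huO, huT⟩)
  exact Set.eq_empty_iff_forall_notMem.1 hdis u
    ⟨⟨huN, huT⟩, r, ⟨hrR, show s r ∈ V from hr₁.symm ▸ hu'V⟩, hr₂⟩

/-- Irreducible closed sets of points of a decent algebraic space have generic points. -/
theorem exists_generic_point (hA : IsAlgSpace F) (hF : IsDecent F) {T : Set (Points F)}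
    (hTi : IsIrreducible T) (hTc : IsClosed T) : ∃ ξ, IsGenericPoint ξ T := by
  obtain ⟨x₀, hx₀⟩ := hTi.nonempty
  obtain ⟨ι, U, φ, hU, hφ, hsurj⟩ := exists_affine_chart hA
  obtain ⟨i, v, hv⟩ := hsurj x₀
  let a := φ i
  have ha : RepWith @Etale a := hφ i
  have := hU i
  have hW : IsClosed (Points.ofPt a ⁻¹' T) := hTc.preimage (Points.continuous_ofPt a)
  obtain ⟨O, R', hO, hOc, ⟨w, hwO, hwW⟩, hR'o, hR'c, hR'⟩ :=
    SelfFibre.exists_compact_relation hF ha hW ⟨v, show Points.ofPt a v ∈ T from hv ▸ hx₀⟩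
  obtain ⟨η, hηW, hηw, hmin⟩ := SpecTop.exists_minimal hW hwW
  refine ⟨Points.ofPt a η, subset_antisymm (closure_minimal (Set.singleton_subset_iff.2 hηW) hTc) ?_⟩
  have hsub : T ∩ Points.ofPt a '' O ⊆ closure {Points.ofPt a η} := by
    rintro _ ⟨hxT, u, huO, rfl⟩
    obtain ⟨η', hη'W, hη'u, hmin'⟩ :=
      SpecTop.exists_minimal hW (show u ∈ Points.ofPt a ⁻¹' T from hxT)
    rw [map_eq_of_minimal hF ha hTi hTc hO hOc hR'o hR'c hR' (hηw.mem_open hO hwO)
      (hη'u.mem_open hO huO) hηW hη'W hmin hmin']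
    exact specializes_iff_mem_closure.1 (hη'u.map (Points.continuous_ofPt a))
  exact (subset_closure_inter_of_isPreirreducible_of_isOpen hTi.isPreirreducible
    (isOpenMap_ofPt ha _ hO) ⟨_, hwW, w, hwO, rfl⟩).trans (closure_minimal hsub isClosed_closure)

theorem quasiSober_points (hA : IsAlgSpace F) (hF : IsDecent F) : QuasiSober (Points F) :=
  ⟨fun hi hc => exists_generic_point hA hF hi hc⟩

end Groth.Agent.Lib.AlgSpDecent.Sober
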