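import Groth.Agent.Lib.AlgSpDecent.Saturate
import Groth.Agent.Lib.AlgSpDecent.GenericFinite
import Groth.Agent.Lib.AlgSpDecent.OpenScheme
import Groth.Agent.Lib.AlgSpDecent.Glue
import Groth.Agent.Lib.AlgSpDecent.Sober

/-!
Decent algebraic spaces have dense open subschemes.
-/

universe u

open CategoryTheory CategoryTheory.Limits AlgebraicGeometry Opposite Topology

namespace Groth.Agent.Lib.AlgSpDecent.DenseOpen

open AlgSp Core Fibre Specialize Decent

variable {S : Scheme.{u}} {F : Sp S}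

/-- Around the image of a minimal point of an affine chart with quasi-compact self fibre product
there is an open subscheme. -/
theorem exists_open_scheme_of_minimal (hA : IsAlgSpace F) (hF : IsDecent F) {U : Over S}
    [IsAffine U.left] {a : (yon S).obj U ⟶ F} (ha : RepWith @Etale a)
    [QuasiCompact (ha.rep.snd a).left] {η : ↥U.left} (hmin : ∀ y, y ⤳ η → y = η) :
    ∃ (Q : Over S) (l : (yon S).obj Q ⟶ F), IsAffine Q.left ∧ RepWith @IsOpenImmersion l ∧
      Points.ofPt a η ∈ Set.range (Points.map l) ∧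
      Set.range (Points.map l) ⊆ Set.range (Points.ofPt a) := by
  let t := (ha.rep.snd a).left
  have : Etale t := ha.property_snd a
  have : IsSeparated t := SelfFibre.isSeparated_snd ha.rep
  have : LocallyQuasiFinite t := locallyQuasiFinite_of_etale t
  obtain ⟨D, hD, hηD, hfin, hsat⟩ := Saturate.exists_saturated ha
    (IsDecent.finite_fibres hF (Points.ofPt a η) U a ‹_› ha) (fun z hz => by
      obtain ⟨D, -, hzD, hfin⟩ := GenericFinite.exists_isFinite t (η := z) fun y hy =>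
        Sober.minimal_of_same_image (T := Set.univ) hF ha trivial (fun y _ h => hmin y h) hz y
          trivial hy
      exact ⟨D, hzD, hfin⟩)
  let b := (yon S).map (openIncl D) ≫ a
  have hb : RepWith @Etale b := repWith_etale_openIncl_comp D ha
  have : IsAffine (Over.mk (D.ι ≫ U.hom)).left := hD
  have hfin' : IsFinite (t ∣_ D) := hfin
  have : IsFinite (hb.rep.snd b).left := Restrict.isFinite_snd_restrict ha.rep D hsat hb.rep
  obtain ⟨Q, c, l, hQ, -, -, -, -, hl, hr⟩ := OpenScheme.exists_open_scheme hA hb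
  refine ⟨Q, l, hQ, hl, ?_, ?_⟩
  · rw [hr]; exact ⟨⟨η, hηD⟩, ofPt_openIncl_comp D a ⟨η, hηD⟩⟩
  · rw [hr]
    rintro _ ⟨w, rfl⟩
    exact ⟨w.1, (ofPt_openIncl_comp D a w).symm⟩

/-- Every nonempty open set of points of a decent space meets an open subscheme. -/
theorem exists_open_scheme_in (hA : IsAlgSpace F) (hF : IsDecent F) {W : Set (Points F)}
    (hW : IsOpen W) (hne : W.Nonempty) :
    ∃ (Q : Over S) (l : (yon S).obj Q ⟶ F), IsAffine Q.left ∧ RepWith @IsOpenImmersion l ∧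
      (Set.range (Points.map l)).Nonempty ∧ Set.range (Points.map l) ⊆ W := by
  obtain ⟨x, hx⟩ := hne
  obtain ⟨ι, U, φ, hU, hφ, hsurj⟩ := exists_affine_chart hA
  obtain ⟨i, v, rfl⟩ := hsurj x
  obtain ⟨_, ⟨V₀, hV₀, rfl⟩, hvV₀, hV₀W⟩ := (U i).left.isBasis_affineOpens.exists_subset_of_mem_open
    (show v ∈ Points.ofPt (φ i) ⁻¹' W from hx) (hW.preimage (Points.continuous_ofPt _))
  change (U i).left.Opens at V₀
  let a₀ := (yon S).map (openIncl V₀) ≫ φ i
  have ha₀ : RepWith @Etale a₀ := repWith_etale_openIncl_comp V₀ (hφ i)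
  have : IsAffine (Over.mk (V₀.ι ≫ (U i).hom)).left := hV₀
  obtain ⟨O, R', hO, -, ⟨w, hwO, -⟩, hR'o, hR'c, hsub⟩ :=
    SelfFibre.exists_compact_relation hF ha₀ isClosed_univ
      (show (Set.univ : Set ↥(Over.mk (V₀.ι ≫ (U i).hom)).left).Nonempty from ⟨⟨v, hvV₀⟩, trivial⟩)
  obtain ⟨_, ⟨V₁, hV₁, rfl⟩, hwV₁, hV₁O⟩ :=
    (Over.mk (V₀.ι ≫ (U i).hom)).left.isBasis_affineOpens.exists_subset_of_mem_open hwO hO
  change (Over.mk (V₀.ι ≫ (U i).hom)).left.Opens at V₁
  let a₁ := (yon S).map (openIncl V₁) ≫ a₀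
  have ha₁ : RepWith @Etale a₁ := repWith_etale_openIncl_comp V₁ ha₀
  have : IsAffine (Over.mk (V₁.ι ≫ (Over.mk (V₀.ι ≫ (U i).hom)).hom)).left := hV₁
  have : QuasiCompact (ha₁.rep.snd a₁).left := Restrict.quasiCompact_snd_restrict ha₀.rep V₁ hV₁
    hR'o hR'c (fun r hr => hsub ⟨hV₁O hr, trivial⟩) ha₁.rep
  obtain ⟨η, -, -, hmin⟩ := SpecTop.exists_minimal
    (U := (Over.mk (V₁.ι ≫ (Over.mk (V₀.ι ≫ (U i).hom)).hom)).left) isClosed_univ
    (w := ⟨w, hwV₁⟩) trivial
  obtain ⟨Q, l, hQ, hl, hη, hsub'⟩ :=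
    exists_open_scheme_of_minimal hA hF ha₁ (η := η) fun y hy => hmin y trivial hy
  refine ⟨Q, l, hQ, hl, ⟨_, hη⟩, hsub'.trans ?_⟩
  rintro _ ⟨z, rfl⟩
  rw [ofPt_openIncl_comp V₁ a₀ z, ofPt_openIncl_comp V₀ (φ i) z.1]
  exact hV₀W z.1.2

/-- The largest open subscheme. -/
theorem exists_largest (hA : IsAlgSpace F) :
    ∃ (G : Over S) (m : (yon S).obj G ⟶ F), RepWith @IsOpenImmersion m ∧
      ∀ (Q : Over S) (l : (yon S).obj Q ⟶ F), RepWith @IsOpenImmersion l →
        Set.range (Points.map l) ⊆ Set.range (Points.map m) := by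
  obtain ⟨U, a, -, hs⟩ := hA.atlas
  let I : Type u := {O : Set ↥U.left // ∃ (Q : Over S) (l : (yon S).obj Q ⟶ F),
    RepWith @IsOpenImmersion l ∧ Set.range (Points.map l) = Points.ofPt a '' O}
  choose Q l hl hr using fun O : I => O.2
  obtain ⟨G, m, hm, hrange⟩ := Glue.exists_union hl hA
  refine ⟨G, m, hm, fun Q' l' hl' => ?_⟩
  let O : I := ⟨Points.ofPt a ⁻¹' Set.range (Points.map l'), Q', l', hl',
    (Set.image_preimage_eq _ (surjective_ofPt hs)).symm⟩
  intro x hx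
  rw [hrange]
  refine Set.mem_iUnion.2 ⟨O, ?_⟩
  rw [hr O]
  exact (Set.image_preimage_eq _ (surjective_ofPt hs)).symm ▸ hx

/-- A decent space has a dense open subscheme. -/
theorem exists_dense_open (hA : IsAlgSpace F) (hF : IsDecent F) :
    ∃ (G : Over S) (m : (yon S).obj G ⟶ F), RepWith @IsOpenImmersion m ∧
      Dense (Set.range (Points.map m)) := by
  obtain ⟨G, m, hm, hmax⟩ := exists_largest hA
  refine ⟨G, m, hm, dense_iff_inter_open.2 fun W hW hne => ?_⟩
  obtain ⟨Q, l, -, hl, ⟨x, hx⟩, hsub⟩ := exists_open_scheme_in hA hF hW hne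
  exact ⟨x, hsub hx, hmax Q l hl hx⟩

end Groth.Agent.Lib.AlgSpDecent.DenseOpen
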