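import Groth.Agent.Lib.AlgSpDecent.RelDim
import Groth.Agent.H2.Rigid.DimPoint
import Groth.Agent.H46.FiberStalk
import Groth.Agent.Lib.EGA75.DepthFlat
import Groth.Agent.Lib.Smoothing.Char.Core
import Groth.Agent.Lib.FibreDim.Semicont

/-!
The fibre dimension of a composite.
-/

universe u

open CategoryTheory CategoryTheory.Limits AlgebraicGeometry Opposite IsLocalRing

namespace Groth.Agent.Lib.AlgSpDecent.RelDimComp

open Groth.Agent.Lib.Cyc

/-- `dim B/IB = dim A/I + dim B/m_A B` for a flat local map. -/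
theorem ringKrullDim_quot_add {A B : Type u} [CommRing A] [CommRing B] [IsLocalRing A] [IsLocalRing B]
    (φ : A →+* B) [IsLocalHom φ] (hφ : φ.Flat) (I : Ideal A) (hI : I ≤ maximalIdeal A)
    [IsNoetherianRing (A ⧸ I)] [IsNoetherianRing (B ⧸ I.map φ)] :
    ringKrullDim (B ⧸ I.map φ) =
      ringKrullDim (A ⧸ I) + ringKrullDim (B ⧸ (maximalIdeal A).map φ) := by
  let := φ.toAlgebra
  have : Module.Flat A B := hφ
  have hmm : (maximalIdeal A).map φ ≤ maximalIdeal B :=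
    Ideal.map_le_iff_le_comap.2 (IsLocalRing.maximalIdeal_comap φ).ge
  have hIB : I.map φ ≤ maximalIdeal B := (Ideal.map_mono hI).trans hmm
  have : Nontrivial (A ⧸ I) :=
    Ideal.Quotient.nontrivial_iff.2 fun e => (maximalIdeal.isMaximal A).ne_top (top_le_iff.1 (e ▸ hI))
  have : Nontrivial (B ⧸ I.map φ) :=
    Ideal.Quotient.nontrivial_iff.2 fun e => (maximalIdeal.isMaximal B).ne_top (top_le_iff.1 (e ▸ hIB))
  have := IsLocalRing.of_surjective' (Ideal.Quotient.mk I) Ideal.Quotient.mk_surjective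
  have := IsLocalRing.of_surjective' (Ideal.Quotient.mk (I.map φ)) Ideal.Quotient.mk_surjective
  change IsLocalRing (B ⧸ I.map (algebraMap A B)) at this
  have hfl : Module.Flat (A ⧸ I) (B ⧸ I.map (algebraMap A B)) :=
    Groth.Agent.Lib.Smoothing.Char.Core.flat_quotient I
  have hmA : maximalIdeal (A ⧸ I) = (maximalIdeal A).map (Ideal.Quotient.mk I) :=
    (map_maximalIdeal_of_surjective _ Ideal.Quotient.mk_surjective).symm
  have hJ : (maximalIdeal (A ⧸ I)).map (algebraMap (A ⧸ I) (B ⧸ I.map (algebraMap A B))) =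
      ((maximalIdeal A).map (algebraMap A B)).map (Ideal.Quotient.mk (I.map (algebraMap A B))) := by
    rw [hmA, Ideal.map_map, Ideal.map_map]
    rfl
  have hloc : IsLocalHom (algebraMap (A ⧸ I) (B ⧸ I.map (algebraMap A B))) := by
    refine ((IsLocalRing.local_hom_TFAE _).out 2 0).1 ?_
    rw [hJ, ← map_maximalIdeal_of_surjective (Ideal.Quotient.mk (I.map (algebraMap A B)))
      Ideal.Quotient.mk_surjective]
    exact Ideal.map_mono hmm
  have hne : ((maximalIdeal (A ⧸ I)).map (algebraMap (A ⧸ I) (B ⧸ I.map (algebraMap A B)))) ≠ ⊤ :=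
    fun e => (maximalIdeal.isMaximal (B ⧸ I.map (algebraMap A B))).ne_top
      (top_le_iff.1 (e.ge.trans (((IsLocalRing.local_hom_TFAE _).out 0 2).1 hloc)))
  have : Nontrivial ((B ⧸ I.map (algebraMap A B)) ⧸
      (maximalIdeal (A ⧸ I)).map (algebraMap (A ⧸ I) (B ⧸ I.map (algebraMap A B)))) :=
    Ideal.Quotient.nontrivial_iff.2 hne
  have := IsLocalRing.of_surjective' (Ideal.Quotient.mk
    ((maximalIdeal (A ⧸ I)).map (algebraMap (A ⧸ I) (B ⧸ I.map (algebraMap A B)))))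
    Ideal.Quotient.mk_surjective
  have key := EGA75.DepthFlat.ringKrullDim_eq_add (A ⧸ I) (B ⧸ I.map (algebraMap A B))
  refine key.trans (congrArg _ ?_)
  exact ringKrullDim_eq_of_ringEquiv
    ((Ideal.quotEquivOfEq hJ).trans (DoubleQuot.quotQuotEquivQuotOfLE (Ideal.map_mono hI)))

/-- Dimension of the local ring of the fibre of a composite whose first map is flat at the point. -/
theorem stalk_fibre_add {A B C : Scheme.{u}} (g₁ : A ⟶ B) (g₂ : B ⟶ C) [LocallyOfFiniteType g₁]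
    [LocallyOfFiniteType g₂] (a : A) (hfl : (g₁.stalkMap a).hom.Flat) :
    ringKrullDim (((g₁ ≫ g₂).fiber ((g₁ ≫ g₂) a)).presheaf.stalk ((g₁ ≫ g₂).asFiber a)) =
      ringKrullDim ((g₂.fiber (g₂ (g₁ a))).presheaf.stalk (g₂.asFiber (g₁ a))) +
        ringKrullDim ((g₁.fiber (g₁ a)).presheaf.stalk (g₁.asFiber a)) := by
  let I : Ideal (B.presheaf.stalk (g₁ a)) :=
    (maximalIdeal (C.presheaf.stalk (g₂ (g₁ a)))).map (g₂.stalkMap (g₁ a)).hom
  have hI : I ≤ maximalIdeal _ :=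
    Ideal.map_le_iff_le_comap.2 (IsLocalRing.maximalIdeal_comap (g₂.stalkMap (g₁ a)).hom).ge
  have hmap : (maximalIdeal (C.presheaf.stalk ((g₁ ≫ g₂) a))).map ((g₁ ≫ g₂).stalkMap a).hom =
      I.map (g₁.stalkMap a).hom := by
    show _ = Ideal.map _ (Ideal.map _ _)
    rw [Ideal.map_map, Scheme.Hom.stalkMap_comp]
    rfl
  have := H46.QFin.isLocallyNoetherian_fiber g₂ (g₂ (g₁ a))
  have := H46.QFin.isLocallyNoetherian_fiber (g₁ ≫ g₂) ((g₁ ≫ g₂) a)
  have : IsNoetherianRing (B.presheaf.stalk (g₁ a) ⧸ I) := by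
    obtain ⟨φ, hs, hk⟩ := H46.FiberStalk.exists_surjective_stalk g₂ _ (g₂.asFiber (g₁ a)) (g₁ a)
      (g₂.fiberι_asFiber _)
    exact isNoetherianRing_of_ringEquiv _
      ((Ideal.quotEquivOfEq hk.symm).trans (RingHom.quotientKerEquivOfSurjective hs)).symm
  have : IsNoetherianRing (A.presheaf.stalk a ⧸ I.map (g₁.stalkMap a).hom) := by
    obtain ⟨φ, hs, hk⟩ := H46.FiberStalk.exists_surjective_stalk (g₁ ≫ g₂) _
      ((g₁ ≫ g₂).asFiber a) a ((g₁ ≫ g₂).fiberι_asFiber _)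
    exact isNoetherianRing_of_ringEquiv _
      ((Ideal.quotEquivOfEq (hk.trans hmap).symm).trans (RingHom.quotientKerEquivOfSurjective hs)).symm
  rw [H46.FiberStalk.ringKrullDim_stalk_fiber, H46.FiberStalk.ringKrullDim_stalk_fiber,
    H46.FiberStalk.ringKrullDim_stalk_fiber,
    ringKrullDim_eq_of_ringEquiv (Ideal.quotEquivOfEq hmap),
    ringKrullDim_quot_add (g₁.stalkMap a).hom hfl I hI]

/-- `dim_a` of the fibre is the dimension of the local ring of the fibre plus the residue trdeg. -/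
theorem fibreDimAt_eq_stalk_add {A B : Scheme.{u}} (g : A ⟶ B) [LocallyOfFiniteType g] (a : A) :
    ∃ t : ℕ, Residue.trdegAt g a = (t : Cardinal) ∧
      FlatMor.fibreDimAt g a =
        ringKrullDim ((g.fiber (g a)).presheaf.stalk (g.asFiber a)) + (t : WithBot ℕ∞) := by
  let φ := g.fiberToSpecResidueField (g a)
  have hφ : LocallyOfFiniteType φ := MorphismProperty.pullback_snd _ _ ‹_›
  have := H46.QFin.isLocallyNoetherian_fiber g (g a)
  obtain ⟨m, hm⟩ := H2.Rigid.DimPoint.exists_dim_stalk (g.asFiber a)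
  have h1 := H2.Rigid.DimPoint.localDim_eq (K := B.residueField (g a)) φ (g.asFiber a) m hm
  have h2 : Residue.trdegAt φ (g.asFiber a) = Residue.trdegAt g a := by
    rw [FieldDim.trdegAt_fiber, ChartOver.asFiber_ι]
  refine ⟨_, h2.symm.trans
    (FieldDim.trdegAt_eq_fdelta (K := B.residueField (g a)) φ (g.asFiber a)), ?_⟩
  show FlatMor.localDim _ (g.asFiber a) = _
  rw [hm, h1, Nat.cast_add, add_comm]

/-- Subadditivity of the fibre dimension, with equality when the first map is flat at the point. -/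
theorem fibreDimAt_comp {A B C : Scheme.{u}} (g₁ : A ⟶ B) (g₂ : B ⟶ C) [LocallyOfFiniteType g₁]
    [LocallyOfFiniteType g₂] (a : A) :
    FlatMor.fibreDimAt (g₁ ≫ g₂) a ≤ FlatMor.fibreDimAt g₁ a + FlatMor.fibreDimAt g₂ (g₁ a) ∧
      ((g₁.stalkMap a).hom.Flat → FlatMor.fibreDimAt (g₁ ≫ g₂) a =
        FlatMor.fibreDimAt g₁ a + FlatMor.fibreDimAt g₂ (g₁ a)) := by
  constructor
  · obtain ⟨d, hd⟩ := FibreDim.Chart.exists_fibreDimAt_eq g₁ a
    obtain ⟨e, he⟩ := FibreDim.Chart.exists_fibreDimAt_eq g₂ (g₁ a)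
    rw [hd, he, ← Nat.cast_add]
    refine (LocalDim.fibreDimAt_le_iff (g₁ ≫ g₂) a (d + e)).2 fun ξ hξ hs => ?_
    rw [Residue.trdegAt_comp, Nat.cast_add, add_comm (d : Cardinal)]
    refine add_le_add
      ((LocalDim.fibreDimAt_le_iff g₂ (g₁ a) e).1 he.le (g₁ ξ) hξ (hs.map g₁.continuous)) ?_
    exact LocalDim.trdegAt_le_of_fibreDimAt_le g₁ ξ d
      (hs.mem_open (FibreDim.Semicont.isOpen_setOf_fibreDimAt_le g₁ (d : WithBot ℕ∞)) hd.le)
  · intro hfl
    obtain ⟨t, ht, hd⟩ := fibreDimAt_eq_stalk_add (g₁ ≫ g₂) a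
    obtain ⟨t₁, ht₁, hd₁⟩ := fibreDimAt_eq_stalk_add g₁ a
    obtain ⟨t₂, ht₂, hd₂⟩ := fibreDimAt_eq_stalk_add g₂ (g₁ a)
    rw [Residue.trdegAt_comp, ht₁, ht₂] at ht
    have htt : t₂ + t₁ = t := by exact_mod_cast ht
    rw [hd, hd₁, hd₂, stalk_fibre_add g₁ g₂ a hfl, ← htt, Nat.cast_add]
    abel

end Groth.Agent.Lib.AlgSpDecent.RelDimComp
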