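import Groth.Agent.Lib.AlgSpDecent.RelDimIneq
import Groth.Agent.Lib.AlgSpDecent.RelDimComp
import Mathlib.AlgebraicGeometry.Noetherian
import Mathlib.AlgebraicGeometry.Morphisms.UniversallyOpen

/-!
Local dimension along flat morphisms of constant relative dimension.
-/

universe u

open CategoryTheory CategoryTheory.Limits AlgebraicGeometry Opposite Topology IsLocalRing

namespace Groth.Agent.Lib.AlgSpDecent.FlatRelDim

open Groth.Agent.Lib.Cyc SpecOrder

/-- The dimension of an open subscheme as a supremum of local ring dimensions of the ambient one. -/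
theorem topologicalKrullDim_opens {A : Scheme.{u}} (U : A.Opens) :
    topologicalKrullDim (U : Set ↥A) = ⨆ a : U, (cohtPt (a : ↥A) : WithBot ℕ∞) := by
  have h : ∀ z : (U : Scheme.{u}), (cohtPt z : WithBot ℕ∞) = cohtPt (U.ι z) := fun z => by
    rw [← DimDecent.ringKrullDim_stalk, ← DimDecent.ringKrullDim_stalk,
      RelDimIneq.ringKrullDim_stalk_map U.ι z]
  refine (topologicalKrullDim_eq_iSup (X := ↥(U : Scheme.{u}))).trans ?_
  simp only [h]
  rfl

variable {A B : Scheme.{u}} (g : A ⟶ B) [LocallyOfFiniteType g] [Flat g] [IsLocallyNoetherian B]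

/-- `dim O_a = dim O_{g a} + dim` of the local ring of the fibre, for flat maps. -/
theorem ringKrullDim_stalk_eq (a : A) :
    ringKrullDim (A.presheaf.stalk a) = ringKrullDim (B.presheaf.stalk (g a)) +
      ringKrullDim ((g.fiber (g a)).presheaf.stalk (g.asFiber a)) := by
  have := LocallyOfFiniteType.isLocallyNoetherian g
  rw [H46.FiberStalk.ringKrullDim_stalk_fiber]
  let := (g.stalkMap a).hom.toAlgebra
  have : Module.Flat (B.presheaf.stalk (g a)) (A.presheaf.stalk a) := Flat.stalkMap g a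
  have : IsLocalHom (algebraMap (B.presheaf.stalk (g a)) (A.presheaf.stalk a)) :=
    inferInstanceAs (IsLocalHom (g.stalkMap a).hom)
  have : Nontrivial (A.presheaf.stalk a ⧸
      (maximalIdeal (B.presheaf.stalk (g a))).map (algebraMap (B.presheaf.stalk (g a)) (A.presheaf.stalk a))) :=
    Ideal.Quotient.nontrivial_iff.2 fun e => (maximalIdeal.isMaximal (A.presheaf.stalk a)).ne_top
      (top_le_iff.1 (e.ge.trans (Ideal.map_le_iff_le_comap.2
        (IsLocalRing.maximalIdeal_comap (g.stalkMap a).hom).ge)))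
  have := IsLocalRing.of_surjective' (Ideal.Quotient.mk ((maximalIdeal (B.presheaf.stalk (g a))).map
    (algebraMap (B.presheaf.stalk (g a)) (A.presheaf.stalk a)))) Ideal.Quotient.mk_surjective
  exact EGA75.DepthFlat.ringKrullDim_eq_add (B.presheaf.stalk (g a)) (A.presheaf.stalk a)

/-- For fibres of constant dimension `d` on an open `U`, `dim U = dim g(U) + d`. -/
theorem dim_image (d : ℕ) (hd : ∀ a : A, FlatMor.fibreDimAt g a = (d : WithBot ℕ∞)) (U : A.Opens)
    (hne : (U : Set ↥A).Nonempty) :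
    topologicalKrullDim (U : Set ↥A) =
      (⨆ b : (g '' (U : Set ↥A) : Set ↥B), (cohtPt (b : ↥B) : WithBot ℕ∞)) + (d : WithBot ℕ∞) := by
  obtain ⟨a₀, ha₀⟩ := hne
  have : Nonempty (g '' (U : Set ↥A) : Set ↥B) := ⟨⟨g a₀, a₀, ha₀, rfl⟩⟩
  have hadd : ∀ {ι : Type u} [Nonempty ι] (f : ι → ℕ∞) (e : ℕ∞),
      (⨆ i, (f i : WithBot ℕ∞)) + (e : WithBot ℕ∞) = ⨆ i, ((f i + e : ℕ∞) : WithBot ℕ∞) := by
    intro ι _ f e
    rw [← WithBot.coe_iSup (OrderTop.bddAbove _), ← WithBot.coe_add, ENat.iSup_add,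
      WithBot.coe_iSup (OrderTop.bddAbove _)]
  rw [topologicalKrullDim_opens]
  erw [hadd (fun b : (g '' (U : Set ↥A) : Set ↥B) => cohtPt (b : ↥B)) (d : ℕ∞)]
  refine le_antisymm (iSup_le fun a => le_iSup_of_le ⟨g a, a.1, a.2, rfl⟩ ?_) (iSup_le fun b => ?_)
  · obtain ⟨t, -, ht⟩ := RelDimComp.fibreDimAt_eq_stalk_add g a.1
    show (cohtPt (a : ↥A) : WithBot ℕ∞) ≤ (cohtPt (g a) : WithBot ℕ∞) + (d : WithBot ℕ∞)
    rw [← DimDecent.ringKrullDim_stalk, ← DimDecent.ringKrullDim_stalk, ringKrullDim_stalk_eq g,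
      ← hd a.1, ht]
    exact add_le_add le_rfl (le_add_of_nonneg_right (Nat.cast_nonneg' t))
  · obtain ⟨b, a₁, ha₁, rfl⟩ := b
    let F := g.fiber (g a₁)
    have hF : LocallyOfFiniteType (g.fiberToSpecResidueField (g a₁)) :=
      MorphismProperty.pullback_snd _ _ ‹_›
    have : JacobsonSpace ↥F :=
      LocallyOfFiniteType.jacobsonSpace (g.fiberToSpecResidueField (g a₁))
    obtain ⟨z, hzU, hz⟩ := nonempty_inter_closedPoints
      (Z := (g.fiberι (g a₁)) ⁻¹' (U : Set ↥A))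
      ⟨g.asFiber a₁, by simpa using ha₁⟩
      (U.2.preimage (g.fiberι (g a₁)).continuous).isLocallyClosed
    let a := g.fiberι (g a₁) z
    have hga : g a = g a₁ := Cyc.FieldDim.apply_fiberι g _ z
    have hcl : IsClosed ({g.asFiber a} : Set ↥(g.fiber (g a))) := by
      have key : ∀ (y : B) (_ : g a = y) (z : g.fiber y), g.fiberι y z = a →
          IsClosed ({z} : Set ↥(g.fiber y)) → IsClosed ({g.asFiber a} : Set ↥(g.fiber (g a))) := by
        rintro y rfl z hza hzc
        rwa [H46.QFin.eq_asFiber a z hza] at hzc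
      exact key _ hga z rfl hz
    obtain ⟨t, ht', ht⟩ := RelDimComp.fibreDimAt_eq_stalk_add g a
    have h0 := Residue.trdegAt_eq_zero_of_finite a (H46.QFin.finite_residueFieldMap g a hcl)
    have ht0 : t = 0 := by exact_mod_cast ht'.symm.trans h0
    subst ht0
    refine le_iSup_of_le ⟨a, hzU⟩ (le_of_eq ?_)
    show (cohtPt (g a₁) : WithBot ℕ∞) + (d : WithBot ℕ∞) = (cohtPt a : WithBot ℕ∞)
    rw [← hga, ← DimDecent.ringKrullDim_stalk, ← DimDecent.ringKrullDim_stalk,
      ringKrullDim_stalk_eq g, ← hd a, ht, Nat.cast_zero, add_zero]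

theorem topologicalKrullDim_image {U : A.Opens} (hU : IsOpen (g '' (U : Set ↥A))) :
    topologicalKrullDim (g '' (U : Set ↥A) : Set ↥B) =
      ⨆ b : (g '' (U : Set ↥A) : Set ↥B), (cohtPt (b : ↥B) : WithBot ℕ∞) :=
  topologicalKrullDim_opens (⟨_, hU⟩ : B.Opens)

/-- Local dimension along a flat map with fibres of constant dimension. -/
theorem localDim_eq (d : ℕ) (hd : ∀ a : A, FlatMor.fibreDimAt g a = (d : WithBot ℕ∞)) (a : A) :
    FlatMor.localDim ↥A a = FlatMor.localDim ↥B (g a) + (d : WithBot ℕ∞) := by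
  have hopen : IsOpenMap g := g.isOpenMap
  refine le_antisymm ?_ (le_iInf fun U => ?_)
  · obtain ⟨W, haW, hW⟩ := FibreDim.Basic.exists_open_krullDim_eq (g a)
    refine iInf_le_of_le ⟨g ⁻¹ᵁ W, haW⟩ ?_
    rw [dim_image g d hd (g ⁻¹ᵁ W) ⟨a, haW⟩, ← hW, topologicalKrullDim_opens W]
    refine add_le_add (iSup_le fun b => ?_) le_rfl
    obtain ⟨b, a', ha', rfl⟩ := b
    exact le_iSup (fun b : W => (cohtPt (b : ↥B) : WithBot ℕ∞)) ⟨g a', ha'⟩
  · obtain ⟨U, haU⟩ := U
    show _ ≤ topologicalKrullDim (U : Set ↥A)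
    rw [dim_image g d hd U ⟨a, haU⟩, ← topologicalKrullDim_image g (hopen _ U.2)]
    exact add_le_add (iInf_le_of_le ⟨⟨_, hopen _ U.2⟩, a, haU, rfl⟩ le_rfl) le_rfl

end Groth.Agent.Lib.AlgSpDecent.FlatRelDim
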