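import Mathlib.RingTheory.TensorProduct.Free
import Mathlib.LinearAlgebra.Dimension.Free
import Mathlib.FieldTheory.Tower
import Mathlib.Algebra.Category.Ring.Epi
import Mathlib.RingTheory.TensorProduct.Finite

/-!
A finite equivalence relation on the spectrum of a field is effective: if `s t : L →+* B` present a
finite monomorphic equivalence relation on `Spec L`, then `L` is finite over the equalizer `k` of
`s` and `t`, and `L ⊗[k] L ≅ B`.
-/

universe u

open CategoryTheory TensorProduct

namespace Groth.Agent.Lib.AlgSpDecent.FieldRel

variable {L B : Type u} [Field L] [CommRing B] (s t : L →+* B)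

/-- The field of invariants of the relation. -/
def invariants [Nontrivial B] : Subfield L where
  toSubring := RingHom.eqLocus s t
  inv_mem' a (ha : s a = t a) := by
    show s a⁻¹ = t a⁻¹
    rcases eq_or_ne a 0 with rfl | h
    · simp
    · have hu : IsUnit (s a) := (isUnit_iff_ne_zero.2 h).map s
      apply hu.mul_left_cancel
      rw [← map_mul, mul_inv_cancel₀ h, ha, ← map_mul, mul_inv_cancel₀ h, map_one, map_one]

theorem map_mem_invariants [Nontrivial B] (a : invariants s t) : s (a : L) = t a := a.2

/-- Effectivity: a finite free structure of `L` over the invariants, and `L ⊗ L ≅ B`. -/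
theorem effective [Nontrivial B] (hfin : t.Finite) (e : B →+* L)
    (hes : e.comp s = RingHom.id L) (het : e.comp t = RingHom.id L)
    (hepi : ∀ {C : Type u} [CommRing C] (f g : B →+* C), f.comp s = g.comp s →
      f.comp t = g.comp t → f = g)
    (htrans : ∀ {C : Type u} [CommRing C] (f g : B →+* C), f.comp t = g.comp t →
      ∃ h : B →+* C, h.comp s = f.comp s ∧ h.comp t = g.comp s) :
    Module.Finite (invariants s t) L ∧
      ∃ φ : L ⊗[invariants s t] L ≃+* B, ∀ a b, φ (a ⊗ₜ b) = t a * s b := by
  classical
  let _ : Algebra L B := t.toAlgebra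
  have : Module.Finite L B := hfin
  -- the span of the image of `s` is everything
  let A : Subalgebra L B := Algebra.adjoin L (Set.range s)
  have hAtop : Submodule.span L (Set.range s) = ⊤ := by
    have : Epi (CommRingCat.ofHom A.val.toRingHom) := by
      constructor
      intro C f g hfg
      apply CommRingCat.hom_ext
      refine hepi f.hom g.hom ?_ ?_
      · ext a
        exact congrArg (fun m => m.hom ⟨s a, Algebra.subset_adjoin ⟨a, rfl⟩⟩) hfg
      · ext a
        exact congrArg (fun m => m.hom ⟨t a, A.algebraMap_mem a⟩) hfg
    have hf : (CommRingCat.ofHom A.val.toRingHom).hom.Finite := by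
      have : Module.Finite A B := Module.Finite.of_restrictScalars_finite L A B
      exact RingHom.finite_algebraMap.mpr this
    have hsurj := RingHom.surjective_of_epi_of_finite _ hf
    rw [eq_top_iff]
    intro x _
    obtain ⟨⟨y, hy⟩, rfl⟩ := hsurj x
    have : (y : B) ∈ Subalgebra.toSubmodule A := hy
    rw [Algebra.adjoin_eq_span] at this
    have hcl : (Submonoid.closure (Set.range s) : Set B) = Set.range s := by
      have h' : Submonoid.closure (Set.range s) = MonoidHom.mrange (s : L →* B) := by
        rw [← Submonoid.closure_eq (MonoidHom.mrange (s : L →* B))]; rfl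
      rw [h']; rfl
    rwa [hcl] at this
  -- a basis consisting of elements `s (a i)`
  obtain ⟨b, hbs, hbspan, hbli⟩ := exists_linearIndependent L (Set.range s)
  let bas : Module.Basis b L B := Module.Basis.mk hbli (by
    rw [Subtype.range_coe, hbspan, hAtop])
  have : Finite b := Module.Finite.finite_basis bas
  let : Fintype b := Fintype.ofFinite b
  choose a ha using fun i : b => hbs i.2
  have hbas : ∀ i, bas i = s (a i) := fun i => by rw [Module.Basis.mk_apply, ha]
  -- invariance of the coordinates
  have key : ∀ (l : L) (i : b), bas.repr (s l) i ∈ invariants s t := by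
    intro l
    let bC : Module.Basis b B (B ⊗[L] B) := Algebra.TensorProduct.basis B bas
    let f : B →+* B ⊗[L] B := (Algebra.TensorProduct.includeRight).toRingHom
    let g : B →+* B ⊗[L] B := Algebra.TensorProduct.includeLeftRingHom
    obtain ⟨h, hs, ht⟩ := htrans f g (by
      ext x
      exact (Algebra.TensorProduct.includeRight.commutes x).trans rfl)
    replace hs : ∀ x, h (s x) = f (s x) := fun x => congrArg (fun m : L →+* _ => m x) hs
    replace ht : ∀ x, h (t x) = g (s x) := fun x => congrArg (fun m : L →+* _ => m x) ht
    let c := bas.repr (s l)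
    have hsum : s l = ∑ i, t (c i) * s (a i) := by
      conv_lhs => rw [← bas.sum_repr (s l)]
      exact Finset.sum_congr rfl fun i _ => by rw [hbas, Algebra.smul_def]; rfl
    have h1 : ∑ i, t (c i) • bC i = (1 : B) ⊗ₜ[L] s l := by
      conv_rhs => rw [hsum, TensorProduct.tmul_sum]
      refine Finset.sum_congr rfl fun i _ => ?_
      rw [Algebra.TensorProduct.basis_apply, hbas, TensorProduct.smul_tmul', smul_eq_mul, mul_one]
      have : t (c i) = (c i) • (1 : B) := by rw [Algebra.smul_def, mul_one]; rfl
      rw [this, TensorProduct.smul_tmul, smul_mul_assoc, one_mul]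
    have h2 : ∑ i, s (c i) • bC i = (1 : B) ⊗ₜ[L] s l := by
      have e1 : f (s l) = ∑ i, g (s (c i)) * f (s (a i)) := by
        rw [← hs, hsum, map_sum]
        exact Finset.sum_congr rfl fun i _ => by rw [map_mul, hs, ht]
      refine Eq.trans ?_ e1.symm
      refine Finset.sum_congr rfl fun i _ => ?_
      rw [Algebra.TensorProduct.basis_apply, hbas, TensorProduct.smul_tmul', smul_eq_mul, mul_one]
      show _ = (s (c i) ⊗ₜ[L] (1 : B)) * ((1 : B) ⊗ₜ[L] s (a i))
      simp
    intro i
    have h3 := congrArg bC.repr (h1.trans h2.symm)
    simp only [map_sum, map_smul, Module.Basis.repr_self] at h3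
    have h4 := congrArg (fun z : b →₀ B => z i) h3
    simp [Finsupp.single_apply] at h4
    exact h4.symm
  -- the elements `a i` form a basis over the invariants
  let k := invariants s t
  have hli : LinearIndependent k a := by
    rw [Fintype.linearIndependent_iff]
    intro c hc i
    have h1 : ∑ j, ((c j : L)) • bas j = 0 := by
      have := congrArg s hc
      rw [map_sum, map_zero] at this
      rw [← this]
      refine Finset.sum_congr rfl fun j _ => ?_
      rw [hbas, Algebra.smul_def, Subfield.smul_def, smul_eq_mul, map_mul, map_mem_invariants]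
      rfl
    exact Subtype.ext (Fintype.linearIndependent_iff.1 bas.linearIndependent (fun j => (c j : L)) h1 i)
  have hspan : ⊤ ≤ Submodule.span k (Set.range a) := by
    intro l _
    rw [Submodule.mem_span_range_iff_exists_fun]
    refine ⟨fun i => ⟨bas.repr (s l) i, key l i⟩, ?_⟩
    have := congrArg e (bas.sum_repr (s l))
    rw [map_sum, show e (s l) = l from congrArg (fun m : L →+* L => m l) hes] at this
    refine Eq.trans ?_ this
    refine Finset.sum_congr rfl fun i _ => ?_
    rw [hbas, Algebra.smul_def (R := L), map_mul]
    show (bas.repr (s l) i) * a i = e (t _) * e (s _)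
    rw [show e (t _) = _ from congrArg (fun m : L →+* L => m _) het,
      show e (s _) = _ from congrArg (fun m : L →+* L => m _) hes]
    rfl
  let basL : Module.Basis b k L := Module.Basis.mk hli hspan
  let s' : L →ₐ[k] B := { s with commutes' := fun c => map_mem_invariants s t c }
  let φ : L ⊗[k] L →ₐ[L] B := Algebra.TensorProduct.lift (Algebra.ofId L B) s' fun _ _ => .all _ _
  have hφ : φ.toLinearMap =
      ((Algebra.TensorProduct.basis L basL).equiv bas (Equiv.refl b)).toLinearMap := by
    refine (Algebra.TensorProduct.basis L basL).ext fun i => ?_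
    rw [AlgHom.toLinearMap_apply, LinearEquiv.coe_coe, Module.Basis.equiv_apply,
      Algebra.TensorProduct.basis_apply]
    simp [φ, basL, hbas, s']
    all_goals rfl
  have hbij : Function.Bijective φ := by
    have : (φ : L ⊗[k] L → B) = φ.toLinearMap := rfl
    rw [this, hφ]
    exact LinearEquiv.bijective _
  refine ⟨Module.Finite.of_basis basL, RingEquiv.ofBijective φ.toRingHom hbij, fun x y => ?_⟩
  show φ (x ⊗ₜ y) = _
  simp [φ, s']
  rfl

end Groth.Agent.Lib.AlgSpDecent.FieldRel
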