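import Groth.Agent.Lib.AlgSpDecent.Core
import Groth.Agent.Lib.AlgSpDecent.FieldRel
import Groth.Agent.Lib.AlgSpace.Local
import Mathlib.Algebra.Category.Ring.Constructions
import Mathlib.AlgebraicGeometry.Morphisms.Finite

/-!
A field-valued point with finite self fibre product factors through a monomorphic point.
-/

universe u

open CategoryTheory CategoryTheory.Limits AlgebraicGeometry Opposite TensorProduct

namespace Groth.Agent.Lib.AlgSpDecent.FieldDescent

open AlgSp Core

theorem ofHom_inj {A B : Type u} [CommRing A] [CommRing B] {f g : A →+* B}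
    (h : CommRingCat.ofHom f = CommRingCat.ofHom g) : f = g :=
  congrArg CommRingCat.Hom.hom h

/-- A finite monomorphic equivalence relation on the spectrum of a field is the self fibre product
of a finite morphism to the spectrum of a subfield. -/
theorem exists_quotient_field {L : Type u} [Field L] {G : Scheme.{u}}
    (σ τ : G ⟶ Spec (CommRingCat.of L)) [IsFinite τ] (δ : Spec (CommRingCat.of L) ⟶ G)
    (hδσ : δ ≫ σ = 𝟙 _) (hδτ : δ ≫ τ = 𝟙 _)
    (hmono : ∀ {T : Scheme.{u}} (a b : T ⟶ G), a ≫ σ = b ≫ σ → a ≫ τ = b ≫ τ → a = b)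
    (htr : ∀ {T : Scheme.{u}} (a b : T ⟶ G), a ≫ τ = b ≫ τ →
      ∃ m : T ⟶ G, m ≫ σ = a ≫ σ ∧ m ≫ τ = b ≫ σ) :
    ∃ (k : Type u) (_ : Field k) (c : Spec (CommRingCat.of L) ⟶ Spec (CommRingCat.of k)),
      IsFinite c ∧ IsPullback σ τ c c := by
  have : IsAffine G := isAffine_of_isAffineHom τ
  let i := G.isoSpec
  let B : CommRingCat.{u} := Γ(G, ⊤)
  let sR : CommRingCat.of L ⟶ B := Spec.preimage (i.inv ≫ σ)
  let tR : CommRingCat.of L ⟶ B := Spec.preimage (i.inv ≫ τ)
  have hsR : Spec.map sR = i.inv ≫ σ := Spec.map_preimage _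
  have htR : Spec.map tR = i.inv ≫ τ := Spec.map_preimage _
  have htfin : tR.hom.Finite := by
    rw [← IsFinite.SpecMap_iff, htR]
    infer_instance
  have hS : ∀ {C : Type u} [CommRing C] (f : B →+* C),
      Spec.map (CommRingCat.ofHom (f.comp sR.hom)) = (Spec.map (CommRingCat.ofHom f) ≫ i.inv) ≫ σ := by
    intro C _ f
    rw [show CommRingCat.ofHom (f.comp sR.hom) = sR ≫ CommRingCat.ofHom f from rfl, Spec.map_comp,
      hsR, Category.assoc]
  have hT : ∀ {C : Type u} [CommRing C] (f : B →+* C),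
      Spec.map (CommRingCat.ofHom (f.comp tR.hom)) = (Spec.map (CommRingCat.ofHom f) ≫ i.inv) ≫ τ := by
    intro C _ f
    rw [show CommRingCat.ofHom (f.comp tR.hom) = tR ≫ CommRingCat.ofHom f from rfl, Spec.map_comp,
      htR, Category.assoc]
  have hepi : ∀ {C : Type u} [CommRing C] (f g : B →+* C), f.comp sR.hom = g.comp sR.hom →
      f.comp tR.hom = g.comp tR.hom → f = g := by
    intro C _ f g hs ht
    have := hmono _ _ ((hS f).symm.trans ((congrArg (fun x => Spec.map (CommRingCat.ofHom x)) hs).trans (hS g)))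
      ((hT f).symm.trans ((congrArg (fun x => Spec.map (CommRingCat.ofHom x)) ht).trans (hT g)))
    exact ofHom_inj (Spec.map_injective ((cancel_mono i.inv).1 this))
  have htrans : ∀ {C : Type u} [CommRing C] (f g : B →+* C), f.comp tR.hom = g.comp tR.hom →
      ∃ h : B →+* C, h.comp sR.hom = f.comp sR.hom ∧ h.comp tR.hom = g.comp sR.hom := by
    intro C _ f g ht
    obtain ⟨m, hm₁, hm₂⟩ := htr (Spec.map (CommRingCat.ofHom f) ≫ i.inv)
      (Spec.map (CommRingCat.ofHom g) ≫ i.inv) (by rw [← hT, ← hT, ht])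
    have hh : Spec.map (CommRingCat.ofHom (Spec.preimage (m ≫ i.hom)).hom) ≫ i.inv = m := by
      rw [CommRingCat.ofHom_hom, Spec.map_preimage]
      simp
    refine ⟨(Spec.preimage (m ≫ i.hom)).hom, ?_, ?_⟩
    · apply ofHom_inj; apply Spec.map_injective
      rw [hS, hS, hh, hm₁]
    · apply ofHom_inj; apply Spec.map_injective
      rw [hT, hS, hh, hm₂]
  let e : B →+* L := (Spec.preimage (δ ≫ i.hom)).hom
  have he : Spec.map (CommRingCat.ofHom e) ≫ i.inv = δ := by
    simp only [e, CommRingCat.ofHom_hom, Spec.map_preimage, Category.assoc, Iso.hom_inv_id,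
      Category.comp_id]
  have hes : e.comp sR.hom = RingHom.id L := by
    apply ofHom_inj; apply Spec.map_injective
    rw [hS, he, hδσ, CommRingCat.ofHom_id, Spec.map_id]
  have het : e.comp tR.hom = RingHom.id L := by
    apply ofHom_inj; apply Spec.map_injective
    rw [hT, he, hδτ, CommRingCat.ofHom_id, Spec.map_id]
  have : Nontrivial B := e.domain_nontrivial
  obtain ⟨hkfin, φ, hφ⟩ := FieldRel.effective sR.hom tR.hom htfin e hes het hepi htrans
  let k := FieldRel.invariants sR.hom tR.hom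
  let cR : CommRingCat.of k ⟶ CommRingCat.of L := CommRingCat.ofHom (algebraMap k L)
  have h₁ : ∀ a, φ (a ⊗ₜ 1) = tR.hom a := fun a => by
    rw [hφ a 1, map_one, mul_one]
  have h₂ : ∀ a, φ (1 ⊗ₜ a) = sR.hom a := fun a => by
    rw [hφ 1 a, map_one, one_mul]
  have hpush : IsPushout cR cR tR sR := by
    refine IsPushout.of_iso (CommRingCat.isPushout_tensorProduct k L L) (Iso.refl _)
      (Iso.refl _) (Iso.refl _) φ.toCommRingCatIso ?_ ?_ ?_ ?_
    · simp [cR]
    · simp [cR]
    · ext a; exact h₁ a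
    · ext a; exact h₂ a
  refine ⟨k, inferInstance, Spec.map cR, ?_, ?_⟩
  · rw [IsFinite.SpecMap_iff]; exact RingHom.finite_algebraMap.mpr hkfin
  · refine IsPullback.of_iso (isPullback_SpecMap_of_isPushout _ _ _ _ hpush).flip i.symm
      (Iso.refl _) (Iso.refl _) (Iso.refl _) ?_ ?_ ?_ ?_ <;> simp [hsR, htR]

variable {S : Scheme.{u}} {F : Sp S}

theorem epi_pullback_fst {X A B : Over S} (c : A ⟶ B) [Flat c.left] [Surjective c.left]
    [QuasiCompact c.left] (f : X ⟶ B) : Epi (pullback.fst f c) := by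
  have sq := (IsPullback.of_hasPullback f c).map (Over.forget S)
  have : Flat (pullback.fst f c).left :=
    MorphismProperty.of_isPullback (P := @Flat) sq.flip ‹Flat c.left›
  have : Surjective (pullback.fst f c).left :=
    MorphismProperty.of_isPullback (P := @Surjective) sq.flip ‹Surjective c.left›
  have : QuasiCompact (pullback.fst f c).left :=
    MorphismProperty.of_isPullback (P := @QuasiCompact) sq.flip ‹QuasiCompact c.left›
  have : Epi (pullback.fst f c).left := Flat.epi_of_flat_of_surjective _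
  exact Over.epi_of_epi_left _

/-- A map to `F` whose self fibre product is that of an fppf cover `c` descends to a monomorphism. -/
theorem exists_desc_mono {A B G : Over S} {q : (yon S).obj A ⟶ F} {σ τ : G ⟶ A} (c : A ⟶ B)
    [Flat c.left] [Surjective c.left] [QuasiCompact c.left] [LocallyOfFinitePresentation c.left]
    (sq : IsPullback ((yon S).map σ) ((yon S).map τ) q q) (sqc : IsPullback σ τ c c) :
    ∃ l : (yon S).obj B ⟶ F, (yon S).map c ≫ l = q ∧ Mono l := by
  have := AlgSpace.isLocallySurjective_yon_map c (AlgSpace.fppfCover_mk c.left)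
  obtain ⟨l, hl⟩ := AlgSpace.exists_desc ((yon S).map c) (sqc.map (yon S)) q sq.w
  refine ⟨l, hl, AlgSpace.mono_of_yon _ fun T a b hab => ?_⟩
  obtain ⟨a, rfl⟩ := (yon S).map_surjective a
  obtain ⟨b, rfl⟩ := (yon S).map_surjective b
  change (yon S).map a ≫ l = (yon S).map b ≫ l at hab
  obtain ⟨T', π, l₁, l₂, hπ, hl₁, hl₂⟩ : ∃ (T' : Over S) (π : T' ⟶ T) (l₁ l₂ : T' ⟶ A),
      Epi π ∧ l₁ ≫ c = π ≫ a ∧ l₂ ≫ c = π ≫ b := by
    refine ⟨pullback (pullback.fst a c ≫ b) c,
      pullback.fst (pullback.fst a c ≫ b) c ≫ pullback.fst a c,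
      pullback.fst (pullback.fst a c ≫ b) c ≫ pullback.snd a c,
      pullback.snd (pullback.fst a c ≫ b) c, ?_, ?_, ?_⟩
    · have := epi_pullback_fst c a
      have := epi_pullback_fst c (pullback.fst a c ≫ b)
      infer_instance
    · rw [Category.assoc, ← pullback.condition, Category.assoc]
    · rw [← pullback.condition, Category.assoc]
  have hw : (yon S).map l₁ ≫ q = (yon S).map l₂ ≫ q := by
    rw [← hl, ← Category.assoc, ← Category.assoc, ← Functor.map_comp, ← Functor.map_comp, hl₁, hl₂,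
      Functor.map_comp, Functor.map_comp, Category.assoc, Category.assoc, hab]
  obtain ⟨m, hm⟩ := (yon S).map_surjective (sq.lift _ _ hw)
  have hm₁ : m ≫ σ = l₁ := (yon S).map_injective (by rw [Functor.map_comp, hm, sq.lift_fst])
  have hm₂ : m ≫ τ = l₂ := (yon S).map_injective (by rw [Functor.map_comp, hm, sq.lift_snd])
  congr 1
  rw [← cancel_epi π, ← hl₁, ← hl₂, ← hm₁, ← hm₂, Category.assoc, Category.assoc, sqc.w]

/-- If `Spec L ×_F Spec L` is finite over `Spec L`, then `Spec L ⟶ F` factors through a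
monomorphism from the spectrum of a field `k` with `L` finite over `k`. -/
theorem exists_mono_point (q : FieldPt F) (hq : Representable q.toHom)
    [IsFinite (hq.snd q.toHom).left] :
    ∃ (p : FieldPt F) (c : q.pt ⟶ p.pt), (yon S).map c ≫ p.toHom = q.toHom ∧ Mono p.toHom ∧
      IsFinite c.left ∧ IsPullback (hq.fst' q.toHom) (hq.snd q.toHom) c c := by
  let G := hq.pullback q.toHom
  let σ : G ⟶ q.pt := hq.fst' q.toHom
  let τ : G ⟶ q.pt := hq.snd q.toHom
  have sqG : IsPullback ((yon S).map σ) ((yon S).map τ) q.toHom q.toHom := hq.isPullback' q.toHom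
  let δ : q.pt ⟶ G := hq.lift' (𝟙 _) (𝟙 _) rfl
  have hG : σ.left ≫ q.str = G.hom := Over.w σ
  have hG' : τ.left ≫ q.str = G.hom := Over.w τ
  have hmono : ∀ {T : Scheme.{u}} (a b : T ⟶ G.left), a ≫ σ.left = b ≫ σ.left →
      a ≫ τ.left = b ≫ τ.left → a = b := by
    intro T a b h1 h2
    have hb : b ≫ G.hom = a ≫ G.hom := by rw [← hG', reassoc_of% h2]
    let a' : Over.mk (a ≫ G.hom) ⟶ G := Over.homMk a rfl
    let b' : Over.mk (a ≫ G.hom) ⟶ G := Over.homMk b hb
    have e1 : a' ≫ σ = b' ≫ σ := Over.OverMorphism.ext h1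
    have e2 : a' ≫ τ = b' ≫ τ := Over.OverMorphism.ext h2
    have : a' = b' := hq.hom_ext' e1 e2
    exact congrArg (fun m : Over.mk (a ≫ G.hom) ⟶ G => m.left) this
  have htr : ∀ {T : Scheme.{u}} (a b : T ⟶ G.left), a ≫ τ.left = b ≫ τ.left →
      ∃ m : T ⟶ G.left, m ≫ σ.left = a ≫ σ.left ∧ m ≫ τ.left = b ≫ σ.left := by
    intro T a b h
    have hb : b ≫ G.hom = a ≫ G.hom := by rw [← hG', reassoc_of% h]
    let a' : Over.mk (a ≫ G.hom) ⟶ G := Over.homMk a rfl
    let b' : Over.mk (a ≫ G.hom) ⟶ G := Over.homMk b hb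
    have hτ : a' ≫ τ = b' ≫ τ := Over.OverMorphism.ext h
    have hw : (yon S).map (a' ≫ σ) ≫ q.toHom = (yon S).map (b' ≫ σ) ≫ q.toHom := by
      rw [Functor.map_comp, Functor.map_comp, Category.assoc, Category.assoc, sqG.w,
        ← Category.assoc, ← Category.assoc, ← Functor.map_comp, ← Functor.map_comp, hτ]
    refine ⟨(hq.lift' (a' ≫ σ) (b' ≫ σ) hw).left, ?_, ?_⟩
    · exact congrArg (fun m => m.left) (hq.lift'_fst (a' ≫ σ) (b' ≫ σ) hw)
    · exact congrArg (fun m => m.left) (hq.lift'_snd (a' ≫ σ) (b' ≫ σ) hw)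
  have : IsFinite τ.left := inferInstanceAs (IsFinite (hq.snd q.toHom).left)
  have hδ₁ : δ ≫ σ = 𝟙 _ := hq.lift'_fst (g := q.toHom) (𝟙 q.pt) (𝟙 q.pt) rfl
  have hδ₂ : δ ≫ τ = 𝟙 _ := hq.lift'_snd (g := q.toHom) (𝟙 q.pt) (𝟙 q.pt) rfl
  obtain ⟨k, _, cR, hfin, sqK⟩ := exists_quotient_field (L := q.K) σ.left τ.left δ.left
    (congrArg (fun m : q.pt ⟶ q.pt => m.left) hδ₁)
    (congrArg (fun m : q.pt ⟶ q.pt => m.left) hδ₂) hmono htr
  have : Subsingleton ↥(Spec (CommRingCat.of k)) := inferInstanceAs (Subsingleton (PrimeSpectrum k))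
  have : Nonempty ↥(Spec (CommRingCat.of q.K)) := inferInstanceAs (Nonempty (PrimeSpectrum q.K))
  have : Surjective cR := ⟨fun y => ⟨Classical.arbitrary _, Subsingleton.elim _ _⟩⟩
  have : Flat cR := inferInstance
  have : IsLocallyNoetherian (Spec (CommRingCat.of k)) := inferInstance
  have : LocallyOfFinitePresentation cR := inferInstance
  have hcomp : ∀ {Z : Scheme.{u}} (g₁ g₂ : Z ⟶ Spec (CommRingCat.of q.K)),
      g₁ ≫ cR = g₂ ≫ cR → g₁ ≫ q.str = g₂ ≫ q.str := by
    intro Z g₁ g₂ h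
    rw [← sqK.lift_fst g₁ g₂ h]
    conv_rhs => rw [← sqK.lift_snd g₁ g₂ h]
    rw [Category.assoc, Category.assoc, hG, hG']
  obtain ⟨str', hstr'⟩ : ∃ str', cR ≫ str' = q.str :=
    ⟨EffectiveEpi.desc cR q.str hcomp, EffectiveEpi.fac _ _ _⟩
  let c : q.pt ⟶ Over.mk str' := Over.homMk cR hstr'
  have : Flat c.left := ‹Flat cR›
  have : Surjective c.left := ‹Surjective cR›
  have : LocallyOfFinitePresentation c.left := ‹LocallyOfFinitePresentation cR›
  have : IsFinite c.left := hfin
  have sqO : IsPullback σ τ c c := IsPullback.of_map_of_faithful (Over.forget S) sqK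
  obtain ⟨l, hl, hm⟩ := exists_desc_mono c sqG sqO
  refine ⟨ofHom l, c, ?_, ?_, hfin, sqO⟩
  · rw [toHom_ofHom]; exact hl
  · rw [toHom_ofHom]; exact hm

end Groth.Agent.Lib.AlgSpDecent.FieldDescent
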