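import Groth.Agent.Lib.AlgSpDecent.Decent
import Groth.Agent.Lib.AlgSpDecent.FieldDescent

/-!
A point is decent as soon as one of its field-valued representatives is quasi-compact; criteria in
terms of fibres of etale charts.
-/

universe u

open CategoryTheory CategoryTheory.Limits AlgebraicGeometry Opposite Topology

namespace Groth.Agent.Lib.AlgSpDecent.Criteria

open AlgSp Core Fibre Specialize Decent

variable {S : Scheme.{u}} {F G : Sp S}

/-- If the fibre of a chart at the point of the chart is finite, then so is the self fibre product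
of the corresponding field-valued point. -/
theorem isFinite_self_pullback {U : Over S} {a : (yon S).obj U ⟶ F} (hr : Representable a)
    (u : ↥U.left) (hq : Representable (FieldPt.ofPt a u).toHom)
    [hπ : LocallyQuasiFinite (hr.snd (FieldPt.ofPt a u).toHom).left]
    [Finite ↥(hr.pullback (FieldPt.ofPt a u).toHom).left] :
    IsFinite (hq.snd (FieldPt.ofPt a u).toHom).left := by
  let q := FieldPt.ofPt a u
  let i : q.pt ⟶ U := Over.homMk (U.left.fromSpecResidueField u) rfl
  have hqi : q.toHom = (yon S).map i ≫ a := FieldPt.toHom_ofPt a u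
  let ψ := hr.fst' q.toHom
  let P := pullback ψ i
  have sq : IsPullback ((yon S).map (pullback.snd ψ i))
      ((yon S).map (pullback.fst ψ i ≫ hr.snd q.toHom)) q.toHom q.toHom := by
    have := ((isPullback_yon_pullback ψ i).flip).paste_vert (hr.isPullback' q.toHom)
    rw [← Functor.map_comp, ← hqi] at this
    exact this
  let e : hq.pullback q.toHom ≅ P := (yon S).preimageIso
    ((hq.isPullback' q.toHom).isoIsPullback _ _ sq)
  have he : e.hom ≫ (pullback.fst ψ i ≫ hr.snd q.toHom) = hq.snd q.toHom := by
    apply (yon S).map_injective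
    simp [e]
  have hi : IsPreimmersion i.left := inferInstanceAs (IsPreimmersion (U.left.fromSpecResidueField u))
  have hfst : IsPreimmersion (pullback.fst ψ i).left :=
    MorphismProperty.of_isPullback (P := @IsPreimmersion)
      ((IsPullback.of_hasPullback ψ i).map (Over.forget S)).flip hi
  have : Finite ↥P.left := Finite.of_injective _ (pullback.fst ψ i).left.isEmbedding.injective
  have : CompactSpace ↥((Over.forget S).obj P) := inferInstanceAs (CompactSpace ↥P.left)
  have : CompactSpace ↥(hq.pullback q.toHom).left :=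
    ((Over.forget S).mapIso e).symm.schemeIsoToHomeo.compactSpace
  have : IsAffine q.pt.left := inferInstanceAs (IsAffine (Spec (CommRingCat.of q.K)))
  have : IsLocallyArtinian q.pt.left :=
    inferInstanceAs (IsLocallyArtinian (Spec (CommRingCat.of q.K)))
  have : QuasiCompact (hq.snd q.toHom).left := inferInstance
  have : IsIso e.hom.left := inferInstanceAs (IsIso ((Over.forget S).map e.hom))
  have : LocallyQuasiFinite (hr.snd q.toHom).left := hπ
  have : LocallyQuasiFinite (hq.snd q.toHom).left := by
    rw [← he, Over.comp_left, Over.comp_left]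
    infer_instance
  exact IsFinite.of_locallyQuasiFinite _

/-- A point of a chart with finite fibre is represented by a monomorphism from a field. -/
theorem exists_mono_of_finite_pullback (hF : IsAlgSpace F) {U : Over S} {a : (yon S).obj U ⟶ F}
    (ha : RepWith @Etale a) (u : ↥U.left)
    [Finite ↥(ha.rep.pullback (FieldPt.ofPt a u).toHom).left] :
    ∃ p : FieldPt F, Points.mk p = Points.ofPt a u ∧ Mono p.toHom := by
  have hq := representable_toHom hF (FieldPt.ofPt a u)
  have := etale_snd (FieldPt.ofPt a u) ha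
  have := locallyQuasiFinite_of_etale (ha.rep.snd (FieldPt.ofPt a u).toHom).left
  have := isFinite_self_pullback ha.rep u hq
  obtain ⟨p, c, hc, hm, -⟩ := FieldDescent.exists_mono_point _ hq
  refine ⟨p, ?_, hm⟩
  obtain ⟨t⟩ := nonempty_pt (FieldPt.ofPt a u)
  calc Points.mk p = Points.ofPt p.toHom (c.left t) := (Points.ofPt_toHom p _).symm
    _ = Points.ofPt (FieldPt.ofPt a u).toHom t := by rw [← ofPt_map_comp, hc]
    _ = Points.ofPt a u := Points.ofPt_toHom _ t

/-- A point with a quasi-compact representative is represented by a quasi-compact monomorphism. -/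
theorem exists_mono_qc_of_qc (hF : IsAlgSpace F) {x : Points F}
    (hx : ∃ q : FieldPt F, Points.mk q = x ∧ RepWith @QuasiCompact q.toHom) :
    ∃ p : FieldPt F, Points.mk p = x ∧ Mono p.toHom ∧ RepWith @QuasiCompact p.toHom := by
  obtain ⟨q, rfl, hq⟩ := hx
  obtain ⟨ι, U, φ, hU, hφ, hsurj⟩ := exists_affine_chart hF
  obtain ⟨i, u, hu⟩ := hsurj (Points.mk q)
  have hq' := repWith_qc_of_mk_eq (representable_toHom hF (FieldPt.ofPt (φ i) u)) hq hu
  have := finite_pullback_of_qc (FieldPt.ofPt (φ i) u) hq' (hφ i)
  obtain ⟨p, hp, hm⟩ := exists_mono_of_finite_pullback hF (hφ i) u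
  exact ⟨p, hp.trans hu, hm, repWith_qc_of_mk_eq (representable_toHom hF p) hq (hp.trans hu)⟩

theorem isDecent_of_qc (hF : IsAlgSpace F)
    (h : ∀ x : Points F, ∃ q : FieldPt F, Points.mk q = x ∧ RepWith @QuasiCompact q.toHom) :
    IsDecent F :=
  fun x => exists_mono_qc_of_qc hF (h x)

/-- Finiteness of the fibre in a chart only depends on the class of the field-valued point. -/
theorem finite_pullback_of_mk_eq {U : Over S} {a : (yon S).obj U ⟶ F} (ha : RepWith @Etale a)
    {p q : FieldPt F} (h : Points.mk p = Points.mk q) [Finite ↥(ha.rep.pullback q.toHom).left] :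
    Finite ↥(ha.rep.pullback p.toHom).left := by
  rw [Points.mk_eq_mk_iff, rel_iff] at h
  obtain ⟨Ω, _, w, α, β, h⟩ := h
  have hΩ : IsAffine (Over.mk w).left := inferInstanceAs (IsAffine (Spec (CommRingCat.of Ω)))
  have : Nonempty ↥(Over.mk w).left := inferInstanceAs (Nonempty (PrimeSpectrum Ω))
  let Dp := pullback (ha.rep.snd p.toHom) α
  let Dq := pullback (ha.rep.snd q.toHom) β
  have sqp := (isPullback_yon_pullback (ha.rep.snd p.toHom) α).paste_horiz (ha.rep.isPullback' p.toHom)
  have sqq := (isPullback_yon_pullback (ha.rep.snd q.toHom) β).paste_horiz (ha.rep.isPullback' q.toHom)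
  rw [← h] at sqq
  let e : Dp ≅ Dq := (yon S).preimageIso (sqp.isoIsPullback _ _ sqq)
  have hβ := quasiCompact_of_spec (p := q) β
  have : QuasiCompact (pullback.fst (ha.rep.snd q.toHom) β).left :=
    MorphismProperty.of_isPullback (P := @QuasiCompact)
      ((IsPullback.of_hasPullback (ha.rep.snd q.toHom) β).map (Over.forget S)).flip hβ
  have : CompactSpace ↥Dq.left :=
    QuasiCompact.compactSpace_of_compactSpace (pullback.fst (ha.rep.snd q.toHom) β).left
  have : CompactSpace ↥((Over.forget S).obj Dq) := inferInstanceAs (CompactSpace ↥Dq.left)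
  have : CompactSpace ↥Dp.left := ((Over.forget S).mapIso e).symm.schemeIsoToHomeo.compactSpace
  have := surjective_of_spec (p := p) α
  have hs : Surjective (pullback.fst (ha.rep.snd p.toHom) α).left := surjective_left_pullback_fst _ α
  have : CompactSpace ↥(ha.rep.pullback p.toHom).left := hs.surj.compactSpace
    (pullback.fst (ha.rep.snd p.toHom) α).left.continuous
  have := discreteTopology_pullback p ha
  exact finite_of_compact_of_discrete

theorem finite_pullback_of_empty {U : Over S} {a : (yon S).obj U ⟶ F} (hr : Representable a)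
    (q : FieldPt F) (h : Points.mk q ∉ Set.range (Points.ofPt a)) :
    Finite ↥(hr.pullback q.toHom).left :=
  haveI : IsEmpty ↥(hr.pullback q.toHom).left := ⟨fun e => h ⟨_, by
    have := Set.mem_range_self (f := (hr.fst' q.toHom).left) e
    rw [range_fst q hr] at this
    exact this⟩⟩
  inferInstance

/-- Decency from a family of charts in which all fibres are finite. -/
theorem exists_mono_qc_of_cover (hF : IsAlgSpace F) (q : FieldPt F) {ι : Type u}
    (U : ι → Over S) (φ : ∀ i, (yon S).obj (U i) ⟶ F) [∀ i, IsAffine (U i).left]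
    (hφ : ∀ i, RepWith @Etale (φ i))
    (hsurj : ∀ x : Points F, ∃ (i : ι) (v : ↥(U i).left), Points.ofPt (φ i) v = x)
    (hfin : ∀ i, Finite ↥((hφ i).rep.pullback q.toHom).left) :
    ∃ p : FieldPt F, Points.mk p = Points.mk q ∧ Mono p.toHom ∧ RepWith @QuasiCompact p.toHom :=
  exists_mono_qc_of_qc hF
    ⟨q, rfl, repWith_qc_of_finite_pullback q (representable_toHom hF q) U φ hφ hsurj hfin⟩

/-- A sheaf covered by decent open subsheaves is decent. -/
theorem isDecent_of_openCover (hF : IsAlgSpace F) {ι : Type u} (Fi : ι → Sp S)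
    (j : ∀ i, Fi i ⟶ F) (hj : ∀ i, RepWith @IsOpenImmersion (j i))
    (hsurj : ∀ x : Points F, ∃ i, x ∈ Set.range (Points.map (j i)))
    (hd : ∀ i, IsDecent (Fi i)) : IsDecent F := by
  intro x
  obtain ⟨q, rfl⟩ := Points.mk_surjective x
  obtain ⟨κ, V, ψ, hV, hψ, hψs⟩ : ∃ (κ : ι → Type u) (V : ∀ i, κ i → Over S)
      (ψ : ∀ i k, (yon S).obj (V i k) ⟶ Fi i), (∀ i k, IsAffine (V i k).left) ∧
      (∀ i k, RepWith @Etale (ψ i k)) ∧
        ∀ i, ∀ y : Points (Fi i), ∃ (k : κ i) (v : ↥(V i k).left), Points.ofPt (ψ i k) v = y := by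
    choose κ V ψ h1 h2 h3 using fun i =>
      exists_affine_chart (AlgSpace.isAlgSpace_of_representable (hj i).rep hF)
    exact ⟨κ, V, ψ, h1, h2, h3⟩
  have hje : ∀ i, RepWith @Etale (j i) := fun i =>
    repWith_mono (P := @IsOpenImmersion) (fun _ h => by have := h; infer_instance) (hj i)
  let U : (Σ i, κ i) → Over S := fun k => V k.1 k.2
  let φ : ∀ k : Σ i, κ i, (yon S).obj (U k) ⟶ F := fun k => ψ k.1 k.2 ≫ j k.1
  have hφ : ∀ k, RepWith @Etale (φ k) := fun k =>
    (repWith_isMultiplicative @Etale).comp_mem _ _ (hψ k.1 k.2) (hje k.1)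
  have : ∀ k, IsAffine (U k).left := fun k => hV k.1 k.2
  refine exists_mono_qc_of_cover hF q U φ hφ (fun y => ?_) (fun k => ?_)
  · obtain ⟨i, z, rfl⟩ := hsurj y
    obtain ⟨k, v, rfl⟩ := hψs i z
    exact ⟨⟨i, k⟩, v, ofPt_comp _ _ v⟩
  · obtain ⟨i, k⟩ := k
    by_cases hx : Points.mk q ∈ Set.range (Points.map (j i))
    · obtain ⟨y, hy⟩ := hx
      obtain ⟨r, rfl, -, hr⟩ := hd i y
      have hjm : Mono (j i) := AlgSpace.mono_of_repWith (P := @IsOpenImmersion)
        (fun _ _ f (_ : IsOpenImmersion f) => inferInstanceAs (Mono f)) (hj i)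
      have := hV i k
      have := finite_pullback_of_qc r hr (hψ i k)
      have : Finite ↥((hφ ⟨i, k⟩).rep.pullback (r.map (j i)).toHom).left := by
        let R := (hψ i k).rep
        have sq : IsPullback ((yon S).map (R.fst' r.toHom)) ((yon S).map (R.snd r.toHom))
            (φ ⟨i, k⟩) (r.map (j i)).toHom := by
          rw [FieldPt.toHom_map]
          refine AlgSpace.isPullback_of_yon (by simp only [φ]; rw [← Category.assoc, (R.isPullback' _).w, Category.assoc])
            (fun T c c' h1 h2 => (R.isPullback' r.toHom).hom_ext h1 h2) (fun T a b h => ?_)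
          refine ⟨(R.isPullback' r.toHom).lift a b (by rw [← cancel_mono (j i)]; simpa [φ] using h), by simp, by simp⟩
        let e := (yon S).preimageIso (((hφ ⟨i, k⟩).rep.isPullback' _).isoIsPullback _ _ sq)
        exact Finite.of_equiv ↥(R.pullback r.toHom).left
          ((Over.forget S).mapIso e).symm.schemeIsoToHomeo.toEquiv
      exact finite_pullback_of_mk_eq (hφ ⟨i, k⟩) (hy.symm.trans (Points.map_mk _ r))
    · refine finite_pullback_of_empty (hφ ⟨i, k⟩).rep q fun ⟨v, hv⟩ => hx ⟨Points.ofPt (ψ i k) v, ?_⟩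
      rw [← hv]; rfl

end Groth.Agent.Lib.AlgSpDecent.Criteria
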