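import Groth.Agent.Lib.AlgSpDecent.UnivBdd
import Groth.Agent.Lib.AlgSpDecent.Criteria
import Mathlib.RingTheory.Unramified.Field
import Mathlib.FieldTheory.IsAlgClosed.AlgebraicClosure

/-!
Degrees of fibres of etale maps are numbers of geometric points.
-/

universe u

open CategoryTheory CategoryTheory.Limits AlgebraicGeometry Opposite

namespace Groth.Agent.Lib.AlgSpDecent.EtaleCount

open AlgSp Core FibreDeg.Basic

theorem finrank_eq_card {K B : Type u} [Field K] [IsAlgClosed K] [CommRing B] [Algebra K B]
    [Module.Finite K B] [IsReduced B] : Module.finrank K B = Nat.card (PrimeSpectrum B) := by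
  have : IsArtinianRing B := IsArtinianRing.of_finite K B
  have h1 : ∀ m : MaximalSpectrum B, Module.finrank K (B ⧸ m.asIdeal) = 1 := fun m => by
    have := m.isMaximal
    let := Ideal.Quotient.field m.asIdeal
    have hb := IsAlgClosed.algebraMap_bijective_of_isIntegral (k := K) (K := B ⧸ m.asIdeal)
    exact (LinearEquiv.ofBijective (Algebra.linearMap K (B ⧸ m.asIdeal)) hb).finrank_eq.symm.trans
      (Module.finrank_self K)
  rw [((IsArtinianRing.equivPi B).restrictScalars K).toLinearEquiv.finrank_eq]
  have := Fintype.ofFinite (MaximalSpectrum B)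
  rw [Module.finrank_pi_fintype, Finset.sum_congr rfl fun m _ => h1 m, Finset.sum_const,
    smul_eq_mul, mul_one, Finset.card_univ, ← Nat.card_eq_fintype_card]
  exact Nat.card_congr (IsArtinianRing.primeSpectrumEquivMaximalSpectrum (R := B)).symm

/-- Over an algebraically closed field an etale scheme with finitely many points is finite of degree
the number of points. -/
theorem fd_of_natCard {K : Type u} [Field K] [IsAlgClosed K] {T : Scheme.{u}}
    (p : T ⟶ Spec (CommRingCat.of K)) [Etale p] [Finite T] {n : ℕ} (h : Nat.card T ≤ n) :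
    FD p n := by
  have := Fibre.locallyQuasiFinite_of_etale p
  have : CompactSpace T := Finite.compactSpace
  have : IsFinite p := IsFinite.of_locallyQuasiFinite p
  refine (finiteOfDegLE_iff p n).1 ?_
  let : Algebra K Γ(T, ⊤) := BddFib.secAlgebra (CommRingCat.of K) p
  have hT : IsAffine T := isAffine_of_isAffineHom p
  have hfin : Module.Finite K Γ(T, ⊤) := by
    have h1 : p.appTop.hom.Finite := HasAffineProperty.iff_of_isAffine (P := @IsFinite).1 ‹_› |>.2
    exact RingHom.finite_algebraMap.1 (h1.comp (RingHom.Finite.of_surjective _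
      (ConcreteCategory.bijective_of_isIso (Scheme.ΓSpecIso (CommRingCat.of K)).inv).2))
  have hunr : Algebra.FormallyUnramified K Γ(T, ⊤) := by
    have h1 : p.appTop.hom.Etale := HasRingHomProperty.appTop @Etale p ‹_›
    have h2 : (algebraMap K Γ(T, ⊤)).Etale := RingHom.Etale.stableUnderComposition _ _
      (RingHom.Etale.of_bijective
        (ConcreteCategory.bijective_of_isIso (Scheme.ΓSpecIso (CommRingCat.of K)).inv)) h1
    have := RingHom.etale_algebraMap.1 h2
    infer_instance
  have := Algebra.FormallyUnramified.isReduced_of_field K Γ(T, ⊤)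
  refine ⟨hT, hfin, ?_⟩
  change Module.finrank K Γ(T, ⊤) ≤ n
  rw [finrank_eq_card]
  exact (Nat.card_congr T.isoSpec.schemeIsoToHomeo.toEquiv).symm.le.trans h

variable {S : Scheme.{u}} {F : Sp S} {U : Over S} {a : (yon S).obj U ⟶ F}

/-- Extension of a field-valued point to a larger field. -/
theorem exists_extend (q : FieldPt F) {Ω : Type u} [Field Ω] (φ : q.K →+* Ω) :
    ∃ q' : FieldPt F, ∃ _e : q'.K ≃+* Ω, Points.mk q = Points.mk q' := by
  let m : Over.mk (Spec.map (CommRingCat.ofHom φ) ≫ q.str) ⟶ q.pt :=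
    Over.homMk (Spec.map (CommRingCat.ofHom φ)) rfl
  refine ⟨⟨Ω, Spec.map (CommRingCat.ofHom φ) ≫ q.str, F.obj.map m.op q.val⟩, RingEquiv.refl _,
    Points.mk_eq_mk_iff.2 ⟨Ω, inferInstance, _, m, 𝟙 _, ?_⟩⟩
  simp

/-- An etale map whose geometric fibres have at most `n` points has fibres of degree at most `n`. -/
theorem degFibresLE_of_geometric (ha : RepWith @Etale a) {n : ℕ}
    (h : ∀ q : FieldPt F, IsAlgClosed q.K → Finite ↥(ha.rep.pullback q.toHom).left ∧
      Nat.card ↥(ha.rep.pullback q.toHom).left ≤ n) : W4dec.DegFibresLE n a := by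
  refine (UnivBdd.degFibresLE_iff ha.rep n).2 fun q => ?_
  obtain ⟨q', e, he⟩ := exists_extend q (algebraMap q.K (AlgebraicClosure q.K))
  have : IsAlgClosed q'.K := IsAlgClosed.of_ringEquiv (AlgebraicClosure q.K) q'.K e.symm
  obtain ⟨hfin, hcard⟩ := h q' this
  refine UnivBdd.bdd_of_mk_eq ha.rep he ?_
  have : Etale (ha.rep.snd q'.toHom).left := ha.property_snd _
  exact fd_of_natCard (K := q'.K) _ hcard

end Groth.Agent.Lib.AlgSpDecent.EtaleCount
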