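import Groth.Prelude.Def_W4stk3decentspacesp2Birat
import Groth.Agent.Lib.AlgSpDecent.DenseOpen
import Groth.Agent.Lib.AlgSpDecent.SpecOrder
import Groth.Agent.Lib.AlgSpace.OpenSub
import Groth.Agent.Lib.Unram.UnramifiedNormalFibre
import Groth.Agent.H75.Birat.Gen

/-!
Birational morphisms of decent algebraic spaces: reduction to open subschemes.
-/

universe u

open CategoryTheory CategoryTheory.Limits AlgebraicGeometry Opposite Topology

namespace Groth.Agent.Lib.AlgSpDecent.Birat

open AlgSp Groth.Agent.Lib.AlgSpace Core Specialize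

variable {S : Scheme.{u}} {F G : Sp S}

theorem mem_genericPoints_iff (hA : IsAlgSpace F) (hF : IsDecent F) (x : Points F) :
    x ∈ genericPoints (Points F) ↔ ∀ y, y ⤳ x → y = x := by
  have := Sober.quasiSober_points hA hF
  have := Decent.t0Space_points hA hF
  refine Iff.trans ⟨fun h => ⟨_, h, rfl⟩, ?_⟩ (SpecOrder.exists_component_iff x)
  rintro ⟨T, hT, hx⟩
  show closure {x} ∈ irreducibleComponents (Points F)
  exact hx.def ▸ hT

theorem exists_generic (hA : IsAlgSpace F) (hF : IsDecent F) (x : Points F) :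
    ∃ η ∈ genericPoints (Points F), η ⤳ x := by
  have := Sober.quasiSober_points hA hF
  obtain ⟨η, hη⟩ := QuasiSober.sober (isIrreducible_irreducibleComponent (x := x))
    isClosed_irreducibleComponent
  refine ⟨η, ?_, hη.specializes mem_irreducibleComponent⟩
  show closure {η} ∈ irreducibleComponents (Points F)
  rw [hη.def]
  exact irreducibleComponent_mem_irreducibleComponents x

theorem dense_of_generic_mem (hA : IsAlgSpace F) (hF : IsDecent F) {W : Set (Points F)}
    (h : genericPoints (Points F) ⊆ W) : Dense W := fun x => by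
  obtain ⟨η, hη, hx⟩ := exists_generic hA hF x
  exact closure_mono (Set.singleton_subset_iff.2 (h hη)) (specializes_iff_mem_closure.1 hx)

theorem finite_generic (hA : IsAlgSpace F) (hF : IsDecent F)
    (h : (irreducibleComponents (Points F)).Finite) : (genericPoints (Points F)).Finite := by
  have := Decent.t0Space_points hA hF
  exact genericPoints.finite h

theorem mono_openImm {j : F ⟶ G} (hj : RepWith @IsOpenImmersion j) : Mono j :=
  mono_of_repWith (P := @IsOpenImmersion) (fun _ _ g (_ : IsOpenImmersion g) => (inferInstance : Mono g)) hj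

theorem repWith_etale_openImm {j : F ⟶ G} (hj : RepWith @IsOpenImmersion j) : RepWith @Etale j :=
  repWith_mono (P := @IsOpenImmersion) (fun g hg => by have := (hg : IsOpenImmersion g); infer_instance) hj

theorem injective_ofPt {U : Over S} {a : (yon S).obj U ⟶ F} (ha : RepWith @IsOpenImmersion a) :
    Function.Injective (Points.ofPt a) := by
  have := mono_openImm ha
  intro u v h
  rw [← map_ofScheme a u, ← map_ofScheme a v] at h
  exact (Points.schemeEquiv U).injective (Core.injective_map_of_mono a h)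

/-- Generic points in an etale chart. -/
theorem gen_iff (hA : IsAlgSpace F) (hF : IsDecent F) {U : Over S} {a : (yon S).obj U ⟶ F}
    (ha : RepWith @Etale a) (u : ↥U.left) :
    H75.Birat.IsGen u ↔ Points.ofPt a u ∈ genericPoints (Points F) := by
  rw [mem_genericPoints_iff hA hF]
  constructor
  · intro hu y hy
    obtain ⟨u', hu', rfl⟩ := Decent.IsDecent.exists_lift hF ha hy
    rw [hu.eq_of_specializes hu']
  · intro h
    refine Lib.SchTopo.Closure.maximal_of_forall_eq fun u' hu' => ?_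
    exact (Decent.IsDecent.eq_of_specializes hF ha (h _ (hu'.map (Points.continuous_ofPt a))).symm hu').symm

theorem finite_components (hA : IsAlgSpace F) (hF : IsDecent F)
    (hfin : (irreducibleComponents (Points F)).Finite) {U : Over S} {a : (yon S).obj U ⟶ F}
    (ha : RepWith @IsOpenImmersion a) : (irreducibleComponents ↥U.left).Finite := by
  have hg : {u : ↥U.left | H75.Birat.IsGen u}.Finite :=
    ((finite_generic hA hF hfin).preimage (injective_ofPt ha).injOn).subset
      fun u hu => (gen_iff hA hF (repWith_etale_openImm ha) u).1 hu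
  refine (hg.image fun u => closure {u}).subset fun T hT => ?_
  obtain ⟨η, hη⟩ := QuasiSober.sober hT.1 (isClosed_of_mem_irreducibleComponents T hT)
  exact ⟨η, show closure {η} ∈ irreducibleComponents ↥U.left from hη.def ▸ hT, hη.def⟩

theorem isIso_congr {X Y : Scheme.{u}} {f₁ f₂ : X ⟶ Y} (e : f₁ = f₂) {x : X}
    (h : IsIso (f₁.stalkMap x)) : IsIso (f₂.stalkMap x) := by
  subst e; exact h

theorem finite_residue_comp {X Y Z : Scheme.{u}} (p : X ⟶ Y) (g : Y ⟶ Z) (x : X) {y : Y} (hy : p x = y)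
    (hp : (p.residueFieldMap x).hom.Finite) (hg : (g.residueFieldMap y).hom.Finite) :
    ((p ≫ g).residueFieldMap x).hom.Finite := by
  subst hy
  rw [Scheme.residueFieldMap_comp]
  exact hp.comp hg

theorem finite_residue_of_comp {X Y Z : Scheme.{u}} (p : X ⟶ Y) [IsOpenImmersion p] (g : Y ⟶ Z) (x : X) {y : Y}
    (hy : p x = y) (h : ((p ≫ g).residueFieldMap x).hom.Finite) : (g.residueFieldMap y).hom.Finite := by
  subst hy
  rw [Scheme.residueFieldMap_comp] at h
  let ε := RingEquiv.ofBijective _ (ConcreteCategory.bijective_of_isIso (p.residueFieldMap x))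
  have h3 : (ε.symm.toRingHom.comp (ε.toRingHom.comp (g.residueFieldMap (p x)).hom)).Finite :=
    (RingHom.Finite.of_surjective ε.symm.toRingHom ε.symm.surjective).comp h
  rwa [← RingHom.comp_assoc, RingEquiv.symm_toRingHom_comp_toRingHom, RingHom.id_comp] at h3

variable {f : F ⟶ G}

/-- Isomorphism of local rings does not depend on the chosen open subschemes. -/
theorem isIso_stalkMap_of_chart {U U₁ V V₁ : Over S} {a : (yon S).obj U ⟶ F}
    {a₁ : (yon S).obj U₁ ⟶ F} {b : (yon S).obj V ⟶ G} {b₁ : (yon S).obj V₁ ⟶ G} {g : U ⟶ V}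
    {g₁ : U₁ ⟶ V₁} (ha : RepWith @IsOpenImmersion a) (ha₁ : RepWith @IsOpenImmersion a₁)
    (hb : RepWith @IsOpenImmersion b) (hb₁ : RepWith @IsOpenImmersion b₁)
    (w : a ≫ f = (yon S).map g ≫ b) (w₁ : a₁ ≫ f = (yon S).map g₁ ≫ b₁) {u : ↥U.left} {u₁ : ↥U₁.left}
    (he : Points.ofPt a₁ u₁ = Points.ofPt a u) (h₁ : IsIso (g₁.left.stalkMap u₁)) :
    IsIso (g.left.stalkMap u) := by
  let R := ha.rep.pullback a₁
  let p : R ⟶ U := ha.rep.fst' a₁
  let p₁ : R ⟶ U₁ := ha.rep.snd a₁
  let T := hb.rep.pullback b₁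
  let t : T ⟶ V := hb.rep.fst' b₁
  let t₁ : T ⟶ V₁ := hb.rep.snd b₁
  have sqR := ha.rep.isPullback' a₁
  have sqT := hb.rep.isPullback' b₁
  have : IsOpenImmersion p₁.left := ha.property_snd a₁
  have : IsOpenImmersion p.left := ha₁.property a _ _ sqR.flip
  have : IsOpenImmersion t₁.left := hb.property_snd b₁
  have : IsOpenImmersion t.left := hb₁.property b _ _ sqT.flip
  obtain ⟨r, hr, hr'⟩ := exists_point_of_scheme_isPullback sqR u u₁ he.symm
  obtain ⟨q, hq⟩ := (yon S).map_surjective (sqT.lift ((yon S).map (p ≫ g)) ((yon S).map (p₁ ≫ g₁)) (by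
    rw [Functor.map_comp, Functor.map_comp, Category.assoc, Category.assoc, ← w, ← w₁,
      reassoc_of% sqR.w]))
  have e₁ : q.left ≫ t.left = p.left ≫ g.left := by
    rw [← Over.comp_left, ← Over.comp_left]
    exact congrArg CommaMorphism.left ((yon S).map_injective (by rw [Functor.map_comp, hq, sqT.lift_fst]))
  have e₂ : q.left ≫ t₁.left = p₁.left ≫ g₁.left := by
    rw [← Over.comp_left, ← Over.comp_left]
    exact congrArg CommaMorphism.left ((yon S).map_injective (by rw [Functor.map_comp, hq, sqT.lift_snd]))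
  have i1 : IsIso ((q.left ≫ t₁.left).stalkMap r) := isIso_congr e₂.symm (by
    have : IsIso (g₁.left.stalkMap (p₁.left r)) := hr'.symm ▸ h₁
    rw [Scheme.Hom.stalkMap_comp]
    exact @IsIso.comp_isIso _ _ _ _ _ _ _ this inferInstance)
  rw [Scheme.Hom.stalkMap_comp] at i1
  have iq : IsIso (q.left.stalkMap r) :=
    @IsIso.of_isIso_comp_left _ _ _ _ _ (t₁.left.stalkMap (q.left r)) (q.left.stalkMap r) inferInstance i1
  have i2 : IsIso ((p.left ≫ g.left).stalkMap r) := by
    refine isIso_congr e₁ ?_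
    rw [Scheme.Hom.stalkMap_comp]
    have it : IsIso (t.left.stalkMap (q.left r)) :=
      have : IsOpenImmersion t.left := hb₁.property b _ _ sqT.flip
      inferInstance
    exact @IsIso.comp_isIso _ _ _ _ _ _ _ it iq
  rw [Scheme.Hom.stalkMap_comp] at i2
  exact hr ▸ @IsIso.of_isIso_comp_right _ _ _ _ _ (g.left.stalkMap (p.left r)) (p.left.stalkMap r) inferInstance i2

/-- The data of a birational morphism on open subschemes containing all generic points. -/
structure Chart (f : F ⟶ G) where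
  U : Over S
  V : Over S
  a : (yon S).obj U ⟶ F
  b : (yon S).obj V ⟶ G
  g : U ⟶ V
  ha : RepWith @IsOpenImmersion a
  hb : RepWith @IsOpenImmersion b
  w : a ≫ f = (yon S).map g ≫ b
  genU : genericPoints (Points F) ⊆ Set.range (Points.ofPt a)
  genV : genericPoints (Points G) ⊆ Set.range (Points.ofPt b)

theorem Chart.apply (C : Chart f) (u : ↥C.U.left) :
    Points.map f (Points.ofPt C.a u) = Points.ofPt C.b (C.g.left u) := by
  rw [← Core.ofPt_comp, C.w, Core.ofPt_map_comp]

variable (hX : IsAlgSpace F) (hY : IsAlgSpace G) (hF : IsDecent F) (hG : IsDecent G)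
  (hf : W4stk3decentspacesp2.IsBirational f)

theorem Chart.bijOn (C : Chart f) (hX : IsAlgSpace F) (hY : IsAlgSpace G) (hF : IsDecent F)
    (hG : IsDecent G) (hf : W4stk3decentspacesp2.IsBirational f) :
    Set.BijOn (fun x : C.U.left => C.g.left.base x) {x | H75.Birat.IsGen x} {y | H75.Birat.IsGen y} := by
  have hU := fun u => gen_iff hX hF (repWith_etale_openImm C.ha) (u := u)
  have hV := fun v => gen_iff hY hG (repWith_etale_openImm C.hb) (u := v)
  refine ⟨fun u hu => (hV _).2 (C.apply u ▸ hf.bijOn.mapsTo ((hU u).1 hu)), fun u hu u' hu' e => ?_, fun v hv => ?_⟩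
  · exact injective_ofPt C.ha (hf.bijOn.injOn ((hU u).1 hu) ((hU u').1 hu')
      (by rw [C.apply, C.apply]; exact congrArg _ e))
  · obtain ⟨x, hx, he⟩ := hf.bijOn.surjOn ((hV v).1 hv)
    obtain ⟨u, rfl⟩ := C.genU hx
    exact ⟨u, (hU u).2 hx, injective_ofPt C.hb ((C.apply u).symm.trans he)⟩

theorem Chart.stalkIso (C : Chart f) (hX : IsAlgSpace F) (hF : IsDecent F)
    (hf : W4stk3decentspacesp2.IsBirational f) (u : ↥C.U.left) (hu : H75.Birat.IsGen u) :
    IsIso (C.g.left.stalkMap u) := by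
  obtain ⟨U₁, V₁, a₁, b₁, g₁, u₁, ha₁, hb₁, w₁, hu₁, h₁⟩ :=
    hf.stalkIso _ ((gen_iff hX hF (repWith_etale_openImm C.ha) u).1 hu)
  exact isIso_stalkMap_of_chart C.ha ha₁ C.hb hb₁ C.w w₁ hu₁ h₁

include hX hY hF hG hf in
theorem exists_chart : Nonempty (Chart f) := by
  obtain ⟨U₀, m, hm, hmax⟩ := DenseOpen.exists_largest hX
  obtain ⟨V, b, hb, hbmax⟩ := DenseOpen.exists_largest hY
  have hgen : ∀ x ∈ genericPoints (Points F),
      x ∈ Set.range (Points.ofPt m) ∧ Points.map f x ∈ Set.range (Points.ofPt b) := by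
    intro x hx
    obtain ⟨U₁, V₁, a₁, b₁, g₁, u₁, ha₁, hb₁, w₁, rfl, -⟩ := hf.stalkIso x hx
    rw [← Core.range_points_map_yon m, ← Core.range_points_map_yon b]
    refine ⟨hmax _ _ ha₁ ⟨_, map_ofScheme a₁ u₁⟩, hbmax _ _ hb₁ ⟨Points.ofScheme V₁ (g₁.left u₁), ?_⟩⟩
    rw [map_ofScheme, ← Core.ofPt_comp, w₁, Core.ofPt_map_comp]
  let O : U₀.left.Opens := ⟨Points.ofPt (m ≫ f) ⁻¹' Set.range (Points.ofPt b),
    (AlgSpace.isOpenMap_ofPt (repWith_etale_openImm hb)).isOpen_range.preimage (Points.continuous_ofPt _)⟩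
  obtain ⟨g', hg'⟩ := exists_lift_yon_of_range_subset hb (((yon S).map (openIncl O) ≫ m) ≫ f) (by
    rintro _ ⟨o, rfl⟩
    rw [Core.range_points_map_yon, Category.assoc, ofPt_openIncl_comp]
    exact o.2)
  obtain ⟨g, rfl⟩ := (yon S).map_surjective g'
  have hopen : RepWith @IsOpenImmersion ((yon S).map (openIncl O) ≫ m) :=
    (AlgSp.repWith_isMultiplicative @IsOpenImmersion).comp_mem _ _
      ((AlgSp.repWith_yon_map_iff _ _).2 (inferInstanceAs (IsOpenImmersion O.ι))) hm
  refine ⟨⟨Over.mk (O.ι ≫ U₀.hom), V, _, b, g, hopen, hb, hg'.symm, fun x hx => ?_, fun y hy => ?_⟩⟩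
  · obtain ⟨⟨u, rfl⟩, h⟩ := hgen x hx
    refine ⟨⟨u, ?_⟩, ofPt_openIncl_comp O m _⟩
    show Points.ofPt (m ≫ f) u ∈ Set.range (Points.ofPt b)
    rwa [Core.ofPt_comp]
  · obtain ⟨x, hx, rfl⟩ := hf.bijOn.surjOn hy
    exact (hgen x hx).2

/-- A generization with algebraic residue extension and the same image is equal. -/
theorem eq_of_algebraic {X Y : Scheme.{u}} (h : X ⟶ Y) {x₀ x : X} (hs : x₀ ⤳ x) (he : h x₀ = h x)
    (halg : (h.residueFieldMap x₀).hom.Finite) : x₀ = x := by
  let σ := X.presheaf.stalkSpecializes hs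
  let k := IsLocalRing.ResidueField ↑(Y.presheaf.stalk (h x₀))
  let K := IsLocalRing.ResidueField ↑(X.presheaf.stalk x₀)
  let φ : ↑(X.presheaf.stalk x) →+* K := (IsLocalRing.residue _).comp σ.hom
  let _ : Algebra k K := (h.residueFieldMap x₀).hom.toAlgebra
  have : Module.Finite k K := halg
  have : Algebra.IsAlgebraic k K := Algebra.IsAlgebraic.of_finite _ _
  let τ := Y.presheaf.stalkSpecializes (h.continuous.specialization_monotone hs)
  have hτ : Function.Surjective τ.hom := by
    have h2 : h x ⤳ h x₀ := specializes_of_eq he.symm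
    have : IsIso τ := ⟨Y.presheaf.stalkSpecializes h2, by
      simp only [τ, TopCat.Presheaf.stalkSpecializes_comp, TopCat.Presheaf.stalkSpecializes_refl],
      by simp only [τ, TopCat.Presheaf.stalkSpecializes_comp,
        TopCat.Presheaf.stalkSpecializes_refl]⟩
    exact (ConcreteCategory.bijective_of_isIso τ).2
  let A : Subalgebra k K :=
    { φ.range with
      algebraMap_mem' := fun c => by
        obtain ⟨d, rfl⟩ := IsLocalRing.residue_surjective c
        obtain ⟨b, rfl⟩ := hτ d
        refine ⟨h.stalkMap x b, ?_⟩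
        show IsLocalRing.residue _ (σ (h.stalkMap x b)) =
          IsLocalRing.residue _ (h.stalkMap x₀ (τ b))
        rw [← h.stalkSpecializes_stalkMap_apply x₀ x hs] }
  have hcl : ∀ a ∈ IsLocalRing.maximalIdeal (X.presheaf.stalk x), φ a = 0 := by
    intro a ha
    by_contra hne
    obtain ⟨c, hc⟩ : (φ a)⁻¹ ∈ φ.range :=
      A.inv_mem_of_algebraic (x := ⟨φ a, ⟨a, rfl⟩⟩) (Algebra.IsAlgebraic.isAlgebraic _)
    have h1 : φ (a * c - 1) = 0 := by rw [map_sub, map_mul, map_one, hc, mul_inv_cancel₀ hne, sub_self]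
    have hu : IsUnit (a * c - 1) := by
      by_contra hn
      have := Ideal.sub_mem _ (Ideal.mul_mem_right c _ ha) ((IsLocalRing.mem_maximalIdeal _).2 hn)
      rw [sub_sub_cancel] at this
      exact (Ideal.ne_top_iff_one _).1 (IsLocalRing.maximalIdeal.isMaximal _).ne_top this
    exact (hu.map φ).ne_zero h1
  have : IsLocalHom σ.hom := ⟨fun a ha => by
    by_contra hn
    exact (ha.map (IsLocalRing.residue _)).ne_zero (hcl a ((IsLocalRing.mem_maximalIdeal _).2 hn))⟩
  have h1 := congrArg (fun g : Spec (X.presheaf.stalk x₀) ⟶ X => g (IsLocalRing.closedPoint _))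
    (Scheme.SpecMap_stalkSpecializes_fromSpecStalk hs)
  simp only [Scheme.Hom.comp_apply, Scheme.fromSpecStalk_closedPoint] at h1
  have h2 : Spec.map σ (IsLocalRing.closedPoint (X.presheaf.stalk x₀)) =
      IsLocalRing.closedPoint (X.presheaf.stalk x) := IsLocalRing.comap_closedPoint σ.hom
  rw [h2, Scheme.fromSpecStalk_closedPoint] at h1
  exact h1.symm

include hX hY hF hG hf in
/-- Only the generic point lies over a generic point. -/
theorem eq_of_map_eq {x x₀ : Points F} (hx₀ : x₀ ∈ genericPoints (Points F))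
    (h : Points.map f x = Points.map f x₀) : x = x₀ := by
  obtain ⟨C⟩ := exists_chart hX hY hF hG hf
  obtain ⟨η, hη, hηx⟩ := exists_generic hX hF x
  have h1 : Points.map f η = Points.map f x₀ :=
    (mem_genericPoints_iff hY hG _).1 (hf.bijOn.mapsTo hx₀) _ (h ▸ hηx.map (Points.continuous_map f))
  obtain rfl : η = x₀ := hf.bijOn.injOn hη hx₀ h1
  obtain ⟨W, c, hc, hcs⟩ := hX.atlas
  obtain ⟨w, rfl⟩ := AlgSpace.surjective_ofPt hcs x
  obtain ⟨w₀, hw₀, rfl⟩ := Decent.IsDecent.exists_lift hF hc hηx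
  let O : W.left.Opens := ⟨Points.ofPt (c ≫ f) ⁻¹' Set.range (Points.ofPt C.b),
    (AlgSpace.isOpenMap_ofPt (repWith_etale_openImm C.hb)).isOpen_range.preimage (Points.continuous_ofPt _)⟩
  have hw₀O : w₀ ∈ O := by
    show Points.ofPt (c ≫ f) w₀ ∈ Set.range (Points.ofPt C.b)
    rw [Core.ofPt_comp]
    exact C.genV (hf.bijOn.mapsTo hη)
  have hwO : w ∈ O := by
    show Points.ofPt (c ≫ f) w ∈ Set.range (Points.ofPt C.b)
    rw [Core.ofPt_comp, h]
    exact C.genV (hf.bijOn.mapsTo hη)
  obtain ⟨k', hk'⟩ := exists_lift_yon_of_range_subset C.hb (((yon S).map (openIncl O) ≫ c) ≫ f) (by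
    rintro _ ⟨o, rfl⟩
    rw [Core.range_points_map_yon, Category.assoc, ofPt_openIncl_comp]
    exact o.2)
  obtain ⟨k, rfl⟩ := (yon S).map_surjective k'
  let W' : Over S := Over.mk (O.ι ≫ W.hom)
  let c' : (yon S).obj W' ⟶ F := (yon S).map (openIncl O) ≫ c
  have hc' : RepWith @Etale c' := repWith_etale_openIncl_comp O hc
  let z : ↥W'.left := ⟨w, hwO⟩
  let z₀ : ↥W'.left := ⟨w₀, hw₀O⟩
  have hz : z₀ ⤳ z := (subtype_specializes_iff z₀ z).2 hw₀
  have happ : ∀ y : ↥W'.left, Points.ofPt C.b (k.left y) = Points.map f (Points.ofPt c y.1) := fun y => by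
    rw [← Core.ofPt_map_comp, hk', Core.ofPt_comp, ofPt_openIncl_comp]
  have hk : k.left z₀ = k.left z := injective_ofPt C.hb (by rw [happ, happ]; exact h.symm)
  -- the residue extension is finite
  obtain ⟨u₀, hu₀⟩ := C.genU hη
  let R := C.ha.rep.pullback c'
  have sqR := C.ha.rep.isPullback' c'
  have : IsOpenImmersion (C.ha.rep.snd c').left := C.ha.property_snd c'
  have : Etale (C.ha.rep.fst' c').left := hc'.property C.a _ _ sqR.flip
  obtain ⟨r, hr₁, hr₂⟩ := exists_point_of_scheme_isPullback sqR u₀ z₀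
    (hu₀.trans (ofPt_openIncl_comp O c z₀).symm)
  have e : (C.ha.rep.fst' c').left ≫ C.g.left = (C.ha.rep.snd c').left ≫ k.left := by
    rw [← Over.comp_left, ← Over.comp_left]
    refine congrArg CommaMorphism.left ((yon S).map_injective ?_)
    have := mono_openImm C.hb
    rw [← cancel_mono C.b, Functor.map_comp, Functor.map_comp, Category.assoc, Category.assoc,
      ← C.w, hk', reassoc_of% sqR.w, Category.assoc]
  have hu : H75.Birat.IsGen u₀ := (gen_iff hX hF (repWith_etale_openImm C.ha) u₀).2 (hu₀ ▸ hη)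
  have hfin : (k.left.residueFieldMap z₀).hom.Finite := by
    have hq : ((C.ha.rep.fst' c').left.residueFieldMap r).hom.Finite :=
      Lib.Unram.UnramifiedNormalFibre.finite_residueFieldMap _ r
        (Lib.Unram.AtPrime.formallyUnramified_stalkMap_of_nhd _ r ⟨⊤, trivial, inferInstance⟩)
    have hi := C.stalkIso hX hF hf u₀ hu
    have hgb : (C.g.left.residueFieldMap u₀).hom.Finite := RingHom.Finite.of_surjective _ fun y => by
      obtain ⟨d, rfl⟩ := IsLocalRing.residue_surjective y
      obtain ⟨d', rfl⟩ := (ConcreteCategory.bijective_of_isIso (C.g.left.stalkMap u₀)).2 d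
      exact ⟨IsLocalRing.residue _ d', rfl⟩
    have hcomp := finite_residue_comp _ C.g.left r hr₁ hq hgb
    rw [e] at hcomp
    exact finite_residue_of_comp _ k.left r hr₂ hcomp
  have := congrArg (fun y : ↥W'.left => Points.ofPt c y.1) (eq_of_algebraic k.left hz hk hfin)
  exact this.symm

omit hX hY in
/-- A fibre product whose first projection lands in a chart is the fibre product of the chart. -/
theorem isPullback_factor {P T R V X Y : Sp S} {f : X ⟶ Y} {fst : P ⟶ X} {snd : P ⟶ T} {c : T ⟶ V}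
    {b : V ⟶ Y} {j : R ⟶ X} {h : R ⟶ V} {φ : P ⟶ R} [Mono b] [Mono j] (sq : IsPullback fst snd f (c ≫ b))
    (hφ : φ ≫ j = fst) (hw : j ≫ f = h ≫ b) : IsPullback φ snd h c := by
  have w : φ ≫ h = snd ≫ c := by
    rw [← cancel_mono b, Category.assoc, Category.assoc, ← hw, ← Category.assoc, hφ, sq.w]
  refine ⟨⟨w⟩, ⟨PullbackCone.IsLimit.mk w (fun s => sq.lift (s.fst ≫ j) s.snd
    (by rw [Category.assoc, hw, reassoc_of% s.condition])) (fun s => ?_) (fun s => sq.lift_snd _ _ _)
    (fun s m h₁ h₂ => sq.hom_ext ?_ ?_)⟩⟩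
  · rw [← cancel_mono j, Category.assoc, hφ, sq.lift_fst]
  · rw [sq.lift_fst, ← hφ, ← Category.assoc, h₁]
  · rw [sq.lift_snd, h₂]

end Groth.Agent.Lib.AlgSpDecent.Birat
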