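import Groth.Agent.Lib.AlgSpDecent.ChartOver
import Groth.Agent.Lib.AlgSpDecent.IsolatedPt
import Groth.Agent.Lib.AlgSpThick.FibreDim
import Groth.Agent.Lib.AlgSpMor.LocP
import Groth.Agent.H2.FibreDimPullback
import Groth.Prelude.Def_Dual3

/-!
Relative dimension and residue transcendence degree of morphisms of algebraic spaces, read on charts.
-/

universe u

open CategoryTheory CategoryTheory.Limits AlgebraicGeometry Opposite Topology

namespace Groth.Agent.Lib.AlgSpDecent.RelDim

open Groth.Agent.Lib.Cyc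

/-- Quasi-finiteness at a point is fibre dimension zero there. -/
theorem quasiFiniteAt_iff_fibreDimAt {A B : Scheme.{u}} (h : A ⟶ B) [LocallyOfFiniteType h] (a : A) :
    h.QuasiFiniteAt a ↔ FlatMor.fibreDimAt h a = 0 := by
  have := H46.QFin.isLocallyNoetherian_fiber h (h a)
  exact Scheme.Hom.quasiFiniteAt_iff_isOpen_singleton_asFiber.trans
    (IsolatedPt.localDim_eq_zero_iff (h.asFiber a)).symm

open AlgSp Groth.Agent.Lib.AlgSpace Core FiniteNhd

variable {S : Scheme.{u}} {X Y : Sp S} {f : X ⟶ Y}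

theorem exists_chart_at (hX : IsAlgSpace X) (hY : IsAlgSpace Y) (f : X ⟶ Y) (x : Points X) :
    ∃ (U V : Over S) (a : (yon S).obj U ⟶ X) (b : (yon S).obj V ⟶ Y) (h : U ⟶ V) (u : ↥U.left),
      RepWith @Etale a ∧ RepWith @Etale b ∧ a ≫ f = (yon S).map h ≫ b ∧ Points.ofPt a u = x := by
  obtain ⟨U, V, a, b, h, ha, has, hb, -, w⟩ := AlgSpMor.LocP.exists_chart hX hY f
  obtain ⟨u, hu⟩ := Core.surjective_ofPt has x
  exact ⟨U, V, a, b, h, u, ha, hb, w, hu⟩

/-- A property of the fibre dimension at a point can be read off any chart diagram. -/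
theorem hasAtMor_fibreDim_pred (hX : IsAlgSpace X) (hY : IsAlgSpace Y)
    (hf : LocP @LocallyOfFiniteType f) (P : WithBot ℕ∞ → Prop) {U V : Over S}
    {a : (yon S).obj U ⟶ X} {b : (yon S).obj V ⟶ Y} {h : U ⟶ V}
    (ha : RepWith @Etale a) (hb : RepWith @Etale b) (w : a ≫ f = (yon S).map h ≫ b) (u : ↥U.left) :
    HasAtMor (fun _ _ g v => P (FlatMor.fibreDimAt g v)) f (Points.ofPt a u) ↔
      P (FlatMor.fibreDimAt h.left u) := by
  refine ⟨?_, fun hd => ⟨U, V, a, b, h, u, ha, hb, w, rfl, hd⟩⟩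
  rintro ⟨U', V', a', b', h', u', ha', hb', w', hu, hd⟩
  rwa [AlgSpThick.FibreDim.fibreDimAt_eq_of_charts hX.diag hY.diag hf ha hb w ha' hb' w' hu.symm]

/-- Two chart diagrams through the same point have the same residue transcendence degree there. -/
theorem resTrdeg_eq_of_charts (hX : IsAlgSpace X) (hY : IsAlgSpace Y)
    {U V U' V' : Over S} {a : (yon S).obj U ⟶ X} {b : (yon S).obj V ⟶ Y} {h : U ⟶ V}
    {a' : (yon S).obj U' ⟶ X} {b' : (yon S).obj V' ⟶ Y} {h' : U' ⟶ V'}
    (ha : RepWith @Etale a) (hb : RepWith @Etale b) (w : a ≫ f = (yon S).map h ≫ b)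
    (ha' : RepWith @Etale a') (hb' : RepWith @Etale b') (w' : a' ≫ f = (yon S).map h' ≫ b')
    {u : ↥U.left} {u' : ↥U'.left} (hu : Points.ofPt a u = Points.ofPt a' u') :
    Dual3.resTrdeg h.left u = Dual3.resTrdeg h'.left u' := by
  obtain ⟨U'', p, q, sq⟩ := exists_isPullback_yon hX.diag a a'
  obtain ⟨W, r, r', sqW⟩ := exists_isPullback_yon hY.diag b b'
  have : Etale p.left := repWith_property ha' sq.flip
  have : Etale q.left := repWith_property ha sq
  have : Etale r.left := repWith_property hb' sqW.flip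
  have : Etale r'.left := repWith_property hb sqW
  obtain ⟨k, hk⟩ := (yon S).map_surjective (sqW.lift ((yon S).map (p ≫ h)) ((yon S).map (q ≫ h'))
    (by rw [Functor.map_comp, Functor.map_comp, Category.assoc, Category.assoc, ← w, ← w',
      reassoc_of% sq.w]))
  have k1 : k ≫ r = p ≫ h := (yon S).map_injective (by rw [Functor.map_comp, hk, sqW.lift_fst])
  have k2 : k ≫ r' = q ≫ h' := (yon S).map_injective (by rw [Functor.map_comp, hk, sqW.lift_snd])
  obtain ⟨z, rfl, rfl⟩ := (ofPt_eq_ofPt_iff_of_isPullback sq u u').1 hu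
  show Residue.trdegAt h.left (p.left z) = Residue.trdegAt h'.left (q.left z)
  have e : ∀ {A B C : Scheme.{u}} (e : A ⟶ B) [Etale e] (g : B ⟶ C) (x : A),
      Residue.trdegAt (e ≫ g) x = Residue.trdegAt g (e x) := fun e _ g x => by
    rw [Residue.trdegAt_comp, AlgSpThick.FibreDim.trdegAt_eq_zero e, add_zero]
  have e' : ∀ {A B C : Scheme.{u}} (g : A ⟶ B) (e : B ⟶ C) [Etale e] (x : A),
      Residue.trdegAt (g ≫ e) x = Residue.trdegAt g x := fun g e _ x => by
    rw [Residue.trdegAt_comp, AlgSpThick.FibreDim.trdegAt_eq_zero, zero_add]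
  calc Residue.trdegAt h.left (p.left z)
      = Residue.trdegAt (p.left ≫ h.left) z := (e _ _ _).symm
    _ = Residue.trdegAt (k.left ≫ r.left) z := by rw [← Over.comp_left, ← k1, Over.comp_left]
    _ = Residue.trdegAt k.left z := e' _ _ _
    _ = Residue.trdegAt (k.left ≫ r'.left) z := (e' _ _ _).symm
    _ = Residue.trdegAt (q.left ≫ h'.left) z := by rw [← Over.comp_left, k2, Over.comp_left]
    _ = Residue.trdegAt h'.left (q.left z) := e _ _ _

/-- A property of the residue transcendence degree can be read off any chart diagram. -/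
theorem hasAtMor_resTrdeg_pred (hX : IsAlgSpace X) (hY : IsAlgSpace Y) (P : Cardinal.{u} → Prop)
    {U V : Over S} {a : (yon S).obj U ⟶ X} {b : (yon S).obj V ⟶ Y} {h : U ⟶ V}
    (ha : RepWith @Etale a) (hb : RepWith @Etale b) (w : a ≫ f = (yon S).map h ≫ b) (u : ↥U.left) :
    HasAtMor (fun _ _ g v => P (Dual3.resTrdeg g v)) f (Points.ofPt a u) ↔
      P (Dual3.resTrdeg h.left u) := by
  refine ⟨?_, fun hd => ⟨U, V, a, b, h, u, ha, hb, w, rfl, hd⟩⟩
  rintro ⟨U', V', a', b', h', u', ha', hb', w', hu, hd⟩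
  rwa [resTrdeg_eq_of_charts hX hY ha hb w ha' hb' w' hu.symm]

/-- Quasi-finite at a point means relative dimension zero there. -/
theorem qfAt_iff_fibreDim (hX : IsAlgSpace X) (hY : IsAlgSpace Y)
    (hf : LocP @LocallyOfFiniteType f) (x : Points X) :
    HasAtMor QfAt f x ↔ HasAtMor (fun _ _ h u => FlatMor.fibreDimAt h u = 0) f x := by
  obtain ⟨U, V, a, b, h, u, ha, hb, w, rfl⟩ := exists_chart_at hX hY f x
  have : LocallyOfFiniteType h.left := hf a b h ha hb w
  rw [ChartOver.qfAt_iff_chart hX hY hf ha hb w u, quasiFiniteAt_iff_fibreDimAt,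
    hasAtMor_fibreDim_pred hX hY hf (· = 0) ha hb w u]

/-- Relative dimension does not change under base change. -/
theorem fibreDim_of_isPullback {Y' X' : Sp S} {g : Y' ⟶ Y} {g' : X' ⟶ X} {f' : X' ⟶ Y'}
    (hX : IsAlgSpace X) (hY : IsAlgSpace Y) (hY' : IsAlgSpace Y') (sq : IsPullback g' f' f g)
    (hf : LocP @LocallyOfFiniteType f) (x' : Points X') (P : WithBot ℕ∞ → Prop) :
    HasAtMor (fun _ _ h u => P (FlatMor.fibreDimAt h u)) f' x' ↔
      HasAtMor (fun _ _ h u => P (FlatMor.fibreDimAt h u)) f (Points.map g' x') := by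
  obtain ⟨U, V, a, b, h, ha, has, hb, hbs, w⟩ := AlgSpMor.LocP.exists_chart hX hY f
  obtain ⟨W₀, c, hc, hcs⟩ := hY'.atlas
  have hX' : IsAlgSpace X' := isAlgSpace_of_isPullback sq hY.diag hX hY'
  have hf' : LocP @LocallyOfFiniteType f' := AlgSpMor.LocP.locP_of_isPullback
    (AlgSpMor.LocP.etaleLocalST_of_list (Or.inl rfl)) hX hY hY' sq hf
  obtain ⟨T, t₁, t₂, sqT⟩ := exists_isPullback_yon hY.diag b (c ≫ g)
  let Q := Limits.pullback h t₁
  have sqQ := IsPullback.of_hasPullback h t₁
  let u₁ : Q ⟶ U := pullback.fst h t₁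
  let u₂ : Q ⟶ T := pullback.snd h t₁
  have wQ : ((yon S).map u₁ ≫ a) ≫ f = ((yon S).map (u₂ ≫ t₂) ≫ c) ≫ g := by
    simp only [Category.assoc, Functor.map_comp, w]
    rw [← sqT.w, ← (yon S).map_comp_assoc, sqQ.w, (yon S).map_comp_assoc]
  have sqUW : IsPullback ((yon S).map u₁) ((yon S).map (u₂ ≫ t₂)) (a ≫ f) (c ≫ g) := by
    rw [w, Functor.map_comp]
    exact (isPullback_yon sqQ).paste_vert sqT
  let a' : (yon S).obj Q ⟶ X' := sq.lift _ _ wQ
  have key : IsPullback ((yon S).map (prod.lift u₁ (u₂ ≫ t₂))) a'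
      ((yonProdIso U W₀).hom ≫ prod.map a c) (prod.lift g' f') := by
    refine isPullback_of_yon (prod.hom_ext ?_ ?_) (fun T x x' h1 _ ↦ sqUW.hom_ext ?_ ?_)
      (fun T x y e ↦ ?_)
    · simp only [Category.assoc, prod.lift_fst, prod.map_fst, yonProdIso_hom_fst_assoc]
      rw [← (yon S).map_comp_assoc, prod.lift_fst]
      simp [a']
    · simp only [Category.assoc, prod.lift_snd, prod.map_snd, yonProdIso_hom_snd_assoc]
      rw [← (yon S).map_comp_assoc, prod.lift_snd]
      simp [a']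
    · simpa only [Category.assoc, ← Functor.map_comp, prod.lift_fst] using
        congr($h1 ≫ (yon S).map prod.fst)
    · simpa only [Category.assoc, ← Functor.map_comp, prod.lift_snd] using
        congr($h1 ≫ (yon S).map prod.snd)
    · have e1 : (x ≫ (yon S).map prod.fst) ≫ a = y ≫ g' := by
        simpa [yonProdIso_hom_fst_assoc, prod.lift_fst, prod.map_fst] using congr($e ≫ prod.fst)
      have e2 : (x ≫ (yon S).map prod.snd) ≫ c = y ≫ f' := by
        simpa [yonProdIso_hom_snd_assoc, prod.lift_snd, prod.map_snd] using congr($e ≫ prod.snd)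
      refine ⟨sqUW.lift (x ≫ (yon S).map prod.fst) (x ≫ (yon S).map prod.snd)
        (by rw [← Category.assoc, e1, ← Category.assoc _ c g, e2, Category.assoc, Category.assoc, sq.w]), ?_, ?_⟩
      · apply (cancel_mono (yonProdIso U W₀).hom).1
        refine prod.hom_ext ?_ ?_
        · simp only [Category.assoc, yonProdIso_hom_fst]
          rw [← Functor.map_comp, prod.lift_fst, sqUW.lift_fst]
        · simp only [Category.assoc, yonProdIso_hom_snd]
          rw [← Functor.map_comp, prod.lift_snd, sqUW.lift_snd]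
      · refine sq.hom_ext ?_ ?_
        · simp [a', e1]
        · simp only [a', Category.assoc, sq.lift_snd, sqUW.lift_snd_assoc, e2]
  have : MorphismProperty.IsStableUnderComposition (@Etale : MorphismProperty Scheme.{u}) :=
    ⟨fun f g (_ : Etale f) (_ : Etale g) ↦ inferInstanceAs (Etale (f ≫ g))⟩
  have ha' : RepWith @Etale a' :=
    repWith_baseChange key ((repWith_iso_comp_iff _ _ _).2 (repWith_prodMap ha hc))
  have has' : RepWith @Surjective a' :=
    repWith_baseChange key ((repWith_iso_comp_iff _ _ _).2 (repWith_prodMap has hcs))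
  have w' : a' ≫ f' = (yon S).map (u₂ ≫ t₂) ≫ c := sq.lift_snd _ _ _
  have wa : a' ≫ g' = (yon S).map u₁ ≫ a := sq.lift_fst _ _ _
  obtain ⟨z, rfl⟩ := Core.surjective_ofPt has' x'
  have e : Points.map g' (Points.ofPt a' z) = Points.ofPt a (u₁.left z) := by
    rw [← Core.ofPt_comp, wa, Core.ofPt_comp, Core.ofPt_yon_map, ← Core.ofPt_comp, Category.id_comp]
  rw [e, hasAtMor_fibreDim_pred hX' hY' hf' P ha' hc w' z,
    hasAtMor_fibreDim_pred hX hY hf P ha hb w (u₁.left z)]
  have : Etale t₂.left := repWith_property hb sqT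
  have : LocallyOfFiniteType h.left := hf a b h ha hb w
  have sqL : IsPullback u₁.left u₂.left h.left t₁.left := sqQ.map (Over.forget S)
  have : LocallyOfFiniteType u₂.left := MorphismProperty.of_isPullback sqL ‹_›
  rw [Over.comp_left, AlgSpThick.FibreDim.fibreDimAt_postcomp,
    H2.FibreDimPullback.fibreDimAt_of_isPullback sqL z]

end Groth.Agent.Lib.AlgSpDecent.RelDim
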