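import Groth.Agent.Lib.AlgSpDecent.RelDimComp
import Groth.Agent.Lib.AlgSpDecent.RelDim
import Groth.Agent.Lib.Flat55.ResTrdegBC

/-!
Residue transcendence degrees and fibre local rings under base change of algebraic spaces.
-/

universe u

open CategoryTheory CategoryTheory.Limits AlgebraicGeometry Opposite Topology

namespace Groth.Agent.Lib.AlgSpDecent.RelDimBC

open AlgSp Groth.Agent.Lib.AlgSpace Core RelDim Groth.Agent.Lib.Cyc

variable {S : Scheme.{u}} {X Y X' Y' : Sp S} {f : X ⟶ Y} {g : Y' ⟶ Y} {g' : X' ⟶ X} {f' : X' ⟶ Y'}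

/-- Compatible charts for a base change square: the chart of the base change is a scheme pullback
followed by an etale morphism. -/
theorem exists_bc_chart (hX : IsAlgSpace X) (hY : IsAlgSpace Y) (hY' : IsAlgSpace Y')
    (sq : IsPullback g' f' f g) :
    ∃ (U V W₀ T Q : Over S) (a : (yon S).obj U ⟶ X) (b : (yon S).obj V ⟶ Y)
      (c : (yon S).obj W₀ ⟶ Y') (a' : (yon S).obj Q ⟶ X') (h : U ⟶ V) (t₁ : T ⟶ V) (t₂ : T ⟶ W₀)
      (u₁ : Q ⟶ U) (u₂ : Q ⟶ T),
      RepWith @Etale a ∧ RepWith @Surjective a ∧ RepWith @Etale b ∧ RepWith @Surjective b ∧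
      RepWith @Etale c ∧ RepWith @Surjective c ∧ RepWith @Etale a' ∧ RepWith @Surjective a' ∧
      Etale t₂.left ∧ a ≫ f = (yon S).map h ≫ b ∧
      IsPullback ((yon S).map t₁) ((yon S).map t₂) b (c ≫ g) ∧
      IsPullback u₁.left u₂.left h.left t₁.left ∧
      a' ≫ f' = (yon S).map (u₂ ≫ t₂) ≫ c ∧ a' ≫ g' = (yon S).map u₁ ≫ a := by
  obtain ⟨U, V, a, b, h, ha, has, hb, hbs, w⟩ := AlgSpMor.LocP.exists_chart hX hY f
  obtain ⟨W₀, c, hc, hcs⟩ := hY'.atlas
  obtain ⟨T, t₁, t₂, sqT⟩ := exists_isPullback_yon hY.diag b (c ≫ g)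
  let Q := Limits.pullback h t₁
  have sqQ := IsPullback.of_hasPullback h t₁
  let u₁ : Q ⟶ U := pullback.fst h t₁
  let u₂ : Q ⟶ T := pullback.snd h t₁
  have wQ : ((yon S).map u₁ ≫ a) ≫ f = ((yon S).map (u₂ ≫ t₂) ≫ c) ≫ g := by
    simp only [Category.assoc, Functor.map_comp, w]
    rw [← sqT.w, ← (yon S).map_comp_assoc, sqQ.w, (yon S).map_comp_assoc]
  have sqUW : IsPullback ((yon S).map u₁) ((yon S).map (u₂ ≫ t₂)) (a ≫ f) (c ≫ g) := by
    rw [w, Functor.map_comp]
    exact (isPullback_yon sqQ).paste_vert sqT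
  let a' : (yon S).obj Q ⟶ X' := sq.lift _ _ wQ
  have key : IsPullback ((yon S).map (prod.lift u₁ (u₂ ≫ t₂))) a'
      ((yonProdIso U W₀).hom ≫ prod.map a c) (prod.lift g' f') := by
    refine isPullback_of_yon (prod.hom_ext ?_ ?_) (fun T x x' h1 _ ↦ sqUW.hom_ext ?_ ?_)
      (fun T x y e ↦ ?_)
    · simp only [Category.assoc, prod.lift_fst, prod.map_fst, yonProdIso_hom_fst_assoc]
      rw [← (yon S).map_comp_assoc, prod.lift_fst]
      simp [a']
    · simp only [Category.assoc, prod.lift_snd, prod.map_snd, yonProdIso_hom_snd_assoc]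
      rw [← (yon S).map_comp_assoc, prod.lift_snd]
      simp [a']
    · simpa only [Category.assoc, ← Functor.map_comp, prod.lift_fst] using
        congr($h1 ≫ (yon S).map prod.fst)
    · simpa only [Category.assoc, ← Functor.map_comp, prod.lift_snd] using
        congr($h1 ≫ (yon S).map prod.snd)
    · have e1 : (x ≫ (yon S).map prod.fst) ≫ a = y ≫ g' := by
        simpa [yonProdIso_hom_fst_assoc, prod.lift_fst, prod.map_fst] using congr($e ≫ prod.fst)
      have e2 : (x ≫ (yon S).map prod.snd) ≫ c = y ≫ f' := by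
        simpa [yonProdIso_hom_snd_assoc, prod.lift_snd, prod.map_snd] using congr($e ≫ prod.snd)
      refine ⟨sqUW.lift (x ≫ (yon S).map prod.fst) (x ≫ (yon S).map prod.snd)
        (by rw [← Category.assoc, e1, ← Category.assoc _ c g, e2, Category.assoc, Category.assoc, sq.w]), ?_, ?_⟩
      · apply (cancel_mono (yonProdIso U W₀).hom).1
        refine prod.hom_ext ?_ ?_
        · simp only [Category.assoc, yonProdIso_hom_fst]
          rw [← Functor.map_comp, prod.lift_fst, sqUW.lift_fst]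
        · simp only [Category.assoc, yonProdIso_hom_snd]
          rw [← Functor.map_comp, prod.lift_snd, sqUW.lift_snd]
      · refine sq.hom_ext ?_ ?_
        · simp [a', e1]
        · simp only [a', Category.assoc, sq.lift_snd, sqUW.lift_snd_assoc, e2]
  have : MorphismProperty.IsStableUnderComposition (@Etale : MorphismProperty Scheme.{u}) :=
    ⟨fun f g (_ : Etale f) (_ : Etale g) ↦ inferInstanceAs (Etale (f ≫ g))⟩
  have ha' : RepWith @Etale a' :=
    repWith_baseChange key ((repWith_iso_comp_iff _ _ _).2 (repWith_prodMap ha hc))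
  have has' : RepWith @Surjective a' :=
    repWith_baseChange key ((repWith_iso_comp_iff _ _ _).2 (repWith_prodMap has hcs))
  have w' : a' ≫ f' = (yon S).map (u₂ ≫ t₂) ≫ c := sq.lift_snd _ _ _
  have wa : a' ≫ g' = (yon S).map u₁ ≫ a := sq.lift_fst _ _ _
  exact ⟨U, V, W₀, T, Q, a, b, c, a', h, t₁, t₂, u₁, u₂, ha, has, hb, hbs, hc, hcs, ha', has',
    repWith_property hb sqT, w, sqT, sqQ.map (Over.forget S), w', wa⟩

theorem add_natCast_le_add_natCast {d : WithBot ℕ∞} (n : ℕ) {e : WithBot ℕ∞} :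
    d + (n : WithBot ℕ∞) ≤ e + (n : WithBot ℕ∞) ↔ d ≤ e := by
  refine ⟨fun h => ?_, fun h => by gcongr⟩
  induction d using WithBot.recBotCoe with
  | bot => exact bot_le
  | coe d =>
    induction e using WithBot.recBotCoe with
    | bot => simp at h
    | coe e =>
      refine WithBot.coe_le_coe.2 ((ENat.addLECancellable_of_ne_top (ENat.coe_ne_top n)).add_le_add_iff_right.1 ?_)
      exact WithBot.coe_le_coe.1 h

/-- The residue transcendence degree is a natural number `t`, and the fibre dimension is the dimension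
of the local ring of the fibre plus `t`. -/
theorem stalk_witness (hX : IsAlgSpace X) (hY : IsAlgSpace Y) (hf : LocP @LocallyOfFiniteType f)
    {x : Points X} {e : WithBot ℕ∞} {r : Cardinal.{u}}
    (he : HasAtMor (fun _ _ h u => ringKrullDim ↥((h.fiber (h u)).presheaf.stalk (h.asFiber u)) = e) f x)
    (hr : HasAtMor (fun _ _ h u => Dual3.resTrdeg h u = r) f x) :
    ∃ t : ℕ, r = t ∧ HasAtMor (fun _ _ h u => FlatMor.fibreDimAt h u = e + (t : WithBot ℕ∞)) f x := by
  obtain ⟨U, V, a, b, h, u, ha, hb, w, rfl, he⟩ := he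
  have : LocallyOfFiniteType h.left := hf a b h ha hb w
  obtain ⟨t, ht, hd⟩ := RelDimComp.fibreDimAt_eq_stalk_add h.left u
  exact ⟨t, ((hasAtMor_resTrdeg_pred hX hY (· = r) ha hb w u).1 hr).symm.trans ht,
    U, V, a, b, h, u, ha, hb, w, rfl, hd.trans (by rw [he])⟩

end Groth.Agent.Lib.AlgSpDecent.RelDimBC
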