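import Groth.Agent.Lib.AlgSpDecent.RelDim
import Groth.Agent.Lib.AlgSpDecent.RelDimBC
import Groth.Agent.Lib.AlgSpMor.Proper
import Groth.Agent.H54.CMAffine
import Mathlib.AlgebraicGeometry.Morphisms.UniversallyOpen

/-!
Dimensions of fibres of morphisms of algebraic spaces.
-/

universe u

open CategoryTheory CategoryTheory.Limits AlgebraicGeometry Opposite Topology TopologicalSpace

namespace Groth.Agent.Lib.AlgSpDecent.FibreDimPts

/-- The fibre dimension of a morphism to a one-point scheme is the local dimension. -/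
theorem fibreDimAt_eq_localDim {X Y : Scheme.{u}} [Subsingleton ↥Y] (f : X ⟶ Y) (x : X) :
    FlatMor.fibreDimAt f x = FlatMor.localDim ↥X x := by
  have hu : (f.base ⁻¹' {f.base x}) = Set.univ := Set.eq_univ_of_forall fun z => Subsingleton.elim (α := ↥Y) _ _
  rw [Groth.Agent.Lib.FibreDim.Basic.fibreDimAt_eq]
  exact (Groth.Agent.Lib.FibreDim.Basic.localDim_eq_of_homeomorph
    ((Homeomorph.setCongr hu).trans (Homeomorph.Set.univ ↥X)) ⟨x, rfl⟩).symm

/-- The points with fibre dimension above a bound have open image under flat finitely presented maps. -/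
theorem exists_open_fibreDimAt {X Y : Scheme.{u}} (f : X ⟶ Y) [Flat f] [LocallyOfFinitePresentation f]
    (x : X) : ∃ (ζ : X) (W : X.Opens), ζ ∈ W ∧ f ζ = f x ∧
      ∀ z ∈ W, FlatMor.fibreDimAt f z = FlatMor.fibreDimAt f x := by
  obtain ⟨ζ, hζf, -, hmax, htrd⟩ := H46.DimData.exists_fe_eq f x
  have := H46.QFin.isLocallyNoetherian_fiber f (f ζ)
  have hcm : MoreMor.IsCMAt f ζ := ⟨Flat.stalkMap f ζ, by
    rw [Lib.Depth.CM.isCohenMacaulayLocalRing_iff, H46.DimData.ringKrullDim_fiber,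
      (H46.DimData.fd_eq_zero_iff f ζ).2 hmax]
    exact WithBot.coe_le_coe.2 bot_le⟩
  obtain ⟨U, g, hζ, hg, hfl, hqf, -⟩ := H54.CMAffine.exists_map_of_isCMAt f ζ hcm
  refine ⟨ζ, U, hζ, hζf, fun z hz => ?_⟩
  rw [H46.DimData.fibreDimAt_eq, H46.DimData.fibreDimAt_eq, ← htrd,
    ← H46.DimData.fe_of_isMaxFib f hmax]
  exact congrArg _ (H54.CMAffine.isCMAt_of_open_map f U g hg ⟨z, hz⟩
    (Scheme.Hom.quasiFiniteAt g _) (Flat.stalkMap g _)).2

theorem bot_lt_iff (e : WithBot ℕ∞) : ⊥ < e ↔ ((0 : ℕ) : WithBot ℕ∞) ≤ e := by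
  induction e using WithBot.recBotCoe with
  | bot => simp
  | coe e => exact iff_of_true (WithBot.bot_lt_coe e) (WithBot.coe_le_coe.2 bot_le)

theorem natCast_lt_iff (e : WithBot ℕ∞) (n : ℕ) :
    (n : WithBot ℕ∞) < e ↔ ((n + 1 : ℕ) : WithBot ℕ∞) ≤ e := by
  induction e using WithBot.recBotCoe with
  | bot => exact iff_of_false not_lt_bot (fun h => WithBot.natCast_ne_bot _ (le_bot_iff.1 h))
  | coe e =>
    refine WithBot.coe_lt_coe.trans (Iff.trans ?_ WithBot.coe_le_coe.symm)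
    exact (ENat.add_one_le_iff (ENat.coe_ne_top n)).symm

theorem lt_zero_iff (e : WithBot ℕ∞) : e < ((0 : ℕ) : WithBot ℕ∞) ↔ e = ⊥ := by
  rw [← not_le, ← bot_lt_iff, bot_lt_iff_ne_bot, not_not]

theorem lt_succ_iff (e : WithBot ℕ∞) (n : ℕ) :
    e < ((n + 1 : ℕ) : WithBot ℕ∞) ↔ e ≤ (n : WithBot ℕ∞) := by
  rw [← not_le, ← natCast_lt_iff, not_lt]

open AlgSp Groth.Agent.Lib.AlgSpace Core RelDim

variable {S : Scheme.{u}} {X Y : Sp S} {f : X ⟶ Y}

variable {k : FieldPt Y} {Xk : Sp S} {fst : Xk ⟶ X} {snd : Xk ⟶ (yon S).obj k.pt}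

/-- The dimension of a fibre is bounded exactly when the relative dimension is bounded along it. -/
theorem dim_fibre_le_iff (hX : IsAlgSpace X) (hY : IsAlgSpace Y) (hf : LocP @LocallyOfFiniteType f)
    (sq : IsPullback fst snd f k.toHom) (c : WithBot ℕ∞) :
    AlgSp.dim Xk ≤ c ↔ ∀ x : Points X, Points.map f x = Points.mk k →
      HasAtMor (fun _ _ h u => FlatMor.fibreDimAt h u ≤ c) f x := by
  have hk : IsAlgSpace ((yon S).obj k.pt) := IsAlgSpace.yon_obj _
  have hXk := isAlgSpace_of_isPullback sq hY.diag hX hk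
  have hs := AlgSpMor.LocP.locP_of_isPullback (AlgSpMor.LocP.etaleLocalST_of_list (Or.inl rfl))
    hX hY hk sq hf
  have hsub : Subsingleton ↥k.pt.left := inferInstanceAs (Subsingleton (PrimeSpectrum k.K))
  have hpt : ∀ z : Points Xk, Points.map f (Points.map fst z) = Points.mk k := fun z => by
    rw [← Points.map_comp, sq.w, Points.map_comp]
    obtain ⟨w, hw⟩ := (Points.schemeEquiv k.pt).surjective (Points.map snd z)
    rw [← hw]
    show Points.map k.toHom (Points.ofScheme k.pt w) = _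
    rw [Core.map_ofScheme, Points.ofPt_toHom]
  constructor
  · intro hd x hx
    obtain ⟨z, hz, -⟩ := Core.exists_point_of_isPullback sq x
      (Points.ofScheme k.pt (IsLocalRing.closedPoint k.K)) (by
        rw [Core.map_ofScheme, Points.ofPt_toHom, hx])
    subst hz
    rw [← fibreDim_of_isPullback hX hY hk sq hf z (· ≤ c)]
    obtain ⟨U, a, ha, has⟩ := hXk.atlas
    obtain ⟨u, rfl⟩ := Core.surjective_ofPt has z
    obtain ⟨h, hh⟩ := (yon S).map_surjective (a ≫ snd)
    refine ⟨U, k.pt, a, 𝟙 _, h, u, ha, AlgSp.repWith_id @Etale _, by rw [Category.comp_id, hh], rfl, ?_⟩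
    show FlatMor.fibreDimAt h.left u ≤ c
    rw [fibreDimAt_eq_localDim]
    exact (Groth.Agent.Lib.FibreDim.Basic.localDim_le_topologicalKrullDim u).trans ((le_iSup₂_of_le U a (le_iSup (fun _ : RepWith @Etale a => topologicalKrullDim ↥U.left) ha)).trans hd)
  · intro h
    refine iSup₂_le fun U a => iSup_le fun ha => Groth.Agent.Lib.FibreDim.Basic.topologicalKrullDim_le_of_forall fun u => ?_
    obtain ⟨g, hg⟩ := (yon S).map_surjective (a ≫ snd)
    have := (fibreDim_of_isPullback hX hY hk sq hf (Points.ofPt a u) (· ≤ c)).2 (h _ (hpt _))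
    rw [hasAtMor_fibreDim_pred hXk hk hs (· ≤ c) ha (AlgSp.repWith_id @Etale _)
      (show a ≫ snd = (yon S).map g ≫ 𝟙 _ by rw [Category.comp_id, hg]) u, fibreDimAt_eq_localDim] at this
    exact this

/-- A fibre is empty exactly when its dimension is `⊥`. -/
theorem dim_fibre_eq_bot_iff (hX : IsAlgSpace X) (hY : IsAlgSpace Y) (hf : LocP @LocallyOfFiniteType f)
    (sq : IsPullback fst snd f k.toHom) :
    AlgSp.dim Xk = ⊥ ↔ Points.mk k ∉ Set.range (Points.map f) := by
  rw [← le_bot_iff, dim_fibre_le_iff hX hY hf sq]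
  refine ⟨fun h ⟨x, hx⟩ => ?_, fun h x hx => (h ⟨x, hx⟩).elim⟩
  obtain ⟨U, V, a, b, g, u, ha, hb, w, -, hd⟩ := h x hx
  have : LocallyOfFiniteType g.left := hf a b g ha hb w
  rw [H46.DimData.fibreDimAt_eq] at hd
  exact absurd (le_bot_iff.1 hd) (WithBot.natCast_ne_bot _)

theorem hasAtMor_le_mono {c c' : WithBot ℕ∞} (hc : c ≤ c') {x : Points X}
    (h : HasAtMor (fun _ _ h u => FlatMor.fibreDimAt h u ≤ c) f x) :
    HasAtMor (fun _ _ h u => FlatMor.fibreDimAt h u ≤ c') f x := by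
  obtain ⟨U, V, a, b, g, u, ha, hb, w, hu, hd⟩ := h
  exact ⟨U, V, a, b, g, u, ha, hb, w, hu, hd.trans hc⟩

/-- The locus where the relative dimension is bounded is open. -/
theorem isOpen_le (hX : IsAlgSpace X) (hY : IsAlgSpace Y) (hf : LocP @LocallyOfFiniteType f) (c : WithBot ℕ∞) :
    IsOpen {x : Points X | HasAtMor (fun _ _ h u => FlatMor.fibreDimAt h u ≤ c) f x} := by
  obtain ⟨U, V, a, b, h, ha, has, hb, -, w⟩ := AlgSpMor.LocP.exists_chart hX hY f
  have : LocallyOfFiniteType h.left := hf a b h ha hb w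
  rw [Core.isOpen_iff_chart ha has]
  convert FibreDim.Semicont.isOpen_setOf_fibreDimAt_le h.left c using 1
  ext u
  exact hasAtMor_fibreDim_pred hX hY hf (· ≤ c) ha hb w u

end Groth.Agent.Lib.AlgSpDecent.FibreDimPts

namespace Groth.Agent.Lib.AlgSpDecent.FibreDimPts

open AlgSp Groth.Agent.Lib.AlgSpace Core RelDim

variable {S : Scheme.{u}} {X Y : Sp S} {f : X ⟶ Y}

/-- The points over which every fibre has dimension at most `c` form an open set, for closed maps. -/
theorem isOpen_dim_le (hX : IsAlgSpace X) (hY : IsAlgSpace Y) (hf : LocP @LocallyOfFiniteType f)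
    (hc : IsClosedMap (Points.map f)) (c : WithBot ℕ∞) :
    IsOpen {y : Points Y | ∀ (k : FieldPt Y), Points.mk k = y →
      ∀ (Xk : Sp S) (fst : Xk ⟶ X) (snd : Xk ⟶ (yon S).obj k.pt),
        IsPullback fst snd f k.toHom → AlgSp.dim Xk ≤ c} := by
  convert (hc _ (isOpen_le hX hY hf c).isClosed_compl).isOpen_compl using 1
  ext y
  constructor
  · rintro h ⟨x, hx, rfl⟩
    obtain ⟨k, hk⟩ := Points.mk_surjective (Points.map f x)
    exact hx ((dim_fibre_le_iff hX hY hf (IsPullback.of_hasPullback f k.toHom) c).1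
      (h k hk _ _ _ (IsPullback.of_hasPullback f k.toHom)) x hk.symm)
  · rintro h k rfl Xk fst snd sq
    rw [dim_fibre_le_iff hX hY hf sq]
    intro x hx
    by_contra hc
    exact h ⟨x, hc, hx⟩

/-- The points over which every fibre has dimension above `c` form an open set, for flat maps locally
of finite presentation. -/
theorem isOpen_lt_dim (hX : IsAlgSpace X) (hY : IsAlgSpace Y) (hfl : LocP @Flat f)
    (hfp : LocP @LocallyOfFinitePresentation f) (c : WithBot ℕ∞) :
    IsOpen {y : Points Y | ∀ (k : FieldPt Y), Points.mk k = y →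
      ∀ (Xk : Sp S) (fst : Xk ⟶ X) (snd : Xk ⟶ (yon S).obj k.pt),
        IsPullback fst snd f k.toHom → c < AlgSp.dim Xk} := by
  have hf : LocP @LocallyOfFiniteType f := fun U V a b h ha hb w =>
    have := hfp a b h ha hb w
    inferInstance
  rw [isOpen_iff_forall_mem_open]
  intro y hy
  obtain ⟨k, rfl⟩ := Points.mk_surjective y
  have hsq := IsPullback.of_hasPullback f k.toHom
  obtain ⟨x, hx, hxc⟩ : ∃ x, Points.map f x = Points.mk k ∧
      ¬ HasAtMor (fun _ _ h u => FlatMor.fibreDimAt h u ≤ c) f x := by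
    by_contra h
    simp only [not_exists, not_and, not_not] at h
    exact (hy k rfl _ _ _ hsq).not_ge ((dim_fibre_le_iff hX hY hf hsq c).2 h)
  obtain ⟨U, V, a, b, g, u, ha, hb, w, rfl⟩ := exists_chart_at hX hY f x
  have : Flat g.left := hfl a b g ha hb w
  have : LocallyOfFinitePresentation g.left := hfp a b g ha hb w
  rw [hasAtMor_fibreDim_pred hX hY hf (· ≤ c) ha hb w u] at hxc
  obtain ⟨ζ, W, hζ, hζu, hW⟩ := exists_open_fibreDimAt g.left u
  have e : ∀ z, Points.map f (Points.ofPt a z) = Points.ofPt b (g.left z) := fun z => by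
    rw [← Core.ofPt_comp, w, Core.ofPt_map_comp]
  refine ⟨Points.ofPt b '' (g.left '' (W : Set ↥U.left)), ?_,
    Core.isOpenMap_ofPt hb _ (g.left.isOpenMap _ W.2), ?_⟩
  · rintro _ ⟨_, ⟨z, hz, rfl⟩, rfl⟩ k' hk' Xk fst snd sq
    refine lt_of_not_ge fun hle => hxc ?_
    rw [← hW z hz]
    exact (hasAtMor_fibreDim_pred hX hY hf (· ≤ c) ha hb w z).1
      ((dim_fibre_le_iff hX hY hf sq c).1 hle _ ((e z).trans hk'.symm))
  · exact ⟨g.left ζ, ⟨ζ, hζ, rfl⟩, by rw [hζu, ← e, hx]⟩

/-- Fibres of quasi-compact morphisms locally of finite type have finite dimension. -/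
theorem exists_dim_le (hX : IsAlgSpace X) (hY : IsAlgSpace Y) (hf : LocP @LocallyOfFiniteType f)
    (hq : IsQuasiCompactMor f) (y : Points Y) :
    ∃ n : ℕ, ∀ (k : FieldPt Y), Points.mk k = y →
      ∀ (Xk : Sp S) (fst : Xk ⟶ X) (snd : Xk ⟶ (yon S).obj k.pt),
        IsPullback fst snd f k.toHom → AlgSp.dim Xk ≤ n := by
  obtain ⟨k₀, rfl⟩ := Points.mk_surjective y
  have : MorphismProperty.ContainsIdentities (@Etale : MorphismProperty Scheme.{u}) := inferInstance
  have hpt : IsQuasiCompactSp ((yon S).obj k₀.pt) := ⟨k₀.pt, 𝟙 _, AlgSp.repWith_id @Etale _,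
    AlgSp.repWith_id @Surjective _, inferInstanceAs (CompactSpace (Spec (CommRingCat.of k₀.K)))⟩
  obtain ⟨U, a, -, has, hUc⟩ := hq (IsAlgSpace.yon_obj k₀.pt) hpt k₀.toHom _ _ (IsPullback.of_hasPullback f k₀.toHom)
  let φ : ↥U.left → Points X := fun u => Points.map (pullback.fst f k₀.toHom) (Points.ofPt a u)
  have hφ : Continuous φ := (Points.continuous_map _).comp (Points.continuous_ofPt a)
  have : CompactSpace ↥U.left := hUc
  obtain ⟨n, hn⟩ := isCompact_univ.elim_directed_cover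
    (fun n : ℕ => φ ⁻¹' {x | HasAtMor (fun _ _ h u => FlatMor.fibreDimAt h u ≤ (n : WithBot ℕ∞)) f x})
    (fun n => (isOpen_le hX hY hf _).preimage hφ)
    (fun u _ => by
      obtain ⟨U', V', a', b', g, u', ha, hb, w, hu⟩ := exists_chart_at hX hY f (φ u)
      have : LocallyOfFiniteType g.left := hf a' b' g ha hb w
      refine Set.mem_iUnion.2 ⟨H46.DimData.fe g.left u', U', V', a', b', g, u', ha, hb, w, hu, ?_⟩
      exact (H46.DimData.fibreDimAt_eq g.left u').le)
    (fun i j => ⟨max i j, fun u hu => hasAtMor_le_mono (Nat.cast_le.2 (le_max_left i j)) hu,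
      fun u hu => hasAtMor_le_mono (Nat.cast_le.2 (le_max_right i j)) hu⟩)
  refine ⟨n, fun k hk Xk fst snd sq => (dim_fibre_le_iff hX hY hf sq _).2 fun x hx => ?_⟩
  obtain ⟨z, rfl, -⟩ := Core.exists_point_of_isPullback (IsPullback.of_hasPullback f k₀.toHom) x
    (Points.ofScheme k₀.pt (IsLocalRing.closedPoint k₀.K)) (by
      rw [Core.map_ofScheme, Points.ofPt_toHom, hx, hk])
  obtain ⟨u, rfl⟩ := Core.surjective_ofPt has z
  exact hn (Set.mem_univ u)

end Groth.Agent.Lib.AlgSpDecent.FibreDimPts
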