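import Groth.Agent.Lib.AlgSpDecent.DimCharts
import Groth.Agent.Lib.Ferrand.LQF
import Mathlib.AlgebraicGeometry.Morphisms.Integral
import Groth.Prelude.Def_AlgSp4

/-!
Dimension and integral morphisms of algebraic spaces.
-/

universe u

open CategoryTheory CategoryTheory.Limits AlgebraicGeometry Opposite Topology TopologicalSpace

namespace Groth.Agent.Lib.AlgSpDecent.DimIntegral

open AlgSp Core Fibre Specialize SpecOrder

theorem cohtPt_le {A B : Scheme.{u}} (f : A ⟶ B) [IsIntegralHom f] (x : A) :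
    cohtPt x ≤ cohtPt (f x) := by
  letI := specializationOrder A
  letI := specializationOrder B
  refine Order.coheight_le_coheight_apply_of_strictMono (⇑f) (fun a b hab => ?_) x
  have hle : b ⤳ a := hab.le
  refine lt_of_le_of_ne (show f b ⤳ f a from hle.map f.continuous) fun he => hab.ne ?_
  exact (Groth.Agent.Lib.Ferrand.eq_of_specializes_of_integral f hle he.symm).symm

theorem exists_ge {A B : Scheme.{u}} (f : A ⟶ B) [IsIntegralHom f] [Surjective f] (v : B) (n : ℕ)
    (hn : (n : ℕ∞) ≤ cohtPt v) : ∃ w : A, f w = v ∧ (n : ℕ∞) ≤ cohtPt w := by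
  letI := specializationOrder A
  letI := specializationOrder B
  have hsp : SpecializingMap f := f.isClosedMap.specializingMap
  suffices ∀ (n : ℕ) (p : LTSeries ↥B), p.length = n →
      ∃ w : A, f w = p.head ∧ (n : ℕ∞) ≤ cohtPt w by
    obtain ⟨p, hp, hl⟩ := Order.exists_series_of_le_coheight v hn
    exact hp ▸ this n p hl
  intro n
  induction n with
  | zero => exact fun p _ => ⟨_, (f.surjective p.head).choose_spec, by simp⟩
  | succ n ih =>
    intro p hp
    obtain ⟨w', hw', hn'⟩ := ih (p.tail (by omega)) (by simp [hp])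
    have hlt : p.head < (p.tail (by omega)).head := by
      rw [RelSeries.head_tail]
      exact p.strictMono (show (0 : Fin (p.length + 1)) < 1 from by rw [Fin.lt_def]; simp [hp])
    rw [← hw'] at hlt
    obtain ⟨w, hw, hwf⟩ := hsp (show f w' ⤳ p.head from hlt.le)
    refine ⟨w, hwf, ?_⟩
    have hww : w < w' := lt_of_le_of_ne (show w' ⤳ w from hw) fun he => hlt.ne (by rw [← hwf, he])
    calc ((n + 1 : ℕ) : ℕ∞) = (n : ℕ∞) + 1 := by simp
      _ ≤ cohtPt w' + 1 := by gcongr
      _ ≤ cohtPt w := Order.coheight_add_one_le hww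

variable {S : Scheme.{u}} {X Y : Sp S}

theorem exists_affine_chart_pt (hY : IsAlgSpace Y) (y : Points Y) :
    ∃ (V : Over S) (b : (yon S).obj V ⟶ Y) (v : ↥V.left),
      IsAffine V.left ∧ RepWith @Etale b ∧ Points.ofPt b v = y := by
  obtain ⟨ι, V, φ, hV, hφ, hs⟩ := exists_affine_chart hY
  obtain ⟨i, v, hv⟩ := hs y
  exact ⟨V i, φ i, v, hV i, hφ i, hv⟩

theorem dim_le_of_isIntegralMor (hY : IsAlgSpace Y) {f : X ⟶ Y} (hf : IsIntegralMor f) :
    AlgSp.dim X ≤ AlgSp.dim Y := by
  refine DimCharts.dim_le fun U a ha u => ?_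
  obtain ⟨V, b, v, hV, hb, hv⟩ := exists_affine_chart_pt hY (Points.map f (Points.ofPt a u))
  obtain ⟨W, i, fst, sq, -, hi⟩ := hf hV b
  have he : RepWith @Etale fst := Groth.Agent.Lib.AlgSpace.repWith_baseChange sq.flip hb
  obtain ⟨z, hz₁, hz₂⟩ := exists_point_of_isPullback sq (Points.ofPt a u)
    (Points.ofPt (𝟙 ((yon S).obj V)) v) (by rw [← hv, ← ofPt_comp, Category.id_comp])
  obtain ⟨w, rfl⟩ := (Points.schemeEquiv W).surjective z
  have h1 : Points.ofPt fst w = Points.ofPt a u := by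
    rw [← hz₁]
    exact (map_ofScheme fst w).symm
  have h2 : i.left w = v := by
    apply (Points.schemeEquiv V).injective
    refine Eq.trans ?_ (Eq.trans hz₂ ?_)
    · exact ((map_ofScheme ((yon S).map i) w).trans (ofPt_yon_map i w)).symm
    · rfl
  rw [← DimCharts.cohtPt_eq_of_charts he ha h1]
  exact (WithBot.coe_le_coe.2 (h2 ▸ cohtPt_le i.left w)).trans (DimCharts.cohtPt_le_dim hb v)

theorem dim_ge_of_isIntegralMor (hY : IsAlgSpace Y) {f : X ⟶ Y} (hf : IsIntegralMor f)
    (hs : IsSurjectiveMor f) : AlgSp.dim Y ≤ AlgSp.dim X := by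
  refine DimCharts.dim_le fun V' b' hb' v' => ?_
  obtain ⟨V, b, v, hV, hb, hv⟩ := exists_affine_chart_pt hY (Points.ofPt b' v')
  rw [← DimCharts.cohtPt_eq_of_charts hb hb' hv]
  obtain ⟨W, i, fst, sq, -, hi⟩ := hf hV b
  have he : RepWith @Etale fst := Groth.Agent.Lib.AlgSpace.repWith_baseChange sq.flip hb
  have : Surjective i.left := ⟨fun v₀ => by
    obtain ⟨x, hx⟩ := hs (Points.ofPt b v₀)
    obtain ⟨z, -, hz₂⟩ := exists_point_of_isPullback sq x (Points.ofPt (𝟙 ((yon S).obj V)) v₀)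
      (by rw [hx, ← ofPt_comp, Category.id_comp])
    obtain ⟨w, rfl⟩ := (Points.schemeEquiv W).surjective z
    refine ⟨w, (Points.schemeEquiv V).injective (Eq.trans ?_ (hz₂.trans rfl))⟩
    exact ((map_ofScheme ((yon S).map i) w).trans (ofPt_yon_map i w)).symm⟩
  generalize hc : cohtPt v = c
  cases c with
  | top =>
    have key : ∀ n : ℕ, ((n : ℕ∞) : WithBot ℕ∞) ≤ AlgSp.dim X := fun n => by
      obtain ⟨w, -, hw⟩ := exists_ge i.left v n (hc ▸ le_top)
      exact (WithBot.coe_le_coe.2 hw).trans (DimCharts.cohtPt_le_dim he w)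
    revert key
    generalize AlgSp.dim X = d
    intro key
    induction d using WithBot.recBotCoe with
    | bot => exact absurd (key 0) (not_le.2 (WithBot.bot_lt_coe _))
    | coe d => exact WithBot.coe_le_coe.2 (ENat.forall_natCast_le_iff_le.1 fun m _ =>
        WithBot.coe_le_coe.1 (key m))
  | coe n =>
    obtain ⟨w, -, hw⟩ := exists_ge i.left v n hc.ge
    exact (WithBot.coe_le_coe.2 hw).trans (DimCharts.cohtPt_le_dim he w)

end Groth.Agent.Lib.AlgSpDecent.DimIntegral
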