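import Groth.Agent.Lib.AlgSpDecent.GenericFiniteSp
import Groth.Agent.Lib.AlgSpDecent.DimIntegral
import Groth.Agent.Lib.AlgSpDecent.QS
import Groth.Agent.Lib.AlgSpMor.MonoLft
import Groth.Agent.Lib.AlgSpStalk.Lifts

/-!
A proper morphism that is quasi-finite over a point is finite over a neighbourhood of that point;
quasi-finiteness at points over a geometric point with finite fibre.
-/

universe u

open CategoryTheory CategoryTheory.Limits AlgebraicGeometry Opposite Topology

namespace Groth.Agent.Lib.AlgSpDecent.FiniteNhd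

open AlgSp Groth.Agent.Lib.AlgSpace Core

variable {S : Scheme.{u}} {X Y : Sp S}

/-- Quasi-finite at a point. -/
abbrev QfAt : ∀ (U V : Scheme.{u}), (U ⟶ V) → ↥U → Prop := fun U _ h u =>
  ∃ W : U.Opens, u ∈ W ∧ LocallyQuasiFinite (W.ι ≫ h) ∧ LocallyOfFiniteType (W.ι ≫ h)

/-- The quasi-finite locus is open. -/
theorem isOpen_qfAt (hX : IsAlgSpace X) (hY : IsAlgSpace Y) (f : X ⟶ Y) :
    IsOpen {x : Points X | HasAtMor QfAt f x} := by
  let Q : MorphismProperty Scheme.{u} :=
    (@LocallyQuasiFinite : MorphismProperty Scheme.{u}) ⊓ (@LocallyOfFiniteType : MorphismProperty Scheme.{u})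
  have hQ : ∀ ⦃A B : Scheme.{u}⦄ (g : A ⟶ B), Q g ↔ (LocallyQuasiFinite g ∧ LocallyOfFiniteType g) :=
    fun A B g => Iff.rfl
  have key := Groth.Agent.S9993.result Q (.inr (.inr (.inr (.inr (.inr (.inl hQ))))))
    (X := ⟨X, hX⟩) (Y := ⟨Y, hY⟩) (ObjectProperty.homMk f)
  refine isOpen_iff_forall_mem_open.2 fun x hx => ?_
  obtain ⟨X', j, hj, hxj, hloc⟩ := (key x).1 hx
  exact ⟨_, fun x' hx' => (key x').2 ⟨X', j, hj, hx', hloc⟩, (isOpenEmbedding_map hj).isOpen_range, hxj⟩

/-- A proper morphism quasi-finite at the points over `y` is finite over an open subspace through `y`. -/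
theorem exists_open_finite {X Y : Space S} (f : X ⟶ Y) (hf : IsProperMor f.hom) (y : Points Y.obj)
    (hqf : ∀ x, Points.map f.hom x = y → HasAtMor QfAt f.hom x) :
    ∃ (Y' : Space S) (j : Y' ⟶ Y), RepWith @IsOpenImmersion j.hom ∧
      y ∈ Set.range (Points.map j.hom) ∧
      ∀ (P : Space S) (fst : P ⟶ Y') (snd : P ⟶ X), IsPullback fst.hom snd.hom j.hom f.hom →
        IsFiniteMor fst.hom := by
  have hclosed : IsClosed (Points.map f.hom '' {x | HasAtMor QfAt f.hom x}ᶜ) :=
    AlgSpMor.Proper.isClosedMap_of_isUnivClosedMor Y.property hf.2.2 _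
      (isOpen_qfAt X.property Y.property f.hom).isClosed_compl
  obtain ⟨F, j, hF, hj, hjr⟩ := exists_open_subspace Y.property hclosed.isOpen_compl
  refine ⟨⟨F, hF⟩, ObjectProperty.homMk j, hj, hjr.ge ?_, fun P fst snd sq => ?_⟩
  · rintro ⟨x, hx, rfl⟩
    exact hx (hqf x rfl)
  have hprop : IsProperMor fst.hom :=
    AlgSpMor.Proper.isProperMor_baseChange X.property Y.property hF sq.flip hf
  refine AlgSpMor.MonoLft.finite_of_univClosed_lqf P.property hF hprop.2.2 hprop.1 ?_
  intro U V a b h ha hb hw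
  have hlft : LocallyOfFiniteType h.left := hprop.2.1.1 a b h ha hb hw
  have : MorphismProperty.IsStableUnderComposition @Etale.{u} :=
    ⟨fun f g (_ : Etale f) (_ : Etale g) ↦ inferInstanceAs (Etale (f ≫ g))⟩
  have hje : RepWith @Etale j :=
    repWith_mono hj fun _ _ g (_ : IsOpenImmersion g) => (inferInstance : Etale g)
  refine ⟨GenericFiniteSp.locallyQuasiFinite_of_nhds h.left fun u => ?_, hlft⟩
  refine GenericFiniteSp.exists_lqf_nhd X.property Y.property (f := f.hom) (a := a ≫ snd.hom) (b := b ≫ j)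
    (repWith_comp ha (repWith_baseChange sq hje)) (repWith_comp hb hje) ?_ u ?_
  · rw [Category.assoc, ← sq.w, reassoc_of% hw]
    rfl
  · by_contra hne
    have hmem : Points.map j (Points.map fst.hom (Points.ofPt a u)) ∈
        (Points.map f.hom '' {x | HasAtMor QfAt f.hom x}ᶜ)ᶜ := hjr.le ⟨_, rfl⟩
    refine hmem ⟨Points.ofPt (a ≫ snd.hom) u, hne, ?_⟩
    rw [ofPt_comp, ← Points.map_comp, ← Points.map_comp]
    exact congrArg (Points.map · (Points.ofPt a u)) sq.w.symm

/-- A scheme morphism locally of finite type with finite fibre at a point is quasi-finite there. -/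
theorem qfAt_of_finite_fibre {A B : Scheme.{u}} (h : A ⟶ B) [LocallyOfFiniteType h] (u : ↥A)
    (hfin : (h ⁻¹' {h u}).Finite) : QfAt A B h u := by
  have : Finite (h.fiber (h u)) := (h.fiberHomeo (h u)).finite_iff.mpr hfin
  exact ⟨h.quasiFiniteLocus, Scheme.Hom.quasiFiniteAt_iff_isOpen_singleton_asFiber.2 (isOpen_discrete _),
    inferInstance, inferInstance⟩

/-- A separated morphism locally of finite type with a finite geometric fibre is quasi-finite over
the image of the geometric point. -/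
theorem qfAt_of_finite_geometric_fibre (hX : IsAlgSpace X) (hY : IsAlgSpace Y) {f : X ⟶ Y}
    (hft : LocP @LocallyOfFiniteType f) (hdec : IsDecentMor f) (y : FieldPt Y) (hy : y.IsGeometric)
    {Xy : Sp S} {fst : Xy ⟶ X} {snd : Xy ⟶ (yon S).obj y.pt} (hsq : IsPullback fst snd f y.toHom)
    (hfin : Finite (Points Xy)) (x : Points X) (hx : Points.map f x = Points.mk y) :
    HasAtMor QfAt f x := by
  obtain ⟨U₀, V₀, a₀, b₀, h₀, ha₀, has₀, hb₀, -, w₀⟩ := AlgSpMor.LocP.exists_chart hX hY f
  obtain ⟨u₀, rfl⟩ := Core.surjective_ofPt has₀ x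
  obtain ⟨O, hO, hvO, -⟩ :=
    exists_isAffineOpen_mem_and_subset (U := ⊤) (Set.mem_univ (h₀.left u₀))
  obtain ⟨Uo, hUo, huo, hUW⟩ :=
    exists_isAffineOpen_mem_and_subset (U := h₀.left ⁻¹ᵁ O) (show u₀ ∈ h₀.left ⁻¹ᵁ O from hvO)
  let U : Over S := Over.mk (Uo.ι ≫ U₀.hom)
  let V : Over S := Over.mk (O.ι ≫ V₀.hom)
  let iU : U ⟶ U₀ := Over.homMk Uo.ι rfl
  let iV : V ⟶ V₀ := Over.homMk O.ι rfl
  have : IsAffine U.left := hUo
  have : IsAffine V.left := hO
  let a : (yon S).obj U ⟶ X := (yon S).map iU ≫ a₀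
  let b : (yon S).obj V ⟶ Y := (yon S).map iV ≫ b₀
  have : Etale iU.left := inferInstanceAs (Etale Uo.ι)
  have : Etale iV.left := inferInstanceAs (Etale O.ι)
  have ha : RepWith @Etale a := AlgSpMor.LocP.repWith_etale_comp iU ha₀
  have hb : RepWith @Etale b := AlgSpMor.LocP.repWith_etale_comp iV hb₀
  let h : U ⟶ V := Over.homMk (h₀.left.resLE O Uo hUW) (by
    show h₀.left.resLE O Uo hUW ≫ O.ι ≫ V₀.hom = Uo.ι ≫ U₀.hom
    rw [Scheme.Hom.resLE_comp_ι_assoc, Over.w h₀])
  have hh : h ≫ iV = iU ≫ h₀ := Over.OverMorphism.ext (Scheme.Hom.resLE_comp_ι _ _)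
  have w : a ≫ f = (yon S).map h ≫ b := by
    rw [Category.assoc, w₀, ← Functor.map_comp_assoc, ← hh, Functor.map_comp_assoc]
  let u : ↥U.left := ⟨u₀, huo⟩
  have hau : Points.ofPt a u = Points.ofPt a₀ u₀ := ofPt_map_comp iU a₀ u
  have : LocallyOfFiniteType h.left := hft a b h ha hb w
  refine ⟨U, V, a, b, h, u, ha, hb, w, hau, qfAt_of_finite_fibre h.left u ?_⟩
  -- lift the geometric point to the chart
  let E : EtOver Y := ⟨CostructuredArrow.mk b, hb⟩
  obtain ⟨⟨l, hl⟩, hlu⟩ := AlgSpStalk.Lifts.exists_lift y hy E (h.left u) (by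
    show Points.ofPt b (h.left u) = _
    rw [← ofPt_map_comp, ← w, ofPt_comp, hau, hx])
  -- the chart of the geometric fibre
  let P := pullback f b
  let q : P ⟶ (yon S).obj V := pullback.snd f b
  have sq : IsPullback (pullback.fst f b) q f b := IsPullback.of_hasPullback _ _
  have hP : IsAlgSpace P := isAlgSpace_of_isPullback sq hY.diag hX (IsAlgSpace.yon_obj V)
  let aP : (yon S).obj U ⟶ P := pullback.lift a ((yon S).map h) w
  have haP : RepWith @Etale aP := AlgSpMor.Proper.repWith_etale_of_comp hP.diag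
    (g := pullback.fst f b) (repWith_baseChange sq.flip hb)
    (by rw [pullback.lift_fst]; exact ha)
  have hl' : (yon S).map l ≫ b = y.toHom := hl
  let m : Xy ⟶ P := pullback.lift fst (snd ≫ (yon S).map l) (by rw [Category.assoc, hl', hsq.w])
  have sqm : IsPullback m snd q ((yon S).map l) := by
    refine IsPullback.of_right ?_ (pullback.lift_snd _ _ _) sq
    rw [pullback.lift_fst, hl']
    exact hsq
  have sqT := (IsPullback.of_hasPullback h l).map (yon S)
  let c : (yon S).obj (pullback h l) ⟶ Xy := sqm.lift ((yon S).map (pullback.fst h l) ≫ aP)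
    ((yon S).map (pullback.snd h l)) (by
      rw [Category.assoc, pullback.lift_snd]
      exact sqT.w)
  have sqc : IsPullback ((yon S).map (pullback.fst h l)) c aP m := by
    refine IsPullback.of_bot (v₁₁ := c) ?_ (sqm.lift_fst _ _ _).symm sqm
    rw [sqm.lift_snd, pullback.lift_snd]
    exact sqT
  have hc : RepWith @Etale c := repWith_baseChange sqc haP
  have hT : IsAffine (pullback h l).left := by
    have := ((IsPullback.of_hasPullback h l).map (Over.forget S)).isoPullback
    have : IsAffine (pullback ((Over.forget S).map h) ((Over.forget S).map l)) :=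
      inferInstanceAs (IsAffine (pullback h.left l.left))
    exact IsAffine.of_isIso ((IsPullback.of_hasPullback h l).map (Over.forget S)).isoPullback.hom
  have hdecXy : IsDecent Xy := hdec y.toHom fst snd hsq
  have hTfin : Finite ↥(pullback h l).left := Set.finite_univ_iff.1
    (((Set.finite_univ (α := Points Xy)).biUnion fun z _ =>
      Decent.IsDecent.finite_fibres hdecXy z _ c hT hc).subset
        fun t _ => Set.mem_iUnion₂.2 ⟨_, trivial, rfl⟩)
  refine (Set.finite_range (pullback.fst h l).left).subset fun u' hu' => ?_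
  obtain ⟨t, ht, -⟩ := Scheme.Pullback.exists_preimage_pullback (f := h.left) (g := l.left) u'
    (AlgSpStalk.Lifts.pt₀ y) ((Set.mem_singleton_iff.1 hu').trans hlu.symm)
  refine ⟨(((IsPullback.of_hasPullback h l).map (Over.forget S)).isoPullback.inv) t, ?_⟩
  exact ((Scheme.Hom.comp_apply _ _ t).symm.trans (congrArg (fun φ : pullback h.left l.left ⟶ U.left => φ t)
    ((IsPullback.of_hasPullback h l).map (Over.forget S)).isoPullback_inv_fst)).trans ht

end Groth.Agent.Lib.AlgSpDecent.FiniteNhd
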