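import Groth.Agent.Lib.AlgSpDecent.GenericFiniteSet
import Mathlib.AlgebraicGeometry.Noetherian

/-!
The maximal points of a locally Noetherian scheme lie in every dense open subset.
-/

universe u

open AlgebraicGeometry Topology

namespace Groth.Agent.Lib.AlgSpDecent.GenDense

theorem gen_mem_of_dense {X : Scheme.{u}} [IsLocallyNoetherian X] {U : Set X} (hU : IsOpen U)
    (hd : Dense U) {η : X} (hη : ∀ w, w ⤳ η → w = η) : η ∈ U := by
  obtain ⟨W, hW, hηW, -⟩ := exists_isAffineOpen_mem_and_subset (U := ⊤) (Set.mem_univ η)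
  have := IsLocallyNoetherian.component_noetherian ⟨W, hW⟩
  have : TopologicalSpace.NoetherianSpace W := noetherianSpace_of_isAffineOpen W hW
  have : QuasiSober (W : Type u) := W.2.isOpenEmbedding_subtypeVal.quasiSober
  let G := {g : (W : Type u) | g.1 ≠ η ∧ ∀ v : (W : Type u), v ⤳ g → v = g}
  have hG : G.Finite := by
    refine (TopologicalSpace.NoetherianSpace.finite_irreducibleComponents (α := (W : Type u))).of_injOn
      (f := fun g => closure {g}) ?_ ?_
    · intro g hg
      obtain ⟨T, hT, hgT⟩ := (SpecOrder.exists_component_iff g).2 hg.2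
      show closure {g} ∈ _
      rwa [hgT.def]
    · intro a _ b _ h
      have : IsGenericPoint a (closure {b}) := h
      exact this.eq (show IsGenericPoint b (closure {b}) from rfl)
  let C : Set X := ⋃ g ∈ G, closure {g.1}
  have hC : IsClosed C := hG.isClosed_biUnion fun g _ => isClosed_closure
  have hηC : η ∉ C := fun h => by
    obtain ⟨g, hg, hgη⟩ := Set.mem_iUnion₂.1 h
    exact hg.1 (hη _ (specializes_iff_mem_closure.2 hgη))
  obtain ⟨z, ⟨hzW, hzC⟩, hzU⟩ :=
    hd.inter_open_nonempty ((W : Set X) \ C) (W.2.sdiff hC) ⟨η, hηW, hηC⟩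
  obtain ⟨g, hgz, hgen⟩ := GenericFiniteSet.exists_isGen z
  have hgW : g ∈ W := hgz.mem_open W.2 hzW
  by_cases hgη : g = η
  · exact hgη ▸ hgz.mem_open hU hzU
  · exact absurd (Set.mem_iUnion₂.2 ⟨⟨g, hgW⟩, ⟨hgη, fun v hv => Subtype.ext (hgen _ (hv.map continuous_subtype_val))⟩,
      hgz.mem_closure⟩) hzC

end Groth.Agent.Lib.AlgSpDecent.GenDense
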