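import Groth.Agent.Lib.AlgSpDecent.CodimOne
import Groth.Agent.Lib.AlgSpDecent.GenDense
import Groth.Agent.Lib.AlgSpDecent.FiniteNhd
import Groth.Agent.H14.Chart.LocQ4
import Groth.Prelude.Def_Dual3

/-!
Quasi-finiteness over points of codimension at most one, for algebraic spaces.
-/

universe u

open CategoryTheory CategoryTheory.Limits AlgebraicGeometry Opposite Topology

namespace Groth.Agent.Lib.AlgSpDecent.CodimOneSp

open AlgSp Groth.Agent.Lib.AlgSpace Core FiniteNhd

variable {S : Scheme.{u}} {X Y : Sp S}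

/-- The charts of a locally Noetherian space are locally Noetherian. -/
theorem isLocallyNoetherian_chart (hY : IsLocNoethSp Y) {V : Over S} {b : (yon S).obj V ⟶ Y}
    (hb : RepWith @Etale b) : IsLocallyNoetherian V.left := by
  obtain ⟨U₀, c, hc, hcs, hU₀⟩ := hY
  have : IsLocallyNoetherian U₀.left := hU₀
  have : Etale (hb.rep.snd c).left := hb.property_snd c
  have : IsLocallyNoetherian (hb.rep.pullback c).left :=
    LocallyOfFiniteType.isLocallyNoetherian (hb.rep.snd c).left
  have : Etale (hb.rep.fst' c).left := repWith_property hc (hb.rep.isPullback' c).flip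
  have : Surjective (hb.rep.fst' c).left := repWith_property hcs (hb.rep.isPullback' c).flip
  exact Groth.Agent.H14.Chart.LocQ.isLocallyNoetherian_of_smooth_surjective (hb.rep.fst' c).left

/-- Points of codimension zero lie in every dense open subset. -/
theorem mem_of_dense (hX : IsAlgSpace X) (hY : IsAlgSpace Y) {f : X ⟶ Y}
    (hf : LocP @LocallyOfFiniteType f) (hN : IsLocNoethSp Y) {A : Set (Points X)} (hA : IsOpen A)
    (hd : Dense A) {x : Points X}
    (hx : HasAt (fun U u => ringKrullDim ↥(U.presheaf.stalk u) = 0) X x) : x ∈ A := by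
  obtain ⟨U, V, a, b, h, ha, has, hb, -, w⟩ := AlgSpMor.LocP.exists_chart hX hY f
  obtain ⟨u, rfl⟩ := Core.surjective_ofPt has x
  have : IsLocallyNoetherian V.left := isLocallyNoetherian_chart hN hb
  have : LocallyOfFiniteType h.left := hf a b h ha hb w
  have : IsLocallyNoetherian U.left := LocallyOfFiniteType.isLocallyNoetherian h.left
  exact GenDense.gen_mem_of_dense (hA.preimage (Points.continuous_ofPt a))
    (hd.preimage (Core.isOpenMap_ofPt ha)) ((AlgSpMor.Codim.hasAt_dim0_iff hX ha u).1 hx)

/-- A point of codimension zero with residue transcendence degree zero is quasi-finite. -/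
theorem qfAt_of_trdeg (hX : IsAlgSpace X) {f : X ⟶ Y} (hf : LocP @LocallyOfFiniteType f)
    {x : Points X} (hx : HasAt (fun U u => ringKrullDim ↥(U.presheaf.stalk u) = 0) X x)
    (htr : HasAtMor (fun _ _ h u => Dual3.resTrdeg h u = 0) f x) : HasAtMor QfAt f x := by
  obtain ⟨U, V, a, b, h, u, ha, hb, w, rfl, hd⟩ := htr
  have hgen := (AlgSpMor.Codim.hasAt_dim0_iff hX ha u).1 hx
  have : LocallyOfFiniteType h.left := hf a b h ha hb w
  refine ⟨U, V, a, b, h, u, ha, hb, w, rfl, h.left.quasiFiniteLocus, ?_, inferInstance, inferInstance⟩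
  refine (H46.QFin.quasiFiniteAt_iff h.left u).2 ⟨?_, fun z hz => ?_⟩
  · refine H46.QFin.isClosed_asFiber_of_isIntegral h.left u ?_
    let := (h.left.residueFieldMap u).hom.toAlgebra
    have : Algebra.IsAlgebraic (V.left.residueField (h.left u)) (U.left.residueField u) :=
      trdeg_eq_zero_iff.1 hd
    exact fun z => isAlgebraic_iff_isIntegral.1 (Algebra.IsAlgebraic.isAlgebraic z)
  · have h1 := hz.map (h.left.fiberι _).continuous
    rw [show (h.left.fiberι _) (h.left.asFiber u) = u by simp] at h1
    exact (h.left.fiberι _).isEmbedding.injective ((hgen _ h1).trans (by simp))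

/-- Quasi-finiteness over a point of codimension at most one. -/
theorem qfAt_of_gen (hX : IsAlgSpace X) (hY : IsAlgSpace Y) {f : X ⟶ Y}
    (hf : LocP @LocallyOfFiniteType f) (hN : IsLocNoethSp Y) {y : Points Y}
    (hy : HasAt (fun U u => ringKrullDim ↥(U.presheaf.stalk u) ≤ 1) Y y)
    (H : ∀ x', HasAt (fun U u => ringKrullDim ↥(U.presheaf.stalk u) = 0) X x' →
      Points.map f x' ⤳ y → HasAtMor QfAt f x')
    (x : Points X) (hx : Points.map f x = y) : HasAtMor QfAt f x := by
  obtain ⟨V, b, v, hb, hv, hdim⟩ := hy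
  let P := pullback f b
  have sq : IsPullback (pullback.fst f b) (pullback.snd f b) f b := IsPullback.of_hasPullback _ _
  have hP : IsAlgSpace P := isAlgSpace_of_isPullback sq hY.diag hX (IsAlgSpace.yon_obj V)
  obtain ⟨z, hz₁, hz₂⟩ := Core.exists_point_of_isPullback sq x (Points.ofPt (𝟙 ((yon S).obj V)) v)
    (by rw [← Core.ofPt_comp, Category.id_comp, hx, hv])
  obtain ⟨U, p, u, -, hp, hpu⟩ := DimIntegral.exists_affine_chart_pt hP z
  obtain ⟨h, hh⟩ := (yon S).map_surjective (p ≫ pullback.snd f b)
  let a := p ≫ pullback.fst f b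
  have : MorphismProperty.IsStableUnderComposition @Etale.{u} :=
    ⟨fun f g (_ : Etale f) (_ : Etale g) ↦ inferInstanceAs (Etale (f ≫ g))⟩
  have ha : RepWith @Etale a := repWith_comp hp (repWith_baseChange sq.flip hb)
  have hau : Points.ofPt a u = x := by rw [Core.ofPt_comp, hpu, hz₁]
  have w : a ≫ f = (yon S).map h ≫ b := by rw [hh, Category.assoc, Category.assoc, sq.w]
  have hhu : h.left u = v := by
    apply (Points.schemeEquiv V).injective
    simp only [Points.schemeEquiv]
    refine (Core.ofPt_yon_map h u).symm.trans ?_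
    rw [hh, Core.ofPt_comp, hpu, hz₂]
    exact (congrArg (fun φ => Points.ofPt φ v) ((yon S).map_id V).symm).trans (Core.ofPt_yon_map (𝟙 V) v)
  have : LocallyOfFiniteType h.left := hf a b h ha hb w
  have : IsLocallyNoetherian V.left := isLocallyNoetherian_chart hN hb
  refine ⟨U, V, a, b, h, u, ha, hb, w, hau, h.left.quasiFiniteLocus, ?_, inferInstance, inferInstance⟩
  refine CodimOne.quasiFiniteAt h.left (by rw [hhu]; exact hdim) (fun η hη hgen => ?_)
    GenericFiniteSet.exists_isGen
  obtain ⟨W, hηW, hW⟩ := GenericFiniteSp.exists_lqf_nhd hX hY ha hb w η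
    (H _ ((AlgSpMor.Codim.hasAt_dim0_iff hX ha η).2 hgen) (by
      rw [← hx, ← hau]
      exact (hη.map (Points.continuous_ofPt a)).map (Points.continuous_map f)))
  exact (Scheme.Hom.quasiFiniteAt_comp_iff_of_isOpenImmersion (f := W.ι) (x := ⟨η, hηW⟩)).1
    (Scheme.Hom.quasiFiniteAt _ _)

end Groth.Agent.Lib.AlgSpDecent.CodimOneSp
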