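import Groth.Agent.Lib.AlgSpDecent.Sober
import Groth.Agent.Lib.AlgSpDecent.SpecOrder
import Mathlib.AlgebraicGeometry.Properties

/-!
Dimension theory of decent spaces.
-/

universe u

open CategoryTheory CategoryTheory.Limits AlgebraicGeometry Opposite Topology TopologicalSpace

namespace Groth.Agent.Lib.AlgSpDecent.DimDecent

open AlgSp Core Fibre Specialize Decent SpecOrder

variable {S : Scheme.{u}} {F : Sp S} {U : Over S} {a : (yon S).obj U ⟶ F}

theorem cohtPt_ofPt (hA : IsAlgSpace F) (hF : IsDecent F) (ha : RepWith @Etale a) (u : ↥U.left) :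
    cohtPt (Points.ofPt a u) = cohtPt u := by
  have := t0Space_points hA hF
  exact cohtPt_map _ (Points.continuous_ofPt a)
    (fun y y' he hs => IsDecent.eq_of_specializes hF ha he hs)
    (fun _ _ h => IsDecent.exists_lift hF ha h) u

theorem ringKrullDim_stalk {X : Scheme.{u}} (x : X) :
    ringKrullDim (X.presheaf.stalk x) = (cohtPt x : WithBot ℕ∞) :=
  ringKrullDim_stalk_eq_coheight x

theorem ringKrullDim_stalk_chart (hA : IsAlgSpace F) (hF : IsDecent F) (ha : RepWith @Etale a)
    (u : ↥U.left) :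
    ringKrullDim (U.left.presheaf.stalk u) = (cohtPt (Points.ofPt a u) : WithBot ℕ∞) := by
  rw [ringKrullDim_stalk, cohtPt_ofPt hA hF ha]

theorem exists_component_iff_cohtPt (hA : IsAlgSpace F) (hF : IsDecent F) (x : Points F) :
    (∃ T ∈ irreducibleComponents (Points F), IsGenericPoint x T) ↔ cohtPt x = 0 := by
  have := t0Space_points hA hF
  have := Sober.quasiSober_points hA hF
  rw [exists_component_iff, cohtPt_eq_zero]

theorem dim_points_eq (hA : IsAlgSpace F) (hF : IsDecent F) :
    topologicalKrullDim (Points F) = AlgSp.dim F := by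
  have := t0Space_points hA hF
  have := Sober.quasiSober_points hA hF
  rw [topologicalKrullDim_eq_iSup]
  refine le_antisymm (iSup_le fun x => ?_) (iSup₂_le fun U a => iSup_le fun ha => ?_)
  · obtain ⟨U, a, ha, hs⟩ := hA.atlas
    obtain ⟨u, rfl⟩ := surjective_ofPt hs x
    rw [cohtPt_ofPt hA hF ha]
    refine le_trans ?_ (le_iSup₂_of_le U a (le_iSup_of_le ha le_rfl))
    rw [topologicalKrullDim_eq_iSup]
    exact le_iSup (fun v : ↥U.left => (cohtPt v : WithBot ℕ∞)) u
  · rw [topologicalKrullDim_eq_iSup]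
    refine iSup_le fun u => ?_
    rw [← cohtPt_ofPt hA hF ha]
    exact le_iSup (fun v : Points F => (cohtPt v : WithBot ℕ∞)) _

theorem localDim_eq (hA : IsAlgSpace F) (hF : IsDecent F) (ha : RepWith @Etale a) (u : ↥U.left) :
    FlatMor.localDim ↥U.left u = FlatMor.localDim (Points F) (Points.ofPt a u) := by
  have := t0Space_points hA hF
  have := Sober.quasiSober_points hA hF
  apply le_antisymm
  · refine le_iInf fun W => ?_
    refine iInf_le_of_le ⟨⟨Points.ofPt a ⁻¹' W.1,
      W.1.isOpen.preimage (Points.continuous_ofPt a)⟩, W.2⟩ ?_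
    simp only [Opens.coe_mk]
    rw [topologicalKrullDim_open (W.1.isOpen.preimage (Points.continuous_ofPt a)),
      topologicalKrullDim_open W.1.isOpen]
    refine iSup_le fun v => ?_
    rw [← cohtPt_ofPt hA hF ha]
    exact le_iSup (fun x : (W.1 : Set (Points F)) => (cohtPt x.1 : WithBot ℕ∞)) ⟨_, v.2⟩
  · refine le_iInf fun O => ?_
    refine iInf_le_of_le ⟨⟨Points.ofPt a '' O.1, isOpenMap_ofPt ha _ O.1.isOpen⟩,
      ⟨u, O.2, rfl⟩⟩ ?_
    simp only [Opens.coe_mk]
    rw [topologicalKrullDim_open (isOpenMap_ofPt ha _ O.1.isOpen), topologicalKrullDim_open O.1.isOpen]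
    refine iSup_le ?_
    rintro ⟨_, v, hv, rfl⟩
    rw [cohtPt_ofPt hA hF ha]
    exact le_iSup (fun x : (O.1 : Set ↥U.left) => (cohtPt x.1 : WithBot ℕ∞)) ⟨v, hv⟩

end Groth.Agent.Lib.AlgSpDecent.DimDecent
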