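import Groth.Agent.Lib.AlgSpDecent.RelDim
import Groth.Agent.Lib.AlgSpDecent.DimDecent
import Groth.Agent.Lib.AlgSpDecent.CodimOneSp
import Groth.Agent.H46.DimIneq
import Groth.Agent.H46.DimData

/-!
The dimension inequality on charts of algebraic spaces; the local ring dimension is etale local.
-/

universe u

open CategoryTheory CategoryTheory.Limits AlgebraicGeometry Opposite Topology

namespace Groth.Agent.Lib.AlgSpDecent.RelDimIneq

open Groth.Agent.Lib.Cyc

/-- Etale maps preserve the dimension of local rings. -/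
theorem ringKrullDim_stalk_map {A B : Scheme.{u}} (e : A ⟶ B) [Etale e] (a : A) :
    ringKrullDim (B.presheaf.stalk (e a)) = ringKrullDim (A.presheaf.stalk a) := by
  rw [DimDecent.ringKrullDim_stalk, DimDecent.ringKrullDim_stalk,
    SpecOrder.cohtPt_map (fun x => e x) e.continuous
      (fun y y' he hs => (Specialize.eq_of_specializes_of_etale e hs he.symm).symm)
      (fun y x' h => Specialize.exists_generization e h) a]

/-- `dim O_u + trdeg(u) ≤ dim O_{g u} + E` when `E` bounds `trdeg` at the maximal generisations. -/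
theorem stalk_add_trdeg_le {A B : Scheme.{u}} (g : A ⟶ B) [LocallyOfFiniteType g]
    [IsLocallyNoetherian B] (a : A) (E : Cardinal.{u})
    (hE : ∀ w, w ⤳ a → ringKrullDim (A.presheaf.stalk w) = 0 → Residue.trdegAt g w ≤ E) :
    ringKrullDim (A.presheaf.stalk a) +
        ((Cardinal.toENat (Residue.trdegAt g a) : ℕ∞) : WithBot ℕ∞) ≤
      ringKrullDim (B.presheaf.stalk (g a)) + ((Cardinal.toENat E : ℕ∞) : WithBot ℕ∞) := by
  have := LocallyOfFiniteType.isLocallyNoetherian g
  obtain ⟨w, hw, hmax, hq⟩ := H46.DimData.exists_qd_eq a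
  obtain ⟨m, n, t, t', hm, hn, ht, ht', hle, -⟩ := H46.DimIneq.trdeg_ineq_and_eq g w a hw
  have h1 : m = H46.DimData.sd a := by
    rw [H46.DimData.ringKrullDim_locQuot hw, hq] at hm
    exact_mod_cast hm.symm
  have h2 : n ≤ H46.DimData.sd (g a) := by
    have h := H46.DimData.qd_le_sd (hw.map g.continuous)
    rw [H46.DimData.ringKrullDim_locQuot (hw.map g.continuous)] at hn
    have : H46.DimData.qd (hw.map g.continuous) = n := by exact_mod_cast hn
    omega
  have h3 : (t' : ℕ∞) ≤ Cardinal.toENat E := by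
    have h := hE w hw ((AlgSpMor.Codim.dim0_iff w).2 fun y hy => hmax y hy)
    rw [ht'] at h
    simpa using Cardinal.toENat.monotone' h
  rw [H46.DimData.ringKrullDim_stalk, H46.DimData.ringKrullDim_stalk, ht, map_natCast]
  refine le_trans ?_ (add_le_add le_rfl (WithBot.coe_le_coe.2 h3))
  exact_mod_cast (show H46.DimData.sd a + t ≤ H46.DimData.sd (g a) + t' by omega)

open AlgSp Groth.Agent.Lib.AlgSpace Core

variable {S : Scheme.{u}} {X : Sp S}

/-- The dimension of the local ring at a point can be read off any etale chart. -/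
theorem hasAt_stalkDim_iff (hX : IsAlgSpace X) (P : WithBot ℕ∞ → Prop) {U : Over S}
    {a : (yon S).obj U ⟶ X} (ha : RepWith @Etale a) (u : ↥U.left) :
    HasAt (fun U u => P (ringKrullDim ↥(U.presheaf.stalk u))) X (Points.ofPt a u) ↔
      P (ringKrullDim ↥(U.left.presheaf.stalk u)) := by
  refine ⟨?_, fun h => ⟨U, a, u, ha, rfl, h⟩⟩
  rintro ⟨U', a', u', ha', hu, h⟩
  obtain ⟨U'', p, q, sq⟩ := exists_isPullback_yon hX.diag a a'
  have : Etale p.left := repWith_property ha' sq.flip
  have : Etale q.left := repWith_property ha sq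
  obtain ⟨z, rfl, rfl⟩ := (ofPt_eq_ofPt_iff_of_isPullback sq u u').1 hu.symm
  rw [ringKrullDim_stalk_map q.left z] at h
  rwa [ringKrullDim_stalk_map p.left z]

end Groth.Agent.Lib.AlgSpDecent.RelDimIneq
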