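import Groth.Agent.Lib.AlgSpDecent.FieldCover
import Groth.Agent.Lib.AlgSpDecent.RelDimIneq
import Groth.Agent.Lib.AlgSpDecent.CodimOneSp
import Groth.Agent.H14.Chart.LocQ4
import Groth.Agent.Lib.AlgSpFpqc.DescendSp
import Mathlib.AlgebraicGeometry.Morphisms.UniversallyOpen

/-!
Reduced locally Noetherian spaces with a single point.
-/

universe u

open CategoryTheory CategoryTheory.Limits AlgebraicGeometry Opposite Topology

namespace Groth.Agent.Lib.AlgSpDecent.OnePoint

/-- Local Noetherianness descends along flat surjective morphisms which are open. -/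
theorem isLocallyNoetherian_of_flat_surjective {X X' : Scheme.{u}} (e : X' ⟶ X) [Flat e] [LocallyOfFinitePresentation e]
    [Surjective e] [IsLocallyNoetherian X'] : IsLocallyNoetherian X := by
  have key : ∀ x : X, ∃ D : X.affineOpens, x ∈ D.1 ∧ IsNoetherianRing Γ(X, D.1) := fun x => by
    obtain ⟨x', rfl⟩ := e.surjective x
    obtain ⟨V, hV, hxV, -⟩ := exists_isAffineOpen_mem_and_subset (X := X) (x := e x') (U := ⊤)
      (Set.mem_univ _)
    obtain ⟨W, hW, hxW, hWV⟩ := exists_isAffineOpen_mem_and_subset (X := X') (x := x')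
      (U := e ⁻¹ᵁ V) hxV
    obtain ⟨b, hb, hxb⟩ := hV.exists_basicOpen_le
      (V := ⟨_, e.isOpenMap _ W.2⟩) ⟨e x', x', hxW, rfl⟩ hxV
    let b' := e.appLE V W hWV b
    have hb' : X'.basicOpen b' = W ⊓ e ⁻¹ᵁ X.basicOpen b := by
      simp [b', Scheme.Hom.appLE, Scheme.preimage_basicOpen]
    have heb : X'.basicOpen b' ≤ e ⁻¹ᵁ X.basicOpen b := by rw [hb']; exact inf_le_right
    have hDaff : IsAffineOpen (X.basicOpen b) := hV.basicOpen b
    have hWaff : IsAffineOpen (X'.basicOpen b') := hW.basicOpen b'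
    have : IsAffine (X.basicOpen b : Scheme.{u}) := hDaff
    have : IsAffine (X'.basicOpen b' : Scheme.{u}) := hWaff
    let t := e.resLE (X.basicOpen b) (X'.basicOpen b') heb
    have hts : Surjective t := ⟨fun d ↦ by
      obtain ⟨w, hw, hwd⟩ : d.1 ∈ e '' (W : Set X') := hb d.2
      have hwb : w ∈ X'.basicOpen b' := by
        rw [hb']; exact ⟨hw, show e w ∈ X.basicOpen b from hwd ▸ d.2⟩
      exact ⟨⟨w, hwb⟩, Subtype.ext ((show (t ≫ (X.basicOpen b).ι) ⟨w, hwb⟩ = e w by
        rw [Scheme.Hom.resLE_comp_ι]; rfl).trans hwd)⟩⟩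
    have hff : t.appTop.hom.FaithfullyFlat :=
      (Flat.flat_and_surjective_iff_faithfullyFlat_of_isAffine (f := t)).mp ⟨inferInstance, hts⟩
    have hN : IsNoetherianRing Γ((X'.basicOpen b' : Scheme.{u}), ⊤) :=
      IsLocallyNoetherian.component_noetherian ⟨⊤, isAffineOpen_top _⟩
    algebraize [t.appTop.hom]
    have := Groth.Agent.Lib.Henselian.NoetherianCriterion.isNoetherianRing_of_faithfullyFlat
      (S := Γ((X'.basicOpen b' : Scheme.{u}), ⊤)) Γ((X.basicOpen b : Scheme.{u}), ⊤)
    exact ⟨⟨X.basicOpen b, hDaff⟩, hxb, isNoetherianRing_of_ringEquiv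
      Γ((X.basicOpen b : Scheme.{u}), ⊤) (X.basicOpen b).topIso.commRingCatIsoToRingEquiv⟩
  choose D hD hN using key
  exact isLocallyNoetherian_of_affine_cover
    (eq_top_iff.2 fun x _ => TopologicalSpace.Opens.mem_iSup.2 ⟨x, hD x⟩) hN

open AlgSp Groth.Agent.Lib.AlgSpace Core

variable {S : Scheme.{u}} {Z : Sp S}

/-- All local rings of charts of a reduced locally Noetherian one-point space are fields. -/
theorem isField_stalk_chart (hZ : IsAlgSpace Z) (hr : EtaleLocally (fun U => IsReduced U) Z)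
    (hN : IsLocNoethSp Z) [Subsingleton (Points Z)] {U : Over S} {a : (yon S).obj U ⟶ Z}
    (ha : RepWith @Etale a) (u : ↥U.left) : IsField (U.left.presheaf.stalk u) := by
  obtain ⟨U₀, a₀, ha₀, has₀, hred⟩ := hr
  obtain ⟨P, p, q, sq⟩ := exists_isPullback_yon hZ.diag a a₀
  have : Etale p.left := repWith_property ha₀ sq.flip
  have : Etale q.left := repWith_property ha sq
  have : IsReduced U₀.left := hred
  have : IsReduced P.left := AlgSpFpqc.DescendSp.isReduced_of_smooth q.left
  have : IsLocallyNoetherian P.left := by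
    have := CodimOneSp.isLocallyNoetherian_chart hN ha
    exact LocallyOfFiniteType.isLocallyNoetherian p.left
  obtain ⟨u₀, -⟩ := Core.surjective_ofPt has₀ (Points.ofPt a u)
  obtain ⟨z, rfl, -⟩ := (ofPt_eq_ofPt_iff_of_isPullback sq u u₀).1 (Subsingleton.elim _ _)
  have hap : RepWith @Etale ((yon S).map p ≫ a) := AlgSpMor.LocP.repWith_etale_comp p ha
  have hmax : ∀ w : ↥P.left, Cyc.DimFun.IsMaxPt w := by
    intro w
    obtain ⟨m, -, hm⟩ := Cyc.DimFun.exists_isMaxPt_specializes w
    have h0 : ringKrullDim (P.left.presheaf.stalk m) = 0 := (AlgSpMor.Codim.dim0_iff m).2 hm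
    have h1 := (RelDimIneq.hasAt_stalkDim_iff hZ (· = 0) hap w).1
      ((Subsingleton.elim (Points.ofPt ((yon S).map p ≫ a) m) (Points.ofPt ((yon S).map p ≫ a) w)) ▸
        ⟨P, _, m, hap, rfl, h0⟩)
    exact (AlgSpMor.Codim.dim0_iff w).1 h1
  exact FieldCover.isField_of_flat_local (p.left.stalkMap z).hom (Flat.stalkMap p.left z)
    (NormAmple.GenStalk.isField_stalk (hmax z))

/-- Spaces with a flat surjective finitely presented morphism from a field are locally Noetherian. -/
theorem isLocNoethSp_of_cover (hZ : IsAlgSpace Z) {k : Type u} [Field k]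
    {str : Spec (CommRingCat.of k) ⟶ S} {p : (yon S).obj (Over.mk str) ⟶ Z}
    (hpl : LocP @LocallyOfFinitePresentation p) (hpf : LocP @Flat p) (hps : IsSurjectiveMor p) :
    IsLocNoethSp Z := by
  obtain ⟨U, a, ha, has⟩ := hZ.atlas
  obtain ⟨E, q, π, sq⟩ := exists_isPullback_yon hZ.diag a p
  have : Etale π.left := repWith_property ha sq
  have hπa : RepWith @Etale ((yon S).map π) := (AlgSp.repWith_yon_map_iff _ _).2 ‹_›
  have : Flat q.left := hpf ((yon S).map π) a q hπa ha sq.w.symm
  have : LocallyOfFinitePresentation q.left := hpl ((yon S).map π) a q hπa ha sq.w.symm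
  have : IsLocallyNoetherian (Over.mk str).left :=
    inferInstanceAs (IsLocallyNoetherian (Spec (CommRingCat.of k)))
  have : IsLocallyNoetherian E.left := LocallyOfFiniteType.isLocallyNoetherian π.left
  have : Surjective q.left := ⟨fun u => by
    obtain ⟨c, hc⟩ := hps (Points.ofPt a u)
    obtain ⟨c₀, rfl⟩ := (Points.schemeEquiv (Over.mk str)).surjective c
    simp only [Points.schemeEquiv] at hc
    have e₀ : Points.ofScheme (Over.mk str) c₀ = Points.ofPt (𝟙 ((yon S).obj (Over.mk str))) c₀ :=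
      ((congrArg (fun φ => Points.ofPt φ c₀) ((yon S).map_id (Over.mk str)).symm).trans
        (Core.ofPt_yon_map (𝟙 (Over.mk str)) c₀)).symm
    have hcc : Points.ofPt p c₀ = Points.ofPt a u := by
      rw [← Category.id_comp p, Core.ofPt_comp, ← e₀]
      exact hc
    obtain ⟨e, he, -⟩ := (ofPt_eq_ofPt_iff_of_isPullback sq u c₀).1 hcc.symm
    exact ⟨e, he⟩⟩
  exact ⟨U, a, ha, has, isLocallyNoetherian_of_flat_surjective q.left⟩

end Groth.Agent.Lib.AlgSpDecent.OnePoint
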