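import Groth.Agent.Lib.AlgSpDecent.SelfFibre
import Mathlib.AlgebraicGeometry.Morphisms.Finite
import Mathlib.AlgebraicGeometry.Restrict

/-!
Self fibre products of restrictions of charts to open subschemes.
-/

universe u

open CategoryTheory CategoryTheory.Limits AlgebraicGeometry Opposite

namespace Groth.Agent.Lib.AlgSpDecent.Restrict

open AlgSp Core Fibre Specialize

theorem isFinite_restrict_mono {X Y : Scheme.{u}} (f : X ⟶ Y) {D O : Y.Opens} (h : D ≤ O)
    [IsFinite (f ∣_ O)] : IsFinite (f ∣_ D) := by
  have h' : IsFinite ((f ∣_ O) ∣_ (O.ι ⁻¹ᵁ D)) := inferInstance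
  rw [MorphismProperty.arrow_mk_iso_iff @IsFinite (morphismRestrictRestrict f O (O.ι ⁻¹ᵁ D))] at h'
  have e : O.ι ''ᵁ O.ι ⁻¹ᵁ D = D := by
    rw [Scheme.Hom.image_preimage_eq_opensRange_inf, Scheme.Opens.opensRange_ι, inf_eq_right.2 h]
  rwa [e] at h'

theorem isFinite_restrict_of_cover {X Y : Scheme.{u}} (f : X ⟶ Y) {ι : Type u} (D : ι → Y.Opens)
    (hD : ∀ i, IsFinite (f ∣_ D i)) {O : Y.Opens} (hO : O ≤ ⨆ i, D i) : IsFinite (f ∣_ O) := by
  refine IsZariskiLocalAtTarget.of_iSup_eq_top (P := @IsFinite) (fun i => O.ι ⁻¹ᵁ D i) ?_ fun i => ?_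
  · rw [eq_top_iff]
    rintro x -
    obtain ⟨i, hi⟩ := TopologicalSpace.Opens.mem_iSup.1 (hO x.2)
    exact TopologicalSpace.Opens.mem_iSup.2 ⟨i, hi⟩
  · rw [MorphismProperty.arrow_mk_iso_iff @IsFinite (morphismRestrictRestrict f O (O.ι ⁻¹ᵁ D i))]
    have := hD i
    exact isFinite_restrict_mono f (O := D i) (by
      rw [Scheme.Hom.image_preimage_eq_opensRange_inf]; exact inf_le_right)

variable {S : Scheme.{u}} {F : Sp S} {U V : Over S} {a : (yon S).obj U ⟶ F}

/-- The self fibre product of a chart restricted along `j`. -/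
theorem isPullback_restrict (hr : Representable a) (j : V ⟶ U) :
    IsPullback
      ((yon S).map (pullback.snd (pullback.fst (hr.snd a) j ≫ hr.fst' a) j))
      ((yon S).map (pullback.fst (pullback.fst (hr.snd a) j ≫ hr.fst' a) j ≫
        pullback.snd (hr.snd a) j))
      ((yon S).map j ≫ a) ((yon S).map j ≫ a) := by
  let t := hr.snd a
  let s := hr.fst' a
  have sqA : IsPullback ((yon S).map (pullback.fst t j ≫ s)) ((yon S).map (pullback.snd t j))
      a ((yon S).map j ≫ a) := by
    have := (isPullback_yon_pullback t j).paste_horiz (hr.isPullback' a)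
    rw [← Functor.map_comp] at this
    exact this
  rw [Functor.map_comp]
  exact ((isPullback_yon_pullback (pullback.fst t j ≫ s) j).flip).paste_vert sqA

theorem snd_property {P : MorphismProperty Scheme.{u}} [P.RespectsIso] (hr : Representable a)
    (j : V ⟶ U) (hr' : Representable ((yon S).map j ≫ a))
    (h : P ((pullback.fst (pullback.fst (hr.snd a) j ≫ hr.fst' a) j).left ≫
      (pullback.snd (hr.snd a) j).left)) :
    P (hr'.snd ((yon S).map j ≫ a)).left := by
  let e := (yon S).preimageIso
    ((hr'.isPullback' ((yon S).map j ≫ a)).isoIsPullback _ _ (isPullback_restrict hr j))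
  have he : e.hom ≫ (pullback.fst (pullback.fst (hr.snd a) j ≫ hr.fst' a) j ≫
      pullback.snd (hr.snd a) j) = hr'.snd ((yon S).map j ≫ a) := by
    apply (yon S).map_injective
    simp [e]
  rw [← he, Over.comp_left, Over.comp_left]
  have : IsIso e.hom.left := inferInstanceAs (IsIso ((Over.forget S).map e.hom))
  exact (MorphismProperty.cancel_left_of_respectsIso P e.hom.left _).2 h

/-- The range of the first projection of a base change. -/
theorem range_fst_over {A B C : Over S} (f : A ⟶ C) (g : B ⟶ C) :
    Set.range (pullback.fst f g).left = f.left ⁻¹' Set.range g.left := by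
  ext x
  constructor
  · rintro ⟨z, rfl⟩
    exact ⟨(pullback.snd f g).left z,
      (congrArg (fun m => m.left z) (pullback.condition (f := f) (g := g))).symm⟩
  · rintro ⟨y, hy⟩
    obtain ⟨z, hz, -⟩ := exists_point_of_scheme_isPullback (isPullback_yon_pullback f g) x y
      (by rw [ofPt_yon_map, ofPt_yon_map]; exact congrArg _ hy.symm)
    exact ⟨z, hz⟩

theorem isOpenImmersion_fst_over {A B C : Over S} (f : A ⟶ C) (g : B ⟶ C)
    [IsOpenImmersion g.left] : IsOpenImmersion (pullback.fst f g).left :=
  MorphismProperty.of_isPullback (P := @IsOpenImmersion)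
    ((IsPullback.of_hasPullback f g).map (Over.forget S)).flip ‹_›

theorem range_openIncl (D : U.left.Opens) : Set.range (openIncl D).left = D :=
  Scheme.Opens.range_ι D

/-- Finiteness of the self fibre product over a saturated open. -/
theorem isFinite_snd_restrict (hr : Representable a) (D : U.left.Opens)
    [IsFinite ((hr.snd a).left ∣_ D)]
    (hsat : ∀ r, (hr.snd a).left r ∈ D → (hr.fst' a).left r ∈ D)
    (hr' : Representable ((yon S).map (openIncl D) ≫ a)) :
    IsFinite (hr'.snd ((yon S).map (openIncl D) ≫ a)).left := by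
  let j := openIncl D
  have : IsOpenImmersion j.left := inferInstanceAs (IsOpenImmersion D.ι)
  refine snd_property (P := @IsFinite) hr j hr' ?_
  have h1 : IsFinite (pullback.snd (hr.snd a) j).left := by
    let e : (pullback (hr.snd a) j).left ≅ ((hr.snd a).left ⁻¹ᵁ D).toScheme :=
      ((IsPullback.of_hasPullback (hr.snd a) j).map (Over.forget S)).flip.isoIsPullback _ _
        (isPullback_morphismRestrict (hr.snd a).left D)
    have he : e.hom ≫ ((hr.snd a).left ∣_ D) = (pullback.snd (hr.snd a) j).left :=
      IsPullback.isoIsPullback_hom_fst _ _ _ _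
    rw [← he]
    exact (MorphismProperty.cancel_left_of_respectsIso @IsFinite e.hom _).2 ‹_›
  have : IsOpenImmersion (pullback.fst (pullback.fst (hr.snd a) j ≫ hr.fst' a) j).left :=
    isOpenImmersion_fst_over _ _
  have h2 : IsIso (pullback.fst (pullback.fst (hr.snd a) j ≫ hr.fst' a) j).left := by
    rw [isIso_iff_isOpenImmersion_and_surjective]
    refine ⟨this, ⟨fun z => ?_⟩⟩
    have hz : z ∈ Set.range (pullback.fst (pullback.fst (hr.snd a) j ≫ hr.fst' a) j).left := by
      rw [range_fst_over, range_openIncl]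
      refine hsat _ ?_
      have hm : (pullback.fst (hr.snd a) j).left z ∈ (hr.snd a).left ⁻¹' Set.range j.left := by
        rw [← range_fst_over]; exact Set.mem_range_self _
      rw [range_openIncl] at hm
      exact hm
    exact hz
  exact (MorphismProperty.cancel_left_of_respectsIso @IsFinite _ _).2 h1

/-- Quasi-compactness of the self fibre product over an affine open. -/
theorem quasiCompact_snd_restrict (hr : Representable a) [IsAffine U.left] (D : U.left.Opens)
    (hD : IsAffineOpen D) {R' : Set ↥(hr.pullback a).left} (hR'o : IsOpen R') (hR'c : IsCompact R')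
    (hsub : (hr.snd a).left ⁻¹' D ⊆ R') (hr' : Representable ((yon S).map (openIncl D) ≫ a)) :
    QuasiCompact (hr'.snd ((yon S).map (openIncl D) ≫ a)).left := by
  let j := openIncl D
  have : IsAffine (Over.mk (D.ι ≫ U.hom)).left := hD
  have : IsOpenImmersion j.left := inferInstanceAs (IsOpenImmersion D.ι)
  refine snd_property (P := @QuasiCompact) hr j hr' ?_
  let R := hr.pullback a
  let s := (hr.fst' a).left
  let t := (hr.snd a).left
  have : IsSeparated t := SelfFibre.isSeparated_snd hr
  have hsep : R.left.IsSeparated := ⟨by rw [← terminal.comp_from t]; infer_instance⟩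
  let W' : R.left.Opens := ⟨R', hR'o⟩
  have : CompactSpace ↥(W' : Scheme.{u}) := isCompact_iff_compactSpace.mp hR'c
  have c1 : ∀ g : R.left ⟶ U.left, IsCompact (R' ∩ g ⁻¹' D) := by
    intro g
    have : QuasiCompact (W'.ι ≫ g) := inferInstance
    have := ((W'.ι ≫ g).isCompact_preimage (U := D) hD.isCompact).image W'.ι.continuous
    have e : W'.ι '' ((W'.ι ≫ g) ⁻¹' D) = R' ∩ g ⁻¹' D := by
      rw [Scheme.Hom.comp_base, TopCat.coe_comp, Set.preimage_comp,
        Set.image_preimage_eq_range_inter, Scheme.Opens.range_ι]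
      rfl
    exact e ▸ this
  have hcl : IsCompact (t ⁻¹' D ∩ s ⁻¹' D) := by
    have := (c1 t).inter_of_isOpen (c1 s) (hR'o.inter (D.isOpen.preimage t.continuous))
      (hR'o.inter (D.isOpen.preimage s.continuous))
    rwa [Set.inter_inter_inter_comm, Set.inter_self, ← Set.inter_assoc,
      Set.inter_eq_right.2 hsub] at this
  let P := pullback (pullback.fst (hr.snd a) j ≫ hr.fst' a) j
  have i1 : IsOpenImmersion (pullback.fst (hr.snd a) j).left := isOpenImmersion_fst_over _ _
  have i2 : IsOpenImmersion (pullback.fst (pullback.fst (hr.snd a) j ≫ hr.fst' a) j).left :=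
    isOpenImmersion_fst_over _ _
  let φ : P.left ⟶ R.left := (pullback.fst (pullback.fst (hr.snd a) j ≫ hr.fst' a) j).left ≫
    (pullback.fst (hr.snd a) j).left
  have hφ : Set.range φ = t ⁻¹' D ∩ s ⁻¹' D := by
    simp only [φ, Scheme.Hom.comp_base, TopCat.coe_comp, Set.range_comp]
    rw [range_fst_over, range_openIncl, Over.comp_left, Scheme.Hom.comp_base, TopCat.coe_comp,
      Set.preimage_comp, Set.image_preimage_eq_range_inter, range_fst_over, range_openIncl]
  have : CompactSpace ↥P.left := ⟨by
    rw [φ.isOpenEmbedding.isEmbedding.isCompact_iff, Set.image_univ, hφ]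
    exact hcl⟩
  infer_instance

end Groth.Agent.Lib.AlgSpDecent.Restrict
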