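import Groth.Agent.Lib.AlgSpDecent.Decent
import Mathlib.AlgebraicGeometry.Morphisms.Finite

/-!
Closed points of decent Jacobson spaces.
-/

universe u

open CategoryTheory CategoryTheory.Limits AlgebraicGeometry Opposite Topology

namespace Groth.Agent.Lib.AlgSpDecent.Jacobson

open AlgSp Core Fibre Specialize Decent

variable {S : Scheme.{u}} {F : Sp S}

/-- Over a closed point of a chart to a Jacobson chart there are only closed points. -/
theorem isClosed_of_same_image {U V : Over S} {a : (yon S).obj U ⟶ F} {b : (yon S).obj V ⟶ F}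
    (ha : RepWith @Etale a) (hb : RepWith @Etale b) [JacobsonSpace ↥V.left] {u : ↥U.left}
    (hu : IsClosed ({u} : Set ↥U.left)) {v : ↥V.left}
    (he : Points.ofPt a u = Points.ofPt b v) : IsClosed ({v} : Set ↥V.left) := by
  let R := ha.rep.pullback b
  let s := (ha.rep.fst' b).left
  let t := (ha.rep.snd b).left
  have ht : Etale t := ha.property_snd b
  have hs : Etale s := hb.property a _ _ (ha.rep.isPullback' b).flip
  obtain ⟨r, hr₁, hr₂⟩ := exists_point_of_scheme_isPullback (ha.rep.isPullback' b) u v he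
  have hr : IsClosed ({r} : Set ↥R.left) := by
    rw [← closure_subset_iff_isClosed]
    intro r' hr'
    have h : r ⤳ r' := specializes_iff_mem_closure.2 hr'
    have h' : s r ⤳ s r' := h.map s.continuous
    have h1 : s r = u := hr₁
    rw [h1] at h'
    have : s r' = u := h'.mem_closed hu rfl
    exact (eq_of_specializes_of_etale s h (h1.trans this.symm)).symm
  have := Scheme.Hom.closePoints_subset_preimage_closedPoints t hr
  change IsClosed ({t r} : Set ↥V.left) at this
  have h2 : t r = v := hr₂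
  rwa [h2] at this

/-- In a decent space with Jacobson charts, images of closed points of charts are closed. -/
theorem isClosed_ofPt (hF : IsDecent F) (hJ : EtaleLocally (fun U => JacobsonSpace ↥U) F)
    {U : Over S} {a : (yon S).obj U ⟶ F} (ha : RepWith @Etale a) {u : ↥U.left}
    (hu : IsClosed ({u} : Set ↥U.left)) : IsClosed ({Points.ofPt a u} : Set (Points F)) := by
  obtain ⟨V, b, hb, hbs, hV⟩ := hJ
  rw [← closure_subset_iff_isClosed]
  intro y hy
  obtain ⟨v', rfl⟩ := surjective_ofPt hbs y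
  obtain ⟨v, hv, he⟩ := IsDecent.exists_lift hF hb (specializes_iff_mem_closure.2 hy)
  have hcl := isClosed_of_same_image ha hb hu he.symm
  have : v' = v := hv.mem_closed hcl rfl
  subst this
  exact he

theorem hasAt_closed_iff (hF : IsDecent F) (hJ : EtaleLocally (fun U => JacobsonSpace ↥U) F)
    (x : Points F) :
    HasAt (fun U u => IsClosed ({u} : Set ↥U)) F x ↔ IsClosed ({x} : Set (Points F)) := by
  constructor
  · rintro ⟨U, a, u, ha, rfl, hu⟩
    exact isClosed_ofPt hF hJ ha hu
  · intro hx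
    obtain ⟨V, b, hb, hbs, hV⟩ := hJ
    obtain ⟨v, hv⟩ := surjective_ofPt hbs x
    obtain ⟨c, hc, hcc⟩ := nonempty_inter_closedPoints
      (show (Points.ofPt b ⁻¹' {x}).Nonempty from ⟨v, hv⟩)
      (hx.preimage (Points.continuous_ofPt b)).isLocallyClosed
    exact ⟨V, b, c, hb, hc, hcc⟩

theorem jacobsonSpace_points (hF : IsDecent F)
    (hJ : EtaleLocally (fun U => JacobsonSpace ↥U) F) : JacobsonSpace (Points F) := by
  rw [jacobsonSpace_iff_locallyClosed]
  intro Z hne hZ
  obtain ⟨V, b, hb, hbs, hV⟩ := id hJ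
  obtain ⟨x, hx⟩ := hne
  obtain ⟨v, rfl⟩ := surjective_ofPt hbs x
  obtain ⟨c, hc, hcc⟩ := nonempty_inter_closedPoints
    (show (Points.ofPt b ⁻¹' Z).Nonempty from ⟨v, hx⟩) (hZ.preimage (Points.continuous_ofPt b))
  exact ⟨Points.ofPt b c, hc, isClosed_ofPt hF hJ hb hcc⟩

/-- The image of a locally closed point of a chart is a locally closed point. -/
theorem isLocallyClosed_image (hF : IsDecent F) {U : Over S} {a : (yon S).obj U ⟶ F}
    (ha : RepWith @Etale a) {u : ↥U.left} (hu : IsLocallyClosed ({u} : Set ↥U.left)) :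
    IsLocallyClosed ({Points.ofPt a u} : Set (Points F)) := by
  obtain ⟨O, Z, hO, hZ, he⟩ := hu
  have huO : u ∈ O ∩ Z := he ▸ rfl
  obtain ⟨_, ⟨W, hW, rfl⟩, huW, hWO⟩ :=
    U.left.isBasis_affineOpens.exists_subset_of_mem_open huO.1 hO
  change U.left.Opens at W
  let Fu := {v : ↥U.left | v ∈ W ∧ Points.ofPt a v = Points.ofPt a u ∧ v ≠ u}
  have hfin : Fu.Finite := by
    have := (IsDecent.finite_fibres hF (Points.ofPt a u) (Over.mk (W.ι ≫ U.hom)) _ hW
      (repWith_etale_openIncl_comp W ha)).image (fun w : W => w.1)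
    refine this.subset ?_
    rintro v ⟨hv, hvx, -⟩
    exact ⟨⟨v, hv⟩, (ofPt_openIncl_comp W a ⟨v, hv⟩).trans hvx, rfl⟩
  have hu' : u ∉ closure Fu := by
    rw [← Set.biUnion_of_singleton Fu, hfin.closure_biUnion]
    intro hc
    obtain ⟨z, hz, hzu⟩ := Set.mem_iUnion₂.1 hc
    exact hz.2.2 (IsDecent.eq_of_specializes hF ha hz.2.1.symm
      (specializes_iff_mem_closure.2 hzu)).symm
  let O' := (W : Set ↥U.left) ∩ (closure Fu)ᶜ
  have hO' : IsOpen O' := W.isOpen.inter isClosed_closure.isOpen_compl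
  refine ⟨Points.ofPt a '' O', closure {Points.ofPt a u}, isOpenMap_ofPt ha _ hO',
    isClosed_closure, ?_⟩
  refine subset_antisymm (Set.singleton_subset_iff.2 ⟨⟨u, ⟨huW, hu'⟩, rfl⟩, subset_closure rfl⟩) ?_
  rintro _ ⟨⟨w, ⟨hwW, hwF⟩, rfl⟩, hcl⟩
  obtain ⟨w', hw', he'⟩ := IsDecent.exists_lift hF ha (specializes_iff_mem_closure.2 hcl)
  have h1 : w' ∈ W := hw'.mem_open W.isOpen hwW
  have h2 : w' = u := by
    by_contra hc
    exact hwF (closure_mono (Set.singleton_subset_iff.2 (show w' ∈ Fu from ⟨h1, he', hc⟩))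
      (specializes_iff_mem_closure.1 hw'))
  subst h2
  have : w ∈ O ∩ Z := ⟨hWO hwW, hw'.mem_closed hZ huO.2⟩
  rw [← he] at this
  rw [show w = w' from this]
  rfl

theorem jacobsonSpace_chart (hF : IsDecent F) [JacobsonSpace (Points F)] {U : Over S}
    {a : (yon S).obj U ⟶ F} (ha : RepWith @Etale a) : JacobsonSpace ↥U.left := by
  rw [jacobsonSpace_iff_locallyClosed]
  rintro C ⟨c, hc⟩ ⟨O, Z, hO, hZ, rfl⟩
  obtain ⟨_, ⟨W, hW, rfl⟩, hcW, hWO⟩ :=
    U.left.isBasis_affineOpens.exists_subset_of_mem_open hc.1 hO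
  change U.left.Opens at W
  have hK : IsCompact ((W : Set ↥U.left) ∩ Z) := hW.isCompact.inter_right hZ
  let Ws : Set ↥U.left := W
  have hKc : IsClosed ((Subtype.val : Ws → ↥U.left) ⁻¹' Z) := hZ.preimage continuous_subtype_val
  have : CompactSpace Ws := isCompact_iff_compactSpace.mp hW.isCompact
  obtain ⟨w, hwZ, hwc⟩ := hKc.exists_closed_singleton
    (show ((Subtype.val : Ws → ↥U.left) ⁻¹' Z).Nonempty from ⟨⟨c, hcW⟩, hc.2⟩)
  have hlc : IsLocallyClosed ({w.1} : Set ↥U.left) := by
    have := hwc.isLocallyClosed.image (f := (Subtype.val : Ws → ↥U.left)) Topology.IsInducing.subtypeVal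
      (by rw [Subtype.range_coe]; exact W.isOpen.isLocallyClosed)
    simpa using this
  have hx := isClosed_singleton_of_isLocallyClosed_singleton (isLocallyClosed_image hF ha hlc)
  refine ⟨w.1, ⟨hWO w.2, hwZ⟩, ?_⟩
  show IsClosed ({w.1} : Set ↥U.left)
  rw [← closure_subset_iff_isClosed]
  intro y hy
  have hs : w.1 ⤳ y := specializes_iff_mem_closure.2 hy
  have : Points.ofPt a y = Points.ofPt a w.1 :=
    (hs.map (Points.continuous_ofPt a)).mem_closed hx rfl
  exact IsDecent.eq_of_specializes hF ha this hs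

end Groth.Agent.Lib.AlgSpDecent.Jacobson
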