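import Groth.Agent.Lib.AlgSpDecent.Specialize
import Groth.Agent.Lib.AlgSpace.Diag
import Groth.Prelude.Def_AlgSp3

/-!
Criteria for decency.
-/

universe u

open CategoryTheory CategoryTheory.Limits AlgebraicGeometry Opposite Topology

namespace Groth.Agent.Lib.AlgSpDecent.Decent

open AlgSp Core Fibre Specialize

variable {S : Scheme.{u}} {F G H : Sp S}

/-- The morphism `Spec κ(t) ⟶ T` is a quasi-compact monomorphism. -/
theorem repWith_qc_fromSpecResidueField {T : Over S} (t : ↥T.left) :
    RepWith (S := S) @QuasiCompact ((yon S).map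
      (Over.homMk (T.left.fromSpecResidueField t) rfl :
        Over.mk (T.left.fromSpecResidueField t ≫ T.hom) ⟶ T)) := by
  refine (repWith_yon_map_iff @QuasiCompact _).2 ?_
  refine ⟨fun U _ _ => ?_⟩
  have : Subsingleton ↥(Over.mk (T.left.fromSpecResidueField t ≫ T.hom)).left :=
    inferInstanceAs (Subsingleton (PrimeSpectrum (T.left.residueField t)))
  exact (Set.toFinite _).isCompact

theorem mono_fromSpecResidueField {T : Over S} (t : ↥T.left) :
    Mono ((yon S).map (Over.homMk (T.left.fromSpecResidueField t) rfl :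
        Over.mk (T.left.fromSpecResidueField t ≫ T.hom) ⟶ T)) := by
  have : Mono (Over.homMk (T.left.fromSpecResidueField t) rfl :
      Over.mk (T.left.fromSpecResidueField t ≫ T.hom) ⟶ T) := by
    have : Mono (Over.homMk (T.left.fromSpecResidueField t) rfl :
      Over.mk (T.left.fromSpecResidueField t ≫ T.hom) ⟶ T).left := by
      change Mono (T.left.fromSpecResidueField t); infer_instance
    exact Over.mono_of_mono_left _
  infer_instance

/-- Pulling back a quasi-compact monomorphic point along a representable map gives such points. -/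
theorem exists_mono_qc_of_representable {f : F ⟶ G} (hf : Representable f) (x : Points F)
    (h : ∃ p : FieldPt G, Points.mk p = Points.map f x ∧ Mono p.toHom ∧
      RepWith @QuasiCompact p.toHom) :
    ∃ p : FieldPt F, Points.mk p = x ∧ Mono p.toHom ∧ RepWith @QuasiCompact p.toHom := by
  obtain ⟨p, hp, hm, hq⟩ := h
  obtain ⟨t⟩ := nonempty_pt p
  obtain ⟨z, hz₁, -⟩ := exists_point_of_isPullback (hf.isPullback p.toHom) x (Points.ofScheme p.pt t)
    (by rw [map_ofScheme, Points.ofPt_toHom, hp])
  obtain ⟨v, rfl⟩ := (Points.schemeEquiv (hf.pullback p.toHom)).surjective z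
  have hm' : Mono (hf.fst p.toHom) := (hf.isPullback p.toHom).mono_fst_of_mono hm
  have hq' : RepWith @QuasiCompact (hf.fst p.toHom) :=
    AlgSpace.repWith_baseChange (hf.isPullback p.toHom).flip hq
  refine ⟨FieldPt.ofPt (hf.fst p.toHom) v, ?_, ?_, ?_⟩
  · exact (map_ofScheme (hf.fst p.toHom) v).symm.trans hz₁
  · rw [FieldPt.toHom_ofPt]
    exact @mono_comp _ _ _ _ _ _ (mono_fromSpecResidueField v) _ hm'
  · rw [FieldPt.toHom_ofPt]
    exact (repWith_isMultiplicative @QuasiCompact).comp_mem _ _
      (repWith_qc_fromSpecResidueField v) hq'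

theorem exists_mono_of_representable {f : F ⟶ G} (hf : Representable f) (x : Points F)
    (h : ∃ p : FieldPt G, Points.mk p = Points.map f x ∧ Mono p.toHom) :
    ∃ p : FieldPt F, Points.mk p = x ∧ Mono p.toHom := by
  obtain ⟨p, hp, hm⟩ := h
  obtain ⟨t⟩ := nonempty_pt p
  obtain ⟨z, hz₁, -⟩ := exists_point_of_isPullback (hf.isPullback p.toHom) x (Points.ofScheme p.pt t)
    (by rw [map_ofScheme, Points.ofPt_toHom, hp])
  obtain ⟨v, rfl⟩ := (Points.schemeEquiv (hf.pullback p.toHom)).surjective z
  have hm' : Mono (hf.fst p.toHom) := (hf.isPullback p.toHom).mono_fst_of_mono hm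
  refine ⟨FieldPt.ofPt (hf.fst p.toHom) v, (map_ofScheme (hf.fst p.toHom) v).symm.trans hz₁, ?_⟩
  rw [FieldPt.toHom_ofPt]
  exact @mono_comp _ _ _ _ _ _ (mono_fromSpecResidueField v) _ hm'

/-- The source of a representable morphism to a decent sheaf is decent. -/
theorem isDecent_of_representable {f : F ⟶ G} (hf : Representable f) (hG : IsDecent G) :
    IsDecent F :=
  fun x => exists_mono_qc_of_representable hf x (hG _)

/-- A morphism from a decent sheaf to a sheaf with representable diagonal is decent. -/
theorem isDecentMor_of_isDecent_source {f : F ⟶ G} (hG : Representable (Limits.diag G))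
    (hF : IsDecent F) : IsDecentMor f := by
  intro T F' g fst snd sq
  exact isDecent_of_representable (f := fst)
    (AlgSpace.representable_baseChange sq.flip (AlgSpace.representable_from_yon hG g)) hF

/-- Decent morphisms are stable under base change. -/
theorem isDecentMor_baseChange {P : Sp S} {fst : P ⟶ F} {snd : P ⟶ H} {f : F ⟶ G} {g : H ⟶ G}
    (sq : IsPullback fst snd f g) (hf : IsDecentMor f) : IsDecentMor snd :=
  fun _ _ g' fst' snd' sq' => hf (g' ≫ g) (fst' ≫ fst) snd' (sq'.paste_horiz sq)

/-- The source of a decent morphism with decent target is decent. -/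
theorem isDecent_of_isDecentMor {f : F ⟶ G} (hf : IsDecentMor f) (hG : IsDecent G) :
    IsDecent F := by
  intro x
  obtain ⟨p, hp, hm, hq⟩ := hG (Points.map f x)
  let sq := IsPullback.of_hasPullback f p.toHom
  have hdec := hf p.toHom _ _ sq
  obtain ⟨t⟩ := nonempty_pt p
  obtain ⟨z, hz₁, -⟩ := exists_point_of_isPullback sq x (Points.ofScheme p.pt t)
    (by rw [map_ofScheme, Points.ofPt_toHom, hp])
  obtain ⟨r, hr, hrm, hrq⟩ := hdec z
  have hm' : Mono (pullback.fst f p.toHom) := sq.mono_fst_of_mono hm
  have hq' : RepWith @QuasiCompact (pullback.fst f p.toHom) :=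
    AlgSpace.repWith_baseChange sq.flip hq
  refine ⟨r.map (pullback.fst f p.toHom), ?_, ?_, ?_⟩
  · rw [← Points.map_mk, hr, hz₁]
  · rw [FieldPt.toHom_map]; exact @mono_comp _ _ _ _ _ _ hrm _ hm'
  · rw [FieldPt.toHom_map]; exact (repWith_isMultiplicative @QuasiCompact).comp_mem _ _ hrq hq'

theorem isDecentMor_comp {f : F ⟶ G} {g : G ⟶ H} (hf : IsDecentMor f) (hg : IsDecentMor g) :
    IsDecentMor (f ≫ g) := by
  intro T F' t fst snd sq
  let sqg := IsPullback.of_hasPullback g t
  let m : F' ⟶ pullback g t := sqg.lift (fst ≫ f) snd (by rw [Category.assoc, sq.w])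
  have sq' : IsPullback fst m f (pullback.fst g t) :=
    IsPullback.of_bot (by simpa [m] using sq) (by simp [m]) sqg
  exact isDecent_of_isDecentMor (isDecentMor_baseChange sq' hf) (hg t _ _ sqg)

theorem representable_toHom (hF : IsAlgSpace F) (p : FieldPt F) : Representable p.toHom :=
  hF.representable_from_yon _

/-- A monomorphic point with finite fibres in affine etale charts is quasi-compact. -/
theorem repWith_qc_of_finite_fibres (hF : IsAlgSpace F) (p : FieldPt F) [Mono p.toHom]
    (h : ∀ (V : Over S) (b : (yon S).obj V ⟶ F), IsAffine V.left → RepWith @Etale b →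
      (Points.ofPt b ⁻¹' {Points.mk p}).Finite) : RepWith @QuasiCompact p.toHom := by
  obtain ⟨ι, U, φ, hU, hφ, hsurj⟩ := exists_affine_chart hF
  exact repWith_qc_of_finite_pullback p (representable_toHom hF p) U φ hφ hsurj
    (fun i => finite_pullback_of_finite_fibre p (hφ i).rep (h (U i) (φ i) (hU i) (hφ i)))

/-- Decency from finite fibres and monomorphic points. -/
theorem isDecent_of_finite_fibres (hF : IsAlgSpace F)
    (h : ∀ x : Points F, (∃ p : FieldPt F, Points.mk p = x ∧ Mono p.toHom) ∧
      ∀ (V : Over S) (b : (yon S).obj V ⟶ F), IsAffine V.left → RepWith @Etale b →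
        (Points.ofPt b ⁻¹' {x}).Finite) : IsDecent F := by
  intro x
  obtain ⟨⟨p, rfl, hm⟩, hfin⟩ := h x
  exact ⟨p, rfl, hm, repWith_qc_of_finite_fibres hF p hfin⟩

theorem IsDecent.finite_fibres (hF : IsDecent F) (x : Points F) :
    ∀ (V : Over S) (b : (yon S).obj V ⟶ F), IsAffine V.left → RepWith @Etale b →
      (Points.ofPt b ⁻¹' {x}).Finite :=
  finite_fibres_of_qc_point (by obtain ⟨p, hp, -, hq⟩ := hF x; exact ⟨p, hp, hq⟩)

/-- Points of a decent sheaf in an etale chart have no specializations among themselves. -/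
theorem IsDecent.eq_of_specializes (hF : IsDecent F) {U : Over S} {a : (yon S).obj U ⟶ F}
    (ha : RepWith @Etale a) {u u' : ↥U.left} (he : Points.ofPt a u = Points.ofPt a u')
    (hs : u' ⤳ u) : u = u' :=
  Specialize.eq_of_specializes (IsDecent.finite_fibres hF _) ha rfl he.symm hs

/-- Generizations lift along etale charts of decent sheaves. -/
theorem IsDecent.exists_lift (hF : IsDecent F) {x' : Points F}
    {U : Over S} {a : (yon S).obj U ⟶ F} (ha : RepWith @Etale a) {u : ↥U.left}
    (h : x' ⤳ Points.ofPt a u) : ∃ u' : ↥U.left, u' ⤳ u ∧ Points.ofPt a u' = x' :=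
  exists_lift_generization h (IsDecent.finite_fibres hF _) ha rfl

theorem t0Space_points (hA : IsAlgSpace F) (hF : IsDecent F) : T0Space (Points F) := by
  refine ⟨fun x y hxy => ?_⟩
  obtain ⟨U, a, ha, hs⟩ := hA.atlas
  obtain ⟨u, rfl⟩ := surjective_ofPt hs x
  obtain ⟨u', hu', rfl⟩ := IsDecent.exists_lift hF ha hxy.specializes'
  obtain ⟨u'', hu'', he⟩ := IsDecent.exists_lift hF ha hxy.specializes
  have h1 : u = u'' := IsDecent.eq_of_specializes hF ha he.symm (hu''.trans hu')
  subst h1
  rw [(hu'.antisymm hu'').eq]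

/-- Points with the same image factor through a monomorphic point. -/
theorem existsUnique_factor {p q : FieldPt F} (hp : Representable p.toHom) [Mono p.toHom]
    (h : Points.mk p = Points.mk q) : ∃! c : q.pt ⟶ p.pt, (yon S).map c ≫ p.toHom = q.toHom := by
  have hm : Mono ((yon S).map (hp.snd q.toHom)) :=
    (hp.isPullback' q.toHom).mono_snd_of_mono inferInstance
  have : Mono (hp.snd q.toHom) := (yon S).mono_of_mono_map hm
  have hne : Nonempty ↥(hp.pullback q.toHom).left := by
    obtain ⟨t⟩ := nonempty_pt p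
    obtain ⟨t'⟩ := nonempty_pt q
    obtain ⟨v, -⟩ := exists_point_of_scheme_isPullback (hp.isPullback' q.toHom) t t'
      (by rw [Points.ofPt_toHom, Points.ofPt_toHom, h])
    exact ⟨v⟩
  let m := (hp.snd q.toHom).left
  have : Mono m := inferInstanceAs (Mono (hp.snd q.toHom).left)
  have : IsIntegral q.pt.left := inferInstanceAs (IsIntegral (Spec (CommRingCat.of q.K)))
  have : Subsingleton ↥(hp.pullback q.toHom).left := m.injective.subsingleton
  have : QuasiCompact m := ⟨fun U _ _ => (Set.toFinite _).isCompact⟩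
  have : Surjective m := surjective_of_spec _
  have : IsIso m := Flat.isIso_of_surjective_of_mono m
  have : IsIso ((Over.forget S).map (hp.snd q.toHom)) := this
  have : IsIso (hp.snd q.toHom) := isIso_of_reflects_iso _ (Over.forget S)
  refine ⟨inv (hp.snd q.toHom) ≫ hp.fst' q.toHom, ?_, fun c hc => ?_⟩
  · change (yon S).map _ ≫ p.toHom = q.toHom
    rw [Functor.map_comp, Category.assoc, (hp.isPullback' q.toHom).w, ← Category.assoc,
      ← Functor.map_comp, IsIso.inv_hom_id, CategoryTheory.Functor.map_id, Category.id_comp]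
  · apply (yon S).map_injective
    rw [← cancel_mono p.toHom, hc, Functor.map_comp, Category.assoc, (hp.isPullback' q.toHom).w,
      ← Category.assoc, ← Functor.map_comp, IsIso.inv_hom_id, CategoryTheory.Functor.map_id,
      Category.id_comp]

/-- Two affine schemes whose images lie in a common affine open have compact fibre product. -/
theorem compactSpace_pullback_of_range_subset {A B : Scheme.{u}} (f : A ⟶ S) (g : B ⟶ S)
    [IsAffine A] [IsAffine B] (W : S.Opens) (hW : IsAffineOpen W)
    (hf : Set.range f ⊆ W) (hg : Set.range g ⊆ W) : CompactSpace ↥(pullback f g) := by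
  obtain ⟨f', rfl⟩ : ∃ f', f' ≫ W.ι = f :=
    ⟨IsOpenImmersion.lift W.ι f (by simpa using hf), IsOpenImmersion.lift_fac _ _ _⟩
  obtain ⟨g', rfl⟩ : ∃ g', g' ≫ W.ι = g :=
    ⟨IsOpenImmersion.lift W.ι g (by simpa using hg), IsOpenImmersion.lift_fac _ _ _⟩
  have : IsAffine (W : Scheme.{u}) := hW
  have : CompactSpace ↥(pullback f' g') := inferInstance
  let e : pullback f' g' ≅ pullback (f' ≫ W.ι) (g' ≫ W.ι) :=
    (IsPullback.of_isLimit (pullbackIsPullbackOfCompMono f' g' W.ι)).isoPullback
  exact e.schemeIsoToHomeo.compactSpace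

end Groth.Agent.Lib.AlgSpDecent.Decent
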