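import Groth.Agent.Lib.AlgSpace.DiagProp
import Groth.Agent.Lib.AlgSpace.Props
import Groth.Agent.Lib.AlgSpDecent.Decent
import Mathlib.AlgebraicGeometry.Artinian

/-!
Spaces with a zero dimensional atlas locally of finite type over a field are quasi-separated.
-/

universe u

open CategoryTheory CategoryTheory.Limits AlgebraicGeometry Opposite Topology TopologicalSpace

namespace Groth.Agent.Lib.AlgSpDecent.DiscreteQS

open AlgSp Core

theorem quasiCompact_of_mono_of_discrete {X Y : Scheme.{u}} (f : X ⟶ Y) [Mono f]
    [DiscreteTopology Y] : QuasiCompact f :=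
  ⟨fun _ _ hK => ((hK.finite_of_discrete).preimage f.injective.injOn).isCompact⟩

theorem isQuasiSeparatedSp {k : Type u} [Field k] {F : Sp (Spec (CommRingCat.of k))}
    (hA : IsAlgSpace F) {U : Over (Spec (CommRingCat.of k))} {a : (yon _).obj U ⟶ F}
    (ha : RepWith @Etale a) (hs : RepWith @Surjective a) [LocallyOfFiniteType U.hom]
    (hd : topologicalKrullDim ↥U.left ≤ 0) : IsQuasiSeparatedSp F := by
  have : IsLocallyNoetherian U.left := LocallyOfFiniteType.isLocallyNoetherian U.hom
  have := IsLocallyArtinian.of_topologicalKrullDim_le_zero hd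
  have : LocallyQuasiFinite U.hom := locallyQuasiFinite_iff_isDiscrete_preimage_singleton.2 fun x => ⟨inferInstance⟩
  have : LocallyQuasiFinite (pullback.fst U.hom U.hom) := inferInstance
  have : IsLocallyArtinian (pullback U.hom U.hom) :=
    IsLocallyArtinian.of_locallyQuasiFinite (f := pullback.fst U.hom U.hom)
  have : DiscreteTopology ↥(U ⨯ U).left := by
    have h := (Over.prodLeftIsoPullback U U).schemeIsoToHomeo
    exact DiscreteTopology.of_continuous_injective h.continuous h.injective
  have : MorphismProperty.IsLocalAtTarget @QuasiCompact.{u} Scheme.fppfPrecoverage :=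
    AlgSpace.isLocalAtTarget_fppf_quasiCompact
  have sq := ha.rep.isPullback' a
  refine AlgSpace.repWith_diag_of_atlas hA.diag ha hs sq _ ?_
  have hm := (AlgSpace.repWith_diag_monomorphisms hA.diag).property _ _ _
    (AlgSpace.isPullback_diag_yonProd sq)
  have : Mono (prod.lift (ha.rep.fst' a) (ha.rep.snd a)).left := hm
  exact quasiCompact_of_mono_of_discrete _

end Groth.Agent.Lib.AlgSpDecent.DiscreteQS
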