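import Groth.Agent.Lib.AlgSpDecent.LqfField
import Groth.Agent.Lib.AlgSpDecent.DiscreteQS
import Groth.Agent.Lib.AlgSpDecent.QS
import Groth.Agent.Lib.AlgSpDecent.DenseOpen
import Groth.Agent.S10423

/-!
Locally quasi-finite algebraic spaces over fields are disjoint unions of Artinian schemes.
-/

universe u

open CategoryTheory CategoryTheory.Limits AlgebraicGeometry Opposite Topology

namespace Groth.Agent.Lib.AlgSpDecent.LqfFieldSp

open AlgSp Groth.Agent.Lib.AlgSpace Core

variable {k : Type u} [Field k]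

local notation "B" => Spec (CommRingCat.of k)

/-- The structure morphism of a scheme over `k` as a morphism to the terminal object. -/
noncomputable def str (U : Over B) : U ⟶ (Over.mk (𝟙 B) : Over B) := Over.homMk U.hom (Category.comp_id _)

theorem hom_eq_str {U : Over B} (h : U ⟶ (Over.mk (𝟙 B) : Over B)) : h.left = U.hom :=
  (Category.comp_id _).symm.trans (Over.w h)

theorem locP_iff_chart {X : Sp B} (p : X ⟶ (yon B).obj (Over.mk (𝟙 B)))
    {U : Over B} (a : (yon B).obj U ⟶ X) (ha : RepWith @Etale a)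
    (h : LocP (@LocallyQuasiFinite ⊓ @LocallyOfFiniteType : MorphismProperty Scheme.{u}) p) :
    LocallyQuasiFinite U.hom ∧ LocallyOfFiniteType U.hom := by
  obtain ⟨h', hh⟩ := (yon B).map_surjective (a ≫ p)
  have : MorphismProperty.ContainsIdentities (@Etale : MorphismProperty Scheme.{u}) :=
    ⟨fun X => inferInstanceAs (Etale (𝟙 X))⟩
  have := h a (𝟙 _) h' ha (AlgSp.repWith_id @Etale _) (by rw [Category.comp_id, hh])
  rw [hom_eq_str h'] at this
  exact this

theorem exists_scheme (X : AlgSp.Space B) (p : X.obj ⟶ (yon B).obj (Over.mk (𝟙 B)))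
    (h : LocP (@LocallyQuasiFinite ⊓ @LocallyOfFiniteType : MorphismProperty Scheme.{u}) p) :
    ∃ (U : Over B) (_ : (yon B).obj U ≅ X.obj),
      LocallyQuasiFinite U.hom ∧ LocallyOfFiniteType U.hom := by
  obtain ⟨U₀, a, ha, has⟩ := X.property.atlas
  obtain ⟨hq, hf⟩ := locP_iff_chart p a ha h
  have : IsLocallyArtinian U₀.left := IsLocallyArtinian.of_locallyQuasiFinite (f := U₀.hom)
  have hdim : topologicalKrullDim ↥U₀.left ≤ 0 := topologicalKrullDim_zero_of_discreteTopology _
  have hqs := DiscreteQS.isQuasiSeparatedSp X.property ha has hdim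
  have hdec : AlgSp.IsDecent X.obj := QS.isDecent_of_isQuasiSeparatedSp X.property hqs
  have : DiscreteTopology (Points X.obj) := discreteTopology_iff_isOpen_singleton.2 fun x => by
    obtain ⟨u, rfl⟩ := Core.surjective_ofPt has x
    rw [show ({Points.ofPt a u} : Set (Points X.obj)) = Points.ofPt a '' {u} from Set.image_singleton.symm]
    exact Core.isOpenMap_ofPt ha _ (isOpen_discrete _)
  obtain ⟨G, m, hm, hmax⟩ := DenseOpen.exists_largest X.property
  have hall : Function.Surjective (Points.map m) := fun x => by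
    obtain ⟨Q, l, -, hl, ⟨y, hy⟩, hsub⟩ :=
      DenseOpen.exists_open_scheme_in X.property hdec (isOpen_discrete {x}) (Set.singleton_nonempty x)
    exact hmax Q l hl ((hsub hy : y = x) ▸ hy)
  have := OpenScheme.isIso_of_surjective hm hall
  refine ⟨G, asIso m, ?_⟩
  refine locP_iff_chart p m ?_ h
  exact AlgSpace.repWith_mono hm fun _ _ g (_ : IsOpenImmersion g) => (inferInstance : Etale g)

theorem locP_of_scheme (X : AlgSp.Space B) (p : X.obj ⟶ (yon B).obj (Over.mk (𝟙 B)))
    {U : Over B} (e : (yon B).obj U ≅ X.obj) (hq : LocallyQuasiFinite U.hom) (hf : LocallyOfFiniteType U.hom) :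
    LocP (@LocallyQuasiFinite ⊓ @LocallyOfFiniteType : MorphismProperty Scheme.{u}) p := by
  intro U' V a b h ha hb w
  obtain ⟨g, hg⟩ := (yon B).map_surjective (a ≫ e.inv)
  obtain ⟨g', hg'⟩ := (yon B).map_surjective b
  have : Etale g.left := by
    rw [← repWith_yon_map_iff @Etale g, hg]
    exact (AlgSpace.repWith_comp_iso_iff _ _ _).2 ha
  have : LocallyQuasiFinite g.left := locallyQuasiFinite_of_etale g.left
  have e1 : h.left ≫ V.hom = g.left ≫ U.hom := (Over.w h).trans (Over.w g).symm
  have : LocallyQuasiFinite (h.left ≫ V.hom) := by rw [e1]; infer_instance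
  have : LocallyOfFiniteType (h.left ≫ V.hom) := by rw [e1]; infer_instance
  exact ⟨LocallyQuasiFinite.of_comp h.left V.hom, locallyOfFiniteType_of_comp h.left V.hom⟩

end Groth.Agent.Lib.AlgSpDecent.LqfFieldSp
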