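import Groth.Agent.Lib.AlgSpDecent.SelfFibre
import Groth.Agent.Lib.AlgSpDecent.Restrict
import Groth.Agent.Lib.AlgSpMor.QC
import Groth.Agent.Lib.AlgSpace.DiagProp
import Groth.Agent.Lib.AlgSpace.Props
import Mathlib.AlgebraicGeometry.Noetherian

/-!
Locally Noetherian decent spaces are quasi-separated.
-/

universe u

open CategoryTheory CategoryTheory.Limits AlgebraicGeometry Opposite Topology TopologicalSpace

namespace Groth.Agent.Lib.AlgSpDecent.NoethQS

open AlgSp Core Fibre Specialize Decent

/-- In a locally Noetherian scheme subsets of compact sets are compact. -/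
theorem isCompact_of_subset {X : Scheme.{u}} [IsLocallyNoetherian X] {A K : Set X}
    (hK : IsCompact K) (h : A ⊆ K) : IsCompact A := by
  obtain ⟨s, hs⟩ := hK.elim_finite_subcover (fun U : X.affineOpens => (U.1 : Set X))
    (fun U => U.1.isOpen) (fun x _ => by
      obtain ⟨_, ⟨U, hU, rfl⟩, hxU, -⟩ := X.isBasis_affineOpens.exists_subset_of_mem_open
        (Set.mem_univ x) isOpen_univ
      exact Set.mem_iUnion.2 ⟨⟨U, hU⟩, hxU⟩)
  have : A = ⋃ U ∈ s, A ∩ (U.1 : Set X) := by
    rw [← Set.inter_iUnion₂]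
    exact (Set.inter_eq_left.2 (h.trans hs)).symm
  rw [this]
  refine s.finite_toSet.isCompact_biUnion fun U _ => ?_
  have : IsNoetherianRing Γ(X, U) := IsLocallyNoetherian.component_noetherian U
  have : NoetherianSpace ↥(U.1 : Set X) := noetherianSpace_of_isAffineOpen U.1 U.2
  exact (noetherianSpace_set_iff _).1 this _ Set.inter_subset_right

variable {S : Scheme.{u}} {F : Sp S}

/-- The self fibre product of a Noetherian affine chart of a decent space is compact. -/
theorem compactSpace_self_pullback (hF : IsDecent F) {U : Over S} [IsAffine U.left]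
    [IsLocallyNoetherian U.left] {a : (yon S).obj U ⟶ F} (ha : RepWith @Etale a) :
    CompactSpace ↥(ha.rep.pullback a).left := by
  let t := (ha.rep.snd a).left
  have : Etale t := ha.property_snd a
  have : IsLocallyNoetherian (ha.rep.pullback a).left := LocallyOfFiniteType.isLocallyNoetherian t
  have : IsNoetherianRing Γ(U.left, ⊤) := IsLocallyNoetherian.component_noetherian ⟨⊤, isAffineOpen_top _⟩
  have : NoetherianSpace ↥U.left := noetherianSpace_of_isAffine
  suffices ∀ W : Closeds ↥U.left, IsCompact (t ⁻¹' (W : Set ↥U.left)) from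
    ⟨by simpa using this ⊤⟩
  intro W
  induction W using WellFoundedLT.induction with
  | _ W ih =>
    rcases Set.eq_empty_or_nonempty (W : Set ↥U.left) with hW | hW
    · rw [hW, Set.preimage_empty]; exact isCompact_empty
    obtain ⟨O, R', hO, -, ⟨w, hwO, hwW⟩, -, hR'c, hsub⟩ :=
      SelfFibre.exists_compact_relation hF ha W.isClosed hW
    let W' : Closeds ↥U.left := ⟨(W : Set ↥U.left) \ O, W.isClosed.sdiff hO⟩
    have hlt : W' < W := lt_of_le_of_ne (fun z hz => hz.1) fun he => by
      have : w ∈ (W' : Set ↥U.left) := by rw [he]; exact hwW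
      exact this.2 hwO
    refine isCompact_of_subset (hR'c.union (ih W' hlt)) fun r hr => ?_
    by_cases h : t r ∈ O
    · exact Or.inl (hsub ⟨h, hr⟩)
    · exact Or.inr ⟨hr, h⟩

/-- Locally Noetherian decent spaces are quasi-separated. -/
theorem isQuasiSeparatedSp (hA : IsAlgSpace F) (hF : IsDecent F) (hN : IsLocNoethSp F) :
    IsQuasiSeparatedSp F := by
  obtain ⟨U, a, ha, hs, hU⟩ := hN
  have sq := ha.rep.isPullback' a
  have : MorphismProperty.IsLocalAtTarget @QuasiCompact.{u} Scheme.fppfPrecoverage :=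
    AlgSpace.isLocalAtTarget_fppf_quasiCompact
  refine AlgSpace.repWith_diag_of_atlas hA.diag ha hs sq _ ?_
  let t := (ha.rep.snd a).left
  let s := (ha.rep.fst' a).left
  have : Etale t := ha.property_snd a
  have : IsLocallyNoetherian (ha.rep.pullback a).left := LocallyOfFiniteType.isLocallyNoetherian t
  refine ⟨fun K hKo hK => ?_⟩
  let p₁ := (Limits.prod.fst : U ⨯ U ⟶ U).left
  let p₂ := (Limits.prod.snd : U ⨯ U ⟶ U).left
  obtain ⟨fs, hfs⟩ := ((hK.image p₁.continuous).union (hK.image p₂.continuous)).elim_finite_subcover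
    (fun O : U.left.affineOpens => (O.1 : Set ↥U.left)) (fun O => O.1.isOpen) (fun x _ => by
      obtain ⟨_, ⟨O, hO, rfl⟩, hxO, -⟩ := U.left.isBasis_affineOpens.exists_subset_of_mem_open
        (Set.mem_univ x) isOpen_univ
      exact Set.mem_iUnion.2 ⟨⟨O, hO⟩, hxO⟩)
  let O' : ↥fs → U.left.Opens := fun O => O.1.1
  have : ∀ i, IsAffine (O' i).toScheme := fun i => i.1.2
  let W := AlgSpace.opensSigma O'
  let j := AlgSpace.opensSigmaMap O'
  have : IsAffine W.left := inferInstanceAs (IsAffine (∐ fun i => (O' i).toScheme))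
  have : Etale j.left := AlgSpace.etale_opensSigmaMap O'
  have : IsLocallyNoetherian W.left := LocallyOfFiniteType.isLocallyNoetherian j.left
  have hj : RepWith @Etale ((yon S).map j ≫ a) :=
    (repWith_isMultiplicative @Etale).comp_mem _ _ ((repWith_yon_map_iff _ _).2 ‹_›) ha
  have := compactSpace_self_pullback hF hj
  let P := pullback (pullback.fst (ha.rep.snd a) j ≫ ha.rep.fst' a) j
  let e : hj.rep.pullback ((yon S).map j ≫ a) ≅ P := (yon S).preimageIso
    ((hj.rep.isPullback' ((yon S).map j ≫ a)).isoIsPullback _ _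
      (Restrict.isPullback_restrict ha.rep j))
  have : CompactSpace ↥((Over.forget S).obj (hj.rep.pullback ((yon S).map j ≫ a))) :=
    inferInstanceAs (CompactSpace ↥(hj.rep.pullback ((yon S).map j ≫ a)).left)
  have : CompactSpace ↥P.left := ((Over.forget S).mapIso e).schemeIsoToHomeo.compactSpace
  let φ : P.left ⟶ (ha.rep.pullback a).left :=
    (pullback.fst (pullback.fst (ha.rep.snd a) j ≫ ha.rep.fst' a) j).left ≫
      (pullback.fst (ha.rep.snd a) j).left
  have hφ : Set.range φ = t ⁻¹' Set.range j.left ∩ s ⁻¹' Set.range j.left := by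
    simp only [φ, Scheme.Hom.comp_base, TopCat.coe_comp, Set.range_comp]
    rw [Restrict.range_fst_over, Over.comp_left, Scheme.Hom.comp_base, TopCat.coe_comp,
      Set.preimage_comp, Set.image_preimage_eq_range_inter, Restrict.range_fst_over]
  refine isCompact_of_subset (isCompact_range φ.continuous) ?_
  rw [hφ]
  intro r hr
  have hmem : ∀ x ∈ p₁ '' K ∪ p₂ '' K, x ∈ Set.range j.left := fun x hx => by
    obtain ⟨O, hO, hxO⟩ := Set.mem_iUnion₂.1 (hfs hx)
    exact ⟨_, AlgSpace.opensSigmaMap_apply O' ⟨O, hO⟩ ⟨x, hxO⟩⟩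
  refine ⟨hmem _ (Or.inr ⟨_, hr, ?_⟩), hmem _ (Or.inl ⟨_, hr, ?_⟩)⟩
  · change ((prod.lift (ha.rep.fst' a) (ha.rep.snd a)).left ≫ p₂) r = t r
    rw [← Over.comp_left, prod.lift_snd]
  · change ((prod.lift (ha.rep.fst' a) (ha.rep.snd a)).left ≫ p₁) r = s r
    rw [← Over.comp_left, prod.lift_fst]

end Groth.Agent.Lib.AlgSpDecent.NoethQS
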