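import Groth.Agent.Lib.AlgSpDecent.OnePointMono
import Mathlib.RingTheory.Ideal.MinimalPrime.Noetherian
import Mathlib.RingTheory.Spectrum.Prime.Topology

/-!
Morphisms from reduced spaces with image a point of a locally Noetherian space.
-/

universe u

open CategoryTheory CategoryTheory.Limits AlgebraicGeometry Opposite Topology

namespace Groth.Agent.Lib.AlgSpDecent.ResidualFactor

theorem finite_range_comap {R A : Type u} [CommRing R] [CommRing A] [IsNoetherianRing R] (φ : R →+* A)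
    (hanti : ∀ P Q : PrimeSpectrum A, (PrimeSpectrum.comap φ P) ⤳ (PrimeSpectrum.comap φ Q) →
      (PrimeSpectrum.comap φ P) = (PrimeSpectrum.comap φ Q)) :
    (Set.range (PrimeSpectrum.comap φ)).Finite := by
  refine ((Ideal.finite_minimalPrimes_of_isNoetherianRing R (RingHom.ker φ)).preimage
    (fun a _ b _ e => PrimeSpectrum.ext e)).subset ?_
  rintro _ ⟨Q, rfl⟩
  show ((PrimeSpectrum.comap φ Q)).asIdeal ∈ (RingHom.ker φ).minimalPrimes
  have hle : RingHom.ker φ ≤ ((PrimeSpectrum.comap φ Q)).asIdeal := by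
    intro a ha
    show φ a ∈ Q.asIdeal
    rw [RingHom.mem_ker.1 ha]
    exact Q.asIdeal.zero_mem
  obtain ⟨p, hp, hpQ⟩ := Ideal.exists_minimalPrimes_le hle
  obtain ⟨p', hp', -, rfl⟩ := Ideal.exists_comap_eq_of_mem_minimalPrimes φ (I := ⊥) p hp
  have := hanti ⟨p', hp'⟩ Q ((PrimeSpectrum.le_iff_specializes _ _).1 hpQ)
  rwa [← this]

/-- A reduced algebra all of whose primes lie over `p` is an algebra over the residue field at `p`. -/
theorem exists_residueField_hom {R A : Type u} [CommRing R] [CommRing A] [_root_.IsReduced A]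
    (φ : R →+* A) (p : PrimeSpectrum R) (h : ∀ P : PrimeSpectrum A, (PrimeSpectrum.comap φ P) = p) :
    ∃ ψ : p.asIdeal.ResidueField →+* A, ψ.comp (algebraMap R p.asIdeal.ResidueField) = φ := by
  have hunit : p.asIdeal.primeCompl ≤ (IsUnit.submonoid A).comap φ := fun s hs => by
    show IsUnit (φ s)
    by_contra hn
    obtain ⟨m, hm, hsm⟩ := exists_max_ideal_of_mem_nonunits (a := φ s) hn
    exact hs (by rw [← h ⟨m, hm.isPrime⟩]; exact hsm)
  have hker : p.asIdeal ≤ RingHom.ker φ := fun a ha => by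
    rw [RingHom.mem_ker]
    refine IsNilpotent.eq_zero (nilpotent_iff_mem_prime.2 fun P hP => ?_)
    rw [← h ⟨P, hP⟩] at ha
    exact ha
  exact ⟨Ideal.ResidueField.lift p.asIdeal φ hker hunit,
    RingHom.ext fun a => Ideal.ResidueField.lift_algebraMap _ _ hker hunit a⟩

open AlgSp Groth.Agent.Lib.AlgSpace Core

variable {S : Scheme.{u}} {X Z : Sp S}

/-- A field-valued morphism through `x` factors through a residual space at `x`. -/
theorem exists_lift_field (hX : IsAlgSpace X) (hZ : IsAlgSpace Z) (i : Z ⟶ X) [Mono i]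
    {x : Points X} (hi : Set.range (Points.map i) = {x}) {K : Type u} [Field K]
    {str : Spec (CommRingCat.of K) ⟶ S} (π : (yon S).obj (Over.mk str) ⟶ X)
    (hπ : Points.ofPt π (IsLocalRing.closedPoint K) = x) :
    ∃ l : (yon S).obj (Over.mk str) ⟶ Z, l ≫ i = π := by
  have sq := IsPullback.of_hasPullback π i
  have hW := isAlgSpace_of_isPullback sq hX.diag (IsAlgSpace.yon_obj _) hZ
  obtain ⟨z, hz⟩ : x ∈ Set.range (Points.map i) := hi ▸ Set.mem_singleton x
  obtain ⟨w, -, -⟩ := Core.exists_point_of_isPullback sq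
    (Points.ofPt (𝟙 ((yon S).obj (Over.mk str))) (IsLocalRing.closedPoint K)) z
    (by rw [← Core.ofPt_comp, Category.id_comp, hπ, hz])
  have : Nonempty (Points (pullback π i)) := ⟨w⟩
  have : MorphismProperty.ContainsIdentities @Flat.{u} := ⟨fun _ => inferInstance⟩
  have : MorphismProperty.ContainsIdentities @LocallyOfFinitePresentation.{u} :=
    ⟨fun _ => inferInstance⟩
  have : IsIso (pullback.fst π i) := OnePointMono.isIso_of_mono (IsAlgSpace.yon_obj _) hW _
    (p := 𝟙 ((yon S).obj (Over.mk str)))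
    (AlgSpMor.LocP.locP_of_repWith SourceDescent.Scheme.locallyOfFinitePresentation
      (AlgSp.repWith_id _ _))
    (AlgSpMor.LocP.locP_of_repWith SourceDescent.Scheme.flat (AlgSp.repWith_id _ _))
    fun z => ⟨z, Points.map_id z⟩
  exact ⟨inv (pullback.fst π i) ≫ pullback.snd π i, by
    rw [Category.assoc, ← sq.w, IsIso.inv_hom_id_assoc]⟩

/-- Points over `x` of a chart of a locally Noetherian space have no specializations between them. -/
theorem eq_of_specializes (hX : IsAlgSpace X) (hN : IsLocNoethSp X) {U : Over S}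
    {a : (yon S).obj U ⟶ X} (ha : RepWith @Etale a) {v w : ↥U.left} (h : v ⤳ w)
    (e : Points.ofPt a v = Points.ofPt a w) : v = w := by
  have : IsLocallyNoetherian U.left := CodimOneSp.isLocallyNoetherian_chart hN ha
  have h1 : ringKrullDim (U.left.presheaf.stalk w) = ringKrullDim (U.left.presheaf.stalk v) :=
    (RelDimIneq.hasAt_stalkDim_iff hX (· = ringKrullDim (U.left.presheaf.stalk v)) ha w).1
      (e ▸ ⟨U, a, v, ha, rfl, rfl⟩)
  let : Preorder ↥U.left := specializationPreorder _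
  by_contra hne
  have hlt : w < v := lt_of_le_not_ge h fun h' => hne (h.antisymm h').eq
  rw [DimDecent.ringKrullDim_stalk, DimDecent.ringKrullDim_stalk, WithBot.coe_inj] at h1
  have hfin : SpecOrder.cohtPt v < ⊤ := by
    refine lt_top_iff_ne_top.2 fun ht => ?_
    have := DimDecent.ringKrullDim_stalk v
    rw [ht] at this
    exact ringKrullDim_ne_top this
  have := Order.coheight_strictAnti hlt hfin
  exact this.ne h1.symm

/-- Locally, a map from a reduced scheme to a chart with image over `x` is a map to a field. -/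
theorem exists_local_lift (hX : IsAlgSpace X) (hN : IsLocNoethSp X) (hZ : IsAlgSpace Z) (i : Z ⟶ X)
    [Mono i] {x : Points X} (hi : Set.range (Points.map i) = {x}) {T U : Over S}
    [IsReduced T.left] {a : (yon S).obj U ⟶ X} (ha : RepWith @Etale a) (h : T ⟶ U)
    (hx : ∀ t, Points.ofPt a (h.left t) = x) (t : ↥T.left) :
    ∃ W : T.left.Opens, t ∈ W ∧ ∃ l : (yon S).obj (Over.mk (W.ι ≫ T.hom)) ⟶ Z,
      l ≫ i = (yon S).map (Over.homMk W.ι rfl : Over.mk (W.ι ≫ T.hom) ⟶ T) ≫ (yon S).map h ≫ a := by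
  have : IsLocallyNoetherian U.left := CodimOneSp.isLocallyNoetherian_chart hN ha
  obtain ⟨U₁, hU₁, htU, -⟩ :=
    exists_isAffineOpen_mem_and_subset (show h.left t ∈ (⊤ : U.left.Opens) from trivial)
  obtain ⟨W₁, hW₁, htW, hWU⟩ :=
    exists_isAffineOpen_mem_and_subset (show t ∈ h.left ⁻¹ᵁ U₁ from htU)
  have : IsNoetherianRing Γ(U.left, U₁) := IsLocallyNoetherian.component_noetherian ⟨U₁, hU₁⟩
  let φ := (h.left.appLE U₁ W₁ hWU).hom
  have happ : ∀ P : PrimeSpectrum Γ(T.left, W₁),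
      hU₁.fromSpec ((PrimeSpectrum.comap φ P)) = h.left (hW₁.fromSpec P) := fun P => by
    have e := IsAffineOpen.SpecMap_appLE_fromSpec h.left hU₁ hW₁ hWU
    exact congrArg (fun m : Spec Γ(T.left, W₁) ⟶ U.left => m P) e
  have hfin : (Set.range (PrimeSpectrum.comap φ)).Finite := finite_range_comap φ fun P Q hs => by
    have h1 := hs.map hU₁.fromSpec.continuous
    rw [happ, happ] at h1
    have h2 := eq_of_specializes hX hN ha h1 ((hx _).trans (hx _).symm)
    rw [← happ, ← happ] at h2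
    exact hU₁.fromSpec.isOpenEmbedding.injective h2
  obtain ⟨P₀, hP₀⟩ : t ∈ Set.range hW₁.fromSpec := hW₁.range_fromSpec.ge htW
  let p := (PrimeSpectrum.comap φ P₀)
  have hopen : IsOpen (closure (Set.range (PrimeSpectrum.comap φ) \ {p}))ᶜ := isClosed_closure.isOpen_compl
  have hp : p ∈ (closure (Set.range (PrimeSpectrum.comap φ) \ {p}))ᶜ := by
    intro hc
    rw [show Set.range (PrimeSpectrum.comap φ) \ {p} = ⋃ q ∈ Set.range (PrimeSpectrum.comap φ) \ {p}, {q} from (Set.biUnion_of_singleton _).symm,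
      (hfin.sdiff).closure_biUnion] at hc
    obtain ⟨q, ⟨⟨Q, rfl⟩, hqp⟩, hqc⟩ := Set.mem_iUnion₂.1 hc
    refine hqp (Set.mem_singleton_iff.2 ?_)
    have h1 := (specializes_iff_mem_closure.2 hqc).map hU₁.fromSpec.continuous
    rw [happ, happ] at h1
    have h2 := eq_of_specializes hX hN ha h1 ((hx _).trans (hx _).symm)
    rw [← happ, ← happ] at h2
    exact hU₁.fromSpec.isOpenEmbedding.injective h2
  obtain ⟨_, ⟨r, rfl⟩, hpr, hr⟩ := PrimeSpectrum.isTopologicalBasis_basic_opens.exists_subset_of_mem_open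
    hp hopen
  let W : T.left.Opens := T.left.basicOpen (φ r)
  have hW : IsAffineOpen W := hW₁.basicOpen (φ r)
  have hpre : hW₁.fromSpec ⁻¹ᵁ W = PrimeSpectrum.basicOpen (φ r) :=
    hW₁.fromSpec_preimage_basicOpen (φ r)
  have htW' : t ∈ W := by
    have : P₀ ∈ hW₁.fromSpec ⁻¹ᵁ W := by rw [hpre]; exact hpr
    exact hP₀ ▸ this
  have : IsNoetherianRing Γ(U.left, U₁) := ‹_›
  have hle : W ≤ h.left ⁻¹ᵁ U₁ := (T.left.basicOpen_le (φ r)).trans hWU
  let φW := (h.left.appLE U₁ W hle).hom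
  have hall : ∀ P : PrimeSpectrum Γ(T.left, W), (PrimeSpectrum.comap φW P) = p := fun P => by
    have e := IsAffineOpen.SpecMap_appLE_fromSpec h.left hU₁ hW hle
    have h0 : hU₁.fromSpec ((PrimeSpectrum.comap φW P)) = h.left (hW.fromSpec P) :=
      congrArg (fun m : Spec Γ(T.left, W) ⟶ U.left => m P) e
    have hmem : hW.fromSpec P ∈ W := hW.range_fromSpec.le ⟨P, rfl⟩
    obtain ⟨P₁, hP₁⟩ : hW.fromSpec P ∈ Set.range hW₁.fromSpec :=
      hW₁.range_fromSpec.ge (T.left.basicOpen_le _ hmem)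
    rw [← hP₁, ← happ] at h0
    rw [hU₁.fromSpec.isOpenEmbedding.injective h0]
    by_contra hne
    have hP1W : P₁ ∈ PrimeSpectrum.basicOpen (φ r) := hpre ▸ (show hW₁.fromSpec P₁ ∈ W from hP₁ ▸ hmem)
    exact hr (show (PrimeSpectrum.comap φ P₁) ∈ _ from hP1W) (subset_closure ⟨⟨P₁, rfl⟩, hne⟩)
  obtain ⟨ψ, hψ⟩ := exists_residueField_hom φW p hall
  let K := p.asIdeal.ResidueField
  let jm : Spec (CommRingCat.of K) ⟶ U.left :=
    Spec.map (CommRingCat.ofHom (algebraMap Γ(U.left, U₁) K)) ≫ hU₁.fromSpec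
  let j : Over.mk (jm ≫ U.hom) ⟶ U := Over.homMk jm rfl
  let m : (W : Scheme.{u}) ⟶ Spec (CommRingCat.of K) := hW.isoSpec.hom ≫ Spec.map (CommRingCat.ofHom ψ)
  have hm : m ≫ jm = W.ι ≫ h.left := by
    have e := IsAffineOpen.SpecMap_appLE_fromSpec h.left hU₁ hW hle
    show (hW.isoSpec.hom ≫ Spec.map (CommRingCat.ofHom ψ)) ≫
      Spec.map (CommRingCat.ofHom (algebraMap Γ(U.left, U₁) K)) ≫ hU₁.fromSpec = _
    rw [Category.assoc, ← Spec.map_comp_assoc, ← CommRingCat.ofHom_comp, hψ,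
      show CommRingCat.ofHom φW = h.left.appLE U₁ W hle from rfl, e, ← Category.assoc,
      IsAffineOpen.fromSpec, Iso.hom_inv_id_assoc]
  let mo : Over.mk (W.ι ≫ T.hom) ⟶ Over.mk (jm ≫ U.hom) := Over.homMk m (by
    show m ≫ jm ≫ U.hom = W.ι ≫ T.hom
    rw [reassoc_of% hm, Over.w h])
  have hmo : mo ≫ j = (Over.homMk W.ι rfl : Over.mk (W.ι ≫ T.hom) ⟶ T) ≫ h :=
    Over.OverMorphism.ext hm
  have hπ : Points.ofPt ((yon S).map j ≫ a) (IsLocalRing.closedPoint K) = x := by
    have hpt : j.left (IsLocalRing.closedPoint K) = h.left t := by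
      rw [show IsLocalRing.closedPoint K = m ⟨t, htW'⟩ from Subsingleton.elim _ _]
      exact congrArg (fun q : (W : Scheme.{u}) ⟶ U.left => q ⟨t, htW'⟩) hm
    rw [Core.ofPt_comp, Core.ofPt_yon_map, hpt, ← Core.ofPt_comp, Category.id_comp]
    exact hx t
  obtain ⟨l, hl⟩ := exists_lift_field hX hZ i hi ((yon S).map j ≫ a) hπ
  refine ⟨W, htW', (yon S).map mo ≫ l, ?_⟩
  rw [Category.assoc, hl, ← Functor.map_comp_assoc, hmo, Functor.map_comp_assoc]

end Groth.Agent.Lib.AlgSpDecent.ResidualFactor
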