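import Groth.Agent.Lib.AlgSpDecent.DenseOpen
import Groth.Agent.H56.GeomDescent

/-!
Decent spaces with a single point.
-/

universe u

open CategoryTheory CategoryTheory.Limits AlgebraicGeometry Opposite Topology

namespace Groth.Agent.Lib.AlgSpDecent.SinglePoint

open AlgSp Core Fibre Specialize Decent

variable {S : Scheme.{u}} {F : Sp S}

/-- A decent space with a single point is an affine scheme. -/
theorem exists_affine_iso (hA : IsAlgSpace F) (hF : IsDecent F) [Nonempty (Points F)]
    [Subsingleton (Points F)] :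
    ∃ (Q : Over S) (_ : (yon S).obj Q ≅ F), IsAffine Q.left ∧ Subsingleton ↥Q.left ∧
      Nonempty ↥Q.left := by
  obtain ⟨Q, l, hQ, hl, ⟨x, hx⟩, -⟩ :=
    DenseOpen.exists_open_scheme_in hA hF isOpen_univ Set.univ_nonempty
  have := OpenScheme.isIso_of_surjective hl fun y => Subsingleton.elim x y ▸ hx
  have : Mono l := inferInstance
  refine ⟨Q, asIso l, hQ, ⟨fun a b => ?_⟩, ?_⟩
  · apply (Points.schemeEquiv Q).injective
    exact Core.injective_map_of_mono l (Subsingleton.elim _ _)
  · obtain ⟨y, -⟩ := hx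
    exact ⟨(Points.schemeEquiv Q).symm y⟩

theorem isField_of_subsingleton (R : Type u) [CommRing R] [_root_.IsReduced R] [Nontrivial R]
    [Subsingleton (PrimeSpectrum R)] : IsField R := by
  refine ⟨exists_pair_ne R, mul_comm, fun {a} ha => ?_⟩
  by_contra hu
  have hu' : ¬ IsUnit a := fun h => hu ((isUnit_iff_exists_inv.1 h))
  obtain ⟨m, hm, ham⟩ := exists_max_ideal_of_mem_nonunits (mem_nonunits_iff.2 hu')
  refine ha (IsNilpotent.eq_zero (mem_nilradical.1 ?_))
  rw [nilradical_eq_sInf, Submodule.mem_sInf]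
  intro J hJ
  have : (⟨J, hJ⟩ : PrimeSpectrum R) = ⟨m, hm.isPrime⟩ := Subsingleton.elim _ _
  have hJm : J = m := congrArg PrimeSpectrum.asIdeal this
  rw [hJm]; exact ham

/-- An affine reduced scheme with one point is the spectrum of a field. -/
theorem exists_field (Q : Over S) [IsAffine Q.left] [IsReduced Q.left] [Subsingleton ↥Q.left]
    [Nonempty ↥Q.left] :
    ∃ (k : Type u) (_ : Field k) (str : Spec (CommRingCat.of k) ⟶ S),
      Nonempty (Over.mk str ≅ Q) := by
  have : Subsingleton (PrimeSpectrum Γ(Q.left, ⊤)) :=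
    Q.left.isoSpec.schemeIsoToHomeo.symm.injective.subsingleton
  have : Nontrivial Γ(Q.left, ⊤) := by
    rw [← PrimeSpectrum.nonempty_iff_nontrivial]
    exact ⟨Q.left.isoSpec.hom (Classical.arbitrary _)⟩
  have hfield := isField_of_subsingleton Γ(Q.left, ⊤)
  exact ⟨Γ(Q.left, ⊤), hfield.toField, Q.left.isoSpec.inv ≫ Q.hom,
    ⟨Over.isoMk Q.left.isoSpec.symm rfl⟩⟩

/-- Reducedness descends to a scheme from a reduced etale chart. -/
theorem isReduced_of_iso {Q : Over S} (e : (yon S).obj Q ≅ F)
    (hr : EtaleLocally (fun U => IsReduced U) F) : IsReduced Q.left := by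
  obtain ⟨U, a, ha, hs, hU⟩ := hr
  obtain ⟨c, hc⟩ := (yon S).map_surjective (a ≫ e.inv)
  have h₁ : RepWith @Etale ((yon S).map c) := by
    rw [hc]
    exact (Groth.Agent.Lib.AlgSpace.repWith_comp_iso_iff @Etale a e.inv).2 ha
  have h₂ : RepWith @Surjective ((yon S).map c) := by
    rw [hc]
    exact (Groth.Agent.Lib.AlgSpace.repWith_comp_iso_iff @Surjective a e.inv).2 hs
  have : Etale c.left := (repWith_yon_map_iff _ _).1 h₁
  have : Surjective c.left := (repWith_yon_map_iff _ _).1 h₂
  exact Groth.Agent.H56.GeomDescent.isReduced_of_flat_surjective c.left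

/-- A reduced decent space with a single point is the spectrum of a field. -/
theorem exists_field_iso (hA : IsAlgSpace F) (hF : IsDecent F) [Nonempty (Points F)]
    [Subsingleton (Points F)] (hr : EtaleLocally (fun U => IsReduced U) F) :
    ∃ (k : Type u) (_ : Field k) (str : Spec (CommRingCat.of k) ⟶ S),
      Nonempty ((yon S).obj (Over.mk str) ≅ F) := by
  obtain ⟨Q, e, hQ, hsub, hne⟩ := exists_affine_iso hA hF
  have := isReduced_of_iso e hr
  obtain ⟨k, i, str, ⟨e'⟩⟩ := exists_field Q
  exact ⟨k, i, str, ⟨(yon S).mapIso e' ≪≫ e⟩⟩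

end Groth.Agent.Lib.AlgSpDecent.SinglePoint
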