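import Groth.Agent.Lib.AlgSpDecent.Criteria
import Groth.Agent.Lib.AlgSpDecent.Restrict
import Groth.Agent.Lib.GrpSch.SmoothReduced
import Groth.Agent.Lib.AlgSpDecent.SinglePoint
import Groth.Agent.Lib.AlgSpMor.Sep
import Mathlib.AlgebraicGeometry.Morphisms.ClosedImmersion

/-!
Closed points of decent spaces.
-/

universe u

open CategoryTheory CategoryTheory.Limits AlgebraicGeometry Opposite Topology

namespace Groth.Agent.Lib.AlgSpDecent.ClosedPoint

open AlgSp Core Fibre Specialize Decent

variable {S : Scheme.{u}} {F : Sp S}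

theorem isField_stalk_of_etale {k : Type u} [Field k] {E : Scheme.{u}}
    (π : E ⟶ Spec (CommRingCat.of k)) [Etale π] [DiscreteTopology E] (e : E) :
    IsField (E.presheaf.stalk e) := by
  have := Groth.Agent.Lib.GrpSch.isReduced_of_smooth_field π
  have : Subsingleton (PrimeSpectrum (E.presheaf.stalk e)) := by
    refine ⟨fun p q => ?_⟩
    apply (E.fromSpecStalk e).isEmbedding.injective
    have h : ∀ p : Spec (E.presheaf.stalk e), E.fromSpecStalk e p = e := fun p => by
      have : E.fromSpecStalk e p ∈ Set.range (E.fromSpecStalk e) := ⟨p, rfl⟩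
      rw [Scheme.range_fromSpecStalk] at this
      exact (specializes_iff_eq.1 this)
    exact (h p).trans (h q).symm
  exact SinglePoint.isField_of_subsingleton _

theorem surjective_stalkMap_of_comp {X Y Z : Scheme.{u}} (f : X ⟶ Y) (g : Z ⟶ X)
    [SurjectiveOnStalks (g ≫ f)] (t : Z) (e : X) (h : g t = e) (hfield : IsField (X.presheaf.stalk e)) :
    Function.Surjective (f.stalkMap e) := by
  subst h
  let _ := hfield.toField
  intro y
  have hinj : Function.Injective (g.stalkMap t) := (g.stalkMap t).hom.injective
  obtain ⟨z, hz⟩ := (g ≫ f).stalkMap_surjective t (g.stalkMap t y)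
  refine ⟨z, hinj ?_⟩
  rw [Scheme.Hom.stalkMap_comp] at hz
  exact hz

/-- A quasi-compact monomorphic point which is closed is a closed immersion. -/
theorem repWith_isClosedImmersion (hA : IsAlgSpace F) (hF : IsDecent F) (p : FieldPt F)
    [Mono p.toHom] (hq : RepWith @QuasiCompact p.toHom)
    (hcl : IsClosed ({Points.mk p} : Set (Points F))) :
    RepWith @IsClosedImmersion p.toHom := by
  have hp := representable_toHom hA p
  obtain ⟨U, a, ha, hs⟩ := hA.atlas
  let E := ha.rep.pullback p.toHom
  let π : E ⟶ p.pt := ha.rep.snd p.toHom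
  let f : E ⟶ U := ha.rep.fst' p.toHom
  have sqE := ha.rep.isPullback' p.toHom
  have := AlgSpace.isLocallySurjective_of_etale ha hs
  have : MorphismProperty.IsLocalAtTarget @IsClosedImmersion.{u} Scheme.fppfPrecoverage :=
    AlgSpMor.Sep.isLocalAtTarget_fppf_isClosedImmersion
  refine AlgSpace.repWith_of_isLocallySurjective hp a sqE.flip @IsClosedImmersion
    ((repWith_yon_map_iff _ _).2 ?_)
  have : DiscreteTopology ↥E.left := discreteTopology_pullback p ha
  have : Etale π.left := etale_snd p ha
  have hfm : Mono f.left := mono_fst p ha.rep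
  have hrange : Set.range f.left = Points.ofPt a ⁻¹' {Points.mk p} := range_fst p ha.rep
  have hclr : IsClosed (Set.range f.left) := hrange ▸ hcl.preimage (Points.continuous_ofPt a)
  have hfib : ∀ e, Points.ofPt a (f.left e) = Points.mk p := fun e => hrange.le ⟨e, rfl⟩
  have : SurjectiveOnStalks f.left := by
    refine ⟨fun e y => ?_⟩
    let u := f.left e
    obtain ⟨c, hc, -⟩ := existsUnique_factor hp (q := FieldPt.ofPt a u) (hfib e).symm
    change (yon S).map c ≫ p.toHom = _ at hc
    let i : (FieldPt.ofPt a u).pt ⟶ U := Over.homMk (U.left.fromSpecResidueField u) rfl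
    have hw : (yon S).map i ≫ a = (yon S).map c ≫ p.toHom := by
      rw [hc, FieldPt.toHom_ofPt]
    let g := ha.rep.lift' (g := p.toHom) i c hw
    have hg : g ≫ f = i := ha.rep.lift'_fst (g := p.toHom) i c hw
    obtain ⟨t⟩ := Core.nonempty_pt (FieldPt.ofPt a u)
    have hit : i.left t = u := by
      have : i.left t ∈ Set.range (U.left.fromSpecResidueField u) := ⟨t, rfl⟩
      rw [Scheme.range_fromSpecResidueField] at this
      exact this
    have hgt : g.left t = e := by
      apply f.left.injective
      have := congrArg (fun m : (FieldPt.ofPt a u).pt ⟶ U => m.left t) hg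
      exact this.trans hit
    have hfield : IsField (E.left.presheaf.stalk e) :=
      isField_stalk_of_etale (k := p.K) π.left _
    have hsurj : SurjectiveOnStalks (g.left ≫ f.left) := by
      rw [← Over.comp_left, hg]
      exact inferInstanceAs (SurjectiveOnStalks (U.left.fromSpecResidueField u))
    exact surjective_stalkMap_of_comp f.left g.left t e hgt hfield y
  have hemb : IsEmbedding f.left := by
    refine ⟨isInducing_iff_nhds.2 fun e => ?_, f.left.injective⟩
    rw [nhds_discrete]
    refine le_antisymm ?_ ?_
    · rw [← Filter.map_le_iff_le_comap, Filter.map_pure]; exact pure_le_nhds _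
    · rw [Filter.le_pure_iff, Filter.mem_comap]
      obtain ⟨_, ⟨W, hW, rfl⟩, heW, -⟩ := U.left.isBasis_affineOpens.exists_subset_of_mem_open
        (Set.mem_univ (f.left e)) isOpen_univ
      change U.left.Opens at W
      let T := {u : ↥U.left | u ∈ W ∧ u ∈ Set.range f.left ∧ u ≠ f.left e}
      have hTfin : T.Finite := by
        refine ((IsDecent.finite_fibres hF (Points.mk p) (Over.mk (W.ι ≫ U.hom))
          ((yon S).map (openIncl W) ≫ a) hW (repWith_etale_openIncl_comp W ha)).image
          (fun w : W => w.1)).subset ?_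
        rintro u ⟨huW, ⟨e', rfl⟩, -⟩
        exact ⟨⟨f.left e', huW⟩,
          (ofPt_openIncl_comp W a ⟨f.left e', huW⟩).trans (hfib e'), rfl⟩
      have hTcl : IsClosed T := by
        rw [← closure_eq_iff_isClosed]
        refine (subset_antisymm (fun z hz => ?_) subset_closure)
        rw [← Set.biUnion_of_singleton T, hTfin.closure_biUnion] at hz
        obtain ⟨y, hy, hz⟩ := Set.mem_iUnion₂.1 hz
        obtain ⟨e', he'⟩ : z ∈ Set.range f.left :=
          hclr.closure_subset (closure_mono (Set.singleton_subset_iff.2 hy.2.1) hz)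
        obtain ⟨e'', he''⟩ := hy.2.1
        have : z = y := IsDecent.eq_of_specializes hF ha
          ((congrArg _ he'.symm).trans ((hfib e').trans ((hfib e'').symm.trans (congrArg _ he''))))
          (specializes_iff_mem_closure.2 hz)
        exact this ▸ hy
      refine ⟨(W : Set ↥U.left) ∩ Tᶜ,
        (W.isOpen.inter hTcl.isOpen_compl).mem_nhds ⟨heW, fun h => h.2.2 rfl⟩, ?_⟩
      rintro e' ⟨h1, h2⟩
      by_contra hne
      exact h2 ⟨h1, ⟨e', rfl⟩, fun h => hne (f.left.injective h)⟩
  have : IsPreimmersion f.left := { ‹SurjectiveOnStalks f.left› with isEmbedding := hemb }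
  exact IsClosedImmersion.of_isPreimmersion f.left hclr

end Groth.Agent.Lib.AlgSpDecent.ClosedPoint
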