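import Groth.Agent.Lib.AlgSpDecent.ClosedPoint
import Groth.Agent.Lib.AlgSpMor.LocP
import Groth.Agent.Lib.Cyc.DimFun
import Groth.Agent.Lib.NormAmple.GenStalk
import Groth.Agent.Lib.SourceDescent.Scheme
import Mathlib.AlgebraicGeometry.Morphisms.Flat

/-!
Spaces with a flat surjective morphism from the spectrum of a field: all local rings of charts are fields.
-/

universe u

open CategoryTheory CategoryTheory.Limits AlgebraicGeometry Opposite Topology

namespace Groth.Agent.Lib.AlgSpDecent.FieldCover

theorem flat_of_isField_stalk {A B : Scheme.{u}} (h : A ⟶ B)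
    (hB : ∀ a, IsField (B.presheaf.stalk (h a))) : Flat h := by
  refine (Flat.iff_flat_stalkMap h).2 fun a => ?_
  let := (hB a).toField
  let := (h.stalkMap a).hom.toAlgebra
  show Module.Flat (B.presheaf.stalk (h a)) (A.presheaf.stalk a)
  infer_instance

theorem isField_of_flat_local {A L : Type u} [CommRing A] [CommRing L] [IsLocalRing A] [IsLocalRing L]
    (φ : A →+* L) [IsLocalHom φ] (hφ : φ.Flat) (hL : IsField L) : IsField A := by
  let := φ.toAlgebra
  have : Module.Flat A L := hφ
  have : IsLocalHom (algebraMap A L) := ‹_›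
  have : Module.FaithfullyFlat A L := Module.FaithfullyFlat.of_flat_of_isLocalHom
  rw [IsLocalRing.isField_iff_maximalIdeal_eq] at hL ⊢
  refine eq_bot_iff.2 fun a ha => ?_
  have h1 : φ a ∈ IsLocalRing.maximalIdeal L :=
    (IsLocalRing.maximalIdeal_comap φ).ge ha
  rw [hL] at h1
  exact (FaithfulSMul.algebraMap_injective A L) (h1.trans (map_zero φ).symm)

open AlgSp Groth.Agent.Lib.AlgSpace Core

variable {S : Scheme.{u}} {Z : Sp S}

/-- All local rings of charts are fields. -/
theorem isField_stalk_chart (hZ : IsAlgSpace Z) {k : Type u} [Field k]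
    {str : Spec (CommRingCat.of k) ⟶ S} {p : (yon S).obj (Over.mk str) ⟶ Z} (hpf : LocP @Flat p)
    (hps : IsSurjectiveMor p) {U : Over S} {a : (yon S).obj U ⟶ Z} (ha : RepWith @Etale a)
    (u : ↥U.left) : IsField (U.left.presheaf.stalk u) := by
  obtain ⟨E, q, π, sq⟩ := exists_isPullback_yon hZ.diag a p
  obtain ⟨c, hc⟩ := hps (Points.ofPt a u)
  obtain ⟨c₀, rfl⟩ := (Points.schemeEquiv (Over.mk str)).surjective c
  simp only [Points.schemeEquiv] at hc
  have e₀ : Points.ofScheme (Over.mk str) c₀ = Points.ofPt (𝟙 ((yon S).obj (Over.mk str))) c₀ :=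
    ((congrArg (fun φ => Points.ofPt φ c₀) ((yon S).map_id (Over.mk str)).symm).trans
      (Core.ofPt_yon_map (𝟙 (Over.mk str)) c₀)).symm
  have hc' : Points.ofPt p c₀ = Points.ofPt a u := by
    rw [← Category.id_comp p, Core.ofPt_comp, ← e₀]
    exact hc
  obtain ⟨e, he, -⟩ := (ofPt_eq_ofPt_iff_of_isPullback sq u c₀).1 hc'.symm
  have hπ : Etale π.left := repWith_property ha sq
  have : MorphismProperty.ContainsIdentities @Etale.{u} := ⟨fun _ => inferInstance⟩
  have hπa : RepWith @Etale ((yon S).map π) := (AlgSp.repWith_yon_map_iff _ _).2 hπ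
  have hflat : Flat q.left := hpf ((yon S).map π) a q hπa ha sq.w.symm
  have : DiscreteTopology ↥E.left := by
    have := SourceDescent.Scheme.locallyQuasiFinite_of_etale π.left
    have h := π.left.isDiscrete_preimage_singleton (π.left e)
    have huniv : π.left ⁻¹' {π.left e} = Set.univ := Set.eq_univ_of_forall fun x =>
      @Subsingleton.elim _ (inferInstanceAs (Subsingleton (PrimeSpectrum k))) _ _
    rw [huniv] at h
    exact isDiscrete_univ_iff.1 h
  subst he
  exact isField_of_flat_local (q.left.stalkMap e).hom (Flat.stalkMap q.left e)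
    (ClosedPoint.isField_stalk_of_etale (k := k) π.left e)

theorem isReduced_chart (hZ : IsAlgSpace Z) {k : Type u} [Field k]
    {str : Spec (CommRingCat.of k) ⟶ S} {p : (yon S).obj (Over.mk str) ⟶ Z} (hpf : LocP @Flat p)
    (hps : IsSurjectiveMor p) {U : Over S} {a : (yon S).obj U ⟶ Z} (ha : RepWith @Etale a) :
    IsReduced U.left := by
  have : ∀ u : ↥U.left, _root_.IsReduced (U.left.presheaf.stalk u) := fun u => by
    have := (isField_stalk_chart hZ hpf hps ha u).isDomain
    infer_instance
  exact isReduced_of_isReduced_stalk _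

theorem subsingleton_points {k : Type u} [Field k] {str : Spec (CommRingCat.of k) ⟶ S}
    {p : (yon S).obj (Over.mk str) ⟶ Z} (hps : IsSurjectiveMor p) : Subsingleton (Points Z) := by
  have : Subsingleton ↥(Over.mk str).left := inferInstanceAs (Subsingleton (PrimeSpectrum k))
  have : Subsingleton (Points ((yon S).obj (Over.mk str))) :=
    (Points.schemeEquiv (Over.mk str)).surjective.subsingleton
  exact hps.subsingleton

/-- The composite `Spec κ(u) ⟶ U ⟶ Z`. -/
noncomputable abbrev resPt {U : Over S} (a : (yon S).obj U ⟶ Z) (u : ↥U.left) :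
    (yon S).obj (Over.mk (U.left.fromSpecResidueField u ≫ U.hom)) ⟶ Z :=
  (yon S).map (Over.homMk (U.left.fromSpecResidueField u) rfl :
    Over.mk (U.left.fromSpecResidueField u ≫ U.hom) ⟶ U) ≫ a

theorem surjective_resPt [Subsingleton (Points Z)] {U : Over S} (a : (yon S).obj U ⟶ Z) (u : ↥U.left) :
    IsSurjectiveMor (resPt a u) := fun z =>
  ⟨Points.ofPt (𝟙 _) (IsLocalRing.closedPoint (U.left.residueField u)), Subsingleton.elim _ _⟩

theorem locP_resPt (hZ : IsAlgSpace Z) {P : MorphismProperty Scheme.{u}}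
    (hP : SourceDescent.Scheme.EtaleLocalST P) {U : Over S} {a : (yon S).obj U ⟶ Z}
    (ha : RepWith @Etale a) (u : ↥U.left) (h : P (U.left.fromSpecResidueField u)) :
    LocP P (resPt a u) := by
  have : P.IsStableUnderBaseChange := hP.baseChange
  exact AlgSpMor.LocP.locP_comp hP (IsAlgSpace.yon_obj _) (IsAlgSpace.yon_obj _) hZ
    (AlgSpMor.LocP.locP_of_repWith hP ((AlgSp.repWith_yon_map_iff _ _).2 h))
    (AlgSpMor.LocP.locP_of_repWith hP
      (Groth.Agent.Lib.AlgSpace.repWith_mono ha fun _ _ g hg => hP.etale g hg))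

theorem flat_fromSpecResidueField {U : Scheme.{u}} (u : U) (hu : IsField (U.presheaf.stalk u)) :
    Flat (U.fromSpecResidueField u) :=
  flat_of_isField_stalk _ fun z => by
    have : U.fromSpecResidueField u z = u := Scheme.fromSpecResidueField_apply u z
    exact this.symm ▸ hu

/-- A point whose nearby points all have field local rings gives a morphism of finite type. -/
theorem locallyOfFiniteType_fromSpecResidueField {U : Scheme.{u}}
    (hU : ∀ u : U, IsField (U.presheaf.stalk u)) (u : U) :
    LocallyOfFiniteType (U.fromSpecResidueField u) := by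
  obtain ⟨W, hW, huW, -⟩ := exists_isAffineOpen_mem_and_subset (show u ∈ (⊤ : U.Opens) from trivial)
  have hclosed : IsClosed ({⟨u, huW⟩} : Set ↥(W : Scheme.{u})) := by
    have : IsAffine (W : Scheme.{u}) := hW
    let u' : ↥(W : Scheme.{u}) := ⟨u, huW⟩
    refine isClosed_of_closure_subset fun z hz => ?_
    have hs : u' ⤳ z := specializes_iff_mem_closure.2 hz
    obtain ⟨y, hy⟩ : u' ∈ Set.range ((W : Scheme.{u}).fromSpecStalk z) := by
      rw [Scheme.range_fromSpecStalk]; exact hs
    have hf : IsField ((W : Scheme.{u}).presheaf.stalk z) :=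
      MulEquiv.isField (hU (W.ι z)) (asIso (W.ι.stalkMap z)).commRingCatIsoToRingEquiv.symm.toMulEquiv
    let := hf.toField
    have : y = IsLocalRing.closedPoint _ :=
      @Subsingleton.elim _ (inferInstanceAs (Subsingleton (PrimeSpectrum _))) _ _
    rw [this, Scheme.fromSpecStalk_closedPoint] at hy
    exact hy
  have : IsClosedImmersion ((W : Scheme.{u}).fromSpecResidueField ⟨u, huW⟩) :=
    IsClosedImmersion.of_isPreimmersion _ (by rw [Scheme.range_fromSpecResidueField]; exact hclosed)
  have h := Scheme.Hom.SpecMap_residueFieldMap_fromSpecResidueField W.ι ⟨u, huW⟩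
  have e : U.fromSpecResidueField u = Spec.map (inv (W.ι.residueFieldMap ⟨u, huW⟩)) ≫
      (W : Scheme.{u}).fromSpecResidueField ⟨u, huW⟩ ≫ W.ι := by
    rw [← h, ← Spec.map_comp_assoc, IsIso.hom_inv_id, Spec.map_id, Category.id_comp]
    rfl
  rw [e]
  have h1 : IsIso (Spec.map (inv (W.ι.residueFieldMap ⟨u, huW⟩))) :=
    ⟨Spec.map (W.ι.residueFieldMap ⟨u, huW⟩),
      by rw [← Spec.map_comp, IsIso.hom_inv_id, Spec.map_id],
      by rw [← Spec.map_comp, IsIso.inv_hom_id, Spec.map_id]⟩
  have h2 : LocallyOfFiniteType ((W : Scheme.{u}).fromSpecResidueField ⟨u, huW⟩ ≫ W.ι) :=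
    MorphismProperty.comp_mem @LocallyOfFiniteType _ _ inferInstance inferInstance
  exact @MorphismProperty.comp_mem _ _ @LocallyOfFiniteType _ _ _ _ _ _ (@locallyOfFiniteType_of_isOpenImmersion _ _ _ (@IsOpenImmersion.of_isIso _ _ _ h1)) h2

end Groth.Agent.Lib.AlgSpDecent.FieldCover
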