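import Mathlib.AlgebraicGeometry.AlgClosed.Basic
import Mathlib.AlgebraicGeometry.Morphisms.QuasiFinite
import Mathlib.AlgebraicGeometry.Morphisms.Etale
import Mathlib.AlgebraicGeometry.Morphisms.Separated
import Mathlib.AlgebraicGeometry.Morphisms.UniversallyOpen
import Mathlib.AlgebraicGeometry.PullbackCarrier
import Mathlib.RingTheory.Unramified.LocalStructure
import Mathlib.FieldTheory.IsAlgClosed.AlgebraicClosure

/-!
Loci of points over which a separated etale morphism has at least `n` geometric points.
-/

universe u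

open CategoryTheory CategoryTheory.Limits AlgebraicGeometry

namespace Groth.Agent.Lib.AlgSpDecent.Levels

/-- The complement of the diagonal. -/
noncomputable def offDiag {R U : Scheme.{u}} (t : R ⟶ U) : (pullback t t).Opens :=
  ⟨interior (Set.range (pullback.diagonal t))ᶜ, isOpen_interior⟩

theorem mem_offDiag {R U : Scheme.{u}} (t : R ⟶ U) [IsSeparated t] (z : ↥(pullback t t)) :
    z ∈ offDiag t ↔ z ∉ Set.range (pullback.diagonal t) := by
  show z ∈ interior _ ↔ _
  rw [(pullback.diagonal t).isClosedEmbedding.isClosed_range.isOpen_compl.interior_eq]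
  rfl

/-- The projection from the complement of the diagonal: one geometric point less in each fibre. -/
noncomputable def step {R U : Scheme.{u}} (t : R ⟶ U) : (offDiag t : Scheme.{u}) ⟶ R :=
  (offDiag t).ι ≫ pullback.fst t t

instance etale_step {R U : Scheme.{u}} (t : R ⟶ U) [Etale t] : Etale (step t) := by
  delta step; infer_instance

instance isSeparated_step {R U : Scheme.{u}} (t : R ⟶ U) [IsSeparated t] : IsSeparated (step t) := by
  delta step; infer_instance

/-- `Lev n t` is the set of points over which `t` has at least `n` geometric points. -/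
noncomputable def Lev : ℕ → ∀ {R U : Scheme.{u}} (_ : R ⟶ U), Set ↥U
  | 0, _, _, _ => Set.univ
  | n + 1, _, _, t => t '' Lev n (step t)

theorem lev_succ (n : ℕ) {R U : Scheme.{u}} (t : R ⟶ U) :
    Lev (n + 1) t = t '' Lev n (step t) := rfl

theorem isOpen_lev : ∀ (n : ℕ) {R U : Scheme.{u}} (t : R ⟶ U) [Etale t], IsOpen (Lev n t)
  | 0, _, _, _, _ => isOpen_univ
  | n + 1, _, _, t, _ => t.isOpenMap _ (isOpen_lev n (step t))

/-- Where `t` has exactly `n` geometric points it is quasi-compact, locally on the base. -/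
theorem local_bound : ∀ (n : ℕ) {R U : Scheme.{u}} (t : R ⟶ U) [Etale t] [IsSeparated t],
    ∀ u ∈ Lev n t, ∃ N : Set ↥U, IsOpen N ∧ u ∈ N ∧
      ∃ R' : Set ↥R, IsOpen R' ∧ IsCompact R' ∧ t ⁻¹' (N \ Lev (n + 1) t) ⊆ R'
  | 0, R, U, t, _, _, u, _ => by
    refine ⟨Set.univ, isOpen_univ, trivial, ∅, isOpen_empty, isCompact_empty, ?_⟩
    rintro r ⟨-, hr⟩
    exact (hr ⟨r, trivial, rfl⟩).elim
  | n + 1, R, U, t, _, _, u, hu => by
    obtain ⟨r, hr, rfl⟩ := hu
    obtain ⟨Nr, hNr, hrN, Q, hQo, hQ, hQs⟩ := local_bound n (step t) r hr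
    obtain ⟨_, ⟨V, hV, rfl⟩, hrV, hVN⟩ := R.isBasis_affineOpens.exists_subset_of_mem_open hrN hNr
    change R.Opens at V
    let R2 := pullback.snd t t '' ((offDiag t).ι '' Q)
    have hR2o : IsOpen R2 :=
      (pullback.snd t t).isOpenMap _ ((offDiag t).ι.isOpenMap _ hQo)
    have hR2c : IsCompact R2 :=
      (hQ.image (offDiag t).ι.continuous).image (pullback.snd t t).continuous
    refine ⟨t '' V, t.isOpenMap _ V.isOpen, ⟨r, hrV, rfl⟩, V ∪ R2, V.isOpen.union hR2o,
      hV.isCompact.union hR2c, ?_⟩
    rintro r₁ ⟨⟨r', hr', he⟩, hnot⟩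
    obtain ⟨z, hz₁, hz₂⟩ := Scheme.Pullback.exists_preimage_pullback (f := t) (g := t) r' r₁ he
    by_cases hz : z ∈ Set.range (pullback.diagonal t)
    · obtain ⟨w, rfl⟩ := hz
      refine Or.inl ?_
      have h1 : w = r' := by
        rw [← hz₁, ← Scheme.Hom.comp_apply, pullback.diagonal_fst]; rfl
      have h2 : w = r₁ := by
        rw [← hz₂, ← Scheme.Hom.comp_apply, pullback.diagonal_snd]; rfl
      rwa [← h2, h1]
    · refine Or.inr ?_
      have hzo : z ∈ offDiag t := (mem_offDiag t z).2 hz
      refine ⟨z, ⟨⟨z, hzo⟩, hQs ⟨?_, ?_⟩, rfl⟩, hz₂⟩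
      · show step t ⟨z, hzo⟩ ∈ Nr
        have : step t ⟨z, hzo⟩ = r' := hz₁
        rw [this]; exact hVN hr'
      · intro hmem
        apply hnot
        have : step t ⟨z, hzo⟩ = r' := hz₁
        rw [this] at hmem
        exact ⟨r', hmem, he⟩

theorem discreteTopology_of_etale_field {K : Type u} [Field K] {P : Scheme.{u}}
    (f : P ⟶ Spec (.of K)) [Etale f] : DiscreteTopology ↥P := by
  have : LocallyQuasiFinite f := by
    rw [HasRingHomProperty.iff_appLE (P := @LocallyQuasiFinite)]
    intro U V e
    have := HasRingHomProperty.appLE (P := @Etale) f ‹_› U V e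
    algebraize [(Scheme.Hom.appLE f U.1 V.1 e).hom]
    exact inferInstanceAs (Algebra.QuasiFinite _ _)
  have : IsLocallyArtinian (Spec (CommRingCat.of K)) := inferInstance
  have := IsLocallyArtinian.of_locallyQuasiFinite (f := f)
  infer_instance

/-- A level is bounded by the number of geometric points. -/
theorem le_card_of_mem : ∀ (n : ℕ) {R U : Scheme.{u}} (t : R ⟶ U) [Etale t] [IsSeparated t]
    {Ω : Type u} [Field Ω] [IsAlgClosed Ω] (x : Spec (.of Ω) ⟶ U) [Finite ↥(pullback t x)],
    x (IsLocalRing.closedPoint Ω) ∈ Lev n t → n ≤ Nat.card ↥(pullback t x)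
  | 0, _, _, _, _, _, _, _, _, _, _, _ => Nat.zero_le _
  | n + 1, R, U, t, _, _, Ω, _, _, x, _, h => by
    obtain ⟨r, hr, he⟩ := h
    obtain ⟨z, hz₁, -⟩ := Scheme.Pullback.exists_preimage_pullback (f := t) (g := x) r
      (IsLocalRing.closedPoint Ω) he
    have := discreteTopology_of_etale_field (pullback.snd t x)
    let σ := pointOfClosedPoint (pullback.snd t x) z (isClosed_discrete _)
    have hσ : σ ≫ pullback.snd t x = 𝟙 _ := pointOfClosedPoint_comp _ _ _
    let rb : Spec (.of Ω) ⟶ R := σ ≫ pullback.fst t x
    have hrb : rb (IsLocalRing.closedPoint Ω) = r := by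
      simp only [rb, Scheme.Hom.comp_apply, σ, pointOfClosedPoint_apply, hz₁]
    have hrbt : rb ≫ t = x := by
      simp only [rb, Category.assoc, pullback.condition]
      rw [reassoc_of% hσ]
    have hc : (pullback.fst (step t) rb ≫ (offDiag t).ι ≫ pullback.snd t t) ≫ t =
        pullback.snd (step t) rb ≫ x := by
      rw [Category.assoc, Category.assoc, ← pullback.condition, ← hrbt, ← Category.assoc,
        ← Category.assoc, ← Category.assoc]
      congr 1
      rw [Category.assoc]
      exact pullback.condition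
    obtain ⟨φ, hφ₁, hφ₂⟩ : ∃ φ : pullback (step t) rb ⟶ pullback t x,
        φ ≫ pullback.fst t x = pullback.fst (step t) rb ≫ (offDiag t).ι ≫ pullback.snd t t ∧
        φ ≫ pullback.snd t x = pullback.snd (step t) rb :=
      ⟨pullback.lift _ _ hc, pullback.lift_fst _ _ _, pullback.lift_snd _ _ _⟩
    have : Mono φ := by
      refine ⟨fun {W} a b hab => ?_⟩
      have h1 := congrArg (· ≫ pullback.fst t x) hab
      have h2 := congrArg (· ≫ pullback.snd t x) hab
      simp only [Category.assoc, hφ₁, hφ₂] at h1 h2
      apply pullback.hom_ext _ h2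
      rw [← cancel_mono (offDiag t).ι]
      apply pullback.hom_ext
      · simp only [Category.assoc]
        have : pullback.fst (step t) rb ≫ (offDiag t).ι ≫ pullback.fst t t =
            pullback.snd (step t) rb ≫ rb := pullback.condition
        rw [this, reassoc_of% h2]
      · simpa [Category.assoc] using h1
    have hinj : Function.Injective φ := φ.injective
    have := Finite.of_injective _ hinj
    have hnot : z ∉ Set.range φ := by
      rintro ⟨y, hy⟩
      have := discreteTopology_of_etale_field (pullback.snd (step t) rb)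
      let yb := pointOfClosedPoint (pullback.snd (step t) rb) y (isClosed_discrete _)
      have hyb : yb ≫ pullback.snd (step t) rb = 𝟙 _ := pointOfClosedPoint_comp _ _ _
      have heq : yb ≫ φ = σ := by
        have h1 : (yb ≫ φ) ≫ pullback.snd t x = 𝟙 _ := by rw [Category.assoc, hφ₂, hyb]
        have : (⟨yb ≫ φ, h1⟩ : {p : Spec (.of Ω) ⟶ pullback t x // p ≫ pullback.snd t x = 𝟙 _}) =
            ⟨σ, hσ⟩ := by
          apply (pointEquivClosedPoint (pullback.snd t x)).injective
          apply Subtype.ext
          simp only [pointEquivClosedPoint_apply_coe, Scheme.Hom.comp_apply, yb, σ,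
            pointOfClosedPoint_apply]
          exact hy
        exact congrArg Subtype.val this
      have hdiag : (yb ≫ pullback.fst (step t) rb ≫ (offDiag t).ι) =
          rb ≫ pullback.diagonal t := by
        apply pullback.hom_ext
        · simp only [Category.assoc, pullback.diagonal_fst, Category.comp_id]
          have : pullback.fst (step t) rb ≫ (offDiag t).ι ≫ pullback.fst t t =
              pullback.snd (step t) rb ≫ rb := pullback.condition
          rw [this, reassoc_of% hyb]
        · simp only [Category.assoc, pullback.diagonal_snd, Category.comp_id]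
          rw [← hφ₁, ← Category.assoc, heq]
      have hmem := ((pullback.fst (step t) rb) (yb (IsLocalRing.closedPoint Ω))).2
      rw [mem_offDiag] at hmem
      apply hmem
      refine ⟨rb (IsLocalRing.closedPoint Ω), ?_⟩
      exact (congrArg (fun m => m (IsLocalRing.closedPoint Ω)) hdiag).symm
    have hlt : Nat.card ↥(pullback (step t) rb) < Nat.card ↥(pullback t x) :=
      lt_of_le_of_ne (Nat.card_le_card_of_injective φ hinj) fun heq =>
        hnot ((Nat.bijective_iff_injective_and_card φ).2 ⟨hinj, heq⟩ |>.2 z)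
    have := le_card_of_mem n (step t) rb (hrb.symm ▸ hr)
    omega

/-- A point with finite fibre lies outside some level. -/
theorem exists_notMem_lev {R U : Scheme.{u}} (t : R ⟶ U) [Etale t] [IsSeparated t] (u : ↥U)
    (h : (t ⁻¹' {u}).Finite) : ∃ n, u ∉ Lev n t := by
  let Ω := AlgebraicClosure (U.residueField u)
  let j : Spec (.of Ω) ⟶ Spec (U.residueField u) :=
    Spec.map (CommRingCat.ofHom (algebraMap (U.residueField u) Ω))
  have := h.to_subtype
  have : Finite ↥(pullback t (U.fromSpecResidueField u)) :=
    Finite.of_equiv _ (t.fiberHomeo u).symm.toEquiv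
  let e := pullbackLeftPullbackSndIso t (U.fromSpecResidueField u) j
  have : QuasiCompact j := inferInstance
  have : CompactSpace ↥(pullback t (j ≫ U.fromSpecResidueField u)) :=
    e.schemeIsoToHomeo.compactSpace
  have := discreteTopology_of_etale_field (pullback.snd t (j ≫ U.fromSpecResidueField u))
  have : Finite ↥(pullback t (j ≫ U.fromSpecResidueField u)) := finite_of_compact_of_discrete
  refine ⟨Nat.card ↥(pullback t (j ≫ U.fromSpecResidueField u)) + 1, fun hu => ?_⟩
  have := le_card_of_mem _ t (j ≫ U.fromSpecResidueField u) (by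
    rw [Scheme.Hom.comp_apply]; erw [Scheme.fromSpecResidueField_apply]; exact hu)
  omega

end Groth.Agent.Lib.AlgSpDecent.Levels
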