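import Groth.Agent.Lib.AlgSpDecent.FieldChangeFibre
import Groth.Agent.Lib.AlgSpDecent.FieldCover
import Groth.Agent.Lib.AlgSpDecent.ClosedPoint
import Groth.Agent.Lib.AlgSpDecent.Levels
import Groth.Agent.H46.UnivOpenTrdeg
import Groth.Prelude.Def_FDesc

/-!
Geometric reducedness of the fibres of a morphism of algebraic spaces, read on charts.
-/

universe u

open CategoryTheory CategoryTheory.Limits AlgebraicGeometry Opposite Topology

namespace Groth.Agent.Lib.AlgSpDecent.GeomRedFibre

open AlgSp Groth.Agent.Lib.AlgSpace Core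

variable {S : Scheme.{u}} {X Y : Sp S}

/-- All fibres through `x` over fields are reduced at the points over `x`. -/
def Good (f : X ⟶ Y) (x : Points X) : Prop :=
  ∀ (k : FieldPt Y), Points.mk k = Points.map f x → ∀ (P : Sp S) (a : P ⟶ X) (b : P ⟶ (yon S).obj k.pt),
    IsPullback a b f k.toHom → ∀ z : Points P, Points.map a z = x →
      HasAt (fun U u => _root_.IsReduced ↥(U.presheaf.stalk u)) P z

/-- All fibres over `y` over fields are reduced. -/
def GoodFibre (f : X ⟶ Y) (y : Points Y) : Prop :=
  ∀ (k : FieldPt Y), Points.mk k = y → ∀ (P : Sp S) (a : P ⟶ X) (b : P ⟶ (yon S).obj k.pt),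
    IsPullback a b f k.toHom → EtaleLocally (fun U => IsReduced U) P

variable {f : X ⟶ Y}

theorem goodFibre_iff (hX : IsAlgSpace X) (hY : IsAlgSpace Y) (y : Points Y) :
    GoodFibre f y ↔ ∀ x, Points.map f x = y → Good f x := by
  constructor
  · rintro h x rfl k hk P a b sq z -
    exact AlgSpRed.Stalk.hasAt_of_isReducedSp (h k hk P a b sq) z
  · intro h k hk P a b sq
    have hP := isAlgSpace_of_isPullback sq hY.diag hX (IsAlgSpace.yon_obj _)
    obtain ⟨U, c, hc, hcs⟩ := hP.atlas
    refine ⟨U, c, hc, hcs, AlgSpRed.Stalk.isReduced_of_forall_hasAt hP.diag hc fun z => ?_⟩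
    have e : Points.map f (Points.map a z) = Points.mk k := by
      rw [← Points.map_comp, sq.w, Points.map_comp]
      obtain ⟨w, hw⟩ := (Points.schemeEquiv k.pt).surjective (Points.map b z)
      rw [← hw]
      show Points.map k.toHom (Points.ofScheme k.pt w) = _
      rw [Core.map_ofScheme, Points.ofPt_toHom]
    exact h _ (e.trans hk) k e.symm P a b sq z rfl

/-- The condition with extensions of the base field spelled out. -/
theorem goodFibre_iff_extend (hX : IsAlgSpace X) (hY : IsAlgSpace Y) (y : Points Y) :
    GoodFibre f y ↔ ∀ (k : FieldPt Y), Points.mk k = y →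
      ∀ (k' : Type u) [Field k'] (φ : k.K →+* k') (P : Sp S) (a : P ⟶ X)
        (b : P ⟶ (yon S).obj (Over.mk (Spec.map (CommRingCat.ofHom φ) ≫ k.str))),
        IsPullback a b f ((yon S).map (Over.homMk (Spec.map (CommRingCat.ofHom φ)) rfl :
          Over.mk (Spec.map (CommRingCat.ofHom φ) ≫ k.str) ⟶ k.pt) ≫ k.toHom) →
        EtaleLocally (fun U => IsReduced U) P := by
  constructor
  · intro h k hk k' _ φ P a b sq
    let ψ : Over.mk (Spec.map (CommRingCat.ofHom φ) ≫ k.str) ⟶ k.pt := Over.homMk (Spec.map (CommRingCat.ofHom φ)) rfl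
    refine h (ofHom ((yon S).map ψ ≫ k.toHom)) ((FieldChangeFibre.mk_ofHom ψ).trans hk) P a b ?_
    rw [toHom_ofHom]
    exact sq
  · intro h k hk P a b sq
    let ψ : Over.mk (Spec.map (CommRingCat.ofHom (RingHom.id k.K)) ≫ k.str) ⟶ k.pt :=
      Over.homMk (Spec.map (CommRingCat.ofHom (RingHom.id k.K))) rfl
    exact FieldChangeFibre.etaleLocally_isReduced_of_extend hX hY sq (IsPullback.of_hasPullback f ((yon S).map ψ ≫ k.toHom))
      (h k hk k.K (RingHom.id _) _ _ _ (IsPullback.of_hasPullback f ((yon S).map ψ ≫ k.toHom)))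

theorem isReduced_stalk_of_reduced_point {A B : Scheme.{u}} (m : A ⟶ B) [Flat m] (z : A) {z₀ : B}
    (hz : m z = z₀) [_root_.IsReduced (A.presheaf.stalk z)] : _root_.IsReduced (B.presheaf.stalk z₀) := by
  subst hz
  exact AlgSpRed.Stalk.reduced_of_flat m z

/-- Reading `Good` on a chart. -/
theorem good_iff (hX : IsAlgSpace X) (hY : IsAlgSpace Y) {U V : Over S} {a : (yon S).obj U ⟶ X}
    {b : (yon S).obj V ⟶ Y} {h : U ⟶ V} (ha : RepWith @Etale a) (hb : RepWith @Etale b)
    (w : a ≫ f = (yon S).map h ≫ b) (u : ↥U.left) :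
    Good f (Points.ofPt a u) ↔
      FBase.IsGeomReducedAt (h.left.fiberToSpecResidueField (h.left.base u)) (h.left.asFiber u) := by
  have hfx : Points.map f (Points.ofPt a u) = Points.ofPt b (h.left u) := by
    rw [← Core.ofPt_comp, w, Core.ofPt_map_comp]
  constructor
  · intro hg K _ hA x' hx'
    let F := h.left.fiberToSpecResidueField (h.left.base u)
    let ψ : Spec (CommRingCat.of K) ⟶ Spec (V.left.residueField (h.left.base u)) :=
      Spec.map (CommRingCat.ofHom (@algebraMap _ K _ _ hA))
    let τ : Spec (CommRingCat.of K) ⟶ V.left := ψ ≫ V.left.fromSpecResidueField _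
    let T : Over S := Over.mk (τ ≫ V.hom)
    let tV : T ⟶ V := Over.homMk τ rfl
    let g : (yon S).obj T ⟶ Y := (yon S).map tV ≫ b
    -- the scheme fibre over `K`
    have sqQ' : IsPullback (FBase.bcπ F K ≫ h.left.fiberι (h.left.base u))
        (pullback.snd F ψ) h.left τ :=
      (IsPullback.of_hasPullback F ψ).paste_horiz (IsPullback.of_hasPullback h.left (V.left.fromSpecResidueField _))
    -- the chart of the fibre of `f`
    obtain ⟨D, d₁, d₂, sqD⟩ := exists_isPullback_yon hY.diag b g
    let Q := Limits.pullback h d₁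
    have sqQ := IsPullback.of_hasPullback h d₁
    have sq := IsPullback.of_hasPullback f g
    let c : (yon S).obj Q ⟶ pullback f g := sq.lift ((yon S).map (pullback.fst h d₁) ≫ a)
      ((yon S).map (pullback.snd h d₁ ≫ d₂)) (by
        rw [Category.assoc, w, ← Functor.map_comp_assoc, sqQ.w, Functor.map_comp_assoc, sqD.w,
          Functor.map_comp_assoc])
    have sqc : IsPullback ((yon S).map (pullback.fst h d₁)) c a (pullback.fst f g) := by
      refine IsPullback.of_bot (v₁₁ := c) ?_ (sq.lift_fst _ _ _).symm sq
      rw [sq.lift_snd, w, Functor.map_comp]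
      exact (sqQ.map (yon S)).paste_vert sqD
    have hc : RepWith @Etale c := repWith_baseChange sqc ha
    obtain ⟨s, hs⟩ := (yon S).map_surjective (sqD.lift ((yon S).map tV) (𝟙 _) (by
      rw [Category.id_comp]))
    have hs₁ : s.left ≫ d₁.left = τ := by
      have : s ≫ d₁ = tV := (yon S).map_injective (by rw [Functor.map_comp, hs, sqD.lift_fst])
      exact congrArg CommaMorphism.left this
    have hs₂ : s.left ≫ d₂.left = 𝟙 _ := by
      have : s ≫ d₂ = 𝟙 T := (yon S).map_injective (by rw [Functor.map_comp, hs, sqD.lift_snd, (yon S).map_id])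
      exact congrArg CommaMorphism.left this
    have : Etale d₂.left := repWith_property hb sqD
    have : Etale s.left := by
      have : Etale (s.left ≫ d₂.left) := by rw [hs₂]; infer_instance
      exact Etale.of_comp s.left d₂.left
    have sqL : IsPullback (pullback.fst h d₁).left (pullback.snd h d₁).left h.left d₁.left :=
      sqQ.map (Over.forget S)
    let m : FBase.bc F K ⟶ Q.left := sqL.lift (FBase.bcπ F K ≫ h.left.fiberι (h.left.base u))
      (pullback.snd F ψ ≫ s.left) (by rw [sqQ'.w, Category.assoc, hs₁])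
    have sqm : IsPullback m (pullback.snd F ψ) (pullback.snd h d₁).left s.left := by
      refine IsPullback.of_right ?_ (sqL.lift_snd _ _ _) sqL
      rw [sqL.lift_fst, hs₁]
      exact sqQ'
    have : Etale m := MorphismProperty.of_isPullback sqm.flip ‹Etale s.left›
    let k := ofHom g
    have hk : Points.mk k = Points.map f (Points.ofPt a u) := by
      have e : k.toHom = g := toHom_ofHom g
      rw [hfx]
      refine (Points.ofPt_toHom k (IsLocalRing.closedPoint K)).symm.trans ?_
      refine (congrArg (fun φ => Points.ofPt φ (IsLocalRing.closedPoint K)) e).trans ?_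
      refine (Core.ofPt_map_comp tV b _).trans (congrArg (Points.ofPt b) ?_)
      exact (Scheme.Hom.comp_apply ψ _ _).trans (Scheme.fromSpecResidueField_apply _ _)
    have hpt : (pullback.fst h d₁).left (m x') = u := by
      rw [← Scheme.Hom.comp_apply, sqL.lift_fst, Scheme.Hom.comp_apply]
      exact (congrArg (h.left.fiberι (h.left.base u)) hx').trans (h.left.fiberι_asFiber u)
    have hred := hg k hk _ (pullback.fst f g) (pullback.snd f g) (by
      show IsPullback _ _ f k.toHom
      rw [toHom_ofHom]; exact sq) (Points.ofPt c (m x')) (by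
      rw [← Core.ofPt_comp, sq.lift_fst, Core.ofPt_map_comp, hpt])
    have := AlgSpRed.Stalk.isReduced_stalk_of_hasAt
      (isAlgSpace_of_isPullback sq hY.diag hX (IsAlgSpace.yon_obj _)).diag hc (m x') hred
    exact AlgSpRed.Stalk.reduced_of_etale m x'
  · intro hgr k hk P a' b' sq z hz
    obtain ⟨D, d₁, d₂, sqD⟩ := exists_isPullback_yon hY.diag b k.toHom
    let Q := Limits.pullback h d₁
    have sqQ := IsPullback.of_hasPullback h d₁
    let c : (yon S).obj Q ⟶ P := sq.lift ((yon S).map (pullback.fst h d₁) ≫ a)
      ((yon S).map (pullback.snd h d₁ ≫ d₂)) (by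
        rw [Category.assoc, w, ← Functor.map_comp_assoc, sqQ.w, Functor.map_comp_assoc, sqD.w,
          Functor.map_comp_assoc])
    have sqc : IsPullback ((yon S).map (pullback.fst h d₁)) c a a' := by
      refine IsPullback.of_bot (v₁₁ := c) ?_ (sq.lift_fst _ _ _).symm sq
      rw [sq.lift_snd, w, Functor.map_comp]
      exact (sqQ.map (yon S)).paste_vert sqD
    have hc : RepWith @Etale c := repWith_baseChange sqc ha
    obtain ⟨r, hr, hrz⟩ := AlgSpGeomConn.exists_ofPt_of_isPullback sqc z u hz
    refine ⟨Q, c, r, hc, hrz, ?_⟩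
    have sqL : IsPullback (pullback.fst h d₁).left (pullback.snd h d₁).left h.left d₁.left :=
      sqQ.map (Over.forget S)
    let d := (pullback.snd h d₁).left r
    have hd : d₁.left d = h.left u := by
      show d₁.left ((pullback.snd h d₁).left r) = _
      rw [← Scheme.Hom.comp_apply, ← sqL.w, Scheme.Hom.comp_apply, hr]
    have : Etale d₂.left := repWith_property hb sqD
    have hdisc : DiscreteTopology ↥D.left :=
      Levels.discreteTopology_of_etale_field (K := k.K) (show D.left ⟶ Spec (CommRingCat.of k.K) from d₂.left)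
    have : Etale (show D.left ⟶ Spec (CommRingCat.of k.K) from d₂.left) := ‹Etale d₂.left›
    have hfield := ClosedPoint.isField_stalk_of_etale (show D.left ⟶ Spec (CommRingCat.of k.K) from d₂.left) d
    have : Flat (D.left.fromSpecResidueField d) := FieldCover.flat_fromSpecResidueField d hfield
    obtain ⟨ρ, hρ⟩ := H46.UnivOpenTrdeg.exists_residue_factor (K := D.left.residueField d)
      (D.left.fromSpecResidueField d ≫ d₁.left) (h.left u)
      (by
        refine (Scheme.Hom.comp_apply _ _ _).trans ?_
        rw [Scheme.fromSpecResidueField_apply, hd])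
    let F := h.left.fiberToSpecResidueField (h.left.base u)
    let L : Type u := D.left.residueField d
    let hA : Algebra (IsLocalRing.ResidueField ↑(V.left.presheaf.stalk (h.left.base u))) L := ρ.hom.toAlgebra
    let ψ : Spec (CommRingCat.of L) ⟶ Spec (V.left.residueField (h.left.base u)) :=
      Spec.map (CommRingCat.ofHom (@algebraMap _ L _ _ hA))
    have hψ : ψ ≫ V.left.fromSpecResidueField _ = D.left.fromSpecResidueField d ≫ d₁.left := hρ
    have sqQ' : IsPullback (FBase.bcπ F L ≫ h.left.fiberι (h.left.base u))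
        (pullback.snd F ψ) h.left (D.left.fromSpecResidueField d ≫ d₁.left) := by
      rw [← hψ]
      exact (IsPullback.of_hasPullback F ψ).paste_horiz (IsPullback.of_hasPullback h.left (V.left.fromSpecResidueField _))
    let m : FBase.bc F L ⟶ Q.left := sqL.lift (FBase.bcπ F L ≫ h.left.fiberι (h.left.base u))
      (pullback.snd F ψ ≫ D.left.fromSpecResidueField d) (by rw [sqQ'.w, Category.assoc])
    have sqm : IsPullback m (pullback.snd F ψ) (pullback.snd h d₁).left (D.left.fromSpecResidueField d) := by
      refine IsPullback.of_right ?_ (sqL.lift_snd _ _ _) sqL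
      rw [sqL.lift_fst]
      exact sqQ'
    have : Flat m := MorphismProperty.of_isPullback sqm.flip ‹_›
    obtain ⟨x', hx', -⟩ := Scheme.exists_preimage_of_isPullback sqm r (IsLocalRing.closedPoint L)
      (Scheme.fromSpecResidueField_apply _ _).symm
    have hπ : FBase.bcπ F L x' = h.left.asFiber u := by
      apply (h.left.fiberι (h.left.base u)).isEmbedding.injective
      refine Eq.trans ?_ (hr.trans (h.left.fiberι_asFiber u).symm)
      refine Eq.trans ?_ (congrArg (pullback.fst h d₁).left hx')
      exact ((Scheme.Hom.comp_apply m _ x').symm.trans ((congrArg (fun φ : FBase.bc F L ⟶ U.left => φ x')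
        (sqL.lift_fst _ _ _)).trans (Scheme.Hom.comp_apply _ _ x'))).symm
    have := hgr L x' hπ
    exact isReduced_stalk_of_reduced_point m x' hx'

end Groth.Agent.Lib.AlgSpDecent.GeomRedFibre
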