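import Groth.Agent.Lib.AlgSpDecent.FiniteNhd
import Groth.Agent.Lib.AlgSpMor.Codim
import Groth.Agent.H46.QFin

/-!
Charts through a point over a given point of a target chart; quasi-finiteness over maximal points.
-/

universe u

open CategoryTheory CategoryTheory.Limits AlgebraicGeometry Opposite Topology

namespace Groth.Agent.Lib.AlgSpDecent.ChartOver

open AlgSp Groth.Agent.Lib.AlgSpace Core FiniteNhd

variable {S : Scheme.{u}} {X Y : Sp S}

theorem exists_chart_through (hX : IsAlgSpace X) (hY : IsAlgSpace Y) (f : X ⟶ Y) {V : Over S}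
    {b : (yon S).obj V ⟶ Y} (hb : RepWith @Etale b) (v : ↥V.left) (x : Points X)
    (hx : Points.map f x = Points.ofPt b v) :
    ∃ (U : Over S) (a : (yon S).obj U ⟶ X) (h : U ⟶ V) (u : ↥U.left), IsAffine U.left ∧
      RepWith @Etale a ∧ a ≫ f = (yon S).map h ≫ b ∧ Points.ofPt a u = x ∧ h.left u = v := by
  have sq : IsPullback (pullback.fst f b) (pullback.snd f b) f b := IsPullback.of_hasPullback _ _
  have hP : IsAlgSpace (pullback f b) :=
    isAlgSpace_of_isPullback sq hY.diag hX (IsAlgSpace.yon_obj V)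
  obtain ⟨z, hz₁, hz₂⟩ := Core.exists_point_of_isPullback sq x (Points.ofPt (𝟙 ((yon S).obj V)) v)
    (by rw [← Core.ofPt_comp, Category.id_comp, hx])
  obtain ⟨U, p, u, hU, hp, hpu⟩ := DimIntegral.exists_affine_chart_pt hP z
  obtain ⟨h, hh⟩ := (yon S).map_surjective (p ≫ pullback.snd f b)
  have : MorphismProperty.IsStableUnderComposition @Etale.{u} :=
    ⟨fun f g (_ : Etale f) (_ : Etale g) ↦ inferInstanceAs (Etale (f ≫ g))⟩
  refine ⟨U, p ≫ pullback.fst f b, h, u, hU, repWith_comp hp (repWith_baseChange sq.flip hb), ?_, ?_, ?_⟩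
  · rw [hh, Category.assoc, Category.assoc, sq.w]
  · rw [Core.ofPt_comp, hpu, hz₁]
  · apply (Points.schemeEquiv V).injective
    simp only [Points.schemeEquiv]
    refine (Core.ofPt_yon_map h u).symm.trans ?_
    rw [hh, Core.ofPt_comp, hpu, hz₂]
    exact (congrArg (fun φ => Points.ofPt φ v) ((yon S).map_id V).symm).trans (Core.ofPt_yon_map (𝟙 V) v)

theorem qfAt_iff_chart (hX : IsAlgSpace X) (hY : IsAlgSpace Y) {f : X ⟶ Y}
    (hf : LocP @LocallyOfFiniteType f) {U V : Over S} {a : (yon S).obj U ⟶ X} {b : (yon S).obj V ⟶ Y}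
    {h : U ⟶ V} (ha : RepWith @Etale a) (hb : RepWith @Etale b) (hw : a ≫ f = (yon S).map h ≫ b)
    (u : ↥U.left) : HasAtMor QfAt f (Points.ofPt a u) ↔ h.left.QuasiFiniteAt u := by
  have : LocallyOfFiniteType h.left := hf a b h ha hb hw
  constructor
  · intro hq
    obtain ⟨W, huW, hW⟩ := GenericFiniteSp.exists_lqf_nhd hX hY ha hb hw u hq
    exact (Scheme.Hom.quasiFiniteAt_comp_iff_of_isOpenImmersion (f := W.ι) (x := ⟨u, huW⟩)).1
      (Scheme.Hom.quasiFiniteAt _ _)
  · intro hq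
    exact ⟨U, V, a, b, h, u, ha, hb, hw, rfl, h.left.quasiFiniteLocus, hq, inferInstance, inferInstance⟩

theorem asFiber_ι {A B : Scheme.{u}} (h : A ⟶ B) (a : A) : (h.fiberι (h a)) (h.asFiber a) = a := by simp

theorem quasiFiniteAt_of_forall_gen {A B : Scheme.{u}} (h : A ⟶ B) [LocallyOfFiniteType h] (a : A)
    (hall : ∀ a', h a' = h a → ∀ w, w ⤳ a' → w = a') : h.QuasiFiniteAt a := by
  have hemb : IsEmbedding (h.fiberι (h a)) := (h.fiberι (h a)).isEmbedding
  refine (H46.QFin.quasiFiniteAt_iff h a).2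
    ⟨isClosed_of_closure_subset fun z hz => ?_, fun z hz => ?_⟩
  · have h1 := (specializes_iff_mem_closure.2 hz).map (h.fiberι (h a)).continuous
    rw [asFiber_ι] at h1
    exact hemb.injective ((hall _ (H46.QFin.asFiber_mem z) a h1).symm.trans (asFiber_ι h a).symm)
  · have h1 := hz.map (h.fiberι (h a)).continuous
    rw [asFiber_ι] at h1
    exact hemb.injective ((hall a rfl _ h1).trans (asFiber_ι h a).symm)

theorem gen_of_quasiFiniteAt {A B : Scheme.{u}} (h : A ⟶ B) [LocallyOfFiniteType h] {a g : A}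
    (hgen : ∀ w, w ⤳ h a → w = h a) (hg : ∀ w, w ⤳ g → w = g) (hga : g ⤳ a)
    (hq : h.QuasiFiniteAt g) : g = a := by
  have e : h g = h a := hgen _ (hga.map h.continuous)
  have h1 : (⟨g, rfl⟩ : h ⁻¹' {h g}) ⤳ ⟨a, e.symm⟩ := (subtype_specializes_iff _ _).2 hga
  have h2 := hq.isClopen_singleton_asFiber.1.preimage (h.fiberHomeo (h g)).symm.continuous
  have h3 : (h.fiberHomeo (h g)).symm ⟨a, e.symm⟩ = h.asFiber g := h1.mem_closed h2 rfl
  exact (congrArg Subtype.val ((h.fiberHomeo (h g)).symm.injective h3)).symm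

theorem gen_self_of_quasiFiniteAt {A B : Scheme.{u}} (h : A ⟶ B) [LocallyOfFiniteType h] {a : A}
    (hgen : ∀ w, w ⤳ h a → w = h a) (hq : h.QuasiFiniteAt a) : ∀ w, w ⤳ a → w = a := by
  intro w hw
  have e : h w = h a := hgen _ (hw.map h.continuous)
  have h1 : (⟨w, e⟩ : h ⁻¹' {h a}) ⤳ ⟨a, rfl⟩ := (subtype_specializes_iff _ _).2 hw
  have h2 := hq.isClopen_singleton_asFiber.2.preimage (h.fiberHomeo (h a)).symm.continuous
  have h3 : (h.fiberHomeo (h a)).symm ⟨w, e⟩ = h.asFiber a := h1.mem_open h2 rfl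
  exact congrArg Subtype.val ((h.fiberHomeo (h a)).symm.injective h3)

end Groth.Agent.Lib.AlgSpDecent.ChartOver
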