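import Groth.Agent.Lib.AlgSpDecent.SepClopen
import Groth.Agent.Lib.AlgSpDecent.ChartOver
import Groth.Agent.Lib.AlgSpDecent.Fibre
import Groth.Agent.Lib.AlgSpGeomConn.Basic

/-!
Connectedness of the fibre over an algebraic extension of the residue field of a chart,
from connectedness of the fibres over the finite separable subextensions.
-/

universe u

open CategoryTheory CategoryTheory.Limits AlgebraicGeometry
open AlgSp

namespace Groth.Agent.Lib.AlgSpDecent.GeomConn

open Groth.Agent.Lib.AlgSpace

variable {S : Scheme.{u}} {V U : Over S}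

/-- `Spec K` over `v`. -/
noncomputable def resPt (v : V.left) (K : Type u) [Field K] [Algebra (V.left.residueField v) K] :
    Over S :=
  Over.mk (Spec.map (CommRingCat.ofHom (algebraMap (V.left.residueField v) K)) ≫
    V.left.fromSpecResidueField v ≫ V.hom)

/-- The map `Spec K ⟶ V` over `v`. -/
noncomputable def resHom (v : V.left) (K : Type u) [Field K] [Algebra (V.left.residueField v) K] :
    resPt v K ⟶ V :=
  Over.homMk (Spec.map (CommRingCat.ofHom (algebraMap (V.left.residueField v) K)) ≫
    V.left.fromSpecResidueField v) (Category.assoc _ _ _)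

/-- The map `Spec K' ⟶ Spec K` over `v`. -/
noncomputable def resMap (v : V.left) {K K' : Type u} [Field K] [Algebra (V.left.residueField v) K]
    [Field K'] [Algebra (V.left.residueField v) K'] (φ : K →ₐ[V.left.residueField v] K') :
    resPt v K' ⟶ resPt v K :=
  Over.homMk (Spec.map (CommRingCat.ofHom φ.toRingHom)) (by
    show _ ≫ Spec.map _ ≫ _ = Spec.map _ ≫ _
    rw [← Spec.map_comp_assoc, ← CommRingCat.ofHom_comp]
    congr 3
    exact φ.comp_algebraMap)

theorem resMap_resHom (v : V.left) {K K' : Type u} [Field K] [Algebra (V.left.residueField v) K]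
    [Field K'] [Algebra (V.left.residueField v) K'] (φ : K →ₐ[V.left.residueField v] K') :
    resMap v φ ≫ resHom v K = resHom v K' :=
  Over.OverMorphism.ext (by
    show Spec.map _ ≫ Spec.map _ ≫ _ = Spec.map _ ≫ _
    rw [← Spec.map_comp_assoc, ← CommRingCat.ofHom_comp]
    congr 3
    exact φ.comp_algebraMap)

/-- The structure map of the fibre over `v`. -/
noncomputable abbrev fibreMap (h : U ⟶ V) (v : V.left) :=
  h.left.fiberToSpecResidueField v

/-- The base change of the fibre over `v` to `K`. -/
noncomputable def fib (h : U ⟶ V) (v : V.left) (K : Type u) [Field K] [Algebra (V.left.residueField v) K] :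
    Over S :=
  Over.mk ((pullback.fst (fibreMap h v) (Spec.map (CommRingCat.ofHom (algebraMap (V.left.residueField v) K))) ≫
    h.left.fiberι v) ≫ U.hom)

noncomputable def fibFst (h : U ⟶ V) (v : V.left) (K : Type u) [Field K] [Algebra (V.left.residueField v) K] :
    fib h v K ⟶ U :=
  Over.homMk (pullback.fst (fibreMap h v) (Spec.map (CommRingCat.ofHom (algebraMap (V.left.residueField v) K))) ≫
    h.left.fiberι v) rfl

theorem sqFib (h : U ⟶ V) (v : V.left) (K : Type u) [Field K] [Algebra (V.left.residueField v) K] :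
    IsPullback (pullback.fst (fibreMap h v) (Spec.map (CommRingCat.ofHom (algebraMap (V.left.residueField v) K))) ≫
      h.left.fiberι v) (pullback.snd _ _) h.left (resHom v K).left :=
  (IsPullback.of_hasPullback _ _).paste_horiz
    (IsPullback.of_hasPullback h.left (V.left.fromSpecResidueField v))

noncomputable def fibSnd (h : U ⟶ V) (v : V.left) (K : Type u) [Field K] [Algebra (V.left.residueField v) K] :
    fib h v K ⟶ resPt v K :=
  Over.homMk (pullback.snd _ _) (by
    show _ ≫ (resPt v K).hom = (pullback.fst (fibreMap h v) _ ≫ h.left.fiberι v) ≫ U.hom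
    rw [← Over.w (resHom v K), ← Over.w h, ← Category.assoc, ← Category.assoc]
    exact congrArg (· ≫ V.hom) (sqFib h v K).w.symm)

theorem isPullback_fib (h : U ⟶ V) (v : V.left) (K : Type u) [Field K] [Algebra (V.left.residueField v) K] :
    IsPullback (fibFst h v K) (fibSnd h v K) h (resHom v K) :=
  IsPullback.of_map (Over.forget S) (Over.OverMorphism.ext (sqFib h v K).w) (sqFib h v K)

theorem nonempty_fib {h : U ⟶ V} {v : V.left} {u : U.left} (hu : h.left u = v) (K : Type u) [Field K]
    [Algebra (V.left.residueField v) K] : Nonempty ↥(fib h v K).left := by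
  obtain ⟨z, -, -⟩ := Scheme.Pullback.exists_preimage_pullback (f := fibreMap h v)
    (g := Spec.map (CommRingCat.ofHom (algebraMap (V.left.residueField v) K)))
    ((h.left.fiberHomeo v).symm ⟨u, hu⟩) (IsLocalRing.closedPoint K)
    (Subsingleton.elim (α := PrimeSpectrum _) _ _)
  exact ⟨z⟩

/-- The projection between the base changes of the fibre. -/
noncomputable def fibProj (h : U ⟶ V) (v : V.left) {K K' : Type u} [Field K] [Algebra (V.left.residueField v) K]
    [Field K'] [Algebra (V.left.residueField v) K'] (φ : K →ₐ[V.left.residueField v] K') :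
    pullback (fibreMap h v) (Spec.map (CommRingCat.ofHom (algebraMap (V.left.residueField v) K'))) ⟶
      pullback (fibreMap h v) (Spec.map (CommRingCat.ofHom (algebraMap (V.left.residueField v) K))) :=
  pullback.lift (pullback.fst _ _) (pullback.snd _ _ ≫ Spec.map (CommRingCat.ofHom φ.toRingHom)) (by
    rw [pullback.condition, Category.assoc, ← Spec.map_comp]
    congr 2
    exact CommRingCat.hom_ext φ.comp_algebraMap.symm)

noncomputable def fibMap (h : U ⟶ V) (v : V.left) {K K' : Type u} [Field K] [Algebra (V.left.residueField v) K]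
    [Field K'] [Algebra (V.left.residueField v) K'] (φ : K →ₐ[V.left.residueField v] K') :
    fib h v K' ⟶ fib h v K :=
  Over.homMk (fibProj h v φ) (by
    show fibProj h v φ ≫ (pullback.fst _ _ ≫ h.left.fiberι v) ≫ U.hom = _
    rw [Category.assoc, fibProj, pullback.lift_fst_assoc, ← Category.assoc]
    rfl)

/-- A clopen subset of the fibre over an algebraic extension with connected fibres over all finite
separable subextensions is trivial. -/
theorem connectedSpace_of_forall {F G : Sp S} (hF : IsAlgSpace F) (hG : IsAlgSpace G) (f : F ⟶ G)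
    [IsAffine V.left] {b : (yon S).obj V ⟶ G} (hb : RepWith @Etale b) (v : V.left) (Ω : Type u) [Field Ω]
    [Algebra (V.left.residueField v) Ω] [Algebra.IsAlgebraic (V.left.residueField v) Ω]
    {P : Sp S} {fstP : P ⟶ F} {sndP : P ⟶ (yon S).obj (resPt v Ω)}
    (sqΩ : IsPullback fstP sndP f ((yon S).map (resHom v Ω) ≫ b))
    (x : Points F) (hx : Points.map f x = Points.ofPt b v)
    (H : ∀ L : IntermediateField (V.left.residueField v) Ω, FiniteDimensional (V.left.residueField v) L →
      Algebra.IsSeparable (V.left.residueField v) L →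
      ∀ (Q : Sp S) (q₁ : Q ⟶ F) (q₂ : Q ⟶ (yon S).obj (resPt v L)),
        IsPullback q₁ q₂ f ((yon S).map (resHom v L) ≫ b) → ConnectedSpace (Points Q)) :
    ConnectedSpace (Points P) := by
  have hne : Nonempty (Points P) := by
    obtain ⟨z, -⟩ := Core.exists_point_of_isPullback sqΩ x
      (Points.ofScheme (resPt v Ω) (IsLocalRing.closedPoint Ω)) (by
        rw [hx, Core.map_ofScheme, Core.ofPt_map_comp]
        refine congrArg (Points.ofPt b) (Eq.symm ?_)
        exact (Scheme.Hom.comp_apply _ _ _).trans (Scheme.fromSpecResidueField_apply _ _))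
    exact ⟨z⟩
  refine { toPreconnectedSpace := preconnectedSpace_iff_clopen.2 fun C hC => ?_, toNonempty := hne }
  by_contra hCne
  push Not at hCne
  obtain ⟨hC₀, hC₁⟩ := hCne
  obtain ⟨U, a, hU, u, hUaff, ha, hw, hux, huv⟩ := ChartOver.exists_chart_through hF hG f hb v x hx
  have : IsAffineHom hU.left := isAffineHom_of_isAffine _
  have sq₀ := IsPullback.of_hasPullback f b
  let a₀ : (yon S).obj U ⟶ pullback f b := sq₀.lift a ((yon S).map hU) hw
  have hsnd : a₀ ≫ pullback.snd f b = (yon S).map hU := sq₀.lift_snd _ _ _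
  let qΩ : P ⟶ pullback f b := sq₀.lift fstP (sndP ≫ (yon S).map (resHom v Ω))
    (by rw [sqΩ.w, Category.assoc])
  have sqqΩ : IsPullback qΩ sndP (pullback.snd f b) ((yon S).map (resHom v Ω)) := by
    refine IsPullback.of_right ?_ (sq₀.lift_snd _ _ _) sq₀
    rw [sq₀.lift_fst]
    exact sqΩ
  let ψΩ : (yon S).obj (fib hU v Ω) ⟶ P := sqqΩ.lift ((yon S).map (fibFst hU v Ω) ≫ a₀)
    ((yon S).map (fibSnd hU v Ω)) (by
      rw [Category.assoc, hsnd, ← Functor.map_comp, ← Functor.map_comp, (isPullback_fib hU v Ω).w])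
  have sqψΩ : IsPullback ((yon S).map (fibFst hU v Ω)) ψΩ a₀ qΩ := by
    refine IsPullback.of_bot (v₁₁ := ψΩ) ?_ (sqqΩ.lift_fst _ _ _).symm sqqΩ
    rw [hsnd, sqqΩ.lift_snd]
    exact isPullback_yon (isPullback_fib hU v Ω)
  have hC' : IsClopen (Points.ofPt ψΩ ⁻¹' C) := hC.preimage (Points.continuous_ofPt ψΩ)
  obtain ⟨s, hs, hsat⟩ := SepClopen.exists_finite_saturated (κ := V.left.residueField v) (Ω := Ω) (fibreMap hU v) hC'
  let L := IntermediateField.adjoin (V.left.residueField v) (s : Set Ω)
  have hfin : FiniteDimensional (V.left.residueField v) L :=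
    IntermediateField.finiteDimensional_adjoin fun z _ => Algebra.IsIntegral.isIntegral z
  have hsep : Algebra.IsSeparable (V.left.residueField v) L :=
    (IntermediateField.isSeparable_adjoin_iff_isSeparable _ _).2 fun z hz => hs z hz
  have sqL := IsPullback.of_hasPullback f ((yon S).map (resHom v L) ≫ b)
  have hconn := H L hfin hsep _ _ _ sqL
  let qL : pullback f ((yon S).map (resHom v L) ≫ b) ⟶ pullback f b := sq₀.lift (pullback.fst _ _)
    (pullback.snd _ _ ≫ (yon S).map (resHom v L)) (by rw [sqL.w, Category.assoc])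
  have sqqL : IsPullback qL (pullback.snd f _) (pullback.snd f b) ((yon S).map (resHom v L)) := by
    refine IsPullback.of_right ?_ (sq₀.lift_snd _ _ _) sq₀
    rw [sq₀.lift_fst]
    exact sqL
  let ψL : (yon S).obj (fib hU v L) ⟶ pullback f ((yon S).map (resHom v L) ≫ b) :=
    sqqL.lift ((yon S).map (fibFst hU v L) ≫ a₀)
    ((yon S).map (fibSnd hU v L)) (by
      rw [Category.assoc, hsnd, ← Functor.map_comp, ← Functor.map_comp, (isPullback_fib hU v L).w])
  have sqψL : IsPullback ((yon S).map (fibFst hU v L)) ψL a₀ qL := by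
    refine IsPullback.of_bot (v₁₁ := ψL) ?_ (sqqL.lift_fst _ _ _).symm sqqL
    rw [hsnd, sqqL.lift_snd]
    exact isPullback_yon (isPullback_fib hU v L)
  let i : resPt v Ω ⟶ resPt v L := resMap v L.val
  have hi : i ≫ resHom v L = resHom v Ω := resMap_resHom v L.val
  let π : P ⟶ pullback f ((yon S).map (resHom v L) ≫ b) :=
    sqqL.lift qΩ (sndP ≫ (yon S).map i) (by rw [sqqΩ.w, Category.assoc, ← Functor.map_comp, hi])
  have sqπ : IsPullback π sndP (pullback.snd f _) ((yon S).map i) := by
    refine IsPullback.of_right ?_ (sqqL.lift_snd _ _ _) sqqL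
    rw [sqqL.lift_fst, ← Functor.map_comp, hi]
    exact sqqΩ
  let N : fib hU v Ω ⟶ fib hU v L := fibMap hU v L.val
  have hNU : N ≫ fibFst hU v L = fibFst hU v Ω := Over.OverMorphism.ext (by
    show fibProj hU v L.val ≫ pullback.fst _ _ ≫ _ = pullback.fst _ _ ≫ _
    rw [fibProj, pullback.lift_fst_assoc])
  have hNT : N ≫ fibSnd hU v L = fibSnd hU v Ω ≫ i := Over.OverMorphism.ext (by
    show fibProj hU v L.val ≫ pullback.snd _ _ = pullback.snd _ _ ≫ _
    rw [fibProj, pullback.lift_snd]
    rfl)
  have hψN : ψΩ ≫ π = (yon S).map N ≫ ψL := by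
    apply sqqL.hom_ext
    · rw [Category.assoc, sqqL.lift_fst, Category.assoc, ← sqψL.w, ← sqψΩ.w, ← Functor.map_comp_assoc, hNU]
    · rw [Category.assoc, sqqL.lift_snd, sqqΩ.lift_snd_assoc, Category.assoc, sqqL.lift_snd,
        ← Functor.map_comp, ← Functor.map_comp, hNT]
  have sqN : IsPullback ((yon S).map N) ψΩ ψL π := by
    refine IsPullback.of_right ?_ hψN.symm sqψL
    rw [← Functor.map_comp, hNU, sqqL.lift_fst]
    exact sqψΩ
  have hiI : IsIntegralHom i.left := by
    show IsIntegralHom (Spec.map (CommRingCat.ofHom L.val.toRingHom))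
    rw [IsIntegralHom.SpecMap_iff]
    have : Algebra.IsIntegral L Ω :=
      ⟨fun z => (Algebra.IsIntegral.isIntegral (R := V.left.residueField v) z).tower_top⟩
    exact algebraMap_isIntegral_iff.2 this
  have hiO : UniversallyOpen i.left := by
    show UniversallyOpen (Spec.map (CommRingCat.ofHom L.val.toRingHom))
    infer_instance
  have hπI : RepWith @IsIntegralHom π :=
    repWith_baseChange sqπ.flip ((repWith_yon_map_iff _ _).2 hiI)
  have hπo : IsOpenMap (Points.map π) :=
    isOpenMap_map (repWith_baseChange sqπ.flip ((repWith_yon_map_iff _ _).2 hiO))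
  have hπc : IsClosedMap (Points.map π) := by
    intro Z hZ
    have hXL := isAlgSpace_of_isPullback sqL hG.diag hF (IsAlgSpace.yon_obj _)
    obtain ⟨T, p, hp, hps⟩ := hXL.atlas
    rw [← isOpen_compl_iff, Core.isOpen_iff_chart hp hps, Set.preimage_compl, isOpen_compl_iff,
      preimage_image_map (hπI.rep.isPullback p)]
    have : IsIntegralHom (hπI.rep.snd p).left := hπI.property_snd p
    exact (hπI.rep.snd p).left.isClosedMap _ (hZ.preimage (Points.continuous_ofPt _))
  have huniv : ∀ D : Set (Points P), IsClopen D → D.Nonempty → Points.map π '' D = Set.univ :=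
    fun D hD hne' => IsClopen.eq_univ ⟨hπc _ hD.1, hπo _ hD.2⟩ (hne'.image _)
  obtain ⟨r⟩ := nonempty_fib huv L
  have hmem : ∀ D : Set (Points P), IsClopen D → D.Nonempty →
      ∃ z, Points.ofPt ψΩ z ∈ D ∧ N.left z = r := by
    intro D hD hne'
    obtain ⟨q, hq, hqπ⟩ := (huniv D hD hne').ge (Set.mem_univ (Points.ofPt ψL r))
    obtain ⟨z, hz₁, hz₂⟩ := AlgSpGeomConn.exists_ofPt_of_isPullback sqN q r hqπ
    exact ⟨z, hz₂.symm ▸ hq, hz₁⟩
  obtain ⟨z, hzC, hzr⟩ := hmem C hC hC₀
  obtain ⟨z', hz'C, hz'r⟩ := hmem Cᶜ hC.compl (Set.nonempty_compl.2 hC₁)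
  have hrange : (s : Set Ω) ⊆ Set.range L.val :=
    fun w hw => ⟨⟨w, IntermediateField.subset_adjoin _ _ hw⟩, rfl⟩
  have key := hsat L L.val hrange (fibProj hU v L.val) (pullback.lift_fst _ _ _) (pullback.lift_snd _ _ _)
    z z' (hzr.trans hz'r.symm)
  exact hz'C (key.1 hzC)

end Groth.Agent.Lib.AlgSpDecent.GeomConn
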