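import Groth.Agent.Lib.AlgSpRed.Stalk
import Groth.Agent.Lib.AlgSpGeomConn.Main
import Groth.Agent.Lib.AlgSpDecent.RelDim
import Groth.Agent.Lib.GeomConn.SepClosed

/-!
Changing the field of a fibre of a morphism of algebraic spaces.
-/

universe u

open CategoryTheory CategoryTheory.Limits AlgebraicGeometry Opposite Topology

namespace Groth.Agent.Lib.AlgSpDecent.FieldChangeFibre

open AlgSp Groth.Agent.Lib.AlgSpace Core

variable {S : Scheme.{u}} {X Y : Sp S} {f : X ⟶ Y} {T T' : Over S} {g : (yon S).obj T ⟶ Y}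
  {φ : T' ⟶ T} {P P' : Sp S} {a : P ⟶ X} {b : P ⟶ (yon S).obj T} {a' : P' ⟶ X}
  {b' : P' ⟶ (yon S).obj T'}

/-- Compatible charts for a change of the field of a fibre. -/
theorem exists_chart (hX : IsAlgSpace X) (hY : IsAlgSpace Y) (sq : IsPullback a b f g)
    (sq' : IsPullback a' b' f ((yon S).map φ ≫ g)) :
    ∃ (γ : P' ⟶ P) (W W' : Over S) (c : (yon S).obj W ⟶ P) (c' : (yon S).obj W' ⟶ P') (h : W' ⟶ W)
      (hb : W ⟶ T) (hb' : W' ⟶ T'),
      RepWith @Etale c ∧ RepWith @Surjective c ∧ RepWith @Etale c' ∧ RepWith @Surjective c' ∧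
      IsPullback ((yon S).map h) c' c γ ∧ IsPullback h.left hb'.left hb.left φ.left := by
  have hP := isAlgSpace_of_isPullback sq hY.diag hX (IsAlgSpace.yon_obj T)
  let γ : P' ⟶ P := sq.lift a' (b' ≫ (yon S).map φ) (by rw [Category.assoc, sq'.w])
  have sqγ : IsPullback γ b' b ((yon S).map φ) := by
    refine IsPullback.of_right ?_ (sq.lift_snd _ _ _) sq
    rw [sq.lift_fst]
    exact sq'
  obtain ⟨W, c, hc, hcs⟩ := hP.atlas
  obtain ⟨hb, hhb⟩ := (yon S).map_surjective (c ≫ b)
  let W' := Limits.pullback hb φ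
  have sqW := IsPullback.of_hasPullback hb φ
  let c' : (yon S).obj W' ⟶ P' := sqγ.lift ((yon S).map (pullback.fst hb φ) ≫ c)
    ((yon S).map (pullback.snd hb φ)) (by
      rw [Category.assoc, ← hhb, ← Functor.map_comp, sqW.w, Functor.map_comp])
  have sqc : IsPullback ((yon S).map (pullback.fst hb φ)) c' c γ := by
    refine IsPullback.of_bot (v₁₁ := c') ?_ (sqγ.lift_fst _ _ _).symm sqγ
    rw [sqγ.lift_snd, ← hhb]
    exact sqW.map (yon S)
  exact ⟨γ, W, W', c, c', pullback.fst hb φ, hb, pullback.snd hb φ, hc, hcs,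
    repWith_baseChange sqc hc, repWith_baseChange sqc hcs, sqc, sqW.map (Over.forget S)⟩

variable {K K' : Type u} [Field K] [Field K'] {w : Spec (CommRingCat.of K) ⟶ S} {w' : Spec (CommRingCat.of K') ⟶ S}
  {g₀ : (yon S).obj (Over.mk w) ⟶ Y} {ψ : Over.mk w' ⟶ Over.mk w} {b₀ : P ⟶ (yon S).obj (Over.mk w)}
  {b₀' : P' ⟶ (yon S).obj (Over.mk w')}

theorem flat_surjective (ψ : Over.mk w' ⟶ Over.mk w) : Flat ψ.left ∧ Surjective ψ.left :=
  ⟨by
    obtain ⟨r, hr⟩ := Spec.map_surjective (show Spec (CommRingCat.of K') ⟶ Spec (CommRingCat.of K) from ψ.left)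
    show Flat (show Spec (CommRingCat.of K') ⟶ Spec (CommRingCat.of K) from ψ.left)
    rw [← hr, Flat.SpecMap_iff]
    let := r.hom.toAlgebra
    exact RingHom.flat_algebraMap_iff.mpr inferInstance,
  ⟨fun y => ⟨IsLocalRing.closedPoint K', @Subsingleton.elim (PrimeSpectrum K) _ _ y⟩⟩⟩

/-- Reducedness of the fibre descends along field extensions. -/
theorem etaleLocally_isReduced_of_extend (hX : IsAlgSpace X) (hY : IsAlgSpace Y) (sq : IsPullback a b₀ f g₀)
    (sq' : IsPullback a' b₀' f ((yon S).map ψ ≫ g₀))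
    (h : EtaleLocally (fun U => IsReduced U) P') : EtaleLocally (fun U => IsReduced U) P := by
  obtain ⟨γ, W, W', c, c', m, hb, hb', hc, hcs, hc', -, -, sqL⟩ := exists_chart hX hY sq sq'
  obtain ⟨hfl, hsu⟩ := flat_surjective ψ
  have : Flat m.left := MorphismProperty.of_isPullback sqL.flip hfl
  have : Surjective m.left := MorphismProperty.of_isPullback sqL.flip hsu
  have := AlgSpRed.Stalk.isReduced_chart
    (isAlgSpace_of_isPullback sq' hY.diag hX (IsAlgSpace.yon_obj _)).diag h hc'
  have : ∀ z : ↥W.left, _root_.IsReduced (W.left.presheaf.stalk z) := fun z => by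
    obtain ⟨z', rfl⟩ := m.left.surjective z
    exact AlgSpRed.Stalk.reduced_of_flat m.left z'
  exact ⟨W, c, hc, hcs, isReduced_of_isReduced_stalk _⟩

/-- Connected components of the fibre do not change when extending a separably closed field. -/
theorem card_connectedComponents_eq [IsSepClosed K] (hX : IsAlgSpace X) (hY : IsAlgSpace Y)
    (sq : IsPullback a b₀ f g₀) (sq' : IsPullback a' b₀' f ((yon S).map ψ ≫ g₀)) :
    ENat.card (_root_.ConnectedComponents (Points P')) = ENat.card (_root_.ConnectedComponents (Points P)) := by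
  obtain ⟨γ, W, W', c, c', m, hb, hb', hc, hcs, -, -, sqc, sqL⟩ := exists_chart hX hY sq sq'
  obtain ⟨r, hr⟩ := Spec.map_surjective (show Spec (CommRingCat.of K') ⟶ Spec (CommRingCat.of K) from ψ.left)
  let := r.hom.toAlgebra
  have hgc : GeometricallyConnected ψ.left := by
    have := GeomConn.SepClosed.geometricallyConnected_specMap K K'
    rw [show ψ.left = Spec.map r from hr.symm]
    exact this
  obtain ⟨hfl, hsu⟩ := flat_surjective ψ
  have huo : UniversallyOpen ψ.left := by
    rw [show ψ.left = Spec.map r from hr.symm]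
    exact inferInstanceAs (UniversallyOpen (Spec.map (CommRingCat.ofHom (algebraMap K K'))))
  have : GeometricallyConnected m.left := MorphismProperty.of_isPullback sqL.flip hgc
  have : UniversallyOpen m.left := MorphismProperty.of_isPullback sqL.flip huo
  have : Surjective m.left := MorphismProperty.of_isPullback sqL.flip hsu
  have hopen : IsOpenQuotientMap (Points.map γ) :=
    ⟨AlgSpGeomConn.surjective_map_of_chart sqc hcs m.left.surjective, Points.continuous_map _,
      AlgSpGeomConn.isOpenMap_map_of_chart sqc hc hcs m.left.isOpenMap⟩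
  refine ENat.card_congr (Equiv.ofBijective _ (AlgSpGeomConn.bijective_of_fibres hopen fun x => ?_))
  obtain ⟨v, rfl⟩ := Core.surjective_ofPt hcs x
  rw [AlgSpGeomConn.preimage_singleton_of_isPullback sqc]
  exact (AlgSpGeomConn.isConnected_preimage_singleton m.left v).image _ (Points.continuous_ofPt _).continuousOn

end Groth.Agent.Lib.AlgSpDecent.FieldChangeFibre

namespace Groth.Agent.Lib.AlgSpDecent.FieldChangeFibre

open AlgSp Groth.Agent.Lib.AlgSpace Core

variable {S : Scheme.{u}} {X Y : Sp S} {f : X ⟶ Y}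

/-- A morphism from the spectrum of a field to the spectrum of a field point is given by a field map. -/
theorem over_hom_eq {k : FieldPt Y} {Ω : Type u} [Field Ω] {w : Spec (CommRingCat.of Ω) ⟶ S}
    (α : Over.mk w ⟶ k.pt) :
    ∃ φ : k.K →+* Ω, ∃ h : w = Spec.map (CommRingCat.ofHom φ) ≫ k.str,
      α = eqToHom (congrArg Over.mk h) ≫ (Over.homMk (Spec.map (CommRingCat.ofHom φ)) rfl :
        Over.mk (Spec.map (CommRingCat.ofHom φ) ≫ k.str) ⟶ k.pt) := by
  obtain ⟨r, hr⟩ := Spec.map_surjective (show Spec (CommRingCat.of Ω) ⟶ Spec (CommRingCat.of k.K) from α.left)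
  have hw : w = Spec.map (CommRingCat.ofHom r.hom) ≫ k.str := by
    rw [CommRingCat.ofHom_hom, hr]
    exact (Over.w α).symm
  refine ⟨r.hom, hw, ?_⟩
  subst hw
  rw [eqToHom_refl, Category.id_comp]
  exact Over.OverMorphism.ext hr.symm

/-- The class of a field point does not change under field extensions. -/
theorem mk_ofHom {k : FieldPt Y} {K' : Type u} [Field K'] {w : Spec (CommRingCat.of K') ⟶ S}
    (ψ : Over.mk w ⟶ k.pt) : Points.mk (ofHom ((yon S).map ψ ≫ k.toHom)) = Points.mk k :=
  Points.sound (rel_iff.2 ⟨K', inferInstance, w, 𝟙 _, ψ, by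
    rw [toHom_ofHom]
    exact (congrArg (· ≫ _) ((yon S).map_id _)).trans (Category.id_comp _)⟩)

end Groth.Agent.Lib.AlgSpDecent.FieldChangeFibre
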