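import Groth.Agent.S9993
import Groth.Agent.Lib.AlgSpDecent.GenericFinite
import Groth.Agent.Lib.AlgSpDecent.OpenScheme
import Groth.Agent.Lib.AlgSpDecent.Restrict
import Groth.Agent.Lib.AlgSpMor.QC
import Groth.Agent.Lib.AlgSpMor.Sep
import Groth.Agent.Lib.AlgSpMor.Codim

/-!
A quasi-separated morphism of finite type, quasi-finite over a point of codimension zero, is finite
over an affine neighbourhood of that point in a chart.
-/

universe u

open CategoryTheory CategoryTheory.Limits AlgebraicGeometry Opposite Topology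

namespace Groth.Agent.Lib.AlgSpDecent.GenericFiniteSp

open AlgSp Groth.Agent.Lib.AlgSpace Core

variable {S : Scheme.{u}} {X Y : Sp S}

theorem locallyQuasiFinite_of_nhds {A B : Scheme.{u}} (f : A ⟶ B)
    (h : ∀ z : A, ∃ W : A.Opens, z ∈ W ∧ LocallyQuasiFinite (W.ι ≫ f)) : LocallyQuasiFinite f := by
  choose W hW hWP using h
  exact (IsZariskiLocalAtSource.iff_of_iSup_eq_top (P := (@LocallyQuasiFinite : MorphismProperty Scheme.{u}))
    W (top_le_iff.1 fun z _ => TopologicalSpace.Opens.mem_iSup.2 ⟨z, hW z⟩)).2 hWP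

theorem isFinite_restrict_of_le {A B : Scheme.{u}} (f : A ⟶ B) {D D' : B.Opens} (hle : D ≤ D')
    (h : IsFinite (f ∣_ D')) : IsFinite (f ∣_ D) := by
  have e : D'.ι ''ᵁ (D'.ι ⁻¹ᵁ D) = D := by
    rw [Scheme.Hom.image_preimage_eq_opensRange_inf, Scheme.Opens.opensRange_ι, inf_eq_right.2 hle]
  have h1 : IsFinite ((f ∣_ D') ∣_ (D'.ι ⁻¹ᵁ D)) := IsZariskiLocalAtTarget.restrict h _
  rw [← e]
  exact ((MorphismProperty.arrow_mk_iso_iff @IsFinite (morphismRestrictRestrict f D' _))).1 h1

theorem isFinite_of_restrict {A B : Scheme.{u}} (f : A ⟶ B) (D₀ : B.Opens) (D : (D₀ : Scheme.{u}).Opens)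
    (h : IsFinite ((f ∣_ D₀) ∣_ D)) : IsFinite (f ∣_ (D₀.ι ''ᵁ D)) :=
  (MorphismProperty.arrow_mk_iso_iff @IsFinite (morphismRestrictRestrict f D₀ D)).1 h

/-- The self product of an affine chart is compact when the map to an affine scheme is quasi-separated. -/
theorem compactSpace_selfProduct {P : Sp S} {V : Over S} {q : P ⟶ (yon S).obj V} [IsAffine V.left]
    (hd : RepWith @QuasiCompact (pullback.diagonal q)) {U : Over S} [IsAffine U.left]
    {p : (yon S).obj U ⟶ P} (hp : Representable p) : CompactSpace ↥(hp.pullback p).left := by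
  obtain ⟨h, hh⟩ := (yon S).map_surjective (p ≫ q)
  have : CompactSpace ↥(pullback h h).left := by
    have : IsAffine (pullback h.left h.left) := inferInstance
    have : CompactSpace ↥(pullback ((Over.forget S).map h) ((Over.forget S).map h)) :=
      inferInstanceAs (CompactSpace ↥(pullback h.left h.left))
    exact ((IsPullback.of_hasPullback h h).map (Over.forget S)).isoPullback.symm.schemeIsoToHomeo.compactSpace
  let w₁ : pullback h h ⟶ U := pullback.fst h h
  let w₂ : pullback h h ⟶ U := pullback.snd h h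
  obtain ⟨ξ, hξ₁, hξ₂⟩ : ∃ ξ : (yon S).obj (pullback h h) ⟶ pullback q q,
      ξ ≫ pullback.fst q q = (yon S).map w₁ ≫ p ∧ ξ ≫ pullback.snd q q = (yon S).map w₂ ≫ p :=
    ⟨pullback.lift _ _ (by
      rw [Category.assoc, Category.assoc, ← hh, ← Functor.map_comp, ← Functor.map_comp,
        pullback.condition]), pullback.lift_fst _ _ _, pullback.lift_snd _ _ _⟩
  let M := hd.rep.pullback ξ
  have : QuasiCompact (hd.rep.snd ξ).left := hd.property_snd ξ
  have : CompactSpace ↥M.left := QuasiCompact.compactSpace_of_compactSpace (hd.rep.snd ξ).left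
  have hM₁ : hd.rep.fst ξ = (yon S).map (hd.rep.snd ξ ≫ w₁) ≫ p := by
    have := congrArg (· ≫ pullback.fst q q) (hd.rep.w ξ)
    simp only [Category.assoc, pullback.diagonal_fst, Category.comp_id, hξ₁] at this
    rw [this, Functor.map_comp, Category.assoc]
  have hM₂ : hd.rep.fst ξ = (yon S).map (hd.rep.snd ξ ≫ w₂) ≫ p := by
    have := congrArg (· ≫ pullback.snd q q) (hd.rep.w ξ)
    simp only [Category.assoc, pullback.diagonal_snd, Category.comp_id, hξ₂] at this
    rw [this, Functor.map_comp, Category.assoc]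
  let k : M ⟶ hp.pullback p := hp.lift' (hd.rep.snd ξ ≫ w₁) (hd.rep.snd ξ ≫ w₂) (hM₁.symm.trans hM₂)
  let σ := hp.fst' p
  let τ := hp.snd p
  have hw : σ ≫ h = τ ≫ h := (yon S).map_injective (by
    rw [Functor.map_comp, Functor.map_comp, hh, ← Category.assoc, ← Category.assoc,
      (hp.isPullback' p).w])
  let m : hp.pullback p ⟶ pullback h h := pullback.lift σ τ hw
  let k' : hp.pullback p ⟶ M := hd.rep.lift ((yon S).map σ ≫ p) m (by
    apply pullback.hom_ext
    · simp only [Category.assoc, pullback.diagonal_fst, Category.comp_id, hξ₁]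
      rw [← Category.assoc, ← Functor.map_comp, pullback.lift_fst]
    · simp only [Category.assoc, pullback.diagonal_snd, Category.comp_id, hξ₂]
      rw [← Category.assoc, ← Functor.map_comp, pullback.lift_snd]
      exact (hp.isPullback' p).w)
  have hk : k' ≫ k = 𝟙 _ := by
    refine hp.hom_ext' ?_ ?_
    · rw [Category.assoc, hp.lift'_fst, ← Category.assoc, hd.rep.lift_snd, Category.id_comp]
      exact pullback.lift_fst _ _ _
    · rw [Category.assoc, hp.lift'_snd, ← Category.assoc, hd.rep.lift_snd, Category.id_comp]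
      exact pullback.lift_snd _ _ _
  exact (Function.LeftInverse.surjective (g := k'.left) fun z =>
    (Scheme.Hom.comp_apply k'.left k.left z).symm.trans
      (congrArg (fun m : hp.pullback p ⟶ hp.pullback p => m.left z) hk)).compactSpace k.left.continuous

/-- Quasi-finiteness on a chart at the points over a point. -/
theorem exists_lqf_nhd {f : X ⟶ Y} (hX : IsAlgSpace X) (hY : IsAlgSpace Y) {U V : Over S}
    {a : (yon S).obj U ⟶ X} {b : (yon S).obj V ⟶ Y} {h : U ⟶ V} (ha : RepWith @Etale a)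
    (hb : RepWith @Etale b) (hw : a ≫ f = (yon S).map h ≫ b) (u : ↥U.left)
    (hqf : HasAtMor (fun U _ h u => ∃ W : U.Opens, u ∈ W ∧ LocallyQuasiFinite (W.ι ≫ h) ∧
      LocallyOfFiniteType (W.ι ≫ h)) f (Points.ofPt a u)) :
    ∃ W : U.left.Opens, u ∈ W ∧ LocallyQuasiFinite (W.ι ≫ h.left) := by
  let Q : MorphismProperty Scheme.{u} := (@LocallyQuasiFinite : MorphismProperty Scheme.{u}) ⊓ (@LocallyOfFiniteType : MorphismProperty Scheme.{u})
  have hQ : ∀ ⦃A B : Scheme.{u}⦄ (g : A ⟶ B), Q g ↔ (LocallyQuasiFinite g ∧ LocallyOfFiniteType g) := fun A B g => Iff.rfl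
  obtain ⟨X', j, hj, hxj, hloc⟩ := (Groth.Agent.S9993.result Q (.inr (.inr (.inr (.inr (.inr (.inl hQ))))))
    (X := ⟨X, hX⟩) (Y := ⟨Y, hY⟩) (ObjectProperty.homMk f) _).1 hqf
  let O : U.left.Opens := ⟨Points.ofPt a ⁻¹' Set.range (Points.map j.hom),
    (isOpenEmbedding_map hj).isOpen_range.preimage (Points.continuous_ofPt a)⟩
  let U₁ : Over S := Over.mk (O.ι ≫ U.hom)
  let ι : U₁ ⟶ U := Over.homMk O.ι rfl
  have : Etale ι.left := inferInstanceAs (Etale O.ι)
  have ha₁ := AlgSpMor.LocP.repWith_etale_comp ι ha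
  obtain ⟨φ, hφ⟩ := exists_lift_yon_of_range_subset hj ((yon S).map ι ≫ a) (by
    rintro _ ⟨y, rfl⟩
    rw [Core.ofPt_map_comp]
    exact y.2)
  have : Mono j.hom := mono_of_repWith (P := @IsOpenImmersion)
    (fun _ _ g (_ : IsOpenImmersion g) ↦ (inferInstance : Mono g)) hj
  have sqf : IsPullback φ (𝟙 _) j.hom ((yon S).map ι ≫ a) :=
    isPullback_of_yon (by rw [hφ, Category.id_comp]) (fun T c c' _ h => by simpa using h)
      fun T x₀ y₀ e => ⟨y₀, by rw [← cancel_mono j.hom, Category.assoc, hφ, e], Category.comp_id _⟩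
  refine ⟨O, hxj, (hloc φ b (ι ≫ h) (repWith_baseChange sqf.flip ha₁) hb ?_).1⟩
  show φ ≫ j.hom ≫ f = _
  rw [reassoc_of% hφ, hw, Functor.map_comp, Category.assoc]

/-- Finite base change over an affine neighbourhood in a chart. -/
theorem exists_finite (hX : IsAlgSpace X) (hY : IsAlgSpace Y) {f : X ⟶ Y}
    (hqs : IsQuasiSeparatedMor f) (hft : IsFiniteTypeMor f) {V : Over S} [IsAffine V.left]
    {b : (yon S).obj V ⟶ Y} (hb : RepWith @Etale b) {η : ↥V.left}
    (hmin : ∀ y, y ⤳ η → y = η)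
    (hqf : ∀ x, Points.map f x = Points.ofPt b η → HasAtMor (fun U _ h u => ∃ W : U.Opens, u ∈ W ∧
      LocallyQuasiFinite (W.ι ≫ h) ∧ LocallyOfFiniteType (W.ι ≫ h)) f x) :
    ∃ (D : V.left.Opens) (_ : η ∈ D) (_ : IsAffineOpen D) (W : Over S)
      (i : W ⟶ Over.mk (D.ι ≫ V.hom)) (fst : (yon S).obj W ⟶ X),
      IsPullback fst ((yon S).map i) f ((yon S).map (Specialize.openIncl D) ≫ b) ∧ IsFinite i.left := by
  let P := pullback f b
  let q : P ⟶ (yon S).obj V := pullback.snd f b
  have sq : IsPullback (pullback.fst f b) q f b := IsPullback.of_hasPullback _ _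
  have hP : IsAlgSpace P := isAlgSpace_of_isPullback sq hY.diag hX (IsAlgSpace.yon_obj V)
  have hd : RepWith @QuasiCompact (pullback.diagonal q) :=
    AlgSpMor.Sep.repWith_diagonal_baseChange sq hqs
  have : CompactSpace (Points P) :=
    AlgSpMor.QC.compactSpace_points (hft.2 (IsAlgSpace.yon_obj V) (AlgSpMor.QC.isQuasiCompactSp_yon (T := V)) b _ _ sq)
  obtain ⟨U, p, hU, hpe, hps⟩ := AlgSpMor.QC.exists_affine_atlas hP
  have := hU
  obtain ⟨h, hh⟩ := (yon S).map_surjective (p ≫ q)
  let a : (yon S).obj U ⟶ X := p ≫ pullback.fst f b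
  have : MorphismProperty.IsStableUnderComposition @Etale.{u} := ⟨fun f g (_ : Etale f) (_ : Etale g) ↦ inferInstanceAs (Etale (f ≫ g))⟩
  have ha : RepWith @Etale a := repWith_comp hpe (repWith_baseChange sq.flip hb)
  have hw : a ≫ f = (yon S).map h ≫ b := by rw [hh, Category.assoc, Category.assoc, sq.w]
  have hlft : LocallyOfFiniteType h.left := hft.1 a b h ha hb hw
  -- the quasi-finite locus is a neighbourhood of the fibre
  let G : U.left.Opens := sSup {W : U.left.Opens | LocallyQuasiFinite (Scheme.Opens.ι W ≫ h.left)}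
  have hGf : ∀ u, h.left u = η → u ∈ G := fun u hu => by
    obtain ⟨W, huW, hW⟩ := exists_lqf_nhd hX hY ha hb hw u (hqf _ (by
      rw [← Core.ofPt_comp, hw, Core.ofPt_map_comp, hu]))
    exact TopologicalSpace.Opens.mem_sSup.2 ⟨W, hW, huW⟩
  obtain ⟨N, hN, hηN, hdis⟩ := GenericFinite.exists_nhd_disjoint h.left hmin G.isOpen.isClosed_compl
    isOpen_univ isCompact_univ (by rintro ⟨z, ⟨hz, -⟩, he⟩; exact hz (hGf z he))
  obtain ⟨D₀, hD₀, hηD₀, hD₀N⟩ := exists_isAffineOpen_mem_and_subset
    (show η ∈ (⟨N, hN⟩ : V.left.Opens) from hηN)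
  have hlqf : LocallyQuasiFinite (h.left ∣_ D₀) := by
    refine locallyQuasiFinite_of_nhds _ fun z => ?_
    have hz : (h.left ⁻¹ᵁ D₀).ι z ∈ G := by
      by_contra hzG
      exact Set.disjoint_left.1 hdis (hD₀N z.2) ⟨z.1, ⟨hzG, trivial⟩, rfl⟩
    obtain ⟨W, hW, hzW⟩ := TopologicalSpace.Opens.mem_sSup.1 hz
    refine ⟨(h.left ⁻¹ᵁ D₀).ι ⁻¹ᵁ W, hzW, ?_⟩
    have : LocallyQuasiFinite ((((h.left ⁻¹ᵁ D₀).ι ⁻¹ᵁ W).ι ≫ h.left ∣_ D₀) ≫ D₀.ι) := by
      rw [Category.assoc, morphismRestrict_ι, ← Category.assoc,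
        ← morphismRestrict_ι (h.left ⁻¹ᵁ D₀).ι W, Category.assoc]
      have h1 : LocallyQuasiFinite (Scheme.Opens.ι W ≫ h.left) := hW
      exact MorphismProperty.comp_mem _ _ _ (inferInstance : LocallyQuasiFinite ((h.left ⁻¹ᵁ D₀).ι ∣_ W)) h1
    exact LocallyQuasiFinite.of_comp _ D₀.ι
  have : IsAffine (D₀ : Scheme.{u}) := hD₀
  have : IsAffine (h.left ⁻¹ᵁ D₀ : Scheme.{u}) := hD₀.preimage h.left
  -- finiteness of the chart
  obtain ⟨D₁, hD₁, hηD₁, hfin₁⟩ := GenericFinite.exists_isFinite (h.left ∣_ D₀) (η := (⟨η, hηD₀⟩ : ↥D₀))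
    (fun y hy => Subtype.ext (hmin y.1 (hy.map continuous_subtype_val)))
  let D₁' : V.left.Opens := D₀.ι ''ᵁ D₁
  have hD₁' : IsAffineOpen D₁' := hD₁.image_of_isOpenImmersion D₀.ι
  have hηD₁' : η ∈ D₁' := ⟨⟨η, hηD₀⟩, hηD₁, rfl⟩
  have hfinD₁ : IsFinite (h.left ∣_ D₁') := isFinite_of_restrict h.left D₀ D₁ hfin₁
  -- finiteness of the self product
  let hr := hpe.rep
  let σ := hr.fst' p
  let τ := hr.snd p
  have : CompactSpace ↥(hr.pullback p).left := compactSpace_selfProduct hd hr
  have : Etale τ.left := hpe.property_snd p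
  have : IsSeparated τ.left := SelfFibre.isSeparated_snd hr
  let g : (hr.pullback p).left ⟶ V.left := τ.left ≫ h.left
  have : IsSeparated g := inferInstance
  have : LocallyOfFiniteType g := inferInstance
  have : IsAffine (D₁' : Scheme.{u}) := hD₁'
  have : QuasiCompact (g ∣_ D₁') := by
    have : QuasiCompact g := HasAffineProperty.iff_of_isAffine.2 ‹_›
    infer_instance
  have : LocallyQuasiFinite (g ∣_ D₁') := by
    rw [morphismRestrict_comp]
    have h1 : LocallyQuasiFinite (τ.left ∣_ (h.left ⁻¹ᵁ D₁')) := locallyQuasiFinite_of_etale _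
    have h2 : LocallyQuasiFinite (h.left ∣_ D₁') := have := hfinD₁; inferInstance
    exact MorphismProperty.comp_mem _ _ _ h1 h2
  obtain ⟨D₂, hD₂, hηD₂, hfin₂⟩ := GenericFinite.exists_isFinite (g ∣_ D₁') (η := (⟨η, hηD₁'⟩ : ↥D₁'))
    (fun y hy => Subtype.ext (hmin y.1 (hy.map continuous_subtype_val)))
  let D : V.left.Opens := D₁'.ι ''ᵁ D₂
  have hD : IsAffineOpen D := hD₂.image_of_isOpenImmersion D₁'.ι
  have hfinR : IsFinite (g ∣_ D) := isFinite_of_restrict g D₁' D₂ hfin₂
  have hfinU : IsFinite (h.left ∣_ D) := isFinite_restrict_of_le h.left (D₁'.ι_image_le D₂) hfinD₁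
  have : IsAffine (D : Scheme.{u}) := hD
  -- the quotient
  let UD : U.left.Opens := h.left ⁻¹ᵁ D
  have : IsAffine (Over.mk (UD.ι ≫ U.hom)).left :=
    isAffine_of_isAffineHom (h.left ∣_ D)
  let DV : Over S := Over.mk (D.ι ≫ V.hom)
  let jD : DV ⟶ V := Specialize.openIncl D
  have sqD := IsPullback.of_hasPullback q ((yon S).map jD)
  have hj : RepWith @IsOpenImmersion ((yon S).map jD) :=
    (repWith_yon_map_iff _ _).2 (inferInstanceAs (IsOpenImmersion D.ι))
  have hjP : RepWith @IsOpenImmersion (pullback.fst q ((yon S).map jD)) :=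
    repWith_baseChange sqD.flip hj
  have hP₂ : IsAlgSpace (pullback q ((yon S).map jD)) :=
    isAlgSpace_of_isPullback sqD (IsAlgSpace.yon_obj V).diag hP (IsAlgSpace.yon_obj DV)
  let h₂ : Over.mk (UD.ι ≫ U.hom) ⟶ DV := Over.homMk (h.left ∣_ D) (by
    show (h.left ∣_ D) ≫ D.ι ≫ V.hom = UD.ι ≫ U.hom
    rw [← Category.assoc, morphismRestrict_ι, Category.assoc, Over.w h])
  have hh₂ : h₂ ≫ jD = Specialize.openIncl UD ≫ h := Over.OverMorphism.ext (morphismRestrict_ι _ _)
  let p₂ : (yon S).obj (Over.mk (UD.ι ≫ U.hom)) ⟶ pullback q ((yon S).map jD) :=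
    pullback.lift ((yon S).map (Specialize.openIncl UD) ≫ p) ((yon S).map h₂)
      (by rw [Category.assoc, ← hh, ← Functor.map_comp, ← Functor.map_comp, hh₂])
  have sqp : IsPullback ((yon S).map (Specialize.openIncl UD)) p₂ p
      (pullback.fst q ((yon S).map jD)) := by
    refine (IsPullback.of_bot (v₁₁ := p₂) ?_ (pullback.lift_fst _ _ _).symm sqD)
    rw [show p₂ ≫ pullback.snd q ((yon S).map jD) = (yon S).map h₂ from pullback.lift_snd _ _ _, ← hh]
    exact (IsPullback.of_map_of_faithful (Over.forget S)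
      (isPullback_morphismRestrict h.left D).flip : IsPullback (Specialize.openIncl UD) h₂ h jD).map (yon S)
  have hp₂ : RepWith @Etale p₂ := repWith_baseChange sqp hpe
  have hp₂s : RepWith @Surjective p₂ := repWith_baseChange sqp hps
  have : IsFinite (hp₂.rep.snd p₂).left := by
    have sqc := (hp₂.rep.isPullback' p₂).paste_horiz sqp
    rw [pullback.lift_fst] at sqc
    let e := (yon S).preimageIso (sqc.isoIsPullback _ _ ((IsPullback.of_hasPullback τ (Specialize.openIncl UD)).map (yon S) |>.paste_horiz (hr.isPullback' p)))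
    have he : e.hom ≫ pullback.snd τ (Specialize.openIncl UD) = hp₂.rep.snd p₂ := (yon S).map_injective (by
      rw [Functor.map_comp]
      exact (congrArg (· ≫ _) ((yon S).map_preimage _)).trans (IsPullback.isoIsPullback_hom_snd _ _ _ _))
    have hfin : IsFinite (pullback.snd τ (Specialize.openIncl UD)).left := by
      have sqK : IsPullback (pullback.fst τ (Specialize.openIncl UD)).left
          ((pullback.snd τ (Specialize.openIncl UD)).left ≫ (h.left ∣_ D)) g D.ι :=
        ((IsPullback.of_hasPullback τ (Specialize.openIncl UD)).map (Over.forget S)).paste_vert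
          (isPullback_morphismRestrict h.left D).flip
      have : IsFinite ((pullback.snd τ (Specialize.openIncl UD)).left ≫ (h.left ∣_ D)) := by
        let e' := sqK.isoIsPullback _ _ (isPullback_morphismRestrict g D).flip
        rw [← IsPullback.isoIsPullback_hom_snd _ _ sqK (isPullback_morphismRestrict g D).flip]
        exact (MorphismProperty.cancel_left_of_respectsIso @IsFinite _ _).2 hfinR
      exact IsFinite.of_comp _ (h.left ∣_ D)
    rw [← he, Over.comp_left]
    exact (MorphismProperty.cancel_left_of_respectsIso @IsFinite _ _).2 hfin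
  obtain ⟨Q, c, l, hQ, hcfin, hcet, hcs, hcl, hl, hrange⟩ := OpenScheme.exists_open_scheme hP₂ hp₂
  have : IsIso l := OpenScheme.isIso_of_surjective hl fun x => hrange.ge (Core.surjective_ofPt hp₂s x)
  obtain ⟨i, hi⟩ := (yon S).map_surjective (l ≫ pullback.snd q ((yon S).map jD))
  have hci : c ≫ i = h₂ := (yon S).map_injective (by
    rw [Functor.map_comp, hi, ← Category.assoc, hcl]
    exact pullback.lift_snd _ _ _)
  refine ⟨D, ?_, hD, Q, i, l ≫ pullback.fst q ((yon S).map jD) ≫ pullback.fst f b, ?_, ?_⟩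
  · exact ⟨⟨η, hηD₁'⟩, hηD₂, rfl⟩
  · rw [hi]
    exact IsPullback.of_iso (sqD.paste_horiz sq) (asIso l).symm (Iso.refl _) (Iso.refl _) (Iso.refl _)
      (by simp) (by simp) (by simp) (by simp [jD])
  · have hh₂' : IsFinite (c.left ≫ i.left) := by
      rw [← Over.comp_left, hci]
      exact hfinU
    have : LocallyOfFiniteType i.left :=
      SourceDescent.Scheme.locallyOfFiniteType.descends c.left i.left ‹_› ‹_› inferInstance
    have : IsSeparated i.left := by
      have : IsAffine DV.left := hD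
      infer_instance
    have : UniversallyClosed i.left := UniversallyClosed.of_comp_surjective c.left i.left
    have : IsAffineHom i.left := by
      have : IsAffine DV.left := hD
      infer_instance
    exact (IsFinite.iff_isProper_and_isAffineHom).2 ⟨{}, inferInstance⟩

end Groth.Agent.Lib.AlgSpDecent.GenericFiniteSp
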