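import Groth.Agent.Lib.AlgSpDecent.DescendEtale
import Groth.Agent.Lib.AlgSpDecent.Restrict

/-!
Decency of morphisms is etale local on the target.
-/

universe u

open CategoryTheory CategoryTheory.Limits AlgebraicGeometry Opposite Topology

namespace Groth.Agent.Lib.AlgSpDecent.DescendMor

open AlgSp Core Fibre Specialize Decent

variable {S : Scheme.{u}}

theorem isEtaleMor_of_repWith {F G : Sp S} {f : F ⟶ G} (hf : RepWith @Etale f) : IsEtaleMor f :=
  fun _ _ hφ => (repWith_isMultiplicative @Etale).comp_mem _ _ hφ hf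

/-- An affine scheme has an affine etale covering inside any etale covering. -/
theorem exists_affine_refine {W T' : Over S} [IsAffine W.left] (π : T' ⟶ W) [Etale π.left]
    [Surjective π.left] : ∃ (T'' : Over S) (e : T'' ⟶ T'), IsAffine T''.left ∧
      Etale (e ≫ π).left ∧ Surjective (e ≫ π).left := by
  obtain ⟨fs, hfs⟩ := isCompact_univ.elim_finite_subcover
    (fun O : T'.left.affineOpens => π.left '' (O.1 : Set ↥T'.left))
    (fun O => π.left.isOpenMap _ O.1.isOpen) (fun w _ => by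
      obtain ⟨t, rfl⟩ := π.left.surjective w
      obtain ⟨_, ⟨O, hO, rfl⟩, htO, -⟩ := T'.left.isBasis_affineOpens.exists_subset_of_mem_open
        (Set.mem_univ t) isOpen_univ
      exact Set.mem_iUnion.2 ⟨⟨O, hO⟩, t, htO, rfl⟩)
  let O' : ↥fs → T'.left.Opens := fun O => O.1.1
  have : ∀ i, IsAffine (O' i).toScheme := fun i => i.1.2
  have : Etale (AlgSpace.opensSigmaMap O').left := AlgSpace.etale_opensSigmaMap O'
  refine ⟨AlgSpace.opensSigma O', AlgSpace.opensSigmaMap O',
    inferInstanceAs (IsAffine (∐ fun i => (O' i).toScheme)), by rw [Over.comp_left]; infer_instance,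
    ⟨fun w => ?_⟩⟩
  obtain ⟨O, hO, t, ht, rfl⟩ := Set.mem_iUnion₂.1 (hfs (Set.mem_univ w))
  exact ⟨_, congrArg π.left (AlgSpace.opensSigmaMap_apply O' ⟨O, hO⟩ ⟨t, ht⟩)⟩

/-- Decency of a morphism descends along an etale chart of the target. -/
theorem isDecentMor {X Y X' : Sp S} {f : X ⟶ Y} (hX : IsAlgSpace X) (hY : IsAlgSpace Y)
    {V : Over S} {p : (yon S).obj V ⟶ Y} (hp : RepWith @Etale p) (hps : RepWith @Surjective p)
    {fst : X' ⟶ X} {snd : X' ⟶ (yon S).obj V} (hsq : IsPullback fst snd f p)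
    (h : IsDecentMor snd) : IsDecentMor f := by
  intro T F' g fstF sndF sqF
  have hF' : IsAlgSpace F' :=
    AlgSpace.isAlgSpace_of_isPullback sqF hY.diag hX (IsAlgSpace.yon_obj T)
  let I := T.left.affineOpens
  let jW : ∀ W : I, Over.mk (W.1.ι ≫ T.hom) ⟶ T := fun W => openIncl W.1
  have hjW : ∀ W : I, RepWith @IsOpenImmersion ((yon S).map (jW W)) := fun W =>
    (repWith_yon_map_iff _ _).2 (inferInstanceAs (IsOpenImmersion W.1.ι))
  refine Criteria.isDecent_of_openCover hF' (fun W : I => pullback sndF ((yon S).map (jW W)))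
    (fun W => pullback.fst _ _)
    (fun W => AlgSpace.repWith_baseChange (IsPullback.of_hasPullback sndF _).flip (hjW W)) ?_ ?_
  · intro x
    obtain ⟨t, ht⟩ := (Points.schemeEquiv T).surjective (Points.map sndF x)
    obtain ⟨_, ⟨W, hW, rfl⟩, htW, -⟩ := T.left.isBasis_affineOpens.exists_subset_of_mem_open
      (Set.mem_univ t) isOpen_univ
    change T.left.Opens at W
    refine ⟨⟨W, hW⟩, ?_⟩
    obtain ⟨z, hz, -⟩ := exists_point_of_isPullback
      (IsPullback.of_hasPullback sndF ((yon S).map (jW ⟨W, hW⟩))) x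
      (Points.schemeEquiv _ (⟨t, htW⟩ : W)) (by
        rw [← ht]
        exact ((map_ofScheme ((yon S).map (jW ⟨W, hW⟩)) (⟨t, htW⟩ : W)).trans (ofPt_yon_map _ _)).symm)
    exact ⟨z, hz⟩
  intro W
  let F₁ := pullback sndF ((yon S).map (jW W))
  let T₁ := Over.mk (W.1.ι ≫ T.hom)
  have : IsAffine T₁.left := W.2
  let g₁ : (yon S).obj T₁ ⟶ Y := (yon S).map (jW W) ≫ g
  have sq₁ : IsPullback (pullback.fst sndF ((yon S).map (jW W)) ≫ fstF)
      (pullback.snd sndF ((yon S).map (jW W))) f g₁ :=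
    (IsPullback.of_hasPullback sndF ((yon S).map (jW W))).paste_horiz sqF
  have hF₁ : IsAlgSpace F₁ :=
    AlgSpace.isAlgSpace_of_isPullback sq₁ hY.diag hX (IsAlgSpace.yon_obj T₁)
  have hπ : Etale (hp.rep.snd g₁).left := hp.property_snd g₁
  have hπs : Surjective (hp.rep.snd g₁).left := hps.property g₁ _ _ (hp.rep.isPullback' g₁)
  obtain ⟨T₂, e, hT₂, hce, hcs⟩ := exists_affine_refine (hp.rep.snd g₁)
  let c := e ≫ hp.rep.snd g₁
  let gV := (yon S).map (e ≫ hp.rep.fst' g₁)
  have hgV : gV ≫ p = (yon S).map c ≫ g₁ := by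
    simp only [gV, c, Functor.map_comp, Category.assoc]
    rw [(hp.rep.isPullback' g₁).w]
  have hcq : QuasiCompact c.left := inferInstance
  let F₂ := pullback (pullback.snd sndF ((yon S).map (jW W))) ((yon S).map c)
  have sq₂ := IsPullback.of_hasPullback (pullback.snd sndF ((yon S).map (jW W))) ((yon S).map c)
  have hF₂ : IsAlgSpace F₂ :=
    AlgSpace.isAlgSpace_of_isPullback sq₂ (IsAlgSpace.yon_obj T₁).diag hF₁ (IsAlgSpace.yon_obj T₂)
  have hd₂ : IsDecent F₂ := by
    have sqo : IsPullback _ _ f ((yon S).map c ≫ g₁) := sq₂.paste_horiz sq₁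
    rw [← hgV] at sqo
    refine h gV (hsq.lift _ (pullback.snd _ _ ≫ gV) (sqo.w.trans (Category.assoc _ _ _).symm))
      (pullback.snd _ _) (IsPullback.of_right ?_ (hsq.lift_snd _ _ _) hsq)
    rw [hsq.lift_fst]
    exact sqo
  refine DescendEtale.isDecent hF₂ hF₁
    (AlgSpMor.QC.isQuasiCompactMor_of_repWith
      (AlgSpace.repWith_baseChange sq₂.flip ((repWith_yon_map_iff _ _).2 hcq)))
    (isEtaleMor_of_repWith (AlgSpace.repWith_baseChange sq₂.flip ((repWith_yon_map_iff _ _).2 hce)))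
    (AlgSpace.surjective_map (AlgSpace.repWith_baseChange sq₂.flip ((repWith_yon_map_iff _ _).2 hcs)))
    hd₂

end Groth.Agent.Lib.AlgSpDecent.DescendMor
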