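import Groth.Agent.Lib.AlgSpDecent.Levels
import Groth.Agent.Lib.AlgSpDecent.EtaleCount
import Mathlib.RingTheory.Etale.StandardEtale
import Mathlib.RingTheory.Unramified.LocalStructure

/-!
Etale maps: geometric points of the fibres as sections over algebraically closed fields.
-/

universe u

open CategoryTheory CategoryTheory.Limits AlgebraicGeometry Opposite

namespace Groth.Agent.Lib.AlgSpDecent.GeoSections

open AlgSp Core Levels

/-- `m` bounds the number of geometric points of the fibres of `e`. -/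
def SchBound {W U : Scheme.{u}} (e : W ⟶ U) (m : ℕ) : Prop :=
  ∀ (Ω : Type u) [Field Ω], IsAlgClosed Ω → ∀ x : Spec (.of Ω) ⟶ U,
    Finite {s : Spec (.of Ω) ⟶ W // s ≫ e = x} ∧
      Nat.card {s : Spec (.of Ω) ⟶ W // s ≫ e = x} ≤ m

theorem schBound_standardEtale {A B : Type u} [CommRing A] [CommRing B] [Algebra A B]
    [Algebra.IsStandardEtale A B] {U : Scheme.{u}} (i : Spec (.of A) ⟶ U) [Mono i] :
    ∃ m, SchBound (Spec.map (CommRingCat.ofHom (algebraMap A B)) ≫ i) m := by
  let P := (Algebra.IsStandardEtale.nonempty_standardEtalePresentation (R := A) (S := B)).some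
  refine ⟨P.f.natDegree, fun Ω _ _ x => ?_⟩
  classical
  let T := {s : Spec (.of Ω) ⟶ Spec (.of B) //
    s ≫ Spec.map (CommRingCat.ofHom (algebraMap A B)) ≫ i = x}
  rcases isEmpty_or_nonempty T with hT | ⟨⟨s₀⟩⟩
  · exact ⟨inferInstanceAs (Finite T), (Nat.card_of_isEmpty (α := T)).le.trans (Nat.zero_le _)⟩
  let φ : A →+* Ω := (Spec.preimage s₀.1).hom.comp (algebraMap A B)
  have hφ : ∀ s : T, (Spec.preimage s.1).hom.comp (algebraMap A B) = φ := fun s => by
    have h1 := s.2.trans s₀.2.symm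
    rw [← Category.assoc, ← Category.assoc, cancel_mono] at h1
    rw [← Spec.map_preimage s.1, ← Spec.map_preimage s₀.1, ← Spec.map_comp, ← Spec.map_comp] at h1
    exact congrArg CommRingCat.Hom.hom (Spec.map_injective h1)
  have hroot : ∀ s : T, (Spec.preimage s.1).hom P.x ∈ (P.f.map φ).roots.toFinset := fun s => by
    rw [Multiset.mem_toFinset, Polynomial.mem_roots (P.monic_f.map φ).ne_zero, Polynomial.IsRoot,
      Polynomial.eval_map, ← hφ s, ← Polynomial.hom_eval₂]
    have := P.hasMap.1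
    rw [Polynomial.aeval_def] at this
    rw [this, map_zero]
  let j : T → (P.f.map φ).roots.toFinset := fun s => ⟨_, hroot s⟩
  have hj : Function.Injective j := fun s t h => by
    apply Subtype.ext
    rw [← Spec.map_preimage s.1, ← Spec.map_preimage t.1]
    congr 1
    ext b
    let : Algebra A Ω := φ.toAlgebra
    let fs : B →ₐ[A] Ω :=
      { toRingHom := (Spec.preimage s.1).hom, commutes' := RingHom.congr_fun (hφ s) }
    let ft : B →ₐ[A] Ω :=
      { toRingHom := (Spec.preimage t.1).hom, commutes' := RingHom.congr_fun (hφ t) }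
    have : fs = ft := P.hom_ext (congrArg Subtype.val h)
    exact AlgHom.congr_fun this b
  refine ⟨Finite.of_injective j hj, (Nat.card_le_card_of_injective j hj).trans ?_⟩
  rw [Nat.card_eq_finsetCard]
  exact (Multiset.toFinset_card_le _).trans ((Polynomial.card_roots' _).trans
    Polynomial.natDegree_map_le)

/-- Local bounds for etale morphisms. -/
theorem exists_local_bound {W U : Scheme.{u}} (e : W ⟶ U) [Etale e] (w : W) :
    ∃ (Z : Scheme.{u}) (g : Z ⟶ W) (m : ℕ), IsOpenImmersion g ∧ w ∈ Set.range g ∧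
      SchBound (g ≫ e) m := by
  obtain ⟨U', hU', heU, -⟩ := exists_isAffineOpen_mem_and_subset (x := e w) (U := ⊤) trivial
  obtain ⟨V, hV, hwV, hVU⟩ := exists_isAffineOpen_mem_and_subset (x := w) (U := e ⁻¹ᵁ U') heU
  let φ := e.appLE U' V hVU
  have h1 : φ.hom.Etale := HasRingHomProperty.appLE @Etale e ‹_› ⟨U', hU'⟩ ⟨V, hV⟩ hVU
  let : Algebra Γ(U, U') Γ(W, V) := φ.hom.toAlgebra
  have : Algebra.Etale Γ(U, U') Γ(W, V) := h1
  let q := (hV.primeIdealOf ⟨w, hwV⟩).asIdeal
  obtain ⟨f, hf, hst⟩ := Algebra.IsEtaleAt.exists_isStandardEtale (R := Γ(U, U')) q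
  obtain ⟨m, hm⟩ := schBound_standardEtale (A := Γ(U, U')) (B := Localization.Away f) hU'.fromSpec
  let j : Spec (.of (Localization.Away f)) ⟶ Spec Γ(W, V) :=
    Spec.map (CommRingCat.ofHom (algebraMap Γ(W, V) (Localization.Away f)))
  refine ⟨_, j ≫ hV.fromSpec, m, inferInstance, ?_, ?_⟩
  · have : hV.primeIdealOf ⟨w, hwV⟩ ∈ Set.range j := by
      have := PrimeSpectrum.localization_away_comap_range (Localization.Away f) f
      exact this.symm ▸ (show hV.primeIdealOf ⟨w, hwV⟩ ∈ (PrimeSpectrum.basicOpen f : Set _) from hf)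
    obtain ⟨z, hz⟩ := this
    refine ⟨z, ?_⟩
    rw [Scheme.Hom.comp_apply, hz]
    exact hV.fromSpec_primeIdealOf ⟨w, hwV⟩
  · have e1 : (j ≫ hV.fromSpec) ≫ e = Spec.map (CommRingCat.ofHom (algebraMap Γ(U, U')
        (Localization.Away f))) ≫ hU'.fromSpec := by
      rw [Category.assoc, ← IsAffineOpen.SpecMap_appLE_fromSpec e hU' hV hVU, ← Category.assoc,
        ← Spec.map_comp, IsScalarTower.algebraMap_eq Γ(U, U') Γ(W, V) (Localization.Away f)]
      rfl
    rw [e1]
    exact hm

theorem exists_bound {W U : Scheme.{u}} (e : W ⟶ U) [Etale e] [CompactSpace W] :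
    ∃ m, SchBound e m := by
  choose Z g m hg hw hm using exists_local_bound e
  obtain ⟨F, hF⟩ := isCompact_univ.elim_finite_subcover (fun w => Set.range (g w))
    (fun w => have := hg w; (g w).isOpenEmbedding.isOpen_range)
    (fun w _ => Set.mem_iUnion.2 ⟨w, hw w⟩)
  refine ⟨∑ i : F, m i, fun Ω _ hΩ x => ?_⟩
  let T := fun i : F => {s : Spec (.of Ω) ⟶ Z i // s ≫ g i.1 ≫ e = x}
  have : ∀ i, Finite (T i) := fun i => (hm i.1 Ω hΩ x).1
  let π : (Σ i, T i) → {s : Spec (.of Ω) ⟶ W // s ≫ e = x} :=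
    fun s => ⟨s.2.1 ≫ g s.1.1, (Category.assoc _ _ _).trans s.2.2⟩
  have hπ : Function.Surjective π := fun s => by
    obtain ⟨i, hi, hsi⟩ := Set.mem_iUnion₂.1 (hF (Set.mem_univ (s.1 (IsLocalRing.closedPoint Ω))))
    have := hg i
    have hsub : Set.range s.1 ⊆ Set.range (g i) := by
      rintro _ ⟨y, rfl⟩
      rwa [Subsingleton.elim (α := PrimeSpectrum Ω) y (IsLocalRing.closedPoint Ω)]
    refine ⟨⟨⟨i, hi⟩, IsOpenImmersion.lift (g i) s.1 hsub, ?_⟩, Subtype.ext ?_⟩
    · show IsOpenImmersion.lift (g i) s.1 hsub ≫ g i ≫ e = x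
      rw [← Category.assoc, IsOpenImmersion.lift_fac, s.2]
    · exact IsOpenImmersion.lift_fac _ _ _
  refine ⟨Finite.of_surjective π hπ, (Nat.card_le_card_of_surjective π hπ).trans ?_⟩
  rw [Nat.card_sigma]
  exact Finset.sum_le_sum fun i _ => (hm i.1 Ω hΩ x).2

variable {S : Scheme.{u}} {F : Sp S} {U : Over S} {a : (yon S).obj U ⟶ F}

/-- Lifts of a field-valued point to the chart. -/
abbrev Sec (a : (yon S).obj U ⟶ F) (q : FieldPt F) : Type _ :=
  {s : q.pt ⟶ U // (yon S).map s ≫ a = q.toHom}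

/-- Lifts correspond to points of the fibre, for etale charts and algebraically closed fields. -/
theorem exists_equiv (ha : RepWith @Etale a) (q : FieldPt F) (hq : IsAlgClosed q.K) :
    ∃ σ : ↥(ha.rep.pullback q.toHom).left → Sec a q, Function.Bijective σ ∧
      ∀ t, (σ t).1.left (IsLocalRing.closedPoint q.K) = (ha.rep.fst' q.toHom).left t := by
  let E := ha.rep.pullback q.toHom
  let π : E.left ⟶ Spec (.of q.K) := (ha.rep.snd q.toHom).left
  have : Etale π := ha.property_snd _
  have := discreteTopology_of_etale_field π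
  let l : E.left → (Spec (.of q.K) ⟶ E.left) := fun t => pointOfClosedPoint π t (isClosed_discrete _)
  have hl : ∀ t, l t ≫ π = 𝟙 _ := fun t => pointOfClosedPoint_comp _ _ _
  let lo : E.left → (q.pt ⟶ E) := fun t => Over.homMk (l t) (by
    rw [← Over.w (ha.rep.snd q.toHom)]
    exact (Category.assoc _ _ _).symm.trans ((congrArg (· ≫ q.pt.hom) (hl t)).trans (Category.id_comp _)))
  have hlo : ∀ t, lo t ≫ ha.rep.snd q.toHom = 𝟙 _ := fun t => Over.OverMorphism.ext (hl t)
  let σ : E.left → Sec a q := fun t => ⟨lo t ≫ ha.rep.fst' q.toHom, by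
    rw [Functor.map_comp, Category.assoc, (ha.rep.isPullback' q.toHom).w, ← Category.assoc,
      ← Functor.map_comp, hlo, CategoryTheory.Functor.map_id, Category.id_comp]⟩
  refine ⟨σ, ⟨fun t t' h => ?_, fun s => ?_⟩, fun t => ?_⟩
  · have h1 : lo t = lo t' := ha.rep.hom_ext' (congrArg Subtype.val h) ((hlo t).trans (hlo t').symm)
    have h2 := congrArg (fun m : q.pt ⟶ E => m.left (IsLocalRing.closedPoint q.K)) h1
    exact (pointOfClosedPoint_apply π t _ _).symm.trans (h2.trans (pointOfClosedPoint_apply π t' _ _))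
  · let m := ha.rep.lift' (g := q.toHom) s.1 (𝟙 _) (by
      rw [s.2, CategoryTheory.Functor.map_id, Category.id_comp])
    have hm₂ : m ≫ ha.rep.snd q.toHom = 𝟙 _ := ha.rep.lift'_snd _ _ _
    have hm₁ : m ≫ ha.rep.fst' q.toHom = s.1 := ha.rep.lift'_fst _ _ _
    refine ⟨m.left (IsLocalRing.closedPoint q.K), Subtype.ext ?_⟩
    refine Eq.trans ?_ hm₁
    refine congrArg (· ≫ ha.rep.fst' q.toHom) (Over.OverMorphism.ext ?_)
    have h2 : m.left ≫ π = 𝟙 _ := congrArg CommaMorphism.left hm₂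
    exact congrArg Subtype.val ((pointEquivClosedPoint π).injective
      (a₁ := ⟨_, hl _⟩) (a₂ := ⟨m.left, h2⟩) (Subtype.ext (pointOfClosedPoint_apply π _ _ _)))
  · show (ha.rep.fst' q.toHom).left (l t _) = _
    rw [pointOfClosedPoint_apply]

/-- The geometric description of bounded fibres. -/
theorem degFibresLE_iff (ha : RepWith @Etale a) (n : ℕ) :
    W4dec.DegFibresLE n a ↔
      ∀ q : FieldPt F, IsAlgClosed q.K → Finite (Sec a q) ∧ Nat.card (Sec a q) ≤ n := by
  constructor
  · intro h q hq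
    obtain ⟨σ, hσ, -⟩ := exists_equiv ha q hq
    obtain ⟨hf, hc⟩ := UnivBdd.natCard_le ha.rep q ((UnivBdd.degFibresLE_iff ha.rep n).1 h q)
    exact ⟨Finite.of_surjective σ hσ.2, (Nat.card_le_card_of_surjective σ hσ.2).trans hc⟩
  · refine fun h => EtaleCount.degFibresLE_of_geometric ha fun q hq => ?_
    obtain ⟨σ, hσ, -⟩ := exists_equiv ha q hq
    obtain ⟨hf, hc⟩ := h q hq
    exact ⟨Finite.of_injective σ hσ.1, (Nat.card_le_card_of_injective σ hσ.1).trans hc⟩

end Groth.Agent.Lib.AlgSpDecent.GeoSections
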