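import Groth.Agent.Lib.AlgSpDecent.Tuples
import Groth.Agent.Lib.AlgSpDecent.GeoSections
import Groth.Agent.Lib.AlgSpDecent.RedInduced
import Groth.Agent.Lib.AlgSpDecent.QS
import Groth.Agent.Lib.AlgSpace.OpenSubExists
import Groth.Agent.Lib.AlgSpMor.QC

/-!
Stratification of a quasi-compact space by the number of geometric points of an affine chart.
-/

universe u

open CategoryTheory CategoryTheory.Limits AlgebraicGeometry Opposite Topology

namespace Groth.Agent.Lib.AlgSpDecent.Strata

open AlgSp Groth.Agent.Lib.AlgSpace Core FiniteRel Tuples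

variable {S : Scheme.{u}} {X : Sp S} {U : Over S} {a : (yon S).obj U ⟶ X}

/-- The image of the scheme of distinct tuples. -/
def lvl (a : (yon S).obj U ⟶ X) (n : ℕ) : Set (Points X) :=
  {x | ∃ (T : Over S) (z : ↥T.left) (s : Fin (n + 1) → (T ⟶ U)), Distinct s ∧
    (∀ i, (yon S).map (s i) ≫ a = (yon S).map (s 0) ≫ a) ∧ Points.ofPt ((yon S).map (s 0) ≫ a) z = x}

theorem range_eq_lvl {n : ℕ} {W : Over S} {π : Fin (n + 1) → (W ⟶ U)} (h : IsTuples a W π) :
    Set.range (Points.ofPt ((yon S).map (π 0) ≫ a)) = lvl a n := by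
  refine Set.Subset.antisymm ?_ ?_
  · rintro _ ⟨w, rfl⟩
    exact ⟨W, w, π, h.distinct, h.comm, rfl⟩
  · rintro _ ⟨T, z, s, hd, hc, rfl⟩
    obtain ⟨l, hl⟩ := h.lift s hc hd
    exact ⟨l.left z, by rw [← ofPt_map_comp, ← Category.assoc, ← Functor.map_comp, hl 0]⟩

theorem isOpen_lvl (ha : RepWith @Etale a) [IsAffine U.left] (n : ℕ) : IsOpen (lvl a n) := by
  obtain ⟨W, π, h⟩ := exists_tuples ha n
  rw [← range_eq_lvl h]
  exact isOpen_range_ofPt h.etale

theorem lvl_antitone (n : ℕ) : lvl a (n + 1) ⊆ lvl a n := by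
  rintro _ ⟨T, z, s, hd, hc, rfl⟩
  refine ⟨T, z, fun i => s i.castSucc, fun w i j e => Fin.castSucc_injective _ (hd w _ _ e),
    fun i => (hc i.castSucc).trans (hc _).symm, ?_⟩
  rfl

theorem lvl_zero (ha : RepWith @Surjective a) : lvl a 0 = Set.univ := by
  refine Set.eq_univ_of_forall fun x => ?_
  obtain ⟨u, rfl⟩ := Core.surjective_ofPt ha x
  exact ⟨U, u, fun _ => 𝟙 U, fun _ i j _ => Fin.ext (by omega), fun _ => rfl,
    by rw [CategoryTheory.Functor.map_id, Category.id_comp]⟩

/-- Morphisms out of the spectrum of a field are determined at the residue field. -/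
theorem epi_res_point {D : Over S} (d : ↥D.left) (z : ↥(Over.mk (D.left.fromSpecResidueField d ≫ D.hom)).left) :
    Epi (res z) := by
  let Y : Over S := Over.mk (D.left.fromSpecResidueField d ≫ D.hom)
  have : Flat (res z).left := FibreDeg.Basic.flat_of_field (K := D.left.residueField d) _
  have : Surjective (res z).left := ⟨fun p => ⟨IsLocalRing.closedPoint (Y.left.residueField z),
    Subsingleton.elim (α := PrimeSpectrum (D.left.residueField d)) _ _⟩⟩
  have : Epi ((Over.forget S).map (res z)) := Flat.epi_of_flat_of_surjective (res z).left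
  exact (Over.forget S).epi_of_epi_map this

/-- The piece over the stratum. -/
theorem exists_piece (hX : IsAlgSpace X) (ha : RepWith @Etale a) [IsAffine U.left] (n : ℕ) :
    ∃ (V : Over S) (l : (yon S).obj V ⟶ X), V.left.IsSeparated ∧ RepWith @Etale l ∧
      Set.range (Points.ofPt l) = lvl a n ∧
      (∀ {T : Over S} (v₁ v₂ : T ⟶ V), (yon S).map v₁ ≫ l = (yon S).map v₂ ≫ l →
        (∀ z, Points.ofPt ((yon S).map v₁ ≫ l) z ∉ lvl a (n + 1)) → v₁ = v₂) ∧
      ∀ (W : Over S) (π : Fin (n + 1) → (W ⟶ U)), IsTuples a W π → CompactSpace ↥W.left →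
        CompactSpace ↥V.left := by
  obtain ⟨W, π, h⟩ := exists_tuples ha n
  have := h.separated
  let σ : ULift.{u} (Equiv.Perm (Fin (n + 1))) → (W ⟶ W) := fun e =>
    (h.lift (fun i => π (e.down i)) (fun i => (h.comm _).trans (h.comm _).symm)
      (fun z i j e' => e.down.injective (h.distinct z _ _ e'))).choose
  have hσπ : ∀ e i, σ e ≫ π i = π (e.down i) := fun e =>
    (h.lift (fun i => π (e.down i)) (fun i => (h.comm _).trans (h.comm _).symm)
      (fun z i j e' => e.down.injective (h.distinct z _ _ e'))).choose_spec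
  have hσ : IsGroup σ :=
    { exists_id := ⟨⟨1⟩, h.uniq _ _ fun i => by rw [hσπ, Category.id_comp]; rfl⟩
      exists_inv := fun e => ⟨⟨e.down⁻¹⟩, h.uniq _ _ fun i => by
          rw [Category.assoc, hσπ, hσπ, Category.id_comp]; simp,
        h.uniq _ _ fun i => by rw [Category.assoc, hσπ, hσπ, Category.id_comp]; simp⟩
      exists_comp := fun e f => ⟨⟨e.down * f.down⟩, h.uniq _ _ fun i => by
        rw [Category.assoc, hσπ, hσπ, hσπ]; rfl⟩ }
  have hσb : ∀ e, (yon S).map (σ e) ≫ (yon S).map (π 0) ≫ a = (yon S).map (π 0) ≫ a := fun e => by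
    rw [← Category.assoc, ← Functor.map_comp, hσπ, h.comm]
  obtain ⟨V, c, l, hcl, hl, -, hce, hcs, hsep, hσc, -⟩ :=
    exists_quotient hX (fun T hT => exists_affineOpen ha h hT) h.etale hσ hσb
  refine ⟨V, l, hsep, hl, ?_, fun {T} v₁ v₂ he hlev => ?_, fun W' π' h' hc' => ?_⟩
  · rw [← range_eq_lvl h, ← hcl]
    ext x
    constructor
    · rintro ⟨v, rfl⟩
      obtain ⟨w, rfl⟩ := hcs.surj v
      exact ⟨w, ofPt_map_comp c l w⟩
    · rintro ⟨w, rfl⟩
      exact ⟨c.left w, (ofPt_map_comp c l w).symm⟩
  swap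
  · obtain ⟨f, hf⟩ := h.lift π' h'.comm h'.distinct
    obtain ⟨g, hg⟩ := h'.lift π h.comm h.distinct
    have hgf : g ≫ f = 𝟙 W := h.uniq _ _ fun i => by rw [Category.assoc, hf, hg, Category.id_comp]
    have hfs : Function.Surjective f.left := fun w =>
      ⟨g.left w, congrArg (fun m : W ⟶ W => m.left w) hgf⟩
    have : CompactSpace ↥W.left := hfs.compactSpace f.left.continuous
    exact hcs.surj.compactSpace c.left.continuous
  -- equality of maps over the stratum
  have hpt : ∀ z : ↥T.left, res z ≫ v₁ = res z ≫ v₂ := by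
    intro z
    let P₁ := pullback v₁ c
    let P₂ := pullback v₂ c
    have : Surjective (pullback.fst v₁ c).left := Fibre.surjective_left_pullback_fst v₁ c
    have : Surjective (pullback.fst v₂ c).left := Fibre.surjective_left_pullback_fst v₂ c
    let D := pullback (pullback.fst v₁ c) (pullback.fst v₂ c)
    have : Surjective (pullback.fst (pullback.fst v₁ c) (pullback.fst v₂ c)).left :=
      Fibre.surjective_left_pullback_fst _ _
    obtain ⟨p₁, hp₁⟩ := (pullback.fst v₁ c).left.surjective z
    obtain ⟨d, hd⟩ := (pullback.fst (pullback.fst v₁ c) (pullback.fst v₂ c)).left.surjective p₁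
    let g : D ⟶ T := pullback.fst _ _ ≫ pullback.fst v₁ c
    let u₁ : D ⟶ W := pullback.fst _ _ ≫ pullback.snd v₁ c
    let u₂ : D ⟶ W := pullback.snd (pullback.fst v₁ c) (pullback.fst v₂ c) ≫ pullback.snd v₂ c
    have hg₁ : g ≫ v₁ = u₁ ≫ c := by
      simp only [g, u₁, Category.assoc]
      rw [pullback.condition (f := v₁)]
    have hg₂ : g ≫ v₂ = u₂ ≫ c := by
      simp only [g, u₂, Category.assoc, ← pullback.condition (f := v₂) (g := c)]
      exact pullback.condition_assoc _
    have hgd : g.left d = z := by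
      show (pullback.fst v₁ c).left ((pullback.fst (pullback.fst v₁ c) (pullback.fst v₂ c)).left d) = z
      rw [hd, hp₁]
    have hb₁ : (yon S).map (g ≫ v₁) ≫ l = (yon S).map u₁ ≫ (yon S).map (π 0) ≫ a := by
      rw [hg₁, Functor.map_comp, Category.assoc, hcl]
    have hb₂ : (yon S).map (g ≫ v₂) ≫ l = (yon S).map u₂ ≫ (yon S).map (π 0) ≫ a := by
      rw [hg₂, Functor.map_comp, Category.assoc, hcl]
    have hbu : (yon S).map u₁ ≫ (yon S).map (π 0) ≫ a = (yon S).map u₂ ≫ (yon S).map (π 0) ≫ a := by
      refine hb₁.symm.trans (Eq.trans ?_ hb₂)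
      simp only [Functor.map_comp, Category.assoc, he]
    -- every new point is an old one
    have hold : ∀ j, ∃ i, res d ≫ u₂ ≫ π j = res d ≫ u₁ ≫ π i := by
      intro j
      by_contra hne
      push Not at hne
      apply hlev z
      let s : Fin (n + 2) → (Over.mk (D.left.fromSpecResidueField d ≫ D.hom) ⟶ U) :=
        Fin.cons (res d ≫ u₂ ≫ π j) fun i => res d ≫ u₁ ≫ π i
      have hs : ∀ i, (yon S).map (s i) ≫ a = (yon S).map (res d ≫ g ≫ v₁) ≫ l := by
        intro i
        rw [Functor.map_comp, Category.assoc, hb₁]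
        induction i using Fin.cases with
        | zero =>
          simp only [s, Fin.cons_zero, Functor.map_comp, Category.assoc, h.comm j, hbu]
        | succ i => simp only [s, Fin.cons_succ, Functor.map_comp, Category.assoc, h.comm i]
      obtain ⟨pt⟩ : Nonempty ↥(Over.mk (D.left.fromSpecResidueField d ≫ D.hom)).left :=
        inferInstanceAs (Nonempty (Spec (D.left.residueField d)))
      refine ⟨_, pt, s, fun w i k e => ?_, fun i => (hs i).trans (hs 0).symm, ?_⟩
      · have := epi_res_point d w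
        rw [cancel_epi] at e
        induction i using Fin.cases with
        | zero =>
          induction k using Fin.cases with
          | zero => rfl
          | succ k => exact (hne k (by simpa only [s, Fin.cons_zero, Fin.cons_succ] using e)).elim
        | succ i =>
          induction k using Fin.cases with
          | zero => exact (hne i (by simpa only [s, Fin.cons_zero, Fin.cons_succ] using e.symm)).elim
          | succ k =>
            exact congrArg Fin.succ ((distinct_comp h.distinct u₁) d i k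
              (by simpa only [s, Fin.cons_succ] using e))
      · rw [hs 0, ← hgd, ← ofPt_map_comp g]
        simp only [Functor.map_comp, Category.assoc]
        rw [ofPt_map_comp (res d)]
        exact congrArg _ (Scheme.fromSpecResidueField_apply d pt)
    choose e he' using hold
    have hinj : Function.Injective e := fun j k hjk =>
      (distinct_comp h.distinct u₂) d j k (by
        show res d ≫ u₂ ≫ π j = res d ≫ u₂ ≫ π k
        rw [he', he', hjk])
    let E : ULift.{u} (Equiv.Perm (Fin (n + 1))) := ⟨Equiv.ofBijective e (Finite.injective_iff_bijective.1 hinj)⟩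
    have hu : (res d ≫ u₁) ≫ σ E = res d ≫ u₂ := h.uniq _ _ fun i => by
      rw [Category.assoc, hσπ, Category.assoc, Category.assoc]
      exact (he' i).symm
    have key : res d ≫ g ≫ v₁ = res d ≫ g ≫ v₂ := by
      rw [hg₁, hg₂, ← Category.assoc (res d) u₂, ← hu]
      simp only [Category.assoc, hσc]
    rw [epi_res] at key
    exact hgd ▸ key
  let hr := hl.rep
  obtain ⟨w, hw₁, hw₂⟩ : ∃ w : T ⟶ hr.pullback l, w ≫ hr.fst' l = v₁ ∧ w ≫ hr.snd l = v₂ :=
    ⟨hr.lift' v₁ v₂ he, hr.lift'_fst _ _ _, hr.lift'_snd _ _ _⟩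
  obtain ⟨δ, hδ₁, hδ₂⟩ : ∃ δ : V ⟶ hr.pullback l, δ ≫ hr.fst' l = 𝟙 _ ∧ δ ≫ hr.snd l = 𝟙 _ :=
    ⟨hr.lift' (𝟙 _) (𝟙 _) rfl, hr.lift'_fst _ _ _, hr.lift'_snd _ _ _⟩
  have het : Etale (hr.snd l).left := hl.property_snd l
  have hδ : IsOpenImmersion δ.left := by
    have h : δ.left ≫ (hr.snd l).left = 𝟙 _ := congrArg CommaMorphism.left hδ₂
    have : IsSplitMono δ.left := ⟨⟨⟨(hr.snd l).left, h⟩⟩⟩
    have : Etale δ.left := by
      have : Etale (δ.left ≫ (hr.snd l).left) := by rw [h]; infer_instance
      exact Etale.of_comp δ.left (hr.snd l).left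
    exact IsOpenImmersion.of_flat_of_mono δ.left
  have hsub : Set.range w.left ⊆ Set.range δ.left := by
    rintro _ ⟨z, rfl⟩
    have e : res z ≫ w = (res z ≫ v₁) ≫ δ := hr.hom_ext'
      (by simp only [Category.assoc, hw₁, hδ₁, Category.comp_id])
      (by simp only [Category.assoc, hw₂, hδ₂, Category.comp_id, hpt z])
    obtain ⟨pt⟩ : Nonempty ↥(Over.mk (T.left.fromSpecResidueField z ≫ T.hom)).left :=
      inferInstanceAs (Nonempty (Spec (T.left.residueField z)))
    exact ⟨(res z ≫ v₁).left pt,
      ((res_apply z w pt).symm.trans (congrArg (fun m : _ ⟶ hr.pullback l => m.left pt) e)).symm⟩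
  obtain ⟨k, hk⟩ : ∃ k, k ≫ δ.left = w.left := ⟨_, IsOpenImmersion.lift_fac δ.left w.left hsub⟩
  refine Over.OverMorphism.ext ?_
  have hd₁ : δ.left ≫ (hr.fst' l).left = 𝟙 _ := congrArg CommaMorphism.left hδ₁
  have hd₂ : δ.left ≫ (hr.snd l).left = 𝟙 _ := congrArg CommaMorphism.left hδ₂
  rw [← hw₁, ← hw₂, Over.comp_left, Over.comp_left, ← hk, Category.assoc, Category.assoc, hd₁, hd₂]

/-- Points with quasi-compact representatives leave the levels. -/
theorem exists_notMem_lvl (hX : IsAlgSpace X) (ha : RepWith @Etale a) [IsAffine U.left]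
    {x : Points X} (hx : ∃ q : FieldPt X, Points.mk q = x ∧ RepWith @QuasiCompact q.toHom) :
    ∃ n, x ∉ lvl a n := by
  obtain ⟨q, rfl, hq⟩ := hx
  let π : (ha.rep.pullback q.toHom).left ⟶ Spec (.of q.K) := (ha.rep.snd q.toHom).left
  have hfin := Fibre.finite_pullback_of_qc q hq ha
  have : Etale π := ha.property_snd _
  have := locallyQuasiFinite_of_etale π
  have : CompactSpace ↥(ha.rep.pullback q.toHom).left := Finite.compactSpace
  have : IsFinite π := IsFinite.of_locallyQuasiFinite π
  let pt : ↥(Spec (CommRingCat.of q.K)) := IsLocalRing.closedPoint q.K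
  have hbdd : UnivBdd.Bdd ha.rep q (π.finrank pt) := ⟨‹IsFinite π›, fun s => le_of_eq
    (congrArg π.finrank (Subsingleton.elim (α := PrimeSpectrum q.K) s pt))⟩
  refine ⟨π.finrank pt, ?_⟩
  rintro ⟨T, z, s, hd, hc, hz⟩
  let qz := FieldPt.ofPt ((yon S).map (s 0) ≫ a) z
  let φ := algebraMap qz.K (AlgebraicClosure qz.K)
  let m : Over.mk (Spec.map (CommRingCat.ofHom φ) ≫ qz.str) ⟶ qz.pt :=
    Over.homMk (Spec.map (CommRingCat.ofHom φ)) rfl
  let q' : FieldPt X := ⟨AlgebraicClosure qz.K, Spec.map (CommRingCat.ofHom φ) ≫ qz.str,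
    (J S).uliftYonedaEquiv ((yon S).map m ≫ qz.toHom)⟩
  have hq' : q'.toHom = (yon S).map m ≫ qz.toHom := (J S).uliftYonedaEquiv.symm_apply_apply _
  have : Epi m := by
    have : Flat m.left := FibreDeg.Basic.flat_of_field (K := qz.K) _
    have : Surjective m.left := ⟨fun p => ⟨IsLocalRing.closedPoint (AlgebraicClosure qz.K),
      Subsingleton.elim (α := PrimeSpectrum qz.K) _ _⟩⟩
    have : Epi ((Over.forget S).map m) := Flat.epi_of_flat_of_surjective m.left
    exact (Over.forget S).epi_of_epi_map this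
  have he : Points.mk q' = Points.mk q := by
    refine Eq.trans ?_ hz
    obtain ⟨pt'⟩ := Core.nonempty_pt q'
    rw [← Points.ofPt_toHom q' pt', hq', ofPt_map_comp]
    exact Points.ofPt_toHom qz _
  have halg : IsAlgClosed q'.K := inferInstanceAs (IsAlgClosed (AlgebraicClosure qz.K))
  let σ : Fin (π.finrank pt + 1) → GeoSections.Sec a q' := fun i => ⟨m ≫ res z ≫ s i, by
    rw [hq', show qz.toHom = (yon S).map (res z) ≫ (yon S).map (s 0) ≫ a from
      FieldPt.toHom_ofPt _ z, ← hc i]
    simp only [Functor.map_comp, Category.assoc]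
    rfl⟩
  have hσ : Function.Injective σ := fun i j e => by
    have := congrArg Subtype.val e
    exact hd z i j ((cancel_epi m).1 this)
  obtain ⟨τ, hτ, -⟩ := GeoSections.exists_equiv ha q' halg
  obtain ⟨hf, hn⟩ := UnivBdd.natCard_le ha.rep q' (UnivBdd.bdd_of_mk_eq ha.rep he hbdd)
  have : Finite (GeoSections.Sec a q') := Finite.of_surjective τ hτ.2
  have h1 := Nat.card_le_card_of_injective σ hσ
  have h2 := Nat.card_le_card_of_surjective τ hτ.2
  rw [Nat.card_fin] at h1
  omega

/-- The stratification. -/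
theorem exists_strata (hX : IsAlgSpace X) (ha : RepWith @Etale a) (hs : RepWith @Surjective a)
    [IsAffine U.left] :
    ∃ (Uo : ℕ → Space S) (j : ∀ p, (Uo p).obj ⟶ X) (k : ∀ p, Uo (p + 1) ⟶ Uo p)
      (T : ℕ → Space S) (i : ∀ p, T p ⟶ Uo p),
      (∀ p, RepWith @IsOpenImmersion (j p)) ∧ (∀ p, (k p).hom ≫ j p = j (p + 1)) ∧ IsIso (j 1) ∧
      (∀ p, Set.range (Points.map (j (p + 1))) = lvl a p) ∧
      (∀ p, IsRedInduced (Set.range (Points.map (k p).hom))ᶜ (i p).hom) ∧
      (∀ p, 1 ≤ p → ∃ (V : Over S) (f : (yon S).obj V ⟶ (Uo p).obj), V.left.IsSeparated ∧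
        RepWith @Etale f ∧ RepWith @Surjective f ∧
        (∀ (W : Over S) (π : Fin (p - 1 + 1) → (W ⟶ U)), IsTuples a W π → CompactSpace ↥W.left →
          CompactSpace ↥V.left) ∧
        ∀ (P : Sp S) (fst : P ⟶ (T p).obj) (snd : P ⟶ (yon S).obj V),
          IsPullback fst snd (i p).hom f → IsIso fst) ∧
      ∀ x, ∀ p, x ∈ lvl a p → x ∉ lvl a (p + 1) →
        x ∈ Set.range (Points.map ((i (p + 1)).hom ≫ j (p + 1))) := by
  choose F jF hF hjF hrF using fun p : ℕ => exists_open_subspace hX (isOpen_lvl ha (p - 1))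
  have hmono : ∀ p, Mono (jF p) := fun p => mono_of_repWith (P := @IsOpenImmersion)
    (fun _ _ g (_ : IsOpenImmersion g) ↦ (inferInstance : Mono g)) (hjF p)
  have hle : ∀ p, lvl a p ⊆ lvl a (p - 1) := fun p => by
    rcases p with _ | p
    · exact subset_rfl
    · exact lvl_antitone p
  have hk : ∀ p, ∃ k : F (p + 1) ⟶ F p, k ≫ jF p = jF (p + 1) := fun p =>
    (exists_lift_iff_range_subset (hjF p) (jF (p + 1))).2 (by
      rw [hrF, hrF]
      exact hle p)
  choose k hk using hk
  let Uo : ℕ → Space S := fun p => ⟨F p, hF p⟩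
  have hko : ∀ p, IsOpen (Set.range (Points.map (k p))) := fun p => by
    have : Set.range (Points.map (k p)) = Points.map (jF p) ⁻¹' lvl a p := by
      ext y
      constructor
      · rintro ⟨y, rfl⟩
        rw [Set.mem_preimage, ← Points.map_comp, hk]
        exact (hrF (p + 1)).subset ⟨y, rfl⟩
      · intro hy
        obtain ⟨y', hy'⟩ := (hrF (p + 1)).ge hy
        refine ⟨y', AlgSpace.injective_map_of_mono (jF p) ?_⟩
        rw [← Points.map_comp, hk, hy']
    rw [this]
    exact (isOpen_lvl ha p).preimage (isOpenEmbedding_map (hjF p)).continuous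
  choose Z iZ hZ hiZ using fun p => RedInduced.exists_redInduced (hF p) (hko p).isClosed_compl
  refine ⟨Uo, jF, fun p => ObjectProperty.homMk (k p), fun p => ⟨Z p, hZ p⟩,
    fun p => ObjectProperty.homMk (iZ p), hjF, hk, ?_, fun p => hrF (p + 1), hiZ, fun p hp => ?_,
    fun x p hx hx' => ?_⟩
  · refine OpenScheme.isIso_of_surjective (hjF 1) fun x => ?_
    exact (hrF 1).ge ((lvl_zero hs).ge trivial)
  · obtain ⟨p, rfl⟩ := Nat.exists_eq_succ_of_ne_zero (Nat.one_le_iff_ne_zero.1 hp)
    obtain ⟨V, l, hVs, hl, hrl, hinj, hVc⟩ := exists_piece hX ha p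
    obtain ⟨f, hf⟩ := exists_lift_yon_of_range_subset (hjF (p + 1)) l (by rw [hrF, hrl]; rfl)
    have := hmono (p + 1)
    have sqf : IsPullback f (𝟙 _) (jF (p + 1)) l := by
      refine isPullback_of_yon (by rw [hf, Category.id_comp])
        (fun T c c' _ h => by simpa using h) fun T x₀ y₀ e => ⟨y₀, ?_, Category.comp_id _⟩
      rw [← cancel_mono (jF (p + 1)), Category.assoc, hf, e]
    have hfe : RepWith @Etale f := repWith_baseChange sqf.flip hl
    have hfs : RepWith @Surjective f := Core.repWith_surjective_of_surjective hfe.rep fun y => by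
      obtain ⟨v, hv⟩ : Points.map (jF (p + 1)) y ∈ Set.range (Points.ofPt l) := by
        rw [hrl]; exact (hrF (p + 1)).subset ⟨y, rfl⟩
      refine ⟨v, AlgSpace.injective_map_of_mono (jF (p + 1)) ?_⟩
      rw [← Core.ofPt_comp, hf, hv]
    refine ⟨V, f, hVs, hfe, hfs, hVc, fun P fst snd sq => ?_⟩
    have hfst : RepWith @Etale fst := repWith_baseChange sq.flip hfe
    have hfsts : RepWith @Surjective fst := repWith_baseChange sq.flip hfs
    have : Mono fst := mono_of_yon fst fun T c c' (e : c ≫ fst = c' ≫ fst) => by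
      refine sq.hom_ext e ?_
      obtain ⟨v₁, hv₁⟩ := (yon S).map_surjective (c ≫ snd)
      obtain ⟨v₂, hv₂⟩ := (yon S).map_surjective (c' ≫ snd)
      rw [← hv₁, ← hv₂]
      congr 1
      refine hinj v₁ v₂ ?_ fun z hz => ?_
      · rw [hv₁, hv₂, ← hf, Category.assoc, Category.assoc, ← reassoc_of% sq.w, reassoc_of% e,
          reassoc_of% sq.w]
      · rw [hv₁, ← hf, Category.assoc, ← reassoc_of% sq.w, ← Category.assoc, Core.ofPt_comp,
          Core.ofPt_comp] at hz
        obtain ⟨y, hy⟩ := (hrF (p + 2)).ge hz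
        rw [← hk (p + 1), Points.map_comp, Points.map_comp] at hy
        have hy' := AlgSpace.injective_map_of_mono (jF (p + 1)) hy
        exact ((hiZ (p + 1)).2.1.subset ⟨_, rfl⟩) ⟨y, hy'⟩
    have hrep : RepWith @IsOpenImmersion fst := ⟨hfst.rep, fun A B g fst' snd' sq' => by
      have he : Etale snd'.left := hfst.property g fst' snd' sq'
      have hm : Mono ((yon S).map snd') := sq'.mono_snd_of_mono inferInstance
      have : Mono snd' := (yon S).mono_of_mono_map hm
      have : Mono snd'.left := inferInstance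
      exact IsOpenImmersion.of_flat_of_mono snd'.left⟩
    exact OpenScheme.isIso_of_surjective hrep (AlgSpace.surjective_map hfsts)
  · obtain ⟨y, hy⟩ := (hrF (p + 1)).ge hx
    obtain ⟨t, ht⟩ := (hiZ (p + 1)).2.1.ge (show y ∈ (Set.range (Points.map (k (p + 1))))ᶜ from by
      rintro ⟨y', rfl⟩
      rw [← Points.map_comp, hk] at hy
      exact hx' ((hrF (p + 2)).subset ⟨y', hy⟩))
    refine ⟨t, ?_⟩
    show Points.map (iZ (p + 1) ≫ jF (p + 1)) t = x
    rw [Points.map_comp, ht, hy]

/-- Affine charts of quasi-separated spaces over quasi-separated bases are quasi-compact. -/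
theorem repWith_qc_of_affine [QuasiSeparatedSpace ↥S] (hX : IsAlgSpace X)
    (hqs : IsQuasiSeparatedSp X) [IsAffine U.left] (a : (yon S).obj U ⟶ X) :
    RepWith @QuasiCompact a := by
  refine ⟨hX.representable_from_yon a, fun T E g fst snd sq => ?_⟩
  show QuasiCompact snd.left
  rw [quasiCompact_iff_forall_isAffineOpen]
  intro A hA
  let T' : Over S := Over.mk (A.ι ≫ T.hom)
  let j : T' ⟶ T := Over.homMk A.ι rfl
  have : IsAffine T'.left := hA
  obtain ⟨x, hx⟩ := (yon S).map_surjective fst
  have sqE := IsPullback.of_hasPullback snd j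
  have sq' := ((sqE.map (yon S))).paste_horiz sq
  rw [← hx, ← Functor.map_comp] at sq'
  have sqD := isPullback_diag_yonProd sq'
  have : QuasiCompact U.hom := quasiCompact_of_compactSpace _
  have : CompactSpace ↥(pullback U.hom T'.hom) :=
    QuasiCompact.compactSpace_of_compactSpace (pullback.snd U.hom T'.hom)
  have : CompactSpace ↥(U ⨯ T').left :=
    (Over.prodLeftIsoPullback U T').symm.schemeIsoToHomeo.compactSpace
  have : CompactSpace ↥(pullback snd j).left := QS.compactSpace_of_isPullback hqs sqD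
  have hr : Set.range (pullback.fst snd j).left = snd.left ⁻¹' A := by
    rw [Restrict.range_fst_over]
    congr 1
    exact Scheme.Opens.range_ι A
  show IsCompact (snd.left ⁻¹' (A : Set ↥T.left))
  rw [← hr]
  exact isCompact_range (pullback.fst snd j).left.continuous

/-- In the quasi-separated case the tuples form a compact scheme. -/
theorem compactSpace_tuples (ha : RepWith @Etale a) (haq : RepWith @QuasiCompact a)
    [IsAffine U.left] : ∀ {n : ℕ} {W : Over S} {π : Fin (n + 1) → (W ⟶ U)},
    IsTuples a W π → CompactSpace ↥W.left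
  | 0, W, π, h => by
    obtain ⟨f, hf⟩ := h.lift (fun _ => 𝟙 U) (fun _ => rfl) (fun _ i j _ => Fin.ext (by omega))
    have hid : π 0 ≫ f = 𝟙 W := h.uniq _ _ fun i => by
      rw [Category.assoc, hf, Category.comp_id, Category.id_comp, Fin.eq_zero i]
    have : Function.Surjective f.left := fun w =>
      ⟨(π 0).left w, congrArg (fun m : W ⟶ W => m.left w) hid⟩
    exact this.compactSpace f.left.continuous
  | n + 1, W, π, h => by
    obtain ⟨W₀, π₀, h₀⟩ := exists_tuples ha n
    have := compactSpace_tuples ha haq h₀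
    let hr := ha.rep
    let b := (yon S).map (π₀ 0) ≫ a
    have : QuasiCompact (hr.snd b).left := haq.property b _ _ (hr.isPullback' b)
    have : CompactSpace ↥(hr.pullback b).left :=
      QuasiCompact.compactSpace_of_compactSpace (hr.snd b).left
    have : IsSeparated (hr.snd b).left := DenseQC.isSeparated_snd hr b
    have hpe : Etale (hr.snd b).left := ha.property_snd b
    -- the sections
    have hg : ∀ i, ∃ γ : W₀ ⟶ hr.pullback b, γ ≫ hr.fst' b = π₀ i ∧ γ ≫ hr.snd b = 𝟙 W₀ := fun i =>
      ⟨hr.lift' (π₀ i) (𝟙 W₀) (by rw [CategoryTheory.Functor.map_id, Category.id_comp]; exact h₀.comm i),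
        hr.lift'_fst _ _ _, hr.lift'_snd _ _ _⟩
    choose γ hγf hγp using hg
    have hoi : ∀ i, IsOpenImmersion (γ i).left := fun i => by
      have h : (γ i).left ≫ (hr.snd b).left = 𝟙 _ := congrArg CommaMorphism.left (hγp i)
      have : IsSplitMono (γ i).left := ⟨⟨⟨(hr.snd b).left, h⟩⟩⟩
      have : Etale (γ i).left := by
        have : Etale ((γ i).left ≫ (hr.snd b).left) := by rw [h]; infer_instance
        exact Etale.of_comp (γ i).left (hr.snd b).left
      exact IsOpenImmersion.of_flat_of_mono (γ i).left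
    have hopen : IsOpen (⋃ i, Set.range (γ i).left) :=
      isOpen_iUnion fun i => have := hoi i; (γ i).left.isOpenEmbedding.isOpen_range
    have hC : IsCompact (⋃ i, Set.range (γ i).left)ᶜ := hopen.isClosed_compl.isCompact
    obtain ⟨w, hw⟩ := h₀.lift (fun i => π i.succ) (fun i => (h.comm i.succ).trans (h.comm _).symm)
      (fun z i k e => Fin.succ_injective _ (h.distinct z i.succ k.succ e))
    obtain ⟨m, hm₁, hm₂⟩ : ∃ m : W ⟶ hr.pullback b, m ≫ hr.fst' b = π 0 ∧ m ≫ hr.snd b = w :=
      ⟨hr.lift' (π 0) w (by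
        show _ = (yon S).map w ≫ (yon S).map (π₀ 0) ≫ a
        rw [← Category.assoc, ← Functor.map_comp, hw 0]; exact (h.comm _).symm),
        hr.lift'_fst _ _ _, hr.lift'_snd _ _ _⟩
    -- the inverse on the complement
    let O : (hr.pullback b).left.Opens :=
      ⟨(⋃ i, Set.range (γ i).left)ᶜ, (isClosed_iUnion_of_finite fun i => by
        have h : (γ i).left ≫ (hr.snd b).left = 𝟙 _ := congrArg CommaMorphism.left (hγp i)
        have : IsClosedImmersion ((γ i).left ≫ (hr.snd b).left) := by rw [h]; infer_instance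
        have := IsClosedImmersion.of_comp (γ i).left (hr.snd b).left
        exact (γ i).left.isClosedEmbedding.isClosed_range).isOpen_compl⟩
    let O' : Over S := Over.mk (O.ι ≫ (hr.pullback b).hom)
    have : CompactSpace ↥O'.left := isCompact_iff_compactSpace.1 hC
    let jO : O' ⟶ hr.pullback b := Over.homMk O.ι rfl
    let x : Fin (n + 2) → (O' ⟶ U) := Fin.cons (jO ≫ hr.fst' b) fun i => jO ≫ hr.snd b ≫ π₀ i
    have hnew : ∀ (z : ↥O'.left) (i : Fin (n + 1)),
        res z ≫ jO ≫ hr.fst' b ≠ res z ≫ jO ≫ hr.snd b ≫ π₀ i := by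
      intro z i e
      apply z.2
      refine Set.mem_iUnion.2 ⟨i, ?_⟩
      have e' : res z ≫ jO = (res z ≫ jO ≫ hr.snd b) ≫ γ i := hr.hom_ext'
        (by simp only [Category.assoc, hγf, e])
        (by simp only [Category.assoc, hγp, Category.comp_id])
      obtain ⟨pt⟩ : Nonempty ↥(Over.mk (O'.left.fromSpecResidueField z ≫ O'.hom)).left :=
        inferInstanceAs (Nonempty (Spec (O'.left.residueField z)))
      exact ⟨(res z ≫ jO ≫ hr.snd b).left pt, ((res_apply z jO pt).symm.trans
        (congrArg (fun m : _ ⟶ hr.pullback b => m.left pt) e')).symm⟩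
    obtain ⟨f, hf⟩ := h.lift x (fun i => by
        induction i using Fin.cases with
        | zero => rfl
        | succ i =>
          simp only [x, Fin.cons_succ, Fin.cons_zero, Functor.map_comp, Category.assoc, h₀.comm i]
          rw [(hr.isPullback' b).w])
      (fun z i k e => by
        induction i using Fin.cases with
        | zero =>
          induction k using Fin.cases with
          | zero => rfl
          | succ k => exact (hnew z k (by simpa only [x, Fin.cons_succ, Fin.cons_zero] using e)).elim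
        | succ i =>
          induction k using Fin.cases with
          | zero => exact (hnew z i (by simpa only [x, Fin.cons_succ, Fin.cons_zero] using e.symm)).elim
          | succ k =>
            exact congrArg Fin.succ (distinct_comp h₀.distinct (jO ≫ hr.snd b) z i k
              (by simpa only [x, Fin.cons_succ, Category.assoc] using e)))
    have hsub : Set.range m.left ⊆ Set.range jO.left := by
      rintro _ ⟨z, rfl⟩
      refine ⟨⟨m.left z, fun hmem => ?_⟩, rfl⟩
      obtain ⟨i, hi⟩ := Set.mem_iUnion.1 hmem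
      have := hoi i
      obtain ⟨m', hm'⟩ := exists_res_factor (γ i) m z hi
      apply Fin.succ_ne_zero i
      refine h.distinct z i.succ 0 ?_
      calc res z ≫ π i.succ = (res z ≫ m) ≫ hr.snd b ≫ π₀ i := by
            rw [Category.assoc, reassoc_of% hm₂, hw i]
        _ = m' ≫ (γ i ≫ hr.snd b) ≫ π₀ i := by rw [← hm']; simp only [Category.assoc]
        _ = m' ≫ γ i ≫ hr.fst' b := by rw [hγp, Category.id_comp, hγf]
        _ = res z ≫ π 0 := by rw [← Category.assoc, hm', Category.assoc, hm₁]
    have hjO : IsOpenImmersion jO.left := inferInstanceAs (IsOpenImmersion O.ι)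
    obtain ⟨g, hg'⟩ : ∃ g : W ⟶ O', g ≫ jO = m := by
      refine ⟨Over.homMk (IsOpenImmersion.lift jO.left m.left hsub) ?_,
        Over.OverMorphism.ext (IsOpenImmersion.lift_fac _ _ _)⟩
      rw [← Over.w jO, IsOpenImmersion.lift_fac_assoc]
      exact Over.w m
    have hid : g ≫ f = 𝟙 W := h.uniq _ _ fun i => by
      rw [Category.assoc, hf i, Category.id_comp]
      induction i using Fin.cases with
      | zero => simp only [x, Fin.cons_zero, reassoc_of% hg', hm₁]
      | succ i => simp only [x, Fin.cons_succ, reassoc_of% hg', reassoc_of% hm₂, hw i]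
    have hfs : Function.Surjective f.left := fun w' =>
      ⟨g.left w', congrArg (fun m : W ⟶ W => m.left w') hid⟩
    exact hfs.compactSpace f.left.continuous

end Groth.Agent.Lib.AlgSpDecent.Strata
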