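import Groth.Agent.Lib.AlgSpDecent.DenseOpen
import Groth.Agent.Lib.AlgSpDecent.DimDecent
import Groth.Agent.Lib.AlgSpDecent.QS

/-!
Quasi-separated charts and the schematic locus at codimension zero points.
-/

universe u

open CategoryTheory CategoryTheory.Limits AlgebraicGeometry Opposite Topology TopologicalSpace

namespace Groth.Agent.Lib.AlgSpDecent.QSCharts

open AlgSp Core Fibre Specialize Decent SpecOrder

variable {S : Scheme.{u}} {F : Sp S}

theorem isPullback_comp_mono {C : Type*} [Category C] {P X Y Z W : C} {f : X ⟶ Z} {g : Y ⟶ Z}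
    {p : P ⟶ X} {q : P ⟶ Y} (h : IsPullback p q f g) (i : Z ⟶ W) [Mono i] :
    IsPullback p q (f ≫ i) (g ≫ i) :=
  ⟨⟨by rw [reassoc_of% h.w]⟩, ⟨PullbackCone.isLimitOfCompMono f g i h.cone h.isLimit⟩⟩

/-- In a quasi-separated space every point lies on an affine chart with quasi-compact self fibre
product. -/
theorem exists_qc_chart (hF : IsAlgSpace F) (hqs : IsQuasiSeparatedSp F) (x : Points F) :
    ∃ (U : Over S) (a : (yon S).obj U ⟶ F) (ha : RepWith @Etale a),
      IsAffine U.left ∧ QuasiCompact (ha.rep.snd a).left ∧ x ∈ Set.range (Points.ofPt a) := by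
  obtain ⟨ι, U, φ, hU, hφ, hsurj, hW⟩ :=
    QS.exists_affine_chart_over hF (fun V _ => V.hom) (fun c _ => (Over.w c).symm)
  obtain ⟨i, v, hv⟩ := hsurj x
  refine ⟨U i, φ i, hφ i, hU i, ?_, v, hv⟩
  obtain ⟨W, hW, hUW⟩ := hW i
  have sqD := AlgSpace.isPullback_diag_yonProd ((hφ i).rep.isPullback' (φ i))
  have := hU i
  have := QS.compactSpace_over_prod (U := U i) (V := U i) W hW hUW hUW
  have : CompactSpace ↥((hφ i).rep.pullback (φ i)).left := QS.compactSpace_of_isPullback hqs sqD
  infer_instance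

/-- The same through an open subspace. -/
theorem exists_qc_chart_of_open {G : Sp S} (hF : IsAlgSpace F) {j : G ⟶ F}
    (hj : RepWith @IsOpenImmersion j) (hqs : IsQuasiSeparatedSp G) {x : Points F}
    (hx : x ∈ Set.range (Points.map j)) :
    ∃ (U : Over S) (a : (yon S).obj U ⟶ F) (ha : RepWith @Etale a),
      IsAffine U.left ∧ QuasiCompact (ha.rep.snd a).left ∧ x ∈ Set.range (Points.ofPt a) := by
  have hG : IsAlgSpace G := AlgSpace.isAlgSpace_of_representable hj.rep hF
  obtain ⟨y, rfl⟩ := hx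
  obtain ⟨U, a, ha, hU, hqc, v, rfl⟩ := exists_qc_chart hG hqs y
  have hje : RepWith @Etale j :=
    repWith_mono (P := @IsOpenImmersion) (fun _ h => by have := h; infer_instance) hj
  have ha' : RepWith @Etale (a ≫ j) := (repWith_isMultiplicative @Etale).comp_mem _ _ ha hje
  refine ⟨U, a ≫ j, ha', hU, ?_, v, ofPt_comp _ _ v⟩
  have : Mono j := AlgSpace.mono_of_repWith (P := @IsOpenImmersion)
    (fun _ _ f (_ : IsOpenImmersion f) => inferInstanceAs (Mono f)) hj
  let e := (yon S).preimageIso ((ha'.rep.isPullback' (a ≫ j)).isoIsPullback _ _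
    (isPullback_comp_mono (ha.rep.isPullback' a) j))
  have he : e.hom ≫ ha.rep.snd a = ha'.rep.snd (a ≫ j) := by
    apply (yon S).map_injective
    simp [e]
  rw [← he, Over.comp_left]
  have : IsIso e.hom.left := inferInstanceAs (IsIso ((Over.forget S).map e.hom))
  infer_instance

/-- The codimension zero property is read on any chart. -/
theorem minimal_of_hasAt (hA : IsAlgSpace F) (hF : IsDecent F) {U : Over S}
    {a : (yon S).obj U ⟶ F} (ha : RepWith @Etale a) (u : ↥U.left)
    (hx : AlgSp.HasAt (fun U u => ringKrullDim ↥(U.presheaf.stalk u) = 0) F (Points.ofPt a u)) :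
    ∀ y, y ⤳ u → y = u := by
  have := t0Space_points hA hF
  obtain ⟨V, b, v, hb, hv, h0⟩ := hx
  have h1 : (cohtPt (Points.ofPt b v) : WithBot ℕ∞) = 0 := by
    rw [← DimDecent.ringKrullDim_stalk_chart hA hF hb]; exact h0
  refine (SpecOrder.cohtPt_eq_zero (x := u)).1 ?_
  rw [← DimDecent.cohtPt_ofPt hA hF ha, ← hv]
  exact_mod_cast h1

/-- Codimension zero points with a quasi-compact chart are in an open subscheme. -/
theorem exists_open_scheme_of_codimZero (hA : IsAlgSpace F) (hF : IsDecent F) {U : Over S}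
    [IsAffine U.left] {a : (yon S).obj U ⟶ F} (ha : RepWith @Etale a)
    [QuasiCompact (ha.rep.snd a).left] (u : ↥U.left)
    (hx : AlgSp.HasAt (fun U u => ringKrullDim ↥(U.presheaf.stalk u) = 0) F (Points.ofPt a u)) :
    ∃ (Q : Over S) (l : (yon S).obj Q ⟶ F), IsAffine Q.left ∧ RepWith @IsOpenImmersion l ∧
      Points.ofPt a u ∈ Set.range (Points.map l) := by
  obtain ⟨Q, l, hQ, hl, hx', -⟩ :=
    DenseOpen.exists_open_scheme_of_minimal hA hF ha (minimal_of_hasAt hA hF ha u hx)
  exact ⟨Q, l, hQ, hl, hx'⟩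

theorem exists_open_scheme_of_qs (hA : IsAlgSpace F) (hqs : IsQuasiSeparatedSp F) (x : Points F)
    (hx : AlgSp.HasAt (fun U u => ringKrullDim ↥(U.presheaf.stalk u) = 0) F x) :
    ∃ (Q : Over S) (l : (yon S).obj Q ⟶ F), IsAffine Q.left ∧ RepWith @IsOpenImmersion l ∧
      x ∈ Set.range (Points.map l) := by
  obtain ⟨U, a, ha, hU, hqc, u, rfl⟩ := exists_qc_chart hA hqs x
  exact exists_open_scheme_of_codimZero hA (QS.isDecent_of_isQuasiSeparatedSp hA hqs) ha u hx

end Groth.Agent.Lib.AlgSpDecent.QSCharts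

namespace Groth.Agent.Lib.AlgSpDecent.QSCharts

open AlgSp Core Fibre Specialize Decent SpecOrder

variable {S : Scheme.{u}} {F : Sp S}

/-- A scheme open in a quasi-separated space over a quasi-separated base is quasi-separated. -/
theorem quasiSeparatedSpace_of_open [QuasiSeparatedSpace ↥S] (hqs : IsQuasiSeparatedSp F)
    {G : Over S} (m : (yon S).obj G ⟶ F) (hm : RepWith @IsOpenImmersion m) :
    QuasiSeparatedSpace ↥G.left := by
  rw [quasiSeparatedSpace_iff_forall_affineOpens]
  intro U V
  have : IsAffine (Over.mk (U.1.ι ≫ G.hom)).left := U.2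
  have : IsAffine (Over.mk (V.1.ι ≫ G.hom)).left := V.2
  have : Mono m := AlgSpace.mono_of_repWith (P := @IsOpenImmersion)
    (fun _ _ f (_ : IsOpenImmersion f) => inferInstanceAs (Mono f)) hm
  let E := pullback (openIncl U.1) (openIncl V.1)
  have sq := isPullback_comp_mono (isPullback_yon_pullback (openIncl U.1) (openIncl V.1)) m
  have sqD := AlgSpace.isPullback_diag_yonProd sq
  have : CompactSpace ↥((Over.mk (U.1.ι ≫ G.hom)) ⨯ (Over.mk (V.1.ι ≫ G.hom))).left := by
    have : QuasiCompact (V.1.ι ≫ G.hom) := by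
      have : CompactSpace ↥(V.1 : Scheme.{u}) := inferInstanceAs
        (CompactSpace ↥(Over.mk (V.1.ι ≫ G.hom)).left)
      infer_instance
    have : CompactSpace ↥(U.1 : Scheme.{u}) := inferInstanceAs
        (CompactSpace ↥(Over.mk (U.1.ι ≫ G.hom)).left)
    have : CompactSpace ↥(pullback (U.1.ι ≫ G.hom) (V.1.ι ≫ G.hom)) :=
      QuasiCompact.compactSpace_of_compactSpace (pullback.fst _ _)
    exact (Over.prodLeftIsoPullback _ _).symm.schemeIsoToHomeo.compactSpace
  have : CompactSpace ↥E.left := QS.compactSpace_of_isPullback hqs sqD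
  have h := isCompact_range ((pullback.fst (openIncl U.1) (openIncl V.1)).left ≫
    (openIncl U.1).left).continuous
  have e : Set.range ((pullback.fst (openIncl U.1) (openIncl V.1)).left ≫ (openIncl U.1).left) =
      (U.1 : Set ↥G.left) ∩ V.1 := by
    rw [Scheme.Hom.comp_base, TopCat.coe_comp, Set.range_comp, Restrict.range_fst_over,
      Restrict.range_openIncl, Set.image_preimage_eq_range_inter, Restrict.range_openIncl]
  exact e ▸ h

end Groth.Agent.Lib.AlgSpDecent.QSCharts
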