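import Groth.Agent.Lib.AlgSpDecent.Sober
import Mathlib.AlgebraicGeometry.Noetherian
import Mathlib.RingTheory.Ideal.KrullsHeightTheorem
import Mathlib.RingTheory.Ideal.GoingUp

/-!
Punctured generizations of points of decent locally Noetherian spaces.
-/

universe u

open CategoryTheory CategoryTheory.Limits AlgebraicGeometry Opposite Topology TopologicalSpace

namespace Groth.Agent.Lib.AlgSpDecent.Punctured

open AlgSp Core Fibre Specialize Decent

theorem height_le_one_eq {B : Type u} [CommRing B] [IsDomain B] {P Q : Ideal B} [P.IsPrime]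
    [Q.IsPrime] (h : Q < P) (hP : P.height ≤ 1) : Q = ⊥ := by
  refine Ideal.height_eq_zero_iff_eq_bot.1 ?_
  have h1 := (Ideal.height_add_one_le_of_lt_of_isPrime h).trans hP
  exact le_antisymm ((ENat.add_le_add_iff_right ENat.one_ne_top).1 (h1.trans_eq (zero_add 1).symm)) bot_le

/-- In a Noetherian domain a non-zero element misses some prime strictly between `0` and a prime of
height at least two. -/
theorem exists_between_domain {B : Type u} [CommRing B] [IsNoetherianRing B] [IsDomain B]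
    {Q M : Ideal B} [Q.IsPrime] [hM : M.IsPrime] (h0 : Q ≠ ⊥) (h1 : Q < M) {g : B} (hg : g ≠ 0) :
    ∃ V : Ideal B, V.IsPrime ∧ V ≠ ⊥ ∧ V < M ∧ g ∉ V := by
  classical
  have hM2 : ¬ M.height ≤ 1 := fun h => h0 (height_le_one_eq h1 h)
  let T := (Ideal.span {g}).minimalPrimes
  have hTfin : T.Finite := Ideal.finite_minimalPrimes_of_isNoetherianRing B _
  have hTh : ∀ J ∈ T, J.height ≤ 1 := fun J hJ => by
    have := hJ.1.1
    exact Ideal.height_le_one_of_isPrincipal_of_mem_minimalPrimes _ J hJ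
  obtain ⟨h, hhM, hh⟩ : ∃ h ∈ M, ∀ J ∈ T, h ∉ J := by
    by_contra hc
    push Not at hc
    have hsub : (M : Set B) ⊆ ⋃ J ∈ (hTfin.toFinset : Set (Ideal B)), (id J : Ideal B) := by
      intro a ha
      obtain ⟨J, hJ, haJ⟩ := hc a ha
      exact Set.mem_iUnion₂.2 ⟨J, hTfin.mem_toFinset.2 hJ, haJ⟩
    obtain ⟨J, hJ, hle⟩ := (Ideal.subset_union_prime (⊥ : Ideal B) (⊥ : Ideal B)
      (fun J hJ _ _ => (hTfin.mem_toFinset.1 hJ).1.1)).1 hsub
    exact hM2 ((Ideal.height_mono hle).trans (hTh J (hTfin.mem_toFinset.1 hJ)))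
  by_cases hu : Ideal.span {g} = ⊤
  · refine ⟨Q, inferInstance, h0, h1, fun hgQ => ?_⟩
    exact ‹Q.IsPrime›.ne_top
      (Ideal.eq_top_of_isUnit_mem _ hgQ (Ideal.span_singleton_eq_top.1 hu))
  have hh0 : h ≠ 0 := by
    rintro rfl
    obtain ⟨J, hJ⟩ := Ideal.nonempty_minimalPrimes hu
    exact hh J hJ J.zero_mem
  obtain ⟨P', hP', hP'M⟩ := Ideal.exists_minimalPrimes_le
    ((Ideal.span_singleton_le_iff_mem (I := M)).2 hhM)
  have := hP'.1.1
  have hP'h : P'.height ≤ 1 := Ideal.height_le_one_of_isPrincipal_of_mem_minimalPrimes _ P' hP'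
  have hhP' : h ∈ P' := (Ideal.span_singleton_le_iff_mem _).1 hP'.1.2
  refine ⟨P', this, fun e => hh0 (by simpa [e] using hhP'), lt_of_le_of_ne hP'M (fun e => hM2 (e ▸ hP'h)),
    fun hgP' => ?_⟩
  obtain ⟨J, hJ, hJP⟩ := Ideal.exists_minimalPrimes_le
    ((Ideal.span_singleton_le_iff_mem (I := P')).2 hgP')
  have := hJ.1.1
  rcases hJP.lt_or_eq with hlt | he
  · have := height_le_one_eq hlt hP'h
    subst this
    exact hg (by simpa using hJ.1.2 (Ideal.mem_span_singleton_self g))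
  · exact hh J hJ (he ▸ hhP')

theorem exists_between_prime {A : Type u} [CommRing A] [IsNoetherianRing A]
    {P Q M : PrimeSpectrum A} (hPQ : P < Q) (hQM : Q < M) {g : A} (hg : g ∉ P.asIdeal) :
    ∃ V : PrimeSpectrum A, P < V ∧ V < M ∧ g ∉ V.asIdeal := by
  let π := Ideal.Quotient.mk P.asIdeal
  have hsurj : Function.Surjective π := Ideal.Quotient.mk_surjective
  have hker : RingHom.ker π = P.asIdeal := Ideal.mk_ker
  have hPQ' : P.asIdeal < Q.asIdeal := hPQ
  have hQM' : Q.asIdeal < M.asIdeal := hQM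
  have hQp := Ideal.map_isPrime_of_surjective hsurj (hker.trans_le hPQ'.le)
  have hMp := Ideal.map_isPrime_of_surjective hsurj (hker.trans_le (hPQ'.trans hQM').le)
  have hQc : (Q.asIdeal.map π).comap π = Q.asIdeal := by
    rw [Ideal.comap_map_of_surjective π hsurj, ← RingHom.ker_eq_comap_bot, hker,
      sup_eq_left.2 hPQ'.le]
  have hMc : (M.asIdeal.map π).comap π = M.asIdeal := by
    rw [Ideal.comap_map_of_surjective π hsurj, ← RingHom.ker_eq_comap_bot, hker,
      sup_eq_left.2 (hPQ'.trans hQM').le]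
  have hQ0 : Q.asIdeal.map π ≠ ⊥ := fun e =>
    hPQ'.ne' (by rw [← hQc, e, ← RingHom.ker_eq_comap_bot, hker])
  have hlt : Q.asIdeal.map π < M.asIdeal.map π :=
    lt_of_le_of_ne (Ideal.map_mono hQM'.le) fun e => hQM'.ne (by rw [← hQc, e, hMc])
  obtain ⟨V, hV, hV0, hVM, hgV⟩ := exists_between_domain hQ0 hlt
    (show π g ≠ 0 from fun e => hg (Ideal.Quotient.eq_zero_iff_mem.1 e))
  refine ⟨⟨V.comap π, hV.comap π⟩, ?_, ?_, hgV⟩
  · show P.asIdeal < V.comap π
    refine lt_of_le_of_ne (hker.symm.trans_le (Ideal.ker_le_comap π)) fun e => hV0 ?_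
    rw [← Ideal.map_comap_of_surjective π hsurj V, ← e, Ideal.map_quotient_self]
  · show V.comap π < M.asIdeal
    rw [← hMc]
    exact lt_of_le_of_ne (Ideal.comap_mono hVM.le) fun e =>
      hVM.ne (Ideal.comap_injective_of_surjective π hsurj e)

/-- In a locally Noetherian scheme a chain of three points can be refined inside an open
neighbourhood of its most general member. -/
theorem exists_between {X : Scheme.{u}} [IsLocallyNoetherian X] {z y w : X} (hzy : z ⤳ y)
    (hne : z ≠ y) (hyw : y ⤳ w) (hne' : y ≠ w) {O : Set X} (hO : IsOpen O) (hz : z ∈ O) :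
    ∃ v, z ⤳ v ∧ v ⤳ w ∧ v ≠ z ∧ v ≠ w ∧ v ∈ O := by
  obtain ⟨R, f, hf, hw, -⟩ := Scheme.exists_affine_mem_range_and_range_subset
    (show w ∈ (⊤ : X.Opens) from trivial)
  have := hf
  obtain ⟨M, rfl⟩ := hw
  have hr : IsOpen (Set.range f) := f.isOpenEmbedding.isOpen_range
  obtain ⟨Q, rfl⟩ := hyw.mem_open hr ⟨M, rfl⟩
  obtain ⟨P, rfl⟩ := hzy.mem_open hr ⟨Q, rfl⟩
  have : IsLocallyNoetherian (Spec R) := isLocallyNoetherian_of_isOpenImmersion f
  have : IsNoetherianRing R := isLocallyNoetherian_Spec.1 ‹_›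
  have hPQ : (show PrimeSpectrum R from P) < Q := lt_of_le_of_ne
    ((PrimeSpectrum.le_iff_specializes _ _).2 (f.isOpenEmbedding.isInducing.specializes_iff.1 hzy))
    (fun e => hne (congrArg f e))
  have hQM : (show PrimeSpectrum R from Q) < M := lt_of_le_of_ne
    ((PrimeSpectrum.le_iff_specializes _ _).2 (f.isOpenEmbedding.isInducing.specializes_iff.1 hyw))
    (fun e => hne' (congrArg f e))
  obtain ⟨_, ⟨g, rfl⟩, hPg, hgO⟩ :=
    PrimeSpectrum.isTopologicalBasis_basic_opens.exists_subset_of_mem_open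
      (show (show PrimeSpectrum R from P) ∈ f ⁻¹' O from hz) (hO.preimage f.continuous)
  obtain ⟨V, hPV, hVM, hgV⟩ := exists_between_prime hPQ hQM hPg
  refine ⟨f V, ((PrimeSpectrum.le_iff_specializes _ _).1 hPV.le).map f.continuous,
    ((PrimeSpectrum.le_iff_specializes _ _).1 hVM.le).map f.continuous,
    fun e => hPV.ne (f.isOpenEmbedding.injective e).symm,
    fun e => hVM.ne (f.isOpenEmbedding.injective e), hgO hgV⟩

variable {S : Scheme.{u}} {F : Sp S}

/-- The proper generizations of a point. -/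
abbrev Gen (x : Points F) : Set (Points F) := {x' | x' ⤳ x ∧ x' ≠ x}

theorem noetherianSpace_gen (hF : IsDecent F) {U : Over S} {a : (yon S).obj U ⟶ F}
    (ha : RepWith @Etale a) [IsLocallyNoetherian U.left] (u : ↥U.left) :
    NoetherianSpace {x' : Points F // x' ⤳ Points.ofPt a u ∧ x' ≠ Points.ofPt a u} := by
  obtain ⟨_, ⟨V, hV, rfl⟩, huV, -⟩ := U.left.isBasis_affineOpens.exists_subset_of_mem_open
    (Set.mem_univ u) isOpen_univ
  change U.left.Opens at V
  have : IsAffine (V : Scheme.{u}) := hV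
  have : IsLocallyNoetherian (V : Scheme.{u}) := isLocallyNoetherian_of_isOpenImmersion V.ι
  have : AlgebraicGeometry.IsNoetherian (V : Scheme.{u}) := ⟨⟩
  have : NoetherianSpace (V : Scheme.{u}) := inferInstance
  let G := {v : ↥(V : Scheme.{u}) // V.ι v ⤳ u ∧ V.ι v ≠ u}
  have : NoetherianSpace G := Topology.IsInducing.subtypeVal.noetherianSpace
  let φ : G → {x' : Points F // x' ⤳ Points.ofPt a u ∧ x' ≠ Points.ofPt a u} := fun v =>
    ⟨Points.ofPt a (V.ι v.1), v.2.1.map (Points.continuous_ofPt a), fun e =>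
      v.2.2 (IsDecent.eq_of_specializes hF ha e.symm v.2.1).symm⟩
  refine noetherianSpace_of_surjective φ ?_ ?_
  · exact Continuous.subtype_mk (((Points.continuous_ofPt a).comp V.ι.continuous).comp
      continuous_subtype_val) _
  · rintro ⟨x', hx, hne⟩
    obtain ⟨v, hv, rfl⟩ := IsDecent.exists_lift hF ha hx
    obtain ⟨v', rfl⟩ : ∃ v', V.ι v' = v := ⟨⟨v, hv.mem_open V.isOpen huV⟩, rfl⟩
    exact ⟨⟨v', hv, fun e => hne (congrArg (Points.ofPt a) e)⟩, rfl⟩

theorem quasiSober_gen (hA : IsAlgSpace F) (hF : IsDecent F) (x : Points F) :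
    QuasiSober {x' : Points F // x' ⤳ x ∧ x' ≠ x} := by
  have := t0Space_points hA hF
  have := Sober.quasiSober_points hA hF
  refine ⟨fun {C} hC hCc => ?_⟩
  obtain ⟨ξ, hξ⟩ := QuasiSober.sober
    (hC.image Subtype.val continuous_subtype_val.continuousOn).closure isClosed_closure
  obtain ⟨c, hc⟩ := hC.nonempty
  have hcl : ∀ c ∈ C, (c : Points F) ∈ closure (Subtype.val '' C) := fun c hc =>
    subset_closure ⟨c, hc, rfl⟩
  have hξc : ξ ⤳ c.1 := hξ.specializes (hcl c hc)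
  have hξx : ξ ⤳ x := hξc.trans c.2.1
  have hne : ξ ≠ x := fun e => c.2.2 (((e ▸ hξc : x ⤳ c.1).antisymm c.2.1).eq).symm
  refine ⟨⟨ξ, hξx, hne⟩, ?_⟩
  show closure {(⟨ξ, hξx, hne⟩ : {x' : Points F // x' ⤳ x ∧ x' ≠ x})} = C
  ext y
  rw [closure_subtype, Set.image_singleton, hξ.def, ← closure_subtype, hCc.closure_eq]

theorem jacobsonSpace_gen (hF : IsDecent F) [T0Space (Points F)] {U : Over S}
    {a : (yon S).obj U ⟶ F} (ha : RepWith @Etale a) [IsLocallyNoetherian U.left] (u : ↥U.left) :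
    JacobsonSpace {x' : Points F // x' ⤳ Points.ofPt a u ∧ x' ≠ Points.ofPt a u} := by
  have := noetherianSpace_gen hF ha u
  rw [jacobsonSpace_iff_locallyClosed]
  rintro C ⟨c₀, hc₀⟩ ⟨O, Z, hO, hZ, rfl⟩
  let K : Set {x' : Points F // x' ⤳ Points.ofPt a u ∧ x' ≠ Points.ofPt a u} := O ∩ Z
  have hKc : IsClosed ((Subtype.val : O → _) ⁻¹' Z) := hZ.preimage continuous_subtype_val
  obtain ⟨w, hwZ, hwc⟩ := hKc.exists_closed_singleton
    (show ((Subtype.val : O → _) ⁻¹' Z).Nonempty from ⟨⟨c₀, hc₀.1⟩, hc₀.2⟩)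
  refine ⟨w.1, ⟨w.2, hwZ⟩, ?_⟩
  show IsClosed {w.1}
  rw [← closure_subset_iff_isClosed]
  intro y hy
  by_contra hne
  have hwy : w.1 ⤳ y := specializes_iff_mem_closure.2 hy
  obtain ⟨O', hO', hOO'⟩ := isOpen_induced_iff.1 hO
  obtain ⟨uy, huy, hey⟩ := IsDecent.exists_lift hF ha y.2.1
  obtain ⟨uw, huw, hew⟩ := IsDecent.exists_lift hF ha
    (show w.1.1 ⤳ Points.ofPt a uy from hey ▸ hwy.map continuous_subtype_val)
  have hne1 : uw ≠ uy := fun e => hne (Subtype.ext (hey.symm.trans (e ▸ hew)))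
  have hne2 : uy ≠ u := fun e => y.2.2 (hey.symm.trans (congrArg _ e))
  have huwO : uw ∈ Points.ofPt a ⁻¹' O' := by
    show Points.ofPt a uw ∈ O'
    have : w.1.1 ∈ O' := (Set.ext_iff.1 hOO' w.1).2 w.2
    exact hew.symm ▸ this
  obtain ⟨v, hzv, hvw, hvz, hvu, hvO⟩ :=
    exists_between huw hne1 huy hne2 (hO'.preimage (Points.continuous_ofPt a)) huwO
  let v' : {x' : Points F // x' ⤳ Points.ofPt a u ∧ x' ≠ Points.ofPt a u} :=
    ⟨Points.ofPt a v, hvw.map (Points.continuous_ofPt a), fun e =>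
      hvu (IsDecent.eq_of_specializes hF ha e.symm hvw).symm⟩
  have hv'O : v' ∈ O := by rw [← hOO']; exact hvO
  have hs : w.1 ⤳ v' := by
    exact (subtype_specializes_iff w.1 v').2
      (show w.1.1 ⤳ Points.ofPt a v from hew ▸ hzv.map (Points.continuous_ofPt a))
  have hs' : (⟨v', hv'O⟩ : O) = w :=
    ((subtype_specializes_iff w (⟨v', hv'O⟩ : O)).2 hs).mem_closed hwc rfl
  exact hvz (IsDecent.eq_of_specializes hF ha
    ((congrArg (fun o : O => o.1.1) hs').trans hew.symm) hzv)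

end Groth.Agent.Lib.AlgSpDecent.Punctured
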