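import Groth.Agent.Lib.AlgSpDecent.EffectiveRel
import Groth.Agent.Lib.AlgSpDecent.FieldDescent
import Mathlib.AlgebraicGeometry.Morphisms.Etale
import Mathlib.RingTheory.Flat.Rank

/-!
An affine scheme divided by a finite etale equivalence relation is an affine scheme.
-/

universe u

open CategoryTheory CategoryTheory.Limits AlgebraicGeometry Opposite TensorProduct

namespace Groth.Agent.Lib.AlgSpDecent.AffineQuot

open AlgSp Core EffectiveRel

/-- The quotient in the category of schemes. -/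
theorem exists_quotient {A : CommRingCat.{u}} {G : Scheme.{u}}
    (σ τ : G ⟶ Spec A) [IsFinite τ] [Etale τ] (δ : Spec A ⟶ G)
    (hδσ : δ ≫ σ = 𝟙 _) (hδτ : δ ≫ τ = 𝟙 _)
    (hmono : ∀ {T : Scheme.{u}} (a b : T ⟶ G), a ≫ σ = b ≫ σ → a ≫ τ = b ≫ τ → a = b)
    (htr : ∀ {T : Scheme.{u}} (a b : T ⟶ G), a ≫ τ = b ≫ τ →
      ∃ m : T ⟶ G, m ≫ σ = a ≫ σ ∧ m ≫ τ = b ≫ σ) :
    ∃ (C : CommRingCat.{u}) (c : Spec A ⟶ Spec C),
      IsFinite c ∧ Etale c ∧ Surjective c ∧ IsPullback σ τ c c := by
  have : IsAffine G := isAffine_of_isAffineHom τ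
  let i := G.isoSpec
  let B : CommRingCat.{u} := Γ(G, ⊤)
  let sR : A ⟶ B := Spec.preimage (i.inv ≫ σ)
  let tR : A ⟶ B := Spec.preimage (i.inv ≫ τ)
  have hsR : Spec.map sR = i.inv ≫ σ := Spec.map_preimage _
  have htR : Spec.map tR = i.inv ≫ τ := Spec.map_preimage _
  have htfin : tR.hom.Finite := by
    rw [← IsFinite.SpecMap_iff, htR]
    infer_instance
  have htet : tR.hom.Etale := by
    rw [← HasRingHomProperty.Spec_iff (P := @Etale), htR]
    infer_instance
  have hS : ∀ {C : Type u} [CommRing C] (f : B →+* C),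
      Spec.map (CommRingCat.ofHom (f.comp sR.hom)) = (Spec.map (CommRingCat.ofHom f) ≫ i.inv) ≫ σ := by
    intro C _ f
    rw [show CommRingCat.ofHom (f.comp sR.hom) = sR ≫ CommRingCat.ofHom f from rfl, Spec.map_comp,
      hsR, Category.assoc]
  have hT : ∀ {C : Type u} [CommRing C] (f : B →+* C),
      Spec.map (CommRingCat.ofHom (f.comp tR.hom)) = (Spec.map (CommRingCat.ofHom f) ≫ i.inv) ≫ τ := by
    intro C _ f
    rw [show CommRingCat.ofHom (f.comp tR.hom) = tR ≫ CommRingCat.ofHom f from rfl, Spec.map_comp,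
      htR, Category.assoc]
  let _ : Algebra A B := tR.hom.toAlgebra
  have : Module.Finite A B := htfin
  have het : Algebra.Etale A B := htet
  have : Module.FinitePresentation A B :=
    (Module.FinitePresentation.iff_finitePresentation_of_finite A B).2 inferInstance
  have : Module.Projective A B := Module.Flat.projective_of_finitePresentation
  let e₀ : B →+* A := (Spec.preimage (δ ≫ i.hom)).hom
  have he : Spec.map (CommRingCat.ofHom e₀) ≫ i.inv = δ := by
    simp only [e₀, CommRingCat.ofHom_hom, Spec.map_preimage, Category.assoc, Iso.hom_inv_id,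
      Category.comp_id]
  have hes : e₀.comp sR.hom = RingHom.id A := by
    apply FieldDescent.ofHom_inj; apply Spec.map_injective
    rw [hS, he, hδσ, CommRingCat.ofHom_id, Spec.map_id]; rfl
  have het' : e₀.comp tR.hom = RingHom.id A := by
    apply FieldDescent.ofHom_inj; apply Spec.map_injective
    rw [hT, he, hδτ, CommRingCat.ofHom_id, Spec.map_id]; rfl
  let e : B →ₐ[A] A := { e₀ with commutes' := fun a => congrArg (fun m => m a) het' }
  have hrel : IsRel sR.hom e := by
    refine ⟨fun a => congrArg (fun m => m a) hes, ?_, ?_⟩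
    · intro C _ f g hs ht
      have := hmono _ _
        ((hS f).symm.trans ((congrArg (fun x => Spec.map (CommRingCat.ofHom x)) hs).trans (hS g)))
        ((hT f).symm.trans ((congrArg (fun x => Spec.map (CommRingCat.ofHom x)) ht).trans (hT g)))
      exact FieldDescent.ofHom_inj (Spec.map_injective ((cancel_mono i.inv).1 this))
    · intro C _ f g ht
      replace ht : f.comp tR.hom = g.comp tR.hom := ht
      obtain ⟨m, hm₁, hm₂⟩ := htr (Spec.map (CommRingCat.ofHom f) ≫ i.inv)
        (Spec.map (CommRingCat.ofHom g) ≫ i.inv) (by rw [← hT, ← hT, ht])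
      have hh : Spec.map (CommRingCat.ofHom (Spec.preimage (m ≫ i.hom)).hom) ≫ i.inv = m := by
        rw [CommRingCat.ofHom_hom, Spec.map_preimage]
        simp
      refine ⟨(Spec.preimage (m ≫ i.hom)).hom, ?_, ?_⟩
      · apply FieldDescent.ofHom_inj; apply Spec.map_injective
        rw [hS, hS, hh, hm₁]
      · show RingHom.comp _ tR.hom = _
        apply FieldDescent.ofHom_inj; apply Spec.map_injective
        rw [hT, hS, hh, hm₂]
  have hcomp : (pairMap sR.hom).comp
      (Algebra.TensorProduct.includeLeftRingHom : A →+* A ⊗[invariants sR.hom] A) = tR.hom := by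
    ext a
    show pairMap sR.hom (a ⊗ₜ 1) = tR.hom a
    rw [pairMap_tmul, map_one, mul_one]
    rfl
  have hsurj : Function.Surjective (pairMap sR.hom) := by
    have : Epi (CommRingCat.ofHom (pairMap sR.hom)) := by
      refine ⟨fun {C} f g hfg => CommRingCat.hom_ext (hrel.epi f.hom g.hom ?_ ?_)⟩
      · ext a
        have := congrArg (fun m => m.hom (1 ⊗ₜ a)) hfg
        simpa [pairMap_tmul] using this
      · ext a
        have := congrArg (fun m => m.hom (a ⊗ₜ 1)) hfg
        simpa [pairMap_tmul] using this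
    have hfin' : (pairMap sR.hom).Finite := RingHom.Finite.of_comp_finite (hcomp.symm ▸ htfin)
    exact RingHom.surjective_of_epi_of_finite (CommRingCat.ofHom (pairMap sR.hom)) hfin'
  obtain ⟨hfin, hproj, hetC, hbij⟩ := effective hrel hsurj
  let Cs := invariants sR.hom
  let cR : CommRingCat.of Cs ⟶ A := CommRingCat.ofHom (algebraMap Cs A)
  let φ : A ⊗[Cs] A ≃+* B := RingEquiv.ofBijective (pairMap sR.hom) hbij
  have hpush : IsPushout cR cR tR sR := by
    refine IsPushout.of_iso (CommRingCat.isPushout_tensorProduct Cs A A) (Iso.refl _)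
      (Iso.refl _) (Iso.refl _) φ.toCommRingCatIso ?_ ?_ ?_ ?_
    · simp [cR]
    · simp [cR]
    · ext a
      show pairMap sR.hom (a ⊗ₜ 1) = tR.hom a
      rw [pairMap_tmul, map_one, mul_one]
      rfl
    · ext a
      show pairMap sR.hom (1 ⊗ₜ a) = sR.hom a
      rw [pairMap_tmul, map_one, one_mul]
  refine ⟨CommRingCat.of Cs, Spec.map cR, ?_, ?_, ?_, ?_⟩
  · rw [IsFinite.SpecMap_iff]; exact RingHom.finite_algebraMap.mpr hfin
  · rw [HasRingHomProperty.Spec_iff (P := @Etale)]
    exact RingHom.etale_algebraMap.mpr hetC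
  · refine ⟨?_⟩
    show Function.Surjective (PrimeSpectrum.comap (algebraMap Cs A))
    exact PrimeSpectrum.comap_surjective_iff_injective_of_finite.2 Subtype.val_injective
  · refine IsPullback.of_iso (isPullback_SpecMap_of_isPushout _ _ _ _ hpush).flip i.symm
      (Iso.refl _) (Iso.refl _) (Iso.refl _) ?_ ?_ ?_ ?_ <;> simp [hsR, htR]

variable {S : Scheme.{u}} {F : Sp S}

/-- An affine chart with finite self fibre product descends to a scheme mapping monomorphically. -/
theorem exists_mono_quotient {U : Over S} [IsAffine U.left] {a : (yon S).obj U ⟶ F}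
    (ha : RepWith @Etale a) [IsFinite (ha.rep.snd a).left] :
    ∃ (Q : Over S) (c : U ⟶ Q) (l : (yon S).obj Q ⟶ F), IsAffine Q.left ∧ IsFinite c.left ∧
      Etale c.left ∧ Surjective c.left ∧ (yon S).map c ≫ l = a ∧ Mono l := by
  let hq := ha.rep
  let G := hq.pullback a
  let σ : G ⟶ U := hq.fst' a
  let τ : G ⟶ U := hq.snd a
  have sqG : IsPullback ((yon S).map σ) ((yon S).map τ) a a := hq.isPullback' a
  let δ : U ⟶ G := hq.lift' (𝟙 _) (𝟙 _) rfl
  have hG : σ.left ≫ U.hom = G.hom := Over.w σ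
  have hG' : τ.left ≫ U.hom = G.hom := Over.w τ
  have hmono : ∀ {T : Scheme.{u}} (x y : T ⟶ G.left), x ≫ σ.left = y ≫ σ.left →
      x ≫ τ.left = y ≫ τ.left → x = y := by
    intro T x y h1 h2
    have hb : y ≫ G.hom = x ≫ G.hom := by rw [← hG', reassoc_of% h2]
    let x' : Over.mk (x ≫ G.hom) ⟶ G := Over.homMk x rfl
    let y' : Over.mk (x ≫ G.hom) ⟶ G := Over.homMk y hb
    have e1 : x' ≫ σ = y' ≫ σ := Over.OverMorphism.ext h1
    have e2 : x' ≫ τ = y' ≫ τ := Over.OverMorphism.ext h2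
    have : x' = y' := hq.hom_ext' e1 e2
    exact congrArg (fun m : Over.mk (x ≫ G.hom) ⟶ G => m.left) this
  have htr : ∀ {T : Scheme.{u}} (x y : T ⟶ G.left), x ≫ τ.left = y ≫ τ.left →
      ∃ m : T ⟶ G.left, m ≫ σ.left = x ≫ σ.left ∧ m ≫ τ.left = y ≫ σ.left := by
    intro T x y h
    have hb : y ≫ G.hom = x ≫ G.hom := by rw [← hG', reassoc_of% h]
    let x' : Over.mk (x ≫ G.hom) ⟶ G := Over.homMk x rfl
    let y' : Over.mk (x ≫ G.hom) ⟶ G := Over.homMk y hb
    have hτ : x' ≫ τ = y' ≫ τ := Over.OverMorphism.ext h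
    have hw : (yon S).map (x' ≫ σ) ≫ a = (yon S).map (y' ≫ σ) ≫ a := by
      rw [Functor.map_comp, Functor.map_comp, Category.assoc, Category.assoc, sqG.w,
        ← Category.assoc, ← Category.assoc, ← Functor.map_comp, ← Functor.map_comp, hτ]
    refine ⟨(hq.lift' (x' ≫ σ) (y' ≫ σ) hw).left, ?_, ?_⟩
    · exact congrArg (fun m => m.left) (hq.lift'_fst (x' ≫ σ) (y' ≫ σ) hw)
    · exact congrArg (fun m => m.left) (hq.lift'_snd (x' ≫ σ) (y' ≫ σ) hw)
  have hδ₁ : δ ≫ σ = 𝟙 _ := hq.lift'_fst (g := a) (𝟙 U) (𝟙 U) rfl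
  have hδ₂ : δ ≫ τ = 𝟙 _ := hq.lift'_snd (g := a) (𝟙 U) (𝟙 U) rfl
  let j := U.left.isoSpec
  have : IsFinite τ.left := inferInstanceAs (IsFinite (ha.rep.snd a).left)
  have : Etale τ.left := ha.property_snd a
  obtain ⟨C, cR, hfin, het, hsur, sqK⟩ := exists_quotient (σ.left ≫ j.hom) (τ.left ≫ j.hom)
    (j.inv ≫ δ.left)
    (by rw [Category.assoc, ← Category.assoc δ.left, ← Over.comp_left, hδ₁]; simp)
    (by rw [Category.assoc, ← Category.assoc δ.left, ← Over.comp_left, hδ₂]; simp)
    (fun x y h1 h2 => hmono x y ((cancel_mono j.hom).1 (by simpa using h1))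
      ((cancel_mono j.hom).1 (by simpa using h2)))
    (fun x y h => by
      obtain ⟨m, h1, h2⟩ := htr x y ((cancel_mono j.hom).1 (by simpa using h))
      exact ⟨m, by rw [reassoc_of% h1], by rw [reassoc_of% h2]⟩)
  let c₀ : U.left ⟶ Spec C := j.hom ≫ cR
  have sq₀ : IsPullback σ.left τ.left c₀ c₀ :=
    IsPullback.of_iso sqK (Iso.refl _) j.symm j.symm (Iso.refl _)
      (by simp) (by simp) (by simp [c₀]) (by simp [c₀])
  have : IsFinite c₀ := inferInstance
  have : Etale c₀ := inferInstance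
  have : Surjective c₀ := inferInstance
  have : Flat c₀ := inferInstance
  have : LocallyOfFinitePresentation c₀ := inferInstance
  have hcomp : ∀ {Z : Scheme.{u}} (g₁ g₂ : Z ⟶ U.left),
      g₁ ≫ c₀ = g₂ ≫ c₀ → g₁ ≫ U.hom = g₂ ≫ U.hom := by
    intro Z g₁ g₂ h
    rw [← sq₀.lift_fst g₁ g₂ h]
    conv_rhs => rw [← sq₀.lift_snd g₁ g₂ h]
    rw [Category.assoc, Category.assoc, hG, hG']
  obtain ⟨str', hstr'⟩ : ∃ str', c₀ ≫ str' = U.hom :=
    ⟨EffectiveEpi.desc c₀ U.hom hcomp, EffectiveEpi.fac _ _ _⟩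
  let c : U ⟶ Over.mk str' := Over.homMk c₀ hstr'
  have : Flat c.left := ‹Flat c₀›
  have : Surjective c.left := ‹Surjective c₀›
  have : LocallyOfFinitePresentation c.left := ‹LocallyOfFinitePresentation c₀›
  have : IsFinite c.left := ‹IsFinite c₀›
  have sqO : IsPullback σ τ c c := IsPullback.of_map_of_faithful (Over.forget S) sq₀
  obtain ⟨l, hl, hm⟩ := FieldDescent.exists_desc_mono c sqG sqO
  exact ⟨Over.mk str', c, l, inferInstanceAs (IsAffine (Spec C)), ‹_›, ‹Etale c₀›,
    ‹_›, hl, hm⟩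

end Groth.Agent.Lib.AlgSpDecent.AffineQuot
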