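import Groth.Agent.Lib.AlgSpDecent.GeoSections
import Groth.Agent.Lib.AlgSpMor.LocP

/-!
Universally bounded fibres from covers.
-/

universe u

open CategoryTheory CategoryTheory.Limits AlgebraicGeometry Opposite

namespace Groth.Agent.Lib.AlgSpDecent.BddCover

open AlgSp Core GeoSections

variable {S : Scheme.{u}} {F : Sp S} {U : Over S} {a : (yon S).obj U ⟶ F}

/-- Composition with an etale morphism of schemes with bounded geometric fibres. -/
theorem degFibresLE_comp {W : Over S} (c : W ⟶ U) [Etale c.left] (ha : RepWith @Etale a) {n m : ℕ}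
    (hn : W4dec.DegFibresLE n a) (hm : SchBound c.left m) :
    W4dec.DegFibresLE (n * m) ((yon S).map c ≫ a) := by
  refine (GeoSections.degFibresLE_iff (AlgSpMor.LocP.repWith_etale_comp c ha) _).2 fun q hq => ?_
  obtain ⟨hf, hc⟩ := (GeoSections.degFibresLE_iff ha n).1 hn q hq
  let T := fun s : Sec a q => {r : Spec (.of q.K) ⟶ W.left // r ≫ c.left = s.1.left}
  have : ∀ s, Finite (T s) := fun s => (hm q.K hq s.1.left).1
  let π : (Σ s, T s) → Sec ((yon S).map c ≫ a) q := fun x =>
    ⟨Over.homMk x.2.1 (by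
      show x.2.1 ≫ W.hom = q.str
      rw [← Over.w c, ← Category.assoc, x.2.2]
      exact Over.w x.1.1), by
      rw [← Category.assoc, ← Functor.map_comp]
      refine Eq.trans (congrArg (fun z => (yon S).map z ≫ a) ?_) x.1.2
      exact Over.OverMorphism.ext x.2.2⟩
  have hπ : Function.Surjective π := fun r => by
    refine ⟨⟨⟨r.1 ≫ c, ?_⟩, r.1.left, rfl⟩, Subtype.ext (Over.OverMorphism.ext rfl)⟩
    rw [Functor.map_comp, Category.assoc]
    exact r.2
  refine ⟨Finite.of_surjective π hπ, (Nat.card_le_card_of_surjective π hπ).trans ?_⟩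
  have := Fintype.ofFinite (Sec a q)
  rw [Nat.card_sigma]
  refine (Finset.sum_le_card_nsmul _ _ m fun s _ => (hm q.K hq s.1.left).2).trans ?_
  rw [smul_eq_mul, Finset.card_univ, ← Nat.card_eq_fintype_card]
  exact Nat.mul_le_mul_right m hc

/-- Bounds from finitely many etale morphisms covering the source. -/
theorem hasUnivBddFibres_of_cover (ha : RepWith @Etale a) {ι : Type u} [Finite ι] (W : ι → Over S)
    (c : ∀ i, W i ⟶ U) [∀ i, Etale (c i).left] (hcov : ∀ v, ∃ i, v ∈ Set.range (c i).left)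
    (hb : ∀ i, W4dec.HasUnivBddFibres ((yon S).map (c i) ≫ a)) : W4dec.HasUnivBddFibres a := by
  have := Fintype.ofFinite ι
  choose n hn using hb
  refine ⟨∑ i, n i, (GeoSections.degFibresLE_iff ha _).2 fun q hq => ?_⟩
  have h := fun i => (GeoSections.degFibresLE_iff (AlgSpMor.LocP.repWith_etale_comp (c i) ha) (n i)).1
    (hn i) q hq
  have : ∀ i, Finite (Sec ((yon S).map (c i) ≫ a) q) := fun i => (h i).1
  let π : (Σ i, Sec ((yon S).map (c i) ≫ a) q) → Sec a q := fun x =>
    ⟨x.2.1 ≫ c x.1, by rw [Functor.map_comp, Category.assoc]; exact x.2.2⟩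
  have hπ : Function.Surjective π := fun s => by
    obtain ⟨i, w, hw⟩ := hcov (s.1.left (IsLocalRing.closedPoint q.K))
    obtain ⟨z, -, -⟩ := Scheme.Pullback.exists_preimage_pullback (f := (c i).left) (g := s.1.left) w
      (IsLocalRing.closedPoint q.K) hw
    let π' : pullback (c i).left s.1.left ⟶ Spec (.of q.K) := pullback.snd _ _
    have : Etale π' := MorphismProperty.pullback_snd _ _ (inferInstance : Etale (c i).left)
    have := Levels.discreteTopology_of_etale_field π'
    obtain ⟨r, hr⟩ : ∃ r : Spec (.of q.K) ⟶ pullback (c i).left s.1.left, r ≫ π' = 𝟙 _ :=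
      ⟨_, pointOfClosedPoint_comp π' z (isClosed_discrete _)⟩
    have hrs : (r ≫ pullback.fst _ _) ≫ (c i).left = s.1.left := by
      rw [Category.assoc, pullback.condition, ← Category.assoc]
      exact (congrArg (· ≫ s.1.left) hr).trans (Category.id_comp _)
    let l : q.pt ⟶ W i := Over.homMk (r ≫ pullback.fst _ _) (by
      show (r ≫ pullback.fst _ _) ≫ (W i).hom = q.str
      rw [← Over.w (c i), ← Category.assoc, hrs]
      exact Over.w s.1)
    have hl : l ≫ c i = s.1 := Over.OverMorphism.ext hrs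
    refine ⟨⟨i, l, ?_⟩, Subtype.ext hl⟩
    rw [← Category.assoc, ← Functor.map_comp, hl]
    exact s.2
  refine ⟨Finite.of_surjective π hπ, (Nat.card_le_card_of_surjective π hπ).trans ?_⟩
  rw [Nat.card_sigma]
  exact Finset.sum_le_sum fun i _ => (h i).2

/-- An etale cover with bounded fibres bounds the fibres of every affine etale chart. -/
theorem hasUnivBddFibres_of_etale_cover (hA : IsAlgSpace F) {ι : Type u} (X : ι → Over S)
    (φ : ∀ i, (yon S).obj (X i) ⟶ F) (hφ : ∀ i, RepWith @Etale (φ i))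
    (hsurj : ∀ x : Points F, ∃ (i : ι) (v : ↥(X i).left), Points.ofPt (φ i) v = x)
    (hb : ∀ i, W4dec.HasUnivBddFibres (φ i)) [CompactSpace ↥U.left] (ha : RepWith @Etale a) :
    W4dec.HasUnivBddFibres a := by
  have hloc : ∀ v : ↥U.left, ∃ (W : Over S) (c : W ⟶ U), Etale c.left ∧ v ∈ Set.range c.left ∧
      W4dec.HasUnivBddFibres ((yon S).map c ≫ a) := fun v => by
    obtain ⟨i, x, hx⟩ := hsurj (Points.ofPt a v)
    obtain ⟨r, hr₁, hr₂⟩ := exists_point_of_scheme_isPullback ((hφ i).rep.isPullback' a) x v hx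
    obtain ⟨O, hO, hrO, -⟩ := exists_isAffineOpen_mem_and_subset (x := r) (U := ⊤) trivial
    let R := (hφ i).rep.pullback a
    let W : Over S := Over.mk (O.ι ≫ R.hom)
    let j : W ⟶ R := Over.homMk O.ι rfl
    have : CompactSpace ↥W.left := isCompact_iff_compactSpace.mp hO.isCompact
    have : Etale ((hφ i).rep.snd a).left := (hφ i).property_snd a
    have : Etale ((hφ i).rep.fst' a).left :=
      ha.property (φ i) _ _ ((hφ i).rep.isPullback' a).flip
    have : Etale j.left := inferInstanceAs (Etale O.ι)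
    refine ⟨W, j ≫ (hφ i).rep.snd a, ?_, ⟨⟨r, hrO⟩, hr₂⟩, ?_⟩
    · rw [Over.comp_left]; infer_instance
    · let e : W ⟶ X i := j ≫ (hφ i).rep.fst' a
      have : Etale e.left := by rw [Over.comp_left]; infer_instance
      obtain ⟨m, hm⟩ := GeoSections.exists_bound e.left
      obtain ⟨n, hn⟩ := hb i
      refine ⟨n * m, ?_⟩
      have he : (yon S).map (j ≫ (hφ i).rep.snd a) ≫ a = (yon S).map e ≫ φ i := by
        simp only [e, Functor.map_comp, Category.assoc, ((hφ i).rep.isPullback' a).w]
      rw [he]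
      exact degFibresLE_comp e (hφ i) hn hm
  choose W c hc hv hW using hloc
  obtain ⟨T, hT⟩ := isCompact_univ.elim_finite_subcover (fun v => Set.range (c v).left)
    (fun v => have := hc v; (c v).left.isOpenMap.isOpen_range)
    (fun v _ => Set.mem_iUnion.2 ⟨v, hv v⟩)
  have : ∀ v : T, Etale (c v.1).left := fun v => hc v.1
  refine hasUnivBddFibres_of_cover ha (fun v : T => W v.1) (fun v => c v.1) (fun v => ?_)
    fun v => hW v.1
  obtain ⟨i, hi, hvi⟩ := Set.mem_iUnion₂.1 (hT (Set.mem_univ v))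
  exact ⟨⟨i, hi⟩, hvi⟩

end Groth.Agent.Lib.AlgSpDecent.BddCover
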