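import Groth.Agent.Lib.AlgSpDecent.Birat
import Groth.Agent.Lib.AlgSpGeomConn.Basic
import Groth.Agent.Lib.Unram.BirationalBaseChange

/-!
Base change of birational morphisms of decent algebraic spaces along etale maps from affines.
-/

universe u

open CategoryTheory CategoryTheory.Limits AlgebraicGeometry Opposite Topology

namespace Groth.Agent.Lib.AlgSpDecent.BiratBC

open AlgSp Groth.Agent.Lib.AlgSpace Core Specialize H75.Birat

/-- Birationality at generic points is stable under etale base change. -/
theorem scheme_baseChange {U V R V' : Scheme.{u}} {g : U ⟶ V} {q : V' ⟶ V} [Etale q] {p : R ⟶ U}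
    {h : R ⟶ V'} (sq : IsPullback p h g q)
    (hbij : Set.BijOn (fun x : U => g.base x) {x | IsGen x} {y | IsGen y})
    (hiso : ∀ x : U, IsGen x → IsIso (g.stalkMap x)) :
    Set.BijOn (fun x : R => h.base x) {x | IsGen x} {y | IsGen y} ∧
      ∀ x : R, IsGen x → IsIso (h.stalkMap x) := by
  have : Etale p := MorphismProperty.of_isPullback sq.flip ‹_›
  have hqgen : ∀ v, IsGen (q v) → IsGen v := fun v hv =>
    Lib.SchTopo.Closure.maximal_of_forall_eq fun y hy =>
      Specialize.eq_of_specializes_of_etale q hy (hv.eq_of_specializes (hy.map q.continuous))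
  have hgen : ∀ r, IsGen r → IsGen (h r) := fun r hr => hqgen _ (by
    rw [← Scheme.Hom.comp_apply, ← sq.w, Scheme.Hom.comp_apply]
    exact hbij.mapsTo (Lib.Unram.BirationalBaseChange.map_mem_genericPoints p hr))
  have key : ∀ v, IsGen v → ∃ r, h r = v ∧ (∀ r', h r' = v → r' = r) ∧ IsIso (h.stalkMap r) := by
    intro v hv
    have hv' : IsGen (q v) := Lib.Unram.BirationalBaseChange.map_mem_genericPoints q hv
    let j := V'.fromSpecStalk v
    let j₀ := V.fromSpecStalk (q v)
    let m := Spec.map (q.stalkMap v)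
    have hm : m ≫ j₀ = j ≫ q := Scheme.SpecMap_stalkMap_fromSpecStalk q
    have big := (IsPullback.of_hasPullback h j).paste_horiz sq
    rw [← hm] at big
    have small := IsPullback.of_hasPullback g j₀
    have : IsIso (pullback.snd g j₀) := isIso_snd g hbij hiso hv'
    have left : IsPullback (small.lift _ (pullback.snd h j ≫ m) (by rw [Category.assoc]; exact big.w))
        (pullback.snd h j) (pullback.snd g j₀) m :=
      IsPullback.of_right (by rw [small.lift_fst]; exact big) (small.lift_snd _ _ _) small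
    have i2 : IsIso (pullback.snd h j) := left.isIso_snd_of_isIso
    have hs : Subsingleton ↥(Spec (V'.presheaf.stalk v)) := ⟨fun a b => by
      have hj : ∀ t, j t = v := fun t => hv.eq_of_specializes (by
        have : j t ∈ Set.range j := ⟨t, rfl⟩
        rw [Scheme.range_fromSpecStalk] at this
        exact this)
      exact j.isEmbedding.injective ((hj a).trans (hj b).symm)⟩
    let z := inv (pullback.snd h j) (IsLocalRing.closedPoint _)
    refine ⟨pullback.fst h j z, ?_, fun r' hr' => ?_, ?_⟩
    · rw [← Scheme.Hom.comp_apply, pullback.condition, Scheme.Hom.comp_apply]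
      exact (congrArg j (hs.elim _ (IsLocalRing.closedPoint _))).trans (Scheme.fromSpecStalk_closedPoint)
    · obtain ⟨z', hz', -⟩ := Scheme.Pullback.exists_preimage_pullback (f := h) (g := j) r'
        (IsLocalRing.closedPoint _) (by rw [Scheme.fromSpecStalk_closedPoint]; exact hr')
      rw [← hz']
      exact congrArg _ ((pullback.snd h j).homeomorph.injective (hs.elim _ _))
    · have : Flat j := flat_fromSpecStalk V' v
      have : Flat (pullback.fst h j) := MorphismProperty.pullback_fst _ _ inferInstance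
      have : IsPreimmersion (pullback.fst h j) := MorphismProperty.pullback_fst _ _ inferInstance
      have i1 := isIso_stalkMap_of_flat_preimmersion (pullback.fst h j) z
      have h1 : IsIso ((pullback.snd h j ≫ j).stalkMap z) := by
        rw [Scheme.Hom.stalkMap_comp]
        exact @IsIso.comp_isIso _ _ _ _ _ _ _ (isIso_stalkMap_of_flat_preimmersion j _) inferInstance
      have h2 := Birat.isIso_congr pullback.condition.symm h1
      rw [Scheme.Hom.stalkMap_comp] at h2
      exact @IsIso.of_isIso_comp_right _ _ _ _ _ (h.stalkMap (pullback.fst h j z))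
        ((pullback.fst h j).stalkMap z) i1 h2
  refine ⟨⟨fun r hr => hgen r hr, fun r hr r' hr' e => ?_, fun v hv => ?_⟩, fun r hr => ?_⟩
  · obtain ⟨r₀, -, hu, -⟩ := key _ (hgen r hr)
    exact (hu r rfl).trans (hu r' e.symm).symm
  · obtain ⟨r, hr, hu, -⟩ := key v hv
    refine ⟨r, Lib.SchTopo.Closure.maximal_of_forall_eq fun y hy => hu y ?_, hr⟩
    exact hv.eq_of_specializes (hr ▸ hy.map h.continuous)
  · obtain ⟨r₀, hr₀, hu, hi⟩ := key _ (hgen r hr)
    exact (hu r rfl).symm ▸ hi

variable {S : Scheme.{u}}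

theorem finite_components_of_generic {F : Sp S} (hA : IsAlgSpace F) (hF : IsDecent F)
    (h : (genericPoints (Points F)).Finite) : (irreducibleComponents (Points F)).Finite := by
  have := Sober.quasiSober_points hA hF
  refine (h.image fun x => closure {x}).subset fun T hT => ?_
  obtain ⟨η, hη⟩ := QuasiSober.sober hT.1 (isClosed_of_mem_irreducibleComponents T hT)
  exact ⟨η, show closure {η} ∈ irreducibleComponents (Points F) from hη.def ▸ hT, hη.def⟩

theorem gen_map_iff {P X : Sp S} (hP : IsAlgSpace P) (hdP : IsDecent P) (hX : IsAlgSpace X)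
    (hdX : IsDecent X) {e : P ⟶ X} (he : RepWith @Etale e) (p : Points P) :
    p ∈ genericPoints (Points P) ↔ Points.map e p ∈ genericPoints (Points X) := by
  obtain ⟨T, c, hc, hcs⟩ := hP.atlas
  obtain ⟨t, rfl⟩ := AlgSpace.surjective_ofPt hcs p
  rw [← Birat.gen_iff hP hdP hc, ← Core.ofPt_comp, ← Birat.gen_iff hX hdX (repWith_comp hc he)]

/-- The base change of a birational morphism to an etale affine over the target. -/
theorem isBirational_baseChange {X Y : Sp S} {f : X ⟶ Y} (hX : IsAlgSpace X) (hY : IsAlgSpace Y)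
    (hF : IsDecent X) (hG : IsDecent Y) (hXf : (irreducibleComponents (Points X)).Finite)
    (hYf : (irreducibleComponents (Points Y)).Finite) (hf : W4stk3decentspacesp2.IsBirational f)
    {V : Over S} [IsAffine V.left] {b : (yon S).obj V ⟶ Y} (hb : RepWith @Etale b) {P : Sp S}
    {fst : P ⟶ X} {snd : P ⟶ (yon S).obj V} (hP : IsPullback fst snd f b) :
    IsAlgSpace P ∧ IsDecent P ∧ (irreducibleComponents (Points P)).Finite ∧
      (irreducibleComponents (Points ((yon S).obj V))).Finite ∧
      W4stk3decentspacesp2.IsBirational snd := by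
  have hPA := isAlgSpace_of_isPullback hP hY.diag hX (IsAlgSpace.yon_obj V)
  have hfst : RepWith @Etale fst := AlgSpace.repWith_baseChange hP.flip hb
  have hPd : IsDecent P := Decent.isDecent_of_representable hfst.rep hF
  have hVd : IsDecent ((yon S).obj V) := Decent.isDecent_of_representable hb.rep hG
  have hVA : IsAlgSpace ((yon S).obj V) := IsAlgSpace.yon_obj V
  obtain ⟨C⟩ := Birat.exists_chart hX hY hF hG hf
  let V' := C.hb.rep.pullback b
  let q : V' ⟶ C.V := C.hb.rep.fst' b
  let ι : V' ⟶ V := C.hb.rep.snd b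
  have sqT := C.hb.rep.isPullback' b
  have hι : IsOpenImmersion ι.left := C.hb.property_snd b
  have : Etale q.left := hb.property C.b _ _ sqT.flip
  let R := Limits.pullback C.g q
  have sqR := IsPullback.of_hasPullback C.g q
  have sqR' : IsPullback ((yon S).map (pullback.fst C.g q)) ((yon S).map (pullback.snd C.g q) ≫ (yon S).map ι)
      (C.a ≫ f) b := by
    rw [C.w]
    exact (isPullback_yon sqR).paste_vert sqT
  let φ : (yon S).obj R ⟶ P := hP.lift ((yon S).map (pullback.fst C.g q) ≫ C.a)
    ((yon S).map (pullback.snd C.g q) ≫ (yon S).map ι) (by rw [Category.assoc]; exact sqR'.w)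
  have sqφ : IsPullback ((yon S).map (pullback.fst C.g q)) φ C.a fst := by
    refine IsPullback.of_bot (v₁₁ := φ) ?_ (hP.lift_fst _ _ _).symm hP
    rw [hP.lift_snd]
    exact sqR'
  have hφ : RepWith @IsOpenImmersion φ := AlgSpace.repWith_baseChange sqφ C.ha
  have hφe := Birat.repWith_etale_openImm hφ
  let h : R ⟶ V := pullback.snd C.g q ≫ ι
  have hw : φ ≫ snd = (yon S).map h ≫ 𝟙 _ := by
    rw [Category.comp_id, Functor.map_comp]; exact hP.lift_snd _ _ _
  obtain ⟨hbij, hiso⟩ := scheme_baseChange (q := q.left) (sqR.map (Over.forget S)) (C.bijOn hX hY hF hG hf)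
    (fun u hu => C.stalkIso hX hF hf u hu)
  have genV : ∀ v : ↥V.left, IsGen v ↔ Points.ofScheme V v ∈ genericPoints (Points ((yon S).obj V)) :=
    fun v => Birat.gen_iff hVA hVd (AlgSp.repWith_id @Etale _) v
  have genV' : ∀ v : ↥V.left, IsGen v → ∃ v', IsGen v' ∧ ι.left v' = v := by
    intro v hv
    obtain ⟨c, hc⟩ := C.genV ((Birat.gen_iff hY hG hb v).1 hv)
    obtain ⟨v', -, hv'⟩ := Core.exists_point_of_scheme_isPullback sqT c v hc
    refine ⟨v', Lib.SchTopo.Closure.maximal_of_forall_eq fun y hy => ι.left.isOpenEmbedding.injective ?_, hv'⟩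
    rw [hv']
    exact hv.eq_of_specializes (hv' ▸ hy.map ι.left.continuous)
  have hιgen : ∀ v', IsGen v' → IsGen (ι.left v') := fun v' hv' =>
    Lib.Unram.BirationalBaseChange.map_mem_genericPoints ι.left hv'
  have genR : ∀ r : ↥R.left, IsGen r ↔ Points.ofPt φ r ∈ genericPoints (Points P) :=
    fun r => Birat.gen_iff hPA hPd hφe r
  have genP : ∀ p ∈ genericPoints (Points P), ∃ r, IsGen r ∧ Points.ofPt φ r = p := by
    intro p hp
    obtain ⟨u, hu⟩ := C.genU ((gen_map_iff hPA hPd hX hF hfst p).1 hp)
    obtain ⟨r, -, hr⟩ := AlgSpGeomConn.exists_ofPt_of_isPullback sqφ p u hu.symm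
    exact ⟨r, (genR r).2 (hr ▸ hp), hr⟩
  have happ : ∀ r, Points.map snd (Points.ofPt φ r) = Points.ofScheme V (h.left r) := fun r => by
    rw [← Core.ofPt_comp, hw, Core.ofPt_map_comp]
  have hfinV : {v : ↥V.left | IsGen v}.Finite := by
    refine ((Birat.finite_generic hY hG hYf).biUnion fun y _ =>
      Decent.IsDecent.finite_fibres hG y V b ‹_› hb).subset fun v hv => ?_
    exact Set.mem_iUnion₂.2 ⟨_, (Birat.gen_iff hY hG hb v).1 hv, rfl⟩
  have hgV : (genericPoints (Points ((yon S).obj V))).Finite := by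
    refine (hfinV.image (Points.ofScheme V)).subset fun p hp => ?_
    obtain ⟨v, rfl⟩ := (Points.schemeEquiv V).surjective p
    exact ⟨v, (genV v).2 hp, rfl⟩
  have hbij' : Set.BijOn (Points.map snd) (genericPoints (Points P))
      (genericPoints (Points ((yon S).obj V))) := by
    refine ⟨fun p hp => ?_, fun p hp p' hp' e => ?_, fun p hp => ?_⟩
    · obtain ⟨r, hr, rfl⟩ := genP p hp
      rw [happ]
      exact (genV _).1 (hιgen _ (hbij.mapsTo hr))
    · obtain ⟨r, hr, rfl⟩ := genP p hp
      obtain ⟨r', hr', rfl⟩ := genP p' hp'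
      rw [happ, happ] at e
      refine congrArg _ (hbij.injOn hr hr' (ι.left.isOpenEmbedding.injective ?_))
      exact (Points.schemeEquiv V).injective e
    · obtain ⟨v, rfl⟩ := (Points.schemeEquiv V).surjective p
      obtain ⟨v', hv', rfl⟩ := genV' v ((genV v).2 hp)
      obtain ⟨r, hr, rfl⟩ := hbij.surjOn hv'
      exact ⟨_, (genR r).1 hr, happ r⟩
  refine ⟨hPA, hPd, finite_components_of_generic hPA hPd ?_, finite_components_of_generic hVA hVd hgV,
    ⟨hbij', fun p hp => ?_⟩⟩
  · exact Set.Finite.of_finite_image (hgV.subset (Set.image_subset_iff.2 hbij'.mapsTo)) hbij'.injOn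
  · obtain ⟨r, hr, rfl⟩ := genP p hp
    refine ⟨R, V, φ, 𝟙 _, h, r, hφ, AlgSp.repWith_id @IsOpenImmersion _, hw, rfl, ?_⟩
    have := hiso r hr
    show IsIso (((pullback.snd C.g q).left ≫ ι.left).stalkMap r)
    rw [Scheme.Hom.stalkMap_comp]
    have iι : IsIso (ι.left.stalkMap ((pullback.snd C.g q).left r)) :=
      have : IsOpenImmersion ι.left := C.hb.property_snd b
      inferInstance
    exact @IsIso.comp_isIso _ _ _ _ _ _ _ iι this

end Groth.Agent.Lib.AlgSpDecent.BiratBC
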