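import Groth.Agent.H75.Birat.Gen
import Mathlib.AlgebraicGeometry.AffineScheme
import Mathlib.RingTheory.IntegralClosure.IntegrallyClosed
import Mathlib.RingTheory.Ideal.MinimalPrime.Basic
import Mathlib.AlgebraicGeometry.Morphisms.Integral

/-!
Integral birational morphisms from reduced to normal affine schemes are isomorphisms.
-/

universe u

open CategoryTheory AlgebraicGeometry Topology

namespace Groth.Agent.Lib.AlgSpDecent.BiratNormal

/-- Integral birational ring maps into reduced rings over normal rings are bijective. -/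
theorem bijective_of_birational {A B : Type u} [CommRing A] [CommRing B] [_root_.IsReduced A]
    [_root_.IsReduced B] (φ : A →+* B) (hint : φ.IsIntegral)
    (hn : ∀ (m : Ideal A) [m.IsPrime], IsDomain (Localization.AtPrime m) ∧
      IsIntegrallyClosed (Localization.AtPrime m))
    (hmin : ∀ q ∈ minimalPrimes B, q.comap φ ∈ minimalPrimes A)
    (hinj : ∀ q ∈ minimalPrimes B, ∀ q' ∈ minimalPrimes B, q.comap φ = q'.comap φ → q = q')
    (hsurj : ∀ p ∈ minimalPrimes A, ∃ q ∈ minimalPrimes B, q.comap φ = p)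
    (hres : ∀ q ∈ minimalPrimes B, ∀ b : B, ∃ α σ : A, σ ∉ q.comap φ ∧ φ σ * b - φ α ∈ q) :
    Function.Bijective φ := by
  have hi : Function.Injective φ := by
    rw [injective_iff_map_eq_zero]
    intro a ha
    refine (_root_.IsReduced.eq_zero a ?_)
    rw [← mem_nilradical, nilradical_eq_sInf]
    refine Submodule.mem_sInf.2 fun (p : Ideal A) (hp : p.IsPrime) => ?_
    obtain ⟨p₀, hp₀, hle⟩ := Ideal.exists_minimalPrimes_le (bot_le : (⊥ : Ideal A) ≤ p)
    obtain ⟨q, -, rfl⟩ := hsurj p₀ hp₀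
    exact hle (show φ a ∈ q from ha ▸ q.zero_mem)
  refine ⟨hi, fun b => ?_⟩
  let J : Ideal A :=
    { carrier := {a | φ a * b ∈ φ.range}
      zero_mem' := ⟨0, by simp⟩
      add_mem' := fun {x y} hx hy => by
        show φ (x + y) * b ∈ φ.range
        rw [map_add, add_mul]; exact add_mem hx hy
      smul_mem' := fun c x hx => by
        show φ (c * x) * b ∈ φ.range
        rw [map_mul, mul_assoc]; exact mul_mem ⟨c, rfl⟩ hx }
  suffices J = ⊤ by
    obtain ⟨a, ha⟩ : φ 1 * b ∈ φ.range := show (1 : A) ∈ J from this ▸ trivial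
    exact ⟨a, by rw [ha, map_one, one_mul]⟩
  by_contra hJ
  obtain ⟨m, hm, hJm⟩ := Ideal.exists_le_maximal J hJ
  obtain ⟨hdom, hic⟩ := hn m
  let D := Localization.AtPrime m
  let ψ : A →+* D := algebraMap A D
  let p : Ideal A := RingHom.ker ψ
  have hp : p.IsPrime := RingHom.ker_isPrime ψ
  have hpm : p ≤ m := fun a ha => by
    by_contra h
    exact (IsLocalization.map_units D (⟨a, h⟩ : m.primeCompl)).ne_zero ha
  have huniq : ∀ p' : Ideal A, p'.IsPrime → p' ≤ m → p ≤ p' := fun p' hp' hle a ha => by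
    obtain ⟨s, hs⟩ := (IsLocalization.map_eq_zero_iff m.primeCompl D a).1 ha
    exact (hp'.mem_or_mem (hs ▸ p'.zero_mem)).resolve_left fun h => s.2 (hle h)
  have hpmin : p ∈ minimalPrimes A := by
    obtain ⟨p₀, hp₀, hle⟩ := Ideal.exists_minimalPrimes_le (bot_le : (⊥ : Ideal A) ≤ p)
    rwa [← le_antisymm hle (huniq p₀ hp₀.1.1 (hle.trans hpm))]
  obtain ⟨q, hq, hqp⟩ := hsurj p hpmin
  have := hq.1.1
  obtain ⟨α, σ, hσ, hασ⟩ := hres q hq b
  -- the fraction field of `D` inside that of `B ⧸ q`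
  let L := FractionRing (B ⧸ q)
  let χ : B →+* L := (algebraMap (B ⧸ q) L).comp (Ideal.Quotient.mk q)
  have hχ : ∀ x, χ x = 0 ↔ x ∈ q := fun x => by
    show algebraMap (B ⧸ q) L _ = 0 ↔ _
    rw [IsFractionRing.to_map_eq_zero_iff]
    exact Ideal.Quotient.eq_zero_iff_mem
  have hχA : ∀ x, χ (φ x) = 0 ↔ x ∈ p := fun x => (hχ _).trans (by rw [← hqp]; rfl)
  let θ₀ : D →+* L := IsLocalization.lift (M := m.primeCompl) (g := χ.comp φ) fun s =>
    IsUnit.mk0 _ fun h => s.2 (hpm ((hχA _).1 h))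
  have hθ₀ : ∀ x, θ₀ (ψ x) = χ (φ x) := fun x => IsLocalization.lift_eq _ _
  have hθinj : Function.Injective θ₀ := by
    rw [injective_iff_map_eq_zero]
    intro d hd
    obtain ⟨⟨x, s⟩, rfl⟩ := IsLocalization.mk'_surjective m.primeCompl d
    have hx : χ (φ x) = 0 := by
      rw [← hθ₀, ← IsLocalization.mk'_spec D x s, map_mul, hd, zero_mul]
    rw [IsLocalization.mk'_eq_zero_iff]
    exact (IsLocalization.map_eq_zero_iff m.primeCompl D x).1 ((hχA x).1 hx)
  let K := FractionRing D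
  let θ : K →+* L := IsFractionRing.lift hθinj
  have hθ : ∀ d, θ (algebraMap D K d) = θ₀ d := fun d => IsFractionRing.lift_algebraMap hθinj d
  have hσ0 : algebraMap D K (ψ σ) ≠ 0 := by
    rw [Ne, IsFractionRing.to_map_eq_zero_iff]
    exact fun h => hσ (hqp.symm ▸ h)
  let x : K := algebraMap D K (ψ α) / algebraMap D K (ψ σ)
  have hx : θ x = χ b := by
    have h0 : χ (φ σ) ≠ 0 := fun h => hσ (hqp.symm ▸ (hχA _).1 h)
    rw [map_div₀, hθ, hθ, hθ₀, hθ₀, div_eq_iff h0]
    have := (hχ _).2 hασ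
    rw [map_sub, map_mul, sub_eq_zero] at this
    rw [← this, mul_comm]
  have hxi : IsIntegral D x := by
    obtain ⟨P, hP, hP0⟩ := hint b
    refine ⟨P.map ψ, hP.map ψ, ?_⟩
    rw [Polynomial.eval₂_map]
    apply θ.injective
    rw [map_zero, Polynomial.hom_eval₂, hx]
    have e : θ.comp ((algebraMap D K).comp ψ) = χ.comp φ := RingHom.ext fun a => (hθ _).trans (hθ₀ a)
    rw [e, ← Polynomial.hom_eval₂, hP0, map_zero]
  obtain ⟨d, hd⟩ := IsIntegrallyClosed.isIntegral_iff.1 hxi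
  obtain ⟨⟨c, s₀⟩, rfl⟩ := IsLocalization.mk'_surjective m.primeCompl d
  have hdq : φ s₀.1 * b - φ c ∈ q := by
    rw [← hχ, map_sub, map_mul, ← hx, ← hd, hθ, ← hθ₀, ← hθ₀, ← map_mul, sub_eq_zero, mul_comm,
      IsLocalization.mk'_spec]
  obtain ⟨s, hs, hsd⟩ : ∃ s : A, s ∉ m ∧ φ s * (φ s₀.1 * b - φ c) = 0 := by
    by_contra hne
    push Not at hne
    let d := φ s₀.1 * b - φ c
    let M : Submonoid B := Submonoid.map φ m.primeCompl ⊔ Submonoid.powers d
    have hd0 : Disjoint ((⊥ : Ideal B) : Set B) M := Set.disjoint_left.2 fun y hy hyM => by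
      obtain ⟨_, ⟨s, hs, rfl⟩, _, ⟨n, rfl⟩, e⟩ := Submonoid.mem_sup.1 hyM
      refine hne s hs (_root_.IsReduced.eq_zero _ ⟨n + 1, ?_⟩)
      have h0 : φ s * d ^ n = 0 := e.trans hy
      calc (φ s * d) ^ (n + 1) = φ s ^ n * d * (φ s * d ^ n) := by rw [mul_pow, pow_succ, pow_succ]; ring
        _ = 0 := by rw [h0, mul_zero]
    obtain ⟨Q, hQ, -, hQd⟩ := Ideal.exists_le_prime_disjoint ⊥ M hd0
    obtain ⟨q', hq', hle⟩ := Ideal.exists_minimalPrimes_le (bot_le : (⊥ : Ideal B) ≤ Q)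
    have hcm : q'.comap φ ≤ m := fun a ha => by
      by_contra h
      exact Set.disjoint_left.1 hQd (hle ha) (Submonoid.mem_sup_left ⟨a, h, rfl⟩)
    have := hq'.1.1
    have hle' := huniq _ (Ideal.comap_isPrime φ q') hcm
    have e := le_antisymm hle' ((hmin q' hq').2 ⟨hp, bot_le⟩ hle')
    obtain rfl := hinj q hq q' hq' (hqp.trans e)
    exact Set.disjoint_left.1 hQd (hle hdq) (Submonoid.mem_sup_right ⟨1, pow_one d⟩)
  refine (hm.isPrime.mem_or_mem (hJm (show s * s₀.1 ∈ J from ⟨s * c, ?_⟩))).elim hs s₀.2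
  rw [map_mul, map_mul, mul_assoc]
  rw [mul_sub, sub_eq_zero] at hsd
  exact hsd.symm

open H75.Birat in
theorem isIso_of_birational {A B : CommRingCat.{u}} (φ : A ⟶ B) [IsIntegralHom (Spec.map φ)]
    [IsReduced (Spec B)] (hn : ∀ x : Spec A, IsDomain ((Spec A).presheaf.stalk x) ∧
      IsIntegrallyClosed ((Spec A).presheaf.stalk x))
    (hbij : Set.BijOn (fun x : Spec B => (Spec.map φ).base x) {x | IsGen x} {y | IsGen y})
    (hiso : ∀ x : Spec B, IsGen x → IsIso ((Spec.map φ).stalkMap x)) : IsIso (Spec.map φ) := by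
  have hA : _root_.IsReduced A := by
    have : IsReduced (Spec A) :=
      have : ∀ x : Spec A, _root_.IsReduced ((Spec A).presheaf.stalk x) := fun x => have := (hn x).1; inferInstance
      isReduced_of_isReduced_stalk _
    exact (affine_isReduced_iff A).1 this
  have hB : _root_.IsReduced B := (affine_isReduced_iff B).1 inferInstance
  have hgenB : ∀ q : PrimeSpectrum B, q.asIdeal ∈ minimalPrimes B ↔ IsGen (X := Spec B) q := fun q =>
    by
    rw [← PrimeSpectrum.vanishingIdeal_singleton q]; exact PrimeSpectrum.vanishingIdeal_mem_minimalPrimes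
  have hgenA : ∀ q : PrimeSpectrum A, q.asIdeal ∈ minimalPrimes A ↔ IsGen (X := Spec A) q := fun q =>
    by
    rw [← PrimeSpectrum.vanishingIdeal_singleton q]; exact PrimeSpectrum.vanishingIdeal_mem_minimalPrimes
  have : IsIso φ := by
    refine (ConcreteCategory.isIso_iff_bijective φ).2 (bijective_of_birational φ.hom ?_ ?_ ?_ ?_ ?_ ?_)
    · exact (IsIntegralHom.SpecMap_iff.1 inferInstance)
    · intro m hm
      obtain ⟨h1, h2⟩ := hn ⟨m, hm⟩
      let e := (Spec.stalkIso A ⟨m, hm⟩).commRingCatIsoToRingEquiv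
      exact ⟨e.symm.toMulEquiv.isDomain _, IsIntegrallyClosed.of_equiv e⟩
    · intro q hq
      have := hq.1.1
      exact (hgenA ⟨q.comap φ.hom, Ideal.comap_isPrime φ.hom q⟩).2
        (hbij.mapsTo ((hgenB ⟨q, hq.1.1⟩).1 hq))
    · intro q hq q' hq' e
      exact congrArg PrimeSpectrum.asIdeal (hbij.injOn ((hgenB ⟨q, hq.1.1⟩).1 hq)
        ((hgenB ⟨q', hq'.1.1⟩).1 hq') (PrimeSpectrum.ext e))
    · intro p hp
      obtain ⟨z, hz, e⟩ := hbij.surjOn ((hgenA ⟨p, hp.1.1⟩).1 hp)
      exact ⟨_, (hgenB z).2 hz, congrArg PrimeSpectrum.asIdeal e⟩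
    · intro q hq b
      let z : PrimeSpectrum B := ⟨q, hq.1.1⟩
      have : z.asIdeal.IsPrime := z.isPrime
      have := hiso z ((hgenB z).1 hq)
      have hl : IsIso (Arrow.mk (CommRingCat.ofHom (Localization.localRingHom
          (z.comap φ.hom).asIdeal z.asIdeal φ.hom rfl))).hom :=
        (MorphismProperty.isomorphisms CommRingCat.{u}).arrow_mk_iso_iff (Scheme.arrowStalkMapSpecIso φ z) |>.1 this
      have : IsIso (CommRingCat.ofHom (Localization.localRingHom
          (z.comap φ.hom).asIdeal z.asIdeal φ.hom rfl)) := hl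
      have := hq.1.1
      have hb : Function.Bijective (Localization.localRingHom (q.comap φ.hom) q φ.hom rfl) :=
        ConcreteCategory.bijective_of_isIso (C := CommRingCat.{u}) (CommRingCat.ofHom (Localization.localRingHom
          (z.comap φ.hom).asIdeal z.asIdeal φ.hom rfl))
      obtain ⟨y, hy⟩ := hb.2 (algebraMap B (Localization.AtPrime q) b)
      obtain ⟨α, σ, rfl⟩ := IsLocalization.exists_mk'_eq (q.comap φ.hom).primeCompl y
      rw [Localization.localRingHom_mk', IsLocalization.mk'_eq_iff_eq_mul, ← map_mul,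
        IsLocalization.eq_iff_exists q.primeCompl] at hy
      obtain ⟨⟨c, hc⟩, hc'⟩ := hy
      refine ⟨α, σ.1, σ.2, ?_⟩
      refine (hq.1.1.mem_or_mem (show c * (φ.hom σ.1 * b - φ.hom α) ∈ q from ?_)).resolve_left hc
      rw [mul_sub, hc', mul_comm (φ.hom σ.1) b]
      simp
  infer_instance

end Groth.Agent.Lib.AlgSpDecent.BiratNormal
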