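import Groth.Agent.Lib.AlgSpDecent.RelDim
import Groth.Agent.Lib.AlgSpDecent.RelDimComp
import Groth.Agent.Lib.AlgSpDecent.Decent
import Groth.Agent.Lib.AlgSpDecent.Sober
import Groth.Agent.Lib.Cyc.InducedDimFun
import Groth.Agent.Lib.TopDim.DimFun
import Groth.Agent.Lib.Excellent.Localization
import Groth.Prelude.Def_W4stk3decentspacesp2Birat
import Mathlib.AlgebraicGeometry.Morphisms.Preimmersion

/-!
Decent spaces locally of finite type over universally catenary bases have catenary spaces of points.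
-/

universe u

open CategoryTheory CategoryTheory.Limits AlgebraicGeometry Opposite Topology TopologicalSpace

namespace Groth.Agent.Lib.AlgSpDecent.CatenarySp

open Groth.Agent.Lib.Cyc Groth.Agent.Lib.TopDim.Catenary

/-- The height above a prime of the closed point is a dimension function of a catenary local ring. -/
theorem exists_isDimFun_spec {A : Type u} [CommRing A] [IsLocalRing A] (h : CAlg.IsCatenary A) :
    ∃ δ : ↥(Spec (CommRingCat.of A)) → ℤ, Cyc.IsDimFun (Spec (CommRingCat.of A)) δ := by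
  have hcat : ∀ a b : PrimeSpectrum A, a ≤ b → IsCatOn a b := fun a b hab => by
    obtain ⟨n, hn⟩ := h.1 a b hab
    have hfin : cd a b ≠ ⊤ := ((cd_le_iff.2 fun s h₁ h₂ => by
      rcases h₂.eq_or_lt with h₂ | h₂
      · exact Nat.cast_le.2 (hn s h₁ h₂)
      · have := hn (s.snoc b h₂) (by simpa using h₁) (by simp)
        exact Nat.cast_le.2 ((Nat.le_succ _).trans this) : cd a b ≤ (n : ℕ∞)).trans_lt
          (ENat.natCast_lt_top n)).ne
    refine ⟨hfin, fun s h₁ h₂ hs => ?_⟩
    obtain ⟨t, ht₁, ht₂, hts, htl⟩ := exists_saturated hab hfin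
    rw [← htl, h.2 s t (h₁.trans ht₁.symm) (h₂.trans ht₂.symm) hs hts]
  obtain ⟨hfin, hadd⟩ := isCatOn_iff_additive.1 hcat
  let m : PrimeSpectrum A := IsLocalRing.closedPoint A
  have hle : ∀ p : PrimeSpectrum A, p ≤ m := fun p => IsLocalRing.le_maximalIdeal p.isPrime.ne_top
  refine ⟨fun p : PrimeSpectrum A => ((cd p m).toNat : ℤ), fun (x : PrimeSpectrum A) (y : PrimeSpectrum A) hxy hne => ?_⟩
  have hle' : x ≤ y := (PrimeSpectrum.le_iff_specializes x y).2 hxy
  have hlt : x < y := lt_of_le_of_ne hle' hne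
  obtain ⟨n, hn⟩ := ENat.ne_top_iff_exists.1 (hfin x y hle')
  obtain ⟨k, hk⟩ := ENat.ne_top_iff_exists.1 (hfin y m (hle y))
  have hx := hadd x y m hle' (hle y)
  rw [← hn, ← hk, ← Nat.cast_add] at hx
  have h1 : 1 ≤ n := by
    have := length_le_cd (s := (RelSeries.singleton _ x).snoc y hlt) (a := x) (b := y) (by simp) (by simp)
    rw [← hn] at this
    exact_mod_cast this
  show (((cd y m).toNat : ℕ) : ℤ) < ((cd x m).toNat : ℕ) ∧ _
  rw [hx, ← hk]
  simp only [ENat.toNat_natCast]
  refine ⟨by exact_mod_cast (show k < n + k by omega), fun himm => ?_⟩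
  have hcov : x ⋖ y := ⟨hlt, fun z hxz hzy => by
    rcases himm z ((PrimeSpectrum.le_iff_specializes x z).1 hxz.le)
      ((PrimeSpectrum.le_iff_specializes z y).1 hzy.le) with e | e
    · exact hxz.ne' e
    · exact hzy.ne e⟩
  have hn1 : n = 1 := by
    have := cd_eq_one_of_covBy hcov
    rw [← hn] at this
    exact_mod_cast this
  show (((cd x m).toNat : ℕ) : ℤ) = ((cd y m).toNat : ℕ) + 1
  rw [hx, ← hk, hn1]
  simp only [ENat.toNat_natCast]
  push_cast; ring

/-- Near a point of a universally catenary base, schemes locally of finite type have a dimension function. -/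
theorem exists_dimFun {S : Scheme.{u}} [IsLocallyNoetherian S] (s : S)
    (hs : CAlg.IsUniversallyCatenary (S.presheaf.stalk s)) :
    ∃ δ : ↥S → ℤ, ∀ {U : Scheme.{u}} (g : U ⟶ S) [LocallyOfFiniteType g] (z w : U),
      z ⤳ w → z ≠ w → g w ⤳ s →
      δ (g w) + (Residue.trdegAt g w).toNat < δ (g z) + (Residue.trdegAt g z).toNat ∧
        ((∀ v, z ⤳ v → v ⤳ w → v = z ∨ v = w) →
          δ (g z) + (Residue.trdegAt g z).toNat = δ (g w) + (Residue.trdegAt g w).toNat + 1) := by
  have := hs.1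
  obtain ⟨δ', hδ'⟩ := exists_isDimFun_spec (A := S.presheaf.stalk s) (hs.2 _ inferInstance)
  let j := S.fromSpecStalk s
  have hstalk : ∀ p, CAlg.IsUniversallyCatenary ((Spec (S.presheaf.stalk s)).presheaf.stalk p) := fun p => by
    letI : Algebra ↑(S.presheaf.stalk s) ↑((Spec (S.presheaf.stalk s)).presheaf.stalk p) :=
      StructureSheaf.stalkAlgebra (S.presheaf.stalk s) p
    have : IsLocalization.AtPrime ((Spec (S.presheaf.stalk s)).presheaf.stalk p) p.asIdeal :=
      StructureSheaf.IsLocalization.to_stalk _ p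
    exact Excellent.Localization.isUniversallyCatenary_of_isLocalization p.asIdeal.primeCompl hs
  refine ⟨Function.extend j δ' 0, fun {U} g _ z w hzw hne hw => ?_⟩
  have hinj : Function.Injective j := j.isEmbedding.injective
  let q := pullback.fst g j
  let π := pullback.snd g j
  have : IsPreimmersion q := MorphismProperty.pullback_fst _ _ inferInstance
  have : LocallyOfFiniteType π := MorphismProperty.pullback_snd _ _ ‹_›
  have : IsLocallyNoetherian (Spec (S.presheaf.stalk s)) := inferInstance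
  have htr : ∀ a, Residue.trdegAt g (q a) = Residue.trdegAt π a := fun a => by
    have h := FieldDim.trdegAt_congr (pullback.condition (f := g) (g := j)) a
    rw [Residue.trdegAt_comp, Residue.trdegAt_comp,
      FieldDim.trdegAt_eq_zero_of_surjective q a (FieldDim.residueFieldMap_surjective q a),
      FieldDim.trdegAt_eq_zero_of_surjective j (π a) (FieldDim.residueFieldMap_surjective j _),
      add_zero, zero_add] at h
    exact h
  have hd := Cyc.InducedDimFun.isDimFun π hδ' hstalk
    (δX := fun a => δ' (π a) + (Residue.trdegAt π a).toNat) fun a =>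
      ⟨_, (Cardinal.cast_toNat_of_lt_aleph0 (by
        obtain ⟨t, ht, -⟩ := RelDimComp.fibreDimAt_eq_stalk_add π a
        exact (ht : Residue.trdegAt π a = _).trans_lt Cardinal.natCast_lt_aleph0)).symm, rfl⟩
  have hval : ∀ a, Function.extend j δ' 0 (g (q a)) + (Residue.trdegAt g (q a)).toNat =
      δ' (π a) + (Residue.trdegAt π a).toNat := fun a => by
    rw [htr, show g (q a) = j (π a) by rw [← Scheme.Hom.comp_apply, pullback.condition]; rfl,
      hinj.extend_apply]
  have hmem : ∀ v, v ⤳ w → ∃ a, q a = v := fun v hv => by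
    obtain ⟨b, hb⟩ : g v ∈ Set.range j := by
      rw [Scheme.range_fromSpecStalk]
      exact (hv.map g.continuous).trans hw
    obtain ⟨a, ha, -⟩ := Scheme.Pullback.exists_preimage_pullback (f := g) (g := j) v b hb.symm
    exact ⟨a, ha⟩
  obtain ⟨a, rfl⟩ := hmem z hzw
  obtain ⟨b, rfl⟩ := hmem w specializes_rfl
  rw [hval, hval]
  obtain ⟨h1, h2⟩ := hd a b (q.isEmbedding.isInducing.specializes_iff.1 hzw) fun e => hne (e ▸ rfl)
  refine ⟨h1, fun himm => h2 fun c hac hcb => ?_⟩
  exact (himm _ (hac.map q.continuous) (hcb.map q.continuous)).imp (q.isEmbedding.injective ·) (q.isEmbedding.injective ·)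

open AlgSp Groth.Agent.Lib.AlgSpace Core Groth.Agent.Lib.AlgSpDecent.Decent

variable {S : Scheme.{u}}

/-- Above a point of the base, the space of points has a dimension function. -/
theorem exists_dimFun_points [IsLocallyNoetherian S] (s : S)
    (hs : CAlg.IsUniversallyCatenary (S.presheaf.stalk s)) {X : Sp S} (hA : IsAlgSpace X)
    (hX : IsDecent X) (p : X ⟶ (yon S).obj (Over.mk (𝟙 S))) (hp : LocP @LocallyOfFiniteType p) :
    ∃ D : Points X → ℤ, ∀ x y : Points X, x ⤳ y → x ≠ y → Points.toScheme (Over.mk (𝟙 S)) (Points.map p y) ⤳ s →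
      D y < D x ∧ ((∀ z, x ⤳ z → z ⤳ y → z = x ∨ z = y) → D x = D y + 1) := by
  obtain ⟨δ, hδ⟩ := exists_dimFun s hs
  obtain ⟨U, a, ha, has⟩ := hA.atlas
  obtain ⟨h, hh⟩ := (yon S).map_surjective (a ≫ p)
  have hb : RepWith @Etale (𝟙 ((yon S).obj (Over.mk (𝟙 S)))) := AlgSp.repWith_id @Etale _
  have w : a ≫ p = (yon S).map h ≫ 𝟙 _ := by rw [Category.comp_id, hh]
  have : LocallyOfFiniteType h.left := hp a _ h ha hb w
  let V : ↥U.left → ℤ := fun z => δ (h.left z) + (Residue.trdegAt h.left z).toNat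
  have hpt : ∀ z, Points.toScheme (Over.mk (𝟙 S)) (Points.map p (Points.ofPt a z)) = h.left z := fun z => by
    rw [← Core.ofPt_comp, ← hh, Points.toScheme_ofPt]
  have hwd : ∀ z z', Points.ofPt a z = Points.ofPt a z' → V z = V z' := fun z z' e => by
    have e1 : h.left z = h.left z' := by rw [← hpt, ← hpt, e]
    have e2 : Residue.trdegAt h.left z = Residue.trdegAt h.left z' :=
      RelDim.resTrdeg_eq_of_charts hA (IsAlgSpace.yon_obj _) ha hb w ha hb w e
    show δ _ + _ = δ _ + _
    rw [e2]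
    exact congrArg (fun t => δ t + ((Residue.trdegAt h.left z').toNat : ℤ)) e1
  choose sec hsec using fun x => Core.surjective_ofPt has x
  refine ⟨fun x => V (sec x), fun x y hxy hne hy => ?_⟩
  obtain ⟨v, rfl⟩ := Core.surjective_ofPt has y
  obtain ⟨u, huv, rfl⟩ := IsDecent.exists_lift hX ha hxy
  show V (sec (Points.ofPt a v)) < V (sec (Points.ofPt a u)) ∧ _
  rw [hwd _ v (hsec _), hwd _ u (hsec _)]
  rw [hpt] at hy
  obtain ⟨h1, h2⟩ := hδ h.left u v huv (fun e => hne (e ▸ rfl)) hy
  refine ⟨h1, fun himm => ?_⟩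
  show V (sec (Points.ofPt a u)) = V (sec (Points.ofPt a v)) + 1
  rw [hwd _ v (hsec _), hwd _ u (hsec _)]
  refine h2 fun w huw hwv => ?_
  rcases himm _ (huw.map (Points.continuous_ofPt a)) (hwv.map (Points.continuous_ofPt a)) with e | e
  · exact Or.inl (IsDecent.eq_of_specializes hX ha e huw)
  · exact Or.inr (IsDecent.eq_of_specializes hX ha e.symm hwv).symm

theorem length_eq {Y : Type*} [TopologicalSpace Y] [QuasiSober Y] [T0Space Y] {D : Y → ℤ} {G : Y → Prop}
    (hG : ∀ a b, a ⤳ b → G b → G a)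
    (hD : ∀ x y, x ⤳ y → x ≠ y → G y → D y < D x ∧ ((∀ z, x ⤳ z → z ⤳ y → z = x ∨ z = y) → D x = D y + 1))
    (s : LTSeries (IrreducibleCloseds Y)) (hs : G (TopDim.DimFun.gen s.head)) :
    (s.length : ℤ) ≤ D (TopDim.DimFun.gen s.last) - D (TopDim.DimFun.gen s.head) ∧
      ((∀ i : Fin s.length, s.toFun i.castSucc ⋖ s.toFun i.succ) →
        (s.length : ℤ) = D (TopDim.DimFun.gen s.last) - D (TopDim.DimFun.gen s.head)) := by
  open TopDim.DimFun in
  have key : ∀ (j : ℕ) (hj : j ≤ s.length),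
      (j : ℤ) ≤ D (gen (s ⟨j, Nat.lt_succ_of_le hj⟩)) - D (gen s.head) ∧
        ((∀ i : Fin s.length, s.toFun i.castSucc ⋖ s.toFun i.succ) →
          (j : ℤ) = D (gen (s ⟨j, Nat.lt_succ_of_le hj⟩)) - D (gen s.head)) := by
    intro j
    induction j with
    | zero =>
      intro _
      rw [show s ⟨0, Nat.lt_succ_of_le (Nat.zero_le _)⟩ = s.head from rfl]
      simp
    | succ j ih =>
      intro hj
      obtain ⟨h₁, h₂⟩ := ih (Nat.le_of_succ_le hj)
      have hlt : s ⟨j, Nat.lt_succ_of_le (Nat.le_of_succ_le hj)⟩ < s ⟨j + 1, Nat.lt_succ_of_le hj⟩ :=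
        s.step ⟨j, hj⟩
      have hGj : G (gen (s ⟨j, Nat.lt_succ_of_le (Nat.le_of_succ_le hj)⟩)) :=
        hG _ _ (le_iff.1 (s.monotone (Fin.zero_le _))) hs
      obtain ⟨d1, d2⟩ := hD _ _ (le_iff.1 hlt.le) (fun he => hlt.ne' (gen_injective he)) hGj
      refine ⟨by push_cast; omega, fun hc => ?_⟩
      have hcov : s ⟨j, Nat.lt_succ_of_le (Nat.le_of_succ_le hj)⟩ ⋖ s ⟨j + 1, Nat.lt_succ_of_le hj⟩ :=
        hc ⟨j, hj⟩
      have := d2 fun z hz₁ hz₂ => by
        rw [← gen_pt z] at hz₁ hz₂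
        rcases (le_iff.2 hz₁).eq_or_lt with e | e
        · exact Or.inl (by rw [← e, gen_pt])
        rcases (le_iff.2 hz₂).eq_or_lt with e' | e'
        · exact Or.inr (by rw [e', gen_pt])
        exact (hcov.2 e' e).elim
      have := h₂ hc
      push_cast
      omega
  exact key s.length le_rfl

theorem isCatenarySpace_points [IsLocallyNoetherian S]
    (hS : ∀ s : S, CAlg.IsUniversallyCatenary (S.presheaf.stalk s)) {X : Sp S} (hA : IsAlgSpace X)
    (hX : IsDecent X) (p : X ⟶ (yon S).obj (Over.mk (𝟙 S))) (hp : LocP @LocallyOfFiniteType p) :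
    W4stk3decentspacesp2.IsCatenarySpace (Points X) := by
  have := Sober.quasiSober_points hA hX
  have := t0Space_points hA hX
  intro T T' hTT'
  let σ : Points X → ↥S := fun x => Points.toScheme (Over.mk (𝟙 S)) (Points.map p x)
  let sσ := σ (TopDim.DimFun.gen T)
  obtain ⟨D, hD⟩ := exists_dimFun_points sσ (hS sσ) hA hX p hp
  have hcont : ∀ a b : Points X, a ⤳ b → σ a ⤳ σ b := fun a b hab =>
    (hab.map (Points.continuous_map p)).map (Points.schemeHomeo (Over.mk (𝟙 S))).symm.continuous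
  have key := fun (s : LTSeries (IrreducibleCloseds (Points X))) (hh : s.head = T) =>
    length_eq (G := fun x => σ x ⤳ sσ) (fun a b hab hb => (hcont a b hab).trans hb) hD s (by rw [hh])
  refine ⟨⟨(D (TopDim.DimFun.gen T') - D (TopDim.DimFun.gen T)).toNat, fun s h₁ h₂ => ?_⟩,
    fun s t hs₁ hs₂ ht₁ ht₂ hs ht => ?_⟩
  · have := (key s h₁).1
    rw [h₁, h₂] at this
    omega
  · have h1 := (key s hs₁).2 hs
    have h2 := (key t ht₁).2 ht
    rw [hs₁, hs₂] at h1
    rw [ht₁, ht₂] at h2
    omega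

end Groth.Agent.Lib.AlgSpDecent.CatenarySp
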