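import Groth.Agent.Lib.Cyc.DimFormula
import Groth.Agent.H46.QFin
import Mathlib.AlgebraicGeometry.ZariskisMainTheorem
import Mathlib.RingTheory.KrullDimension.Polynomial

/-!
Over a Noetherian local ring of dimension at most one, quasi-finiteness at the generic points
implies quasi-finiteness over the closed point.
-/

universe u

open CategoryTheory AlgebraicGeometry Topology MvPolynomial

namespace Groth.Agent.Lib.AlgSpDecent.CodimOne

theorem height_le_height_comap {A C : Type u} [CommRing A] [CommRing C] {π : A →+* C}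
    (hπ : Function.Surjective π) (I : Ideal C) [I.IsPrime] : I.height ≤ (I.comap π).height := by
  rw [show I.height = Order.height (⟨I, ‹_›⟩ : PrimeSpectrum C) from PrimeSpectrum.height_eq_orderHeight ⟨I, ‹_›⟩,
    show (I.comap π).height = Order.height (⟨I.comap π, inferInstance⟩ : PrimeSpectrum A) from
      PrimeSpectrum.height_eq_orderHeight ⟨I.comap π, inferInstance⟩]
  exact Order.height_le_height_apply_of_strictMono (PrimeSpectrum.comap π)
    (RingHom.strictMono_comap_of_surjective hπ) ⟨I, ‹_›⟩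

theorem isClosed_singleton_of_specializes {A : Type*} [TopologicalSpace A] {a : A}
    (h : ∀ b, a ⤳ b → b = a) : IsClosed ({a} : Set A) :=
  isClosed_of_closure_subset fun b hb => h b (specializes_iff_mem_closure.2 hb)

/-- There is no chain of two steps above a prime whose residue domain is algebraic over the base,
over a prime with local ring of dimension at most one. -/
theorem not_lt_lt {R T : Type u} [CommRing R] [CommRing T] [Algebra R T] [Algebra.FiniteType R T]
    {q : Ideal R} [q.IsPrime] {Q P P' : Ideal T} [Q.IsPrime] [P.IsPrime] [P'.IsPrime] [Q.LiesOver q]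
    [IsNoetherianRing (Localization.AtPrime (P'.under R))]
    (hdim : ringKrullDim (Localization.AtPrime (P'.under R)) ≤ 1)
    (halg : Algebra.IsAlgebraic (R ⧸ q) (T ⧸ Q)) (h₁ : Q < P) (h₂ : P < P') : False := by
  obtain ⟨n, φ, hφ⟩ := (Algebra.FiniteType.iff_quotient_mvPolynomial'').1 ‹Algebra.FiniteType R T›
  let ψ : MvPolynomial (Fin n) (R ⧸ q) →ₐ[R ⧸ q] T ⧸ Q := aeval fun i => Ideal.Quotient.mk Q (φ (X i))
  let π : MvPolynomial (Fin n) R →+* MvPolynomial (Fin n) (R ⧸ q) :=
    MvPolynomial.map (Ideal.Quotient.mk q)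
  have hπ : Function.Surjective π := MvPolynomial.map_surjective _ Ideal.Quotient.mk_surjective
  have hcomp : ψ.toRingHom.comp π = (Ideal.Quotient.mk Q).comp φ.toRingHom := by
    refine MvPolynomial.ringHom_ext (fun r => ?_) (fun i => ?_)
    · simp [ψ, π]
    · simp [ψ, π]
  have hψ : Function.Surjective ψ := fun t => by
    obtain ⟨s, rfl⟩ := Ideal.Quotient.mk_surjective t
    obtain ⟨a, rfl⟩ := hφ s
    exact ⟨π a, RingHom.congr_fun hcomp a⟩
  have : FaithfulSMul (R ⧸ q) (T ⧸ Q) := (faithfulSMul_iff_algebraMap_injective _ _).2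
    ((injective_iff_map_eq_zero _).2 fun x hx => by
      obtain ⟨r, rfl⟩ := Ideal.Quotient.mk_surjective x
      rw [Ideal.Quotient.algebraMap_mk_of_liesOver, Ideal.Quotient.eq_zero_iff_mem] at hx
      exact Ideal.Quotient.eq_zero_iff_mem.2 ((Ideal.mem_of_liesOver Q q r).2 hx))
  obtain ⟨t, ht, hn⟩ := Cyc.DimFormula.height_ker_add_trdeg_of_injective ψ hψ
  have ht0 : t = 0 := by
    rw [trdeg_eq_zero] at ht
    exact_mod_cast ht.symm
  have hlift : ∀ {I J : Ideal T}, I < J → I.comap φ.toRingHom < J.comap φ.toRingHom := fun {I J} h =>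
    lt_of_le_of_ne (Ideal.comap_mono h.le) fun e => h.ne (Ideal.comap_injective_of_surjective _ hφ e)
  have hker : (RingHom.ker ψ).comap π = Q.comap φ.toRingHom := by
    ext a
    show ψ (π a) = 0 ↔ φ a ∈ Q
    rw [← Ideal.Quotient.eq_zero_iff_mem]
    exact Eq.congr_left (RingHom.congr_fun hcomp a)
  have hQ : (n : ℕ∞) ≤ (Q.comap φ.toRingHom).height := by
    rw [← hker, ← hn, ht0]
    have := RingHom.ker_isPrime ψ
    simpa using height_le_height_comap hπ (RingHom.ker ψ)
  let P₁ := P.comap φ.toRingHom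
  let P₂ := P'.comap φ.toRingHom
  let B := Localization.AtPrime (P'.under R)
  letI : Algebra (MvPolynomial (Fin n) R) (MvPolynomial (Fin n) B) := MvPolynomial.algebraMvPolynomial
  have hloc : IsLocalization ((P'.under R).primeCompl.map (MvPolynomial.C (σ := Fin n)))
      (MvPolynomial (Fin n) B) := MvPolynomial.isLocalization _ B
  have hdisj : Disjoint (((P'.under R).primeCompl.map (MvPolynomial.C (σ := Fin n)) :
      Submonoid (MvPolynomial (Fin n) R)) : Set (MvPolynomial (Fin n) R)) (P₂ : Set _) := by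
    rw [Set.disjoint_left]
    rintro _ ⟨r, hr, rfl⟩ hr'
    exact hr (show algebraMap R T r ∈ P' by rw [← φ.commutes r]; exact hr')
  have hP₂ : P₂.height ≤ (n : ℕ∞) + 1 := by
    rw [← IsLocalization.height_map_of_disjoint _ P₂ hdisj (S := MvPolynomial (Fin n) B)]
    have hne := (IsLocalization.isPrime_of_isPrime_disjoint _ (MvPolynomial (Fin n) B) P₂
      inferInstance hdisj).ne_top
    have h := Ideal.height_le_ringKrullDim_of_ne_top hne
    rw [MvPolynomial.ringKrullDim_of_isNoetherianRing, Nat.card_eq_fintype_card, Fintype.card_fin]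
      at h
    have h' := h.trans (add_le_add hdim le_rfl)
    rw [add_comm (1 : WithBot ℕ∞)] at h'
    exact_mod_cast h'
  have h01 := Ideal.height_add_one_le_of_lt_of_isPrime (hlift h₁)
  have h12 := Ideal.height_add_one_le_of_lt_of_isPrime (hlift h₂)
  have h : (n : ℕ∞) + 1 + 1 ≤ (n : ℕ∞) + 1 :=
    le_trans (le_trans (add_le_add (le_trans (add_le_add hQ le_rfl) h01) le_rfl) h12) hP₂
  have : n + 1 + 1 ≤ n + 1 := by exact_mod_cast h
  omega

/-- Quasi-finiteness makes the residue domain algebraic over the base. -/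
theorem isAlgebraic_quotient {R T : Type u} [CommRing R] [CommRing T] [Algebra R T]
    {q : Ideal R} [q.IsPrime] {Q : Ideal T} [Q.IsPrime] [Q.LiesOver q] [Algebra.QuasiFiniteAt R Q] :
    Algebra.IsAlgebraic (R ⧸ q) (T ⧸ Q) := by
  letI := Localization.AtPrime.algebraOfLiesOver q Q
  have : Module.Finite q.ResidueField Q.ResidueField := inferInstance
  have halg : Algebra.IsAlgebraic q.ResidueField Q.ResidueField := Algebra.IsAlgebraic.of_finite _ _
  letI : Algebra (R ⧸ q) Q.ResidueField :=
    ((algebraMap q.ResidueField Q.ResidueField).comp (algebraMap (R ⧸ q) q.ResidueField)).toAlgebra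
  have : IsScalarTower (R ⧸ q) q.ResidueField Q.ResidueField := IsScalarTower.of_algebraMap_eq fun _ => rfl
  let ι : T ⧸ Q →ₐ[R ⧸ q] Q.ResidueField :=
    { algebraMap (T ⧸ Q) Q.ResidueField with
      commutes' := fun x => by
        obtain ⟨r, rfl⟩ := Ideal.Quotient.mk_surjective x
        show algebraMap (T ⧸ Q) Q.ResidueField (algebraMap (R ⧸ q) (T ⧸ Q) (Ideal.Quotient.mk q r)) =
          algebraMap q.ResidueField Q.ResidueField (algebraMap (R ⧸ q) q.ResidueField (Ideal.Quotient.mk q r))
        rw [Ideal.Quotient.algebraMap_mk_of_liesOver, Ideal.algebraMap_quotient_residueField_mk,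
          Ideal.algebraMap_quotient_residueField_mk, ← IsScalarTower.algebraMap_apply,
          ← IsScalarTower.algebraMap_apply] }
  exact ⟨fun x => (isAlgebraic_algHom_iff ι Q.injective_algebraMap_quotient_residueField).1
    ((IsFractionRing.isAlgebraic_iff (R ⧸ q) q.ResidueField Q.ResidueField).2 (halg.isAlgebraic _))⟩

/-- The specialization order on an affine open. -/
theorem primeIdealOf_le {X : Scheme.{u}} {U : X.Opens} (hU : IsAffineOpen U) {a b : U}
    (h : (a : X) ⤳ (b : X)) : (hU.primeIdealOf a).asIdeal ≤ (hU.primeIdealOf b).asIdeal := by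
  refine (PrimeSpectrum.le_iff_specializes _ _).2 (hU.fromSpec.isOpenEmbedding.isInducing.specializes_iff.1 ?_)
  rw [hU.fromSpec_primeIdealOf, hU.fromSpec_primeIdealOf]
  exact h

theorem primeIdealOf_inj {X : Scheme.{u}} {U : X.Opens} (hU : IsAffineOpen U) {a b : U}
    (h : (hU.primeIdealOf a).asIdeal = (hU.primeIdealOf b).asIdeal) : (a : X) = b := by
  rw [← hU.fromSpec_primeIdealOf a, ← hU.fromSpec_primeIdealOf b, PrimeSpectrum.ext h]

variable {X Y : Scheme.{u}} (f : X ⟶ Y) [LocallyOfFiniteType f]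

/-- In a fibre over a point with one-dimensional Noetherian local ring there are no proper
specializations below a quasi-finite maximal point. -/
theorem eq_of_specializes {η z z' : X} (hη : ∀ w, w ⤳ η → w = η) (hqf : f.QuasiFiniteAt η)
    (h₁ : η ⤳ z) (h₂ : z ⤳ z') (hf : f z = f z') [IsNoetherianRing (Y.presheaf.stalk (f z'))]
    (hdim : ringKrullDim (Y.presheaf.stalk (f z')) ≤ 1) : z = z' := by
  obtain ⟨V, hV, hyV, -⟩ := exists_isAffineOpen_mem_and_subset (U := ⊤) (Set.mem_univ (f z'))
  obtain ⟨U, hU, hzU, hUV⟩ := exists_isAffineOpen_mem_and_subset (U := f ⁻¹ᵁ V) (show z' ∈ f ⁻¹ᵁ V from hyV)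
  have hz : z ∈ U := h₂.mem_open U.2 hzU
  have hη' : η ∈ U := h₁.mem_open U.2 hz
  have hft : (f.appLE V U hUV).hom.FiniteType :=
    f.finiteType_appLE hV hU hUV
  have hqQ := hqf.quasiFiniteAt hU hV hUV hη'
  algebraize [(f.appLE V U hUV).hom]
  let Q := (hU.primeIdealOf ⟨η, hη'⟩).asIdeal
  let P := (hU.primeIdealOf ⟨z, hz⟩).asIdeal
  let P' := (hU.primeIdealOf ⟨z', hzU⟩).asIdeal
  have hund : ∀ (w : X) (hw : w ∈ U), (hU.primeIdealOf ⟨w, hw⟩).asIdeal.under Γ(Y, V) =
      (hV.primeIdealOf ⟨f w, hUV hw⟩).asIdeal := fun w hw =>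
    congrArg PrimeSpectrum.asIdeal (IsAffineOpen.comap_primeIdealOf_appLE V hV U hU hUV hw)
  have : Algebra.QuasiFiniteAt Γ(Y, V) Q := hqQ
  by_contra hne
  have hQP : Q ≤ P := primeIdealOf_le hU h₁
  have hPP : P < P' := lt_of_le_of_ne (primeIdealOf_le hU h₂) fun e => hne (primeIdealOf_inj hU e)
  by_cases he : Q = P
  · have : η = z := primeIdealOf_inj hU he
    subst this
    have hc := hqf.isClopen_singleton_asFiber.1
    have hc' := hc.preimage (f.fiberHomeo (f η)).symm.continuous
    have hspec : (⟨η, rfl⟩ : f ⁻¹' {f η}) ⤳ ⟨z', hf.symm⟩ := (subtype_specializes_iff _ _).2 h₂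
    refine hne ?_
    have hmem : (f.fiberHomeo (f η)).symm ⟨z', hf.symm⟩ = f.asFiber η :=
      hspec.mem_closed hc' rfl
    exact (congrArg Subtype.val ((f.fiberHomeo (f η)).symm.injective hmem)).symm
  let p' := P'.under Γ(Y, V)
  letI := Y.presheaf.algebra_section_stalk ⟨f z', hyV⟩
  have : IsLocalization.AtPrime (Y.presheaf.stalk (f z')) p' := by
    have h : IsLocalization (hV.primeIdealOf ⟨f z', hyV⟩).asIdeal.primeCompl (Y.presheaf.stalk (f z')) :=
      hV.isLocalization_stalk ⟨f z', hyV⟩
    show IsLocalization p'.primeCompl _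
    convert h using 2
    exact hund z' hzU
  let e : Y.presheaf.stalk (f z') ≃+* Localization.AtPrime p' :=
    (IsLocalization.algEquiv p'.primeCompl _ _).toRingEquiv
  have : IsNoetherianRing (Localization.AtPrime p') := isNoetherianRing_of_ringEquiv _ e
  exact not_lt_lt (q := Q.under Γ(Y, V)) ((ringKrullDim_eq_of_ringEquiv e).symm.le.trans hdim)
    isAlgebraic_quotient (lt_of_le_of_ne hQP he) hPP

/-- Quasi-finiteness at the maximal points generizing `x` gives quasi-finiteness at `x` when the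
image has Noetherian local ring of dimension at most one. -/
theorem quasiFiniteAt {x : X} [IsNoetherianRing (Y.presheaf.stalk (f x))]
    (hdim : ringKrullDim (Y.presheaf.stalk (f x)) ≤ 1)
    (hgen : ∀ η, η ⤳ x → (∀ w, w ⤳ η → w = η) → f.QuasiFiniteAt η)
    (hex : ∀ z : X, ∃ η, η ⤳ z ∧ ∀ w, w ⤳ η → w = η) : f.QuasiFiniteAt x := by
  have hmem : ∀ w : ↥(f.fiber (f x)), f ((f.fiberι (f x)) w) = f x := fun w => H46.QFin.asFiber_mem w
  have hemb : IsEmbedding (f.fiberι (f x)) := (f.fiberι (f x)).isEmbedding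
  have hxx : (f.fiberι (f x)) (f.asFiber x) = x := by simp
  refine (H46.QFin.quasiFiniteAt_iff f x).2 ⟨?_, fun w hw => ?_⟩
  · refine isClosed_singleton_of_specializes fun w hw => ?_
    have h : x ⤳ (f.fiberι (f x)) w := by
      have := hw.map (f.fiberι (f x)).continuous
      rwa [hxx] at this
    obtain ⟨η, hη₁, hη₂⟩ := hex x
    have hw' : f ((f.fiberι (f x)) w) = f x := hmem w
    have : IsNoetherianRing (Y.presheaf.stalk (f ((f.fiberι (f x)) w))) := by rw [hw']; infer_instance
    exact hemb.injective ((hxx.trans (eq_of_specializes f hη₂ (hgen η hη₁ hη₂) hη₁ h hw'.symm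
      (by rw [hw']; exact hdim))).symm)
  · have h : (f.fiberι (f x)) w ⤳ x := by
      have := hw.map (f.fiberι (f x)).continuous
      rwa [hxx] at this
    obtain ⟨η, hη₁, hη₂⟩ := hex ((f.fiberι (f x)) w)
    exact hemb.injective ((eq_of_specializes f hη₂ (hgen η (hη₁.trans h) hη₂) hη₁ h (hmem w) hdim).trans
      hxx.symm)

end Groth.Agent.Lib.AlgSpDecent.CodimOne
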