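import Groth.Agent.Lib.AlgSpDecent.Criteria
import Groth.Agent.Lib.AlgSpDecent.Restrict

/-!
Monomorphic points in terms of the fibres of the relation of an etale chart.
-/

universe u

open CategoryTheory CategoryTheory.Limits AlgebraicGeometry Opposite Topology

namespace Groth.Agent.Lib.AlgSpDecent.PointRel

open AlgSp Core Fibre Specialize Decent

variable {S : Scheme.{u}} {F : Sp S} {U : Over S} {a : (yon S).obj U ⟶ F}

/-- Compactness of the pullback of a representable map at a point depends only on its class. -/
theorem compactSpace_pullback_of_mk_eq (hr : Representable a) {p q : FieldPt F}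
    (h : Points.mk p = Points.mk q) [CompactSpace ↥(hr.pullback q.toHom).left] :
    CompactSpace ↥(hr.pullback p.toHom).left := by
  rw [Points.mk_eq_mk_iff, rel_iff] at h
  obtain ⟨Ω, _, w, α, β, h⟩ := h
  have hΩ : IsAffine (Over.mk w).left := inferInstanceAs (IsAffine (Spec (CommRingCat.of Ω)))
  have : Nonempty ↥(Over.mk w).left := inferInstanceAs (Nonempty (PrimeSpectrum Ω))
  let Dp := pullback (hr.snd p.toHom) α
  let Dq := pullback (hr.snd q.toHom) β
  have sqp := (isPullback_yon_pullback (hr.snd p.toHom) α).paste_horiz (hr.isPullback' p.toHom)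
  have sqq := (isPullback_yon_pullback (hr.snd q.toHom) β).paste_horiz (hr.isPullback' q.toHom)
  rw [← h] at sqq
  let e : Dp ≅ Dq := (yon S).preimageIso (sqp.isoIsPullback _ _ sqq)
  have hβ := quasiCompact_of_spec (p := q) β
  have : QuasiCompact (pullback.fst (hr.snd q.toHom) β).left :=
    MorphismProperty.of_isPullback (P := @QuasiCompact)
      ((IsPullback.of_hasPullback (hr.snd q.toHom) β).map (Over.forget S)).flip hβ
  have : CompactSpace ↥Dq.left :=
    QuasiCompact.compactSpace_of_compactSpace (pullback.fst (hr.snd q.toHom) β).left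
  have : CompactSpace ↥((Over.forget S).obj Dq) := inferInstanceAs (CompactSpace ↥Dq.left)
  have : CompactSpace ↥Dp.left := ((Over.forget S).mapIso e).symm.schemeIsoToHomeo.compactSpace
  have := surjective_of_spec (p := p) α
  have hs : Surjective (pullback.fst (hr.snd p.toHom) α).left := surjective_left_pullback_fst _ α
  exact hs.surj.compactSpace (pullback.fst (hr.snd p.toHom) α).left.continuous

/-- The residue field point of `u`. -/
noncomputable abbrev incl (u : ↥U.left) (a : (yon S).obj U ⟶ F) : (FieldPt.ofPt a u).pt ⟶ U :=
  Over.homMk (U.left.fromSpecResidueField u) rfl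

theorem incl_comp (u : ↥U.left) (a : (yon S).obj U ⟶ F) :
    (FieldPt.ofPt a u).toHom = (yon S).map (incl u a) ≫ a := FieldPt.toHom_ofPt a u

theorem range_incl (u : ↥U.left) (a : (yon S).obj U ⟶ F) :
    Set.range (incl u a).left = {u} := Scheme.range_fromSpecResidueField u

/-- The relation between the points `u` and `u'`, as the pullback of the field-valued points. -/
theorem exists_rel_pullback {R : Over S} {s t : R ⟶ U}
    (sq : IsPullback ((yon S).map t) ((yon S).map s) a a) (u u' : ↥U.left)
    (hq : Representable (FieldPt.ofPt a u).toHom) :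
    ∃ f : hq.pullback (FieldPt.ofPt a u').toHom ⟶ R, Function.Injective f.left ∧
      Set.range f.left = {r | t.left r = u ∧ s.left r = u'} := by
  let i := incl u a
  let i' := incl u' a
  let P := pullback t i
  have sqA : IsPullback ((yon S).map (pullback.snd t i)) ((yon S).map (pullback.fst t i ≫ s))
      (FieldPt.ofPt a u).toHom a := by
    have := ((isPullback_yon_pullback t i).flip).paste_vert sq
    rw [← Functor.map_comp, ← incl_comp] at this
    exact this
  let Q := pullback (pullback.fst t i ≫ s) i'
  have sqB : IsPullback ((yon S).map (pullback.fst (pullback.fst t i ≫ s) i' ≫ pullback.snd t i))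
      ((yon S).map (pullback.snd (pullback.fst t i ≫ s) i')) (FieldPt.ofPt a u).toHom
      (FieldPt.ofPt a u').toHom := by
    have := (isPullback_yon_pullback (pullback.fst t i ≫ s) i').paste_horiz sqA
    rw [← Functor.map_comp, ← incl_comp] at this
    exact this
  let e : hq.pullback (FieldPt.ofPt a u').toHom ≅ Q :=
    (yon S).preimageIso ((hq.isPullback' _).isoIsPullback _ _ sqB)
  have hi : IsPreimmersion i.left := inferInstanceAs (IsPreimmersion (U.left.fromSpecResidueField u))
  have hi' : IsPreimmersion i'.left :=
    inferInstanceAs (IsPreimmersion (U.left.fromSpecResidueField u'))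
  have h1 : IsPreimmersion (pullback.fst t i).left :=
    MorphismProperty.of_isPullback (P := @IsPreimmersion)
      ((IsPullback.of_hasPullback t i).map (Over.forget S)).flip hi
  have h2 : IsPreimmersion (pullback.fst (pullback.fst t i ≫ s) i').left :=
    MorphismProperty.of_isPullback (P := @IsPreimmersion)
      ((IsPullback.of_hasPullback _ i').map (Over.forget S)).flip hi'
  let eh := ((Over.forget S).mapIso e).schemeIsoToHomeo
  refine ⟨e.hom ≫ pullback.fst (pullback.fst t i ≫ s) i' ≫ pullback.fst t i, ?_, ?_⟩
  · exact (pullback.fst t i).left.isEmbedding.injective.comp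
      ((pullback.fst (pullback.fst t i ≫ s) i').left.isEmbedding.injective.comp eh.injective)
  · have he : Function.Surjective e.hom.left := eh.surjective
    rw [Over.comp_left, Scheme.Hom.comp_base, TopCat.coe_comp, he.range_comp]
    ext r
    constructor
    · rintro ⟨z, rfl⟩
      have a1 : (pullback.fst t i).left ((pullback.fst (pullback.fst t i ≫ s) i').left z) ∈
          t.left ⁻¹' Set.range i.left := by
        rw [← Restrict.range_fst_over]; exact ⟨_, rfl⟩
      have a2 : (pullback.fst (pullback.fst t i ≫ s) i').left z ∈
          (pullback.fst t i ≫ s).left ⁻¹' Set.range i'.left := by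
        rw [← Restrict.range_fst_over]; exact ⟨_, rfl⟩
      rw [range_incl] at a1 a2
      exact ⟨a1, a2⟩
    · rintro ⟨h1', h2'⟩
      obtain ⟨y, hy⟩ : r ∈ Set.range (pullback.fst t i).left := by
        rw [Restrict.range_fst_over, range_incl]; exact h1'
      obtain ⟨z, hz⟩ : y ∈ Set.range (pullback.fst (pullback.fst t i ≫ s) i').left := by
        rw [Restrict.range_fst_over, range_incl]
        show s.left ((pullback.fst t i).left y) = u'
        rw [hy]; exact h2'
      exact ⟨z, (congrArg (pullback.fst t i).left hz).trans hy⟩

theorem discreteTopology_rel (ha : RepWith @Etale a) (u u' : ↥U.left)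
    (hq : Representable (FieldPt.ofPt a u).toHom) :
    DiscreteTopology ↥(hq.pullback (FieldPt.ofPt a u').toHom).left := by
  let i := incl u a
  let q' := FieldPt.ofPt a u'
  have sq : IsPullback ((yon S).map (pullback.snd (ha.rep.fst' q'.toHom) i))
      ((yon S).map (pullback.fst (ha.rep.fst' q'.toHom) i ≫ ha.rep.snd q'.toHom))
      (FieldPt.ofPt a u).toHom q'.toHom := by
    have := ((isPullback_yon_pullback (ha.rep.fst' q'.toHom) i).flip).paste_vert
      (ha.rep.isPullback' q'.toHom)
    rw [← Functor.map_comp, ← incl_comp] at this
    exact this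
  let e : hq.pullback q'.toHom ≅ _ := (yon S).preimageIso ((hq.isPullback' _).isoIsPullback _ _ sq)
  have hi : IsPreimmersion i.left := inferInstanceAs (IsPreimmersion (U.left.fromSpecResidueField u))
  have h1 : IsPreimmersion (pullback.fst (ha.rep.fst' q'.toHom) i).left :=
    MorphismProperty.of_isPullback (P := @IsPreimmersion)
      ((IsPullback.of_hasPullback _ i).map (Over.forget S)).flip hi
  have := discreteTopology_pullback q' ha
  let eh := ((Over.forget S).mapIso e).schemeIsoToHomeo
  exact DiscreteTopology.of_continuous_injective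
    ((pullback.fst (ha.rep.fst' q'.toHom) i).left.continuous.comp eh.continuous)
    ((pullback.fst (ha.rep.fst' q'.toHom) i).left.isEmbedding.injective.comp eh.injective)

/-- A point of an etale chart with compact self fibre product gives a monomorphic point. -/
theorem exists_mono_of_compact_self (ha : RepWith @Etale a) (u : ↥U.left)
    (hq : Representable (FieldPt.ofPt a u).toHom)
    [CompactSpace ↥(hq.pullback (FieldPt.ofPt a u).toHom).left] :
    ∃ p : FieldPt F, Points.mk p = Points.ofPt a u ∧ Mono p.toHom := by
  let q := FieldPt.ofPt a u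
  have := discreteTopology_rel ha u u hq
  have : Finite ↥(hq.pullback q.toHom).left := finite_of_compact_of_discrete
  have : IsAffine q.pt.left := inferInstanceAs (IsAffine (Spec (CommRingCat.of q.K)))
  have : IsLocallyArtinian q.pt.left :=
    inferInstanceAs (IsLocallyArtinian (Spec (CommRingCat.of q.K)))
  have : QuasiCompact (hq.snd q.toHom).left := inferInstance
  let i := incl u a
  let ψ := ha.rep.fst' q.toHom
  have sqP : IsPullback ((yon S).map (pullback.snd ψ i))
      ((yon S).map (pullback.fst ψ i ≫ ha.rep.snd q.toHom)) q.toHom q.toHom := by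
    have := ((isPullback_yon_pullback ψ i).flip).paste_vert (ha.rep.isPullback' q.toHom)
    rw [← Functor.map_comp, ← incl_comp] at this
    exact this
  let e : hq.pullback q.toHom ≅ pullback ψ i := (yon S).preimageIso
    ((hq.isPullback' q.toHom).isoIsPullback _ _ sqP)
  have he : e.hom ≫ (pullback.fst ψ i ≫ ha.rep.snd q.toHom) = hq.snd q.toHom := by
    apply (yon S).map_injective
    simp [e]
  have hi : IsPreimmersion i.left := inferInstanceAs (IsPreimmersion (U.left.fromSpecResidueField u))
  have hfst : IsPreimmersion (pullback.fst ψ i).left :=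
    MorphismProperty.of_isPullback (P := @IsPreimmersion)
      ((IsPullback.of_hasPullback ψ i).map (Over.forget S)).flip hi
  have : IsIso e.hom.left := inferInstanceAs (IsIso ((Over.forget S).map e.hom))
  have := etale_snd q ha
  have := locallyQuasiFinite_of_etale (ha.rep.snd q.toHom).left
  have : LocallyQuasiFinite (hq.snd q.toHom).left := by
    rw [← he, Over.comp_left, Over.comp_left]
    infer_instance
  have : IsFinite (hq.snd q.toHom).left := IsFinite.of_locallyQuasiFinite _
  obtain ⟨p, c, hc, hm, -⟩ := FieldDescent.exists_mono_point q hq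
  refine ⟨p, ?_, hm⟩
  obtain ⟨x⟩ := nonempty_pt q
  calc Points.mk p = Points.ofPt p.toHom (c.left x) := (Points.ofPt_toHom p _).symm
    _ = Points.ofPt q.toHom x := by rw [← ofPt_map_comp, hc]
    _ = Points.ofPt a u := Points.ofPt_toHom _ x

/-- A single finite relation fibre produces a monomorphic point. -/
theorem exists_mono_of_finite_rel (hF : IsAlgSpace F) (ha : RepWith @Etale a) {R : Over S}
    {s t : R ⟶ U} (sq : IsPullback ((yon S).map t) ((yon S).map s) a a) {u u' : ↥U.left}
    (he : Points.ofPt a u = Points.ofPt a u') (hfin : {r | t.left r = u ∧ s.left r = u'}.Finite) :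
    ∃ p : FieldPt F, Points.mk p = Points.ofPt a u ∧ Mono p.toHom := by
  let q := FieldPt.ofPt a u
  have hq := representable_toHom hF q
  obtain ⟨f, hf, hrange⟩ := exists_rel_pullback sq u u' hq
  have : Finite ↥(hq.pullback (FieldPt.ofPt a u').toHom).left := by
    rw [← hrange] at hfin
    have := hfin.to_subtype
    exact Finite.of_injective_finite_range hf
  have : CompactSpace ↥(hq.pullback q.toHom).left := compactSpace_pullback_of_mk_eq hq he
  exact exists_mono_of_compact_self ha u hq

/-- Over a monomorphic point all the relation fibres are finite. -/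
theorem finite_rel_of_mono (hF : IsAlgSpace F) (ha : RepWith @Etale a) {R : Over S}
    {s t : R ⟶ U} (sq : IsPullback ((yon S).map t) ((yon S).map s) a a) {x : Points F}
    (p : FieldPt F) [Mono p.toHom] (hp : Points.mk p = x) {u u' : ↥U.left}
    (hu : Points.ofPt a u = x) (hu' : Points.ofPt a u' = x) :
    {r | t.left r = u ∧ s.left r = u'}.Finite := by
  have hpr := representable_toHom hF p
  obtain ⟨c, hc, -⟩ := existsUnique_factor hpr (q := FieldPt.ofPt a u) (hp.trans hu.symm)
  obtain ⟨c', hc', -⟩ := existsUnique_factor hpr (q := FieldPt.ofPt a u') (hp.trans hu'.symm)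
  change (yon S).map c ≫ p.toHom = _ at hc
  change (yon S).map c' ≫ p.toHom = _ at hc'
  have hq := representable_toHom hF (FieldPt.ofPt a u)
  obtain ⟨f, -, hrange⟩ := exists_rel_pullback sq u u' hq
  have sqP : IsPullback ((yon S).map (pullback.fst c c')) ((yon S).map (pullback.snd c c'))
      (FieldPt.ofPt a u).toHom (FieldPt.ofPt a u').toHom := by
    rw [← hc, ← hc']
    exact ⟨⟨by rw [← Category.assoc, ← Category.assoc, ← Functor.map_comp, ← Functor.map_comp,
      pullback.condition]⟩,
      ⟨PullbackCone.isLimitOfCompMono _ _ p.toHom _ (isPullback_yon_pullback c c').isLimit⟩⟩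
  let e : hq.pullback (FieldPt.ofPt a u').toHom ≅ pullback c c' :=
    (yon S).preimageIso ((hq.isPullback' _).isoIsPullback _ _ sqP)
  have : IsAffine (FieldPt.ofPt a u').pt.left :=
    inferInstanceAs (IsAffine (Spec (CommRingCat.of _)))
  have : QuasiCompact (pullback.fst c c').left :=
    MorphismProperty.of_isPullback (P := @QuasiCompact)
      ((IsPullback.of_hasPullback c c').map (Over.forget S)).flip (quasiCompact_of_spec c')
  have : CompactSpace ↥(FieldPt.ofPt a u).pt.left :=
    inferInstanceAs (CompactSpace (PrimeSpectrum _))
  have : CompactSpace ↥(pullback c c').left :=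
    QuasiCompact.compactSpace_of_compactSpace (pullback.fst c c').left
  have : CompactSpace ↥((Over.forget S).obj (pullback c c')) :=
    inferInstanceAs (CompactSpace ↥(pullback c c').left)
  have : CompactSpace ↥(hq.pullback (FieldPt.ofPt a u').toHom).left :=
    ((Over.forget S).mapIso e).symm.schemeIsoToHomeo.compactSpace
  have := discreteTopology_rel ha u u' hq
  have : Finite ↥(hq.pullback (FieldPt.ofPt a u').toHom).left := finite_of_compact_of_discrete
  rw [← hrange]
  exact Set.finite_range _

end Groth.Agent.Lib.AlgSpDecent.PointRel
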