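import Groth.Agent.Lib.AlgSpDecent.Levels
import Groth.Agent.Lib.AlgSpDecent.Criteria
import Groth.Agent.Lib.AlgSpDecent.PointRel
import Groth.Agent.Lib.AlgSpDecent.Restrict

/-!
An algebraic space with a finite dense set of points with quasi-compact representatives is decent.
-/

universe u

open CategoryTheory CategoryTheory.Limits AlgebraicGeometry Opposite Topology

namespace Groth.Agent.Lib.AlgSpDecent.DenseQC

open AlgSp Core Fibre Specialize Decent

variable {S : Scheme.{u}} {F : Sp S} {U V : Over S} {a : (yon S).obj U ⟶ F}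
  {b : (yon S).obj V ⟶ F}

/-- The projection from the fibre product of two charts is separated if the other chart is
affine. -/
theorem isSeparated_snd (hr : Representable b) [IsAffine V.left] (a : (yon S).obj U ⟶ F) :
    IsSeparated (hr.snd a).left := by
  let R := hr.pullback a
  let s : R ⟶ V := hr.fst' a
  let t : R ⟶ U := hr.snd a
  obtain ⟨m, hm₁, hm₂⟩ : ∃ m : R.left ⟶ pullback V.hom U.hom,
      m ≫ pullback.fst V.hom U.hom = s.left ∧ m ≫ pullback.snd V.hom U.hom = t.left :=
    ⟨pullback.lift s.left t.left ((Over.w s).trans (Over.w t).symm), pullback.lift_fst _ _ _,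
      pullback.lift_snd _ _ _⟩
  have : Mono m := by
    refine ⟨fun {Z} g h e => ?_⟩
    have h1 : g ≫ s.left = h ≫ s.left := by
      rw [← hm₁, ← Category.assoc, e, Category.assoc]
    have h2 : g ≫ t.left = h ≫ t.left := by
      rw [← hm₂, ← Category.assoc, e, Category.assoc]
    have hgh : g ≫ R.hom = h ≫ R.hom := by
      rw [← Over.w t, reassoc_of% h2]
    let g' : Over.mk (g ≫ R.hom) ⟶ R := Over.homMk g rfl
    let h' : Over.mk (g ≫ R.hom) ⟶ R := Over.homMk h hgh.symm
    have hs : g' ≫ s = h' ≫ s := Over.OverMorphism.ext h1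
    have ht : g' ≫ t = h' ≫ t := Over.OverMorphism.ext h2
    have : (yon S).map g' = (yon S).map h' := (hr.isPullback' a).hom_ext
      (by rw [← Functor.map_comp, ← Functor.map_comp, hs])
      (by rw [← Functor.map_comp, ← Functor.map_comp, ht])
    exact congrArg CommaMorphism.left ((yon S).map_injective this)
  have : IsSeparated V.hom := inferInstance
  have e : t.left = m ≫ pullback.snd V.hom U.hom := hm₂.symm
  change IsSeparated t.left
  rw [e]
  infer_instance

/-- The fibre of the projection and the fibre product with the point agree up to finiteness. -/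
theorem finite_preimage_iff (hr : Representable b) (u : ↥U.left) :
    ((hr.snd a).left ⁻¹' {u}).Finite ↔
      Finite ↥(hr.pullback (FieldPt.ofPt a u).toHom).left := by
  let q := FieldPt.ofPt a u
  let i := PointRel.incl u a
  have hqi : q.toHom = (yon S).map i ≫ a := PointRel.incl_comp u a
  let t := hr.snd a
  let s := hr.fst' a
  have sqP : IsPullback ((yon S).map (pullback.fst t i ≫ s)) ((yon S).map (pullback.snd t i))
      b q.toHom := by
    have := (isPullback_yon_pullback t i).paste_horiz (hr.isPullback' a)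
    rw [← Functor.map_comp, ← hqi] at this
    exact this
  let e : hr.pullback q.toHom ≅ pullback t i :=
    (yon S).preimageIso ((hr.isPullback' q.toHom).isoIsPullback _ _ sqP)
  let e' : ↥(hr.pullback q.toHom).left ≃ ↥(pullback t i).left :=
    ((Over.forget S).mapIso e).schemeIsoToHomeo.toEquiv
  have hi : IsPreimmersion i.left :=
    inferInstanceAs (IsPreimmersion (U.left.fromSpecResidueField u))
  have hp : IsPreimmersion (pullback.fst t i).left :=
    MorphismProperty.of_isPullback (P := @IsPreimmersion)
      ((IsPullback.of_hasPullback t i).map (Over.forget S)).flip hi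
  have hr' : Set.range (pullback.fst t i).left = t.left ⁻¹' {u} := by
    rw [Restrict.range_fst_over, PointRel.range_incl]
  constructor
  · intro h
    rw [← hr'] at h
    have := h.to_subtype
    have : Finite ↥(pullback t i).left :=
      Finite.of_injective_finite_range (pullback.fst t i).left.isEmbedding.injective
    exact Finite.of_equiv _ e'.symm
  · intro h
    have : Finite ↥(pullback t i).left := Finite.of_equiv _ e'
    rw [← hr']
    exact Set.finite_range _

theorem lev_succ_subset : ∀ (n : ℕ) {R U : Scheme.{u}} (t : R ⟶ U),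
    Levels.Lev (n + 1) t ⊆ Levels.Lev n t
  | 0, _, _, _ => fun _ _ => trivial
  | n + 1, _, _, t => Set.image_mono (lev_succ_subset n (Levels.step t))

theorem lev_antitone {R U : Scheme.{u}} (t : R ⟶ U) : Antitone (fun n => Levels.Lev n t) :=
  antitone_nat_of_succ_le fun n => lev_succ_subset n t

/-- A separated etale morphism to an affine scheme with finite fibres over a finite dense set has
finite fibres. -/
theorem finite_fibres {R U : Scheme.{u}} [IsAffine U] (t : R ⟶ U) [Etale t] [IsSeparated t]
    {E : Set U} (hE : E.Finite) (hd : ∀ O : Set U, IsOpen O → O.Nonempty → (O ∩ E).Nonempty)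
    (hfin : ∀ e ∈ E, (t ⁻¹' {e}).Finite) (u : U) : (t ⁻¹' {u}).Finite := by
  have hex : ∀ e ∈ E, ∃ n, e ∉ Levels.Lev n t :=
    fun e he => Levels.exists_notMem_lev t e (hfin e he)
  choose n hn using hex
  have := hE.to_subtype
  obtain ⟨N, hN⟩ := Finite.exists_le (fun e : E => n e.1 e.2)
  have hempty : Levels.Lev N t = ∅ := by
    refine Set.not_nonempty_iff_eq_empty.1 fun h => ?_
    obtain ⟨e, heN, he⟩ := hd _ (Levels.isOpen_lev N t) h
    exact hn e he (lev_antitone t (hN ⟨e, he⟩) heN)
  classical
  have hex' : ∃ m, u ∉ Levels.Lev m t := ⟨N, by rw [hempty]; exact id⟩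
  have hpos : Nat.find hex' ≠ 0 := fun h0 => by
    have := Nat.find_spec hex'
    rw [h0] at this
    exact this trivial
  obtain ⟨m, hm⟩ := Nat.exists_eq_succ_of_ne_zero hpos
  have hum : u ∈ Levels.Lev m t := not_not.1 (Nat.find_min hex' (hm ▸ Nat.lt_succ_self m))
  have hum' : u ∉ Levels.Lev (m + 1) t := by
    have := Nat.find_spec hex'
    rwa [hm] at this
  obtain ⟨W, -, huW, R', hR'o, hR'c, hsub⟩ := Levels.local_bound m t u hum
  let O : R.Opens := ⟨R', hR'o⟩
  have : CompactSpace ↥(O : Scheme.{u}) := isCompact_iff_compactSpace.mp hR'c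
  have : LocallyQuasiFinite (O.ι ≫ t) := locallyQuasiFinite_of_etale _
  have hf := (O.ι ≫ t).finite_preimage (Set.finite_singleton u)
  refine (hf.image O.ι).subset fun r hr => ?_
  have hrR : r ∈ R' := hsub (by
    show t r ∈ W \ _
    rw [Set.mem_singleton_iff.1 hr]; exact ⟨huW, hum'⟩)
  exact ⟨⟨r, hrR⟩, hr, rfl⟩

/-- A space with a finite dense set of points with quasi-compact representatives is decent. -/
theorem isDecent (hA : IsAlgSpace F) {E : Set (Points F)} (hE : E.Finite)
    (hd : ∀ O : Set (Points F), IsOpen O → O.Nonempty → (O ∩ E).Nonempty)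
    (hqc : ∀ e ∈ E, ∃ q : FieldPt F, Points.mk q = e ∧ RepWith @QuasiCompact q.toHom) :
    IsDecent F := by
  refine Criteria.isDecent_of_qc hA fun x => ?_
  obtain ⟨ι, U, φ, hU, hφ, hsurj⟩ := exists_affine_chart hA
  obtain ⟨i, u, rfl⟩ := hsurj x
  refine ⟨FieldPt.ofPt (φ i) u, rfl, ?_⟩
  refine repWith_qc_of_finite_pullback _ (representable_toHom hA _) U φ hφ hsurj fun j => ?_
  have := hU i
  have := hU j
  rw [← finite_preimage_iff]
  have : Etale ((hφ j).rep.snd (φ i)).left := (hφ j).property_snd _
  have := isSeparated_snd (hφ j).rep (φ i)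
  have hfin : (Points.ofPt (φ i) ⁻¹' E).Finite := by
    rw [← Set.biUnion_of_singleton E, Set.preimage_iUnion₂]
    exact hE.biUnion fun e he => finite_fibres_of_qc_point (hqc e he) (U i) (φ i) (hU i) (hφ i)
  refine finite_fibres _ hfin (fun O hO hne => ?_) (fun e he => ?_) u
  · obtain ⟨_, ⟨v, hv, rfl⟩, hvE⟩ := hd _ (isOpenMap_ofPt (hφ i) O hO) (hne.image _)
    exact ⟨v, hv, hvE⟩
  · obtain ⟨q, hq, hqq⟩ := hqc _ he
    rw [finite_preimage_iff]
    have := finite_pullback_of_qc q hqq (hφ j)
    exact Criteria.finite_pullback_of_mk_eq (hφ j) (q := q) hq.symm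

end Groth.Agent.Lib.AlgSpDecent.DenseQC
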