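import Groth.Agent.Lib.AlgSpDecent.PointRel
import Groth.Agent.Lib.AlgSpMor.LocP
import Groth.Agent.Lib.AlgSpMor.QC
import Groth.Prelude.Def_AlgSp4

/-!
Descent of decency along quasi-compact etale surjective morphisms.
-/

universe u

open CategoryTheory CategoryTheory.Limits AlgebraicGeometry Opposite Topology

namespace Groth.Agent.Lib.AlgSpDecent.DescendEtale

open AlgSp Core Fibre Specialize Decent

variable {S : Scheme.{u}} {X Y : Sp S} {f : X ⟶ Y}

/-- Over an affine chart `b` of the target there is an affine chart `a` of the source surjecting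
onto the fibre of `b` at the image of every point. -/
theorem exists_cover (hX : IsAlgSpace X) (hY : IsAlgSpace Y) (hq : IsQuasiCompactMor f)
    (he : IsEtaleMor f) {V : Over S} [IsAffine V.left] {b : (yon S).obj V ⟶ Y}
    (hb : RepWith @Etale b) :
    ∃ (W : Over S) (a : (yon S).obj W ⟶ X) (c : W ⟶ V) (ha : RepWith @Etale a),
      IsAffine W.left ∧ a ≫ f = (yon S).map c ≫ b ∧ Etale c.left ∧
      ∀ (p : FieldPt X), ∃ m : ha.rep.pullback p.toHom ⟶ hb.rep.pullback (p.map f).toHom,
        Surjective m.left ∧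
        m ≫ hb.rep.fst' (p.map f).toHom = ha.rep.fst' p.toHom ≫ c := by
  have sqZ := IsPullback.of_hasPullback f b
  let Z := pullback f b
  have hZ : IsAlgSpace Z :=
    AlgSpace.isAlgSpace_of_isPullback sqZ hY.diag hX (IsAlgSpace.yon_obj V)
  have hZqc : IsQuasiCompactSp Z :=
    hq (IsAlgSpace.yon_obj V) AlgSpMor.QC.isQuasiCompactSp_yon b _ _ sqZ
  have := AlgSpMor.QC.compactSpace_points hZqc
  obtain ⟨W, w, hW, hw, hws⟩ := AlgSpMor.QC.exists_affine_atlas hZ
  have hfst : RepWith @Etale (pullback.fst f b) := AlgSpace.repWith_baseChange sqZ.flip hb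
  have ha : RepWith @Etale (w ≫ pullback.fst f b) :=
    (repWith_isMultiplicative @Etale).comp_mem _ _ hw hfst
  obtain ⟨c, hc⟩ := (yon S).map_surjective (w ≫ pullback.snd f b)
  have hcomm : (w ≫ pullback.fst f b) ≫ f = (yon S).map c ≫ b := by
    rw [hc, Category.assoc, Category.assoc, pullback.condition]
  have hce : Etale c.left := AlgSpMor.LocP.etale_of_comm (he _ ha) hb c hcomm.symm
  refine ⟨W, _, c, ha, hW, hcomm, hce, fun p => ?_⟩
  let E' := ha.rep.pullback p.toHom
  let E := hb.rep.pullback (p.map f).toHom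
  let ψ := hb.rep.fst' (p.map f).toHom
  let π := hb.rep.snd (p.map f).toHom
  have sqE := hb.rep.isPullback' (p.map f).toHom
  have sqE' := ha.rep.isPullback' p.toHom
  have hmw : (yon S).map (ha.rep.fst' p.toHom ≫ c) ≫ b =
      (yon S).map (ha.rep.snd p.toHom) ≫ (p.map f).toHom := by
    rw [Functor.map_comp, Category.assoc, ← hcomm, FieldPt.toHom_map,
      ← Category.assoc ((yon S).map (ha.rep.fst' p.toHom)), sqE'.w, Category.assoc]
  let m := hb.rep.lift' (g := (p.map f).toHom) (ha.rep.fst' p.toHom ≫ c) (ha.rep.snd p.toHom) hmw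
  have hm₁ : m ≫ ψ = ha.rep.fst' p.toHom ≫ c :=
    hb.rep.lift'_fst (g := (p.map f).toHom) _ _ hmw
  have hm₂ : m ≫ π = ha.rep.snd p.toHom := hb.rep.lift'_snd (g := (p.map f).toHom) _ _ hmw
  refine ⟨m, ?_, hm₁⟩
  let l : (yon S).obj E ⟶ Z := pullback.lift ((yon S).map π ≫ p.toHom) ((yon S).map ψ) (by
    rw [Category.assoc]
    exact ((congrArg (fun z => (yon S).map π ≫ z) (FieldPt.toHom_map f p)).symm.trans sqE.w.symm))
  let M := hw.rep.pullback l
  have sqM := hw.rep.isPullback' l
  have hMs : Surjective (hw.rep.snd l).left := hws.property l _ _ sqM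
  have hnw : (yon S).map (hw.rep.fst' l) ≫ w ≫ pullback.fst f b =
      (yon S).map (hw.rep.snd l ≫ π) ≫ p.toHom := by
    rw [reassoc_of% sqM.w, pullback.lift_fst, Functor.map_comp, Category.assoc]
  let n := ha.rep.lift' (g := p.toHom) (hw.rep.fst' l) (hw.rep.snd l ≫ π) hnw
  have hn₁ : n ≫ ha.rep.fst' p.toHom = hw.rep.fst' l :=
    ha.rep.lift'_fst (g := p.toHom) _ _ hnw
  have hn : n ≫ m = hw.rep.snd l := by
    refine hb.rep.hom_ext' ?_ ?_
    · rw [Category.assoc, hm₁, ← Category.assoc, hn₁]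
      apply (yon S).map_injective
      rw [Functor.map_comp, Functor.map_comp, hc, reassoc_of% sqM.w, pullback.lift_snd]
    · rw [Category.assoc, hm₂]
      exact ha.rep.lift'_snd (g := p.toHom) _ _ hnw
  refine ⟨fun e => ?_⟩
  obtain ⟨μ, hμ⟩ := hMs.surj e
  exact ⟨n.left μ, (congrArg (fun k : M ⟶ E => k.left μ) hn).trans hμ⟩

/-- Decency descends. -/
theorem isDecent (hX : IsAlgSpace X) (hY : IsAlgSpace Y) (hq : IsQuasiCompactMor f)
    (he : IsEtaleMor f) (hs : Function.Surjective (Points.map f)) (hd : IsDecent X) :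
    IsDecent Y := by
  refine Criteria.isDecent_of_qc hY fun y => ?_
  obtain ⟨x, rfl⟩ := hs y
  obtain ⟨p, rfl, -, hp⟩ := hd x
  refine ⟨p.map f, (Points.map_mk f p).symm, ?_⟩
  obtain ⟨ι, V, φ, hV, hφ, hsurj⟩ := exists_affine_chart hY
  refine repWith_qc_of_finite_pullback _ (representable_toHom hY _) V φ hφ hsurj fun i => ?_
  have := hV i
  obtain ⟨W, a, c, ha, hW, -, -, hm⟩ := exists_cover hX hY hq he (hφ i)
  obtain ⟨m, hsur, -⟩ := hm p
  have := finite_pullback_of_qc p hp ha
  exact Finite.of_surjective _ hsur.surj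

/-- Monomorphic points descend. -/
theorem exists_mono_point (hX : IsAlgSpace X) (hY : IsAlgSpace Y) (hq : IsQuasiCompactMor f)
    (he : IsEtaleMor f) (p : FieldPt X) [Mono p.toHom] :
    ∃ q : FieldPt Y, Points.mk q = Points.map f (Points.mk p) ∧ Mono q.toHom := by
  obtain ⟨ι, V, φ, hV, hφ, hsurj⟩ := exists_affine_chart hY
  obtain ⟨i, v, hv⟩ := hsurj (Points.map f (Points.mk p))
  have := hV i
  obtain ⟨W, a, c, ha, hW, -, hc, hm⟩ := exists_cover hX hY hq he (hφ i)
  obtain ⟨m, hsur, hmc⟩ := hm p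
  let p' := p.map f
  let q := FieldPt.ofPt (φ i) v
  have hqr := representable_toHom hY q
  have hpq : Points.mk q = Points.mk p' := hv.trans (Points.map_mk f p)
  have hfib : ((hφ i).rep.fst' p'.toHom).left ⁻¹' {v} |>.Finite := by
    have := locallyQuasiFinite_of_etale c.left
    have hW' : (c.left ⁻¹' {v}).Finite := c.left.finite_preimage (Set.finite_singleton v)
    refine ((hW'.preimage (injective_fst p ha.rep).injOn).image m.left).subset fun e he' => ?_
    obtain ⟨e', rfl⟩ := hsur.surj e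
    refine ⟨e', ?_, rfl⟩
    exact (congrArg (fun k : _ ⟶ V i => k.left e') hmc).symm.trans he'
  let i₀ := PointRel.incl v (φ i)
  have hi₀ : IsPreimmersion i₀.left :=
    inferInstanceAs (IsPreimmersion ((V i).left.fromSpecResidueField v))
  let P := pullback ((hφ i).rep.fst' p'.toHom) i₀
  have h1 : IsPreimmersion (pullback.fst ((hφ i).rep.fst' p'.toHom) i₀).left :=
    MorphismProperty.of_isPullback (P := @IsPreimmersion)
      ((IsPullback.of_hasPullback _ i₀).map (Over.forget S)).flip hi₀
  have : Finite ↥P.left := by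
    have hr : Set.range (pullback.fst ((hφ i).rep.fst' p'.toHom) i₀).left =
        ((hφ i).rep.fst' p'.toHom).left ⁻¹' {v} := by
      rw [Restrict.range_fst_over, PointRel.range_incl]
    rw [← hr] at hfib
    have := hfib.to_subtype
    exact Finite.of_injective_finite_range
      (pullback.fst ((hφ i).rep.fst' p'.toHom) i₀).left.isEmbedding.injective
  have sqP : IsPullback ((yon S).map (pullback.snd ((hφ i).rep.fst' p'.toHom) i₀))
      ((yon S).map (pullback.fst ((hφ i).rep.fst' p'.toHom) i₀ ≫ (hφ i).rep.snd p'.toHom))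
      q.toHom p'.toHom := by
    have := ((isPullback_yon_pullback ((hφ i).rep.fst' p'.toHom) i₀).flip).paste_vert
      ((hφ i).rep.isPullback' p'.toHom)
    rw [← Functor.map_comp, ← PointRel.incl_comp] at this
    exact this
  let e : hqr.pullback p'.toHom ≅ P := (yon S).preimageIso ((hqr.isPullback' _).isoIsPullback _ _ sqP)
  have : Finite ↥((Over.forget S).obj P) := inferInstanceAs (Finite ↥P.left)
  have : Finite ↥(hqr.pullback p'.toHom).left :=
    Finite.of_equiv _ ((Over.forget S).mapIso e).symm.schemeIsoToHomeo.toEquiv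
  have : CompactSpace ↥(hqr.pullback q.toHom).left := PointRel.compactSpace_pullback_of_mk_eq hqr hpq
  obtain ⟨r, hr, hm⟩ := PointRel.exists_mono_of_compact_self (hφ i) v hqr
  exact ⟨r, hr.trans hv, hm⟩

end Groth.Agent.Lib.AlgSpDecent.DescendEtale
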