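import Groth.Agent.Lib.AlgSpDecent.DimDecent
import Groth.Agent.Lib.AlgSpMor.LocP
import Groth.Prelude.Def_AlgSpDec

/-!
Dimensions read on etale charts, for arbitrary algebraic spaces.
-/

universe u

open CategoryTheory CategoryTheory.Limits AlgebraicGeometry Opposite Topology TopologicalSpace

namespace Groth.Agent.Lib.AlgSpDecent.DimCharts

open AlgSp Core Fibre Specialize SpecOrder

variable {S : Scheme.{u}} {F G : Sp S}

theorem cohtPt_eq_of_etale {A B : Scheme.{u}} (f : A ⟶ B) [Etale f] (x : A) :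
    cohtPt (f x) = cohtPt x :=
  cohtPt_map (⇑f) f.continuous (fun _ _ he hs => (eq_of_specializes_of_etale f hs he.symm).symm)
    (fun _ _ h => exists_generization f h) x

theorem cohtPt_le_of_lqf {A B : Scheme.{u}} (f : A ⟶ B) [LocallyQuasiFinite f] (x : A) :
    cohtPt x ≤ cohtPt (f x) := by
  letI := specializationOrder A
  letI := specializationOrder B
  refine Order.coheight_le_coheight_apply_of_strictMono (⇑f) (fun a b hab => ?_) x
  have hle : b ⤳ a := hab.le
  refine lt_of_le_of_ne (show f b ⤳ f a from hle.map f.continuous) fun he => hab.ne ?_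
  have hd := (f.isDiscrete_preimage_singleton (f a)).to_subtype
  have hs : (⟨b, he.symm⟩ : f ⁻¹' {f a}) ⤳ ⟨a, rfl⟩ := (subtype_specializes_iff _ _).2 hle
  exact (congrArg Subtype.val hs.eq).symm

/-- Two charts through the same point see the same dimension. -/
theorem cohtPt_eq_of_charts {U V : Over S} {a : (yon S).obj U ⟶ F} {b : (yon S).obj V ⟶ F}
    (ha : RepWith @Etale a) (hb : RepWith @Etale b) {u : ↥U.left} {v : ↥V.left}
    (h : Points.ofPt a u = Points.ofPt b v) : cohtPt u = cohtPt v := by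
  have sq := ha.rep.isPullback' b
  obtain ⟨r, hr₁, hr₂⟩ := exists_point_of_scheme_isPullback sq u v h
  have : Etale (ha.rep.snd b).left := ha.property_snd b
  have : Etale (ha.rep.fst' b).left := hb.property a _ _ sq.flip
  rw [← hr₁, ← hr₂, cohtPt_eq_of_etale (ha.rep.fst' b).left, cohtPt_eq_of_etale (ha.rep.snd b).left]

theorem cohtPt_le_dim {U : Over S} {a : (yon S).obj U ⟶ F} (ha : RepWith @Etale a) (u : ↥U.left) :
    (cohtPt u : WithBot ℕ∞) ≤ AlgSp.dim F := by
  refine le_trans ?_ (le_iSup₂_of_le U a (le_iSup_of_le ha le_rfl))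
  rw [topologicalKrullDim_eq_iSup]
  exact le_iSup (fun v : ↥U.left => (cohtPt v : WithBot ℕ∞)) u

theorem dim_le {c : WithBot ℕ∞}
    (h : ∀ (U : Over S) (a : (yon S).obj U ⟶ F), RepWith @Etale a → ∀ u : ↥U.left,
      (cohtPt u : WithBot ℕ∞) ≤ c) : AlgSp.dim F ≤ c := by
  refine iSup₂_le fun U a => iSup_le fun ha => ?_
  rw [topologicalKrullDim_eq_iSup]
  exact iSup_le (h U a ha)

/-- Locally quasi-finite morphisms do not lower the dimension of charts. -/
theorem cohtPt_le_of_locP (hG : IsAlgSpace G) {f : F ⟶ G}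
    (hf : LocP (@LocallyQuasiFinite ⊓ @LocallyOfFiniteType) f) {U V : Over S}
    {a : (yon S).obj U ⟶ F} {b : (yon S).obj V ⟶ G} (ha : RepWith @Etale a) (hb : RepWith @Etale b)
    {u : ↥U.left} {v : ↥V.left} (h : Points.map f (Points.ofPt a u) = Points.ofPt b v) :
    cohtPt u ≤ cohtPt v := by
  obtain ⟨U', p, q, sq⟩ := Groth.Agent.Lib.AlgSpace.exists_isPullback_yon hG.diag (a ≫ f) b
  obtain ⟨w, hw₁, hw₂⟩ := exists_point_of_scheme_isPullback sq u v (by rw [ofPt_comp]; exact h)
  have : Etale p.left := Groth.Agent.Lib.AlgSpace.repWith_property hb sq.flip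
  have hq := hf ((yon S).map p ≫ a) b q (AlgSpMor.LocP.repWith_etale_comp p ha) hb
    (by rw [Category.assoc]; exact sq.w)
  have : LocallyQuasiFinite q.left := hq.1
  rw [← hw₁, ← hw₂, cohtPt_eq_of_etale p.left]
  exact cohtPt_le_of_lqf q.left w

end Groth.Agent.Lib.AlgSpDecent.DimCharts
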