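import Mathlib.RingTheory.Finiteness.Projective
import Mathlib.RingTheory.TensorProduct.Maps
import Mathlib.LinearAlgebra.Matrix.SchurComplement
import Mathlib.RingTheory.Spectrum.Prime.Topology
import Mathlib.RingTheory.LocalRing.ResidueField.Ideal
import Mathlib.RingTheory.Localization.FractionRing

/-!
Traces and norms on finite projective algebras through dual systems of vectors and functionals.
-/

universe u v w

open TensorProduct

namespace Groth.Agent.Lib.AlgSpDecent.DualSystem

variable {A : Type u} {M : Type v} [CommRing A] [CommRing M] [Algebra A M]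

/-- A finite system of vectors and functionals reproducing every vector. -/
structure DualSys (A : Type u) (M : Type v) [CommRing A] [AddCommGroup M] [Module A M] where
  /-- The size. -/
  n : ℕ
  /-- The vectors. -/
  vec : Fin n → M
  /-- The functionals. -/
  coord : Fin n → M →ₗ[A] A
  sum_coord : ∀ z : M, ∑ i, coord i z • vec i = z

theorem nonempty_dualSys (A : Type u) (M : Type v) [CommRing A] [AddCommGroup M] [Module A M]
    [Module.Finite A M] [Module.Projective A M] : Nonempty (DualSys A M) := by
  classical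
  obtain ⟨n, f, g, -, -, hfg⟩ := Module.Finite.exists_comp_eq_id_of_projective A M
  refine ⟨⟨n, fun i => f (Pi.single i 1), fun i => (LinearMap.proj i).comp g, fun z => ?_⟩⟩
  conv_rhs => rw [← show f (g z) = z from congrArg (fun l => l z) hfg]
  conv_rhs => rw [pi_eq_sum_univ (g z), map_sum]
  refine Finset.sum_congr rfl fun i _ => ?_
  rw [map_smul]
  simp only [LinearMap.comp_apply, LinearMap.proj_apply]
  congr 2
  funext j
  simp [Pi.single_apply, eq_comm]

namespace DualSys

variable (P P' : DualSys A M)

/-- The trace of multiplication. -/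
def tr : M →ₗ[A] A := ∑ i, (P.coord i).comp ((LinearMap.mul A M).flip (P.vec i))

theorem tr_apply (z : M) : P.tr z = ∑ i, P.coord i (z * P.vec i) := by
  simp [tr, mul_comm]

theorem tr_eq_tr (z : M) : P.tr z = P'.tr z := by
  rw [tr_apply, tr_apply]
  calc ∑ i, P.coord i (z * P.vec i)
      = ∑ i, ∑ j, P'.coord j (z * P.vec i) * P.coord i (P'.vec j) := by
        refine Finset.sum_congr rfl fun i _ => ?_
        conv_lhs => rw [← P'.sum_coord (z * P.vec i)]
        simp [map_sum, smul_eq_mul]
    _ = ∑ j, P'.coord j (z * ∑ i, P.coord i (P'.vec j) • P.vec i) := by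
        rw [Finset.sum_comm]
        refine Finset.sum_congr rfl fun j _ => ?_
        rw [Finset.mul_sum, map_sum]
        refine Finset.sum_congr rfl fun i _ => ?_
        rw [mul_smul_comm, map_smul, smul_eq_mul, mul_comm]
    _ = _ := by simp [P.sum_coord]

theorem tr_of_rankOne (ε : M) (l : M →ₗ[A] A) (h : ∀ z, ε * z = l z • ε) : P.tr ε = l ε := by
  rw [tr_apply]
  calc ∑ i, P.coord i (ε * P.vec i) = l (∑ i, P.coord i ε • P.vec i) := by
        rw [map_sum]
        refine Finset.sum_congr rfl fun i _ => ?_
        rw [h, map_smul, map_smul, smul_eq_mul, smul_eq_mul, mul_comm]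
    _ = l ε := by rw [P.sum_coord]

variable (B : Type w) [CommRing B] [Algebra A B]

/-- Base change of a dual system. -/
noncomputable def baseChange : DualSys B (B ⊗[A] M) where
  n := P.n
  vec i := 1 ⊗ₜ P.vec i
  coord i := (AlgebraTensorModule.rid A B B).toLinearMap.comp ((P.coord i).baseChange B)
  sum_coord z := by
    induction z using TensorProduct.induction_on with
    | zero => simp
    | tmul b m =>
      simp only [LinearMap.comp_apply, LinearMap.baseChange_tmul, LinearEquiv.coe_coe,
        AlgebraTensorModule.rid_tmul]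
      conv_rhs => rw [← P.sum_coord m, tmul_sum]
      refine Finset.sum_congr rfl fun i _ => ?_
      rw [smul_tmul', smul_eq_mul, mul_one, smul_tmul]
    | add x y hx hy => simp only [map_add, add_smul, Finset.sum_add_distrib, hx, hy]

theorem baseChange_tr (z : M) : (P.baseChange B).tr (1 ⊗ₜ z) = algebraMap A B (P.tr z) := by
  rw [tr_apply, tr_apply, map_sum]
  refine Finset.sum_congr rfl fun i _ => ?_
  simp [baseChange, Algebra.smul_def]

variable {B}

/-- Transport of a dual system along an isomorphism. -/
def map {M' : Type w} [CommRing M'] [Algebra A M'] (e : M ≃ₐ[A] M') : DualSys A M' where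
  n := P.n
  vec i := e (P.vec i)
  coord i := (P.coord i).comp e.symm.toLinearMap
  sum_coord z := by
    have := congrArg e (P.sum_coord (e.symm z))
    simpa [map_sum] using this

theorem map_tr {M' : Type w} [CommRing M'] [Algebra A M'] (e : M ≃ₐ[A] M') (z : M) :
    (P.map e).tr (e z) = P.tr z := by
  rw [tr_apply, tr_apply]
  refine Finset.sum_congr rfl fun i _ => ?_
  simp [map, ← map_mul]

/-- The matrix of multiplication, completed by the identity on the complement. -/
def mat (z : M) : Matrix (Fin P.n) (Fin P.n) A :=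
  1 + Matrix.of fun i j => P.coord i ((z - 1) * P.vec j)

/-- The norm. -/
def norm (z : M) : A := (P.mat z).det

theorem mat_one : P.mat 1 = 1 := by
  ext i j
  simp [mat]

theorem mat_mul (x y : M) : P.mat (x * y) = P.mat x * P.mat y := by
  have key : (Matrix.of fun i j => P.coord i ((x - 1) * P.vec j)) *
      (Matrix.of fun i j => P.coord i ((y - 1) * P.vec j)) =
      Matrix.of fun i j => P.coord i ((x - 1) * ((y - 1) * P.vec j)) := by
    ext i j
    simp only [Matrix.mul_apply, Matrix.of_apply]
    conv_rhs => rw [← P.sum_coord ((y - 1) * P.vec j), Finset.mul_sum, map_sum]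
    refine Finset.sum_congr rfl fun k _ => ?_
    rw [mul_smul_comm, map_smul, smul_eq_mul, mul_comm]
  rw [mat, mat, mat, add_mul, mul_add, mul_add, key, one_mul, one_mul, mul_one]
  ext i j
  simp only [Matrix.add_apply, Matrix.of_apply]
  rw [show (x * y - 1) * P.vec j = (x - 1) * ((y - 1) * P.vec j) + (x - 1) * P.vec j +
    (y - 1) * P.vec j by ring, map_add, map_add]
  abel

theorem norm_one : P.norm 1 = 1 := by rw [norm, mat_one, Matrix.det_one]

theorem norm_mul (x y : M) : P.norm (x * y) = P.norm x * P.norm y := by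
  rw [norm, mat_mul, Matrix.det_mul]; rfl

theorem isUnit_norm {x : M} (h : IsUnit x) : IsUnit (P.norm x) := by
  obtain ⟨y, hy⟩ := isUnit_iff_exists_inv.1 h
  exact IsUnit.of_mul_eq_one (P.norm y) (by rw [← norm_mul, hy, norm_one])

theorem isUnit_of_isUnit_norm {x : M} (h : IsUnit (P.norm x)) : IsUnit x := by
  classical
  -- an inverse of the matrix gives an element inverse to `x`
  obtain ⟨N, hN⟩ : ∃ N, P.mat x * N = 1 := ⟨_, Matrix.mul_nonsing_inv (P.mat x) h⟩
  let c : Fin P.n → A := fun i => P.coord i 1
  let d : Fin P.n → A := N.mulVec c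
  refine IsUnit.of_mul_eq_one (∑ j, d j • P.vec j) ?_
  have h1 : (P.mat x).mulVec d = c := by
    rw [Matrix.mulVec_mulVec, hN, Matrix.one_mulVec]
  have h2 : ∀ i, d i + P.coord i ((x - 1) * ∑ j, d j • P.vec j) = P.coord i 1 := by
    intro i
    have := congrFun h1 i
    rw [mat, Matrix.add_mulVec, Matrix.one_mulVec, Pi.add_apply] at this
    refine Eq.trans ?_ this
    congr 1
    rw [Finset.mul_sum, map_sum]
    refine Finset.sum_congr rfl fun j _ => ?_
    simp [mul_smul_comm, mul_comm]
  calc x * ∑ j, d j • P.vec j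
      = ∑ j, d j • P.vec j + (x - 1) * ∑ j, d j • P.vec j := by ring
    _ = ∑ j, d j • P.vec j + ∑ i, P.coord i ((x - 1) * ∑ j, d j • P.vec j) • P.vec i := by
        rw [P.sum_coord]
    _ = ∑ i, P.coord i 1 • P.vec i := by
        rw [← Finset.sum_add_distrib]
        exact Finset.sum_congr rfl fun i _ => by rw [← add_smul, h2]
    _ = 1 := P.sum_coord 1

theorem baseChange_norm (z : M) : (P.baseChange B).norm (1 ⊗ₜ z) = algebraMap A B (P.norm z) := by
  rw [norm, norm, RingHom.map_det]
  congr 1
  refine Matrix.ext fun (i j : Fin P.n) => ?_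
  have he : (((1 : B) ⊗ₜ[A] z) - 1) * ((1 : B) ⊗ₜ[A] P.vec j) = (1 : B) ⊗ₜ[A] ((z - 1) * P.vec j) := by
    rw [Algebra.TensorProduct.one_def, ← tmul_sub, Algebra.TensorProduct.tmul_mul_tmul, one_mul]
  show (1 : Matrix (Fin P.n) (Fin P.n) B) i j +
      (AlgebraTensorModule.rid A B B) ((P.coord i).baseChange B
        ((((1 : B) ⊗ₜ[A] z) - 1) * ((1 : B) ⊗ₜ[A] P.vec j))) =
    algebraMap A B ((1 : Matrix (Fin P.n) (Fin P.n) A) i j + P.coord i ((z - 1) * P.vec j))
  rw [he, map_add, LinearMap.baseChange_tmul, AlgebraTensorModule.rid_tmul]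
  congr 1
  · rw [Matrix.one_apply, Matrix.one_apply]
    split_ifs <;> simp
  · simp [Algebra.smul_def]

/-- The norm avoids exactly the primes over which `z` vanishes nowhere. -/
theorem norm_notMem_iff (z : M) (p : PrimeSpectrum A) :
    P.norm z ∉ p.asIdeal ↔
      ∀ q : PrimeSpectrum M, q.comap (algebraMap A M) = p → z ∉ q.asIdeal := by
  constructor
  · intro hn q hq hzq
    let K := FractionRing (M ⧸ q.asIdeal)
    let Q := (P.baseChange K)
    have hu : IsUnit (algebraMap A K (P.norm z)) := by
      refine isUnit_iff_ne_zero.2 fun h0 => hn ?_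
      rw [← hq]
      show algebraMap A M (P.norm z) ∈ q.asIdeal
      rw [IsScalarTower.algebraMap_apply A (M ⧸ q.asIdeal) K] at h0
      exact Ideal.Quotient.eq_zero_iff_mem.1
        ((map_eq_zero_iff _ (IsFractionRing.injective (M ⧸ q.asIdeal) K)).1 h0)
    rw [← P.baseChange_norm] at hu
    have := (Q.isUnit_of_isUnit_norm hu).map
      (Algebra.TensorProduct.lift (Algebra.ofId K K)
        (IsScalarTower.toAlgHom A M K) (fun _ _ => .all _ _))
    rw [Algebra.TensorProduct.lift_tmul, map_one, one_mul, IsScalarTower.coe_toAlgHom',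
      IsScalarTower.algebraMap_apply M (M ⧸ q.asIdeal) K] at this
    rw [Ideal.Quotient.algebraMap_eq, Ideal.Quotient.eq_zero_iff_mem.2 hzq, map_zero] at this
    exact not_isUnit_zero this
  · intro h hn
    let K := p.asIdeal.ResidueField
    have hu : IsUnit ((1 : K) ⊗ₜ[A] z) := by
      by_contra hnu
      obtain ⟨m, hm, hzm⟩ := exists_max_ideal_of_mem_nonunits hnu
      have hmp : m.IsPrime := hm.isPrime
      refine h ⟨m.comap Algebra.TensorProduct.includeRight.toRingHom, inferInstance⟩ ?_ hzm
      ext a
      show (1 : K) ⊗ₜ[A] algebraMap A M a ∈ m ↔ a ∈ p.asIdeal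
      rw [Algebra.algebraMap_eq_smul_one, ← smul_tmul, ← Algebra.algebraMap_eq_smul_one]
      constructor
      · intro ha
        by_contra hap
        have h1 : IsUnit (algebraMap A K a) :=
          isUnit_iff_ne_zero.2 fun e => hap (Ideal.algebraMap_residueField_eq_zero.1 e)
        exact hm.ne_top (Ideal.eq_top_of_isUnit_mem _ ha
          (h1.map (Algebra.TensorProduct.includeLeft : K →ₐ[K] K ⊗[A] M)))
      · intro ha
        rw [Ideal.algebraMap_residueField_eq_zero.2 ha, zero_tmul]
        exact m.zero_mem
    have := (P.baseChange K).isUnit_norm hu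
    rw [P.baseChange_norm, isUnit_iff_ne_zero] at this
    exact this (Ideal.algebraMap_residueField_eq_zero.2 hn)

end DualSys

end Groth.Agent.Lib.AlgSpDecent.DualSystem
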