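import Groth.Agent.Lib.AlgSpDecent.DualSystem
import Mathlib.RingTheory.Unramified.Finite
import Mathlib.RingTheory.Smooth.Fiber
import Mathlib.RingTheory.RingHom.Etale
import Mathlib.RingTheory.Finiteness.ModuleFinitePresentation
import Mathlib.RingTheory.Flat.EquationalCriterion

/-!
A finite etale equivalence relation on an affine scheme is effective: the trace gives a dual system
of the ring over the ring of invariants.
-/

universe u

open TensorProduct

namespace Groth.Agent.Lib.AlgSpDecent.EffectiveRel

open DualSystem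

variable {A B : Type u} [CommRing A] [CommRing B] [Algebra A B]

/-- The ring homomorphism out of a tensor product given by two compatible homomorphisms. -/
noncomputable def liftHom {K M C : Type u} [CommRing K] [CommRing M] [CommRing C] [Algebra A K]
    [Algebra A M] (f : K →+* C) (g : M →+* C)
    (h : ∀ a, f (algebraMap A K a) = g (algebraMap A M a)) : K ⊗[A] M →+* C :=
  letI : Algebra A C := (f.comp (algebraMap A K)).toAlgebra
  (Algebra.TensorProduct.lift (R := A) (S := A) (⟨f, fun _ => rfl⟩ : K →ₐ[A] C)
    (⟨g, fun a => (h a).symm⟩ : M →ₐ[A] C) (fun _ _ => .all _ _)).toRingHom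

@[simp] theorem liftHom_tmul {K M C : Type u} [CommRing K] [CommRing M] [CommRing C] [Algebra A K]
    [Algebra A M] (f : K →+* C) (g : M →+* C)
    (h : ∀ a, f (algebraMap A K a) = g (algebraMap A M a)) (k : K) (m : M) :
    liftHom f g h (k ⊗ₜ m) = f k * g m :=
  rfl

theorem ringHom_ext {K M C : Type u} [CommRing K] [CommRing M] [CommRing C] [Algebra A K]
    [Algebra A M] {f g : K ⊗[A] M →+* C} (h1 : ∀ k, f (k ⊗ₜ 1) = g (k ⊗ₜ 1))
    (h2 : ∀ m, f (1 ⊗ₜ m) = g (1 ⊗ₜ m)) : f = g := by
  refine RingHom.ext fun z => ?_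
  induction z using TensorProduct.induction_on with
  | zero => simp
  | tmul k m =>
    rw [show k ⊗ₜ[A] m = (k ⊗ₜ 1) * (1 ⊗ₜ m) by simp, map_mul, map_mul, h1, h2]
  | add x y hx hy => simp only [map_add, hx, hy]

/-- Traces computed by dual systems over isomorphic pairs of rings agree. -/
theorem tr_of_ringEquiv {K₁ K₂ P₁ P₂ : Type u} [CommRing K₁] [CommRing K₂] [CommRing P₁]
    [CommRing P₂] [Algebra K₁ P₁] [Algebra K₂ P₂] (Q₁ : DualSys K₁ P₁) (Q₂ : DualSys K₂ P₂)
    (ε : K₂ ≃+* K₁) (φ : P₂ ≃+* P₁)
    (h : ∀ k, φ (algebraMap K₂ P₂ k) = algebraMap K₁ P₁ (ε k)) (z : P₂) :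
    Q₁.tr (φ z) = ε (Q₂.tr z) := by
  have hs : ∀ (k : K₁) (x : P₁), φ.symm (k • x) = ε.symm k • φ.symm x := by
    intro k x
    apply φ.injective
    rw [φ.apply_symm_apply, Algebra.smul_def, Algebra.smul_def, map_mul, h, ε.apply_symm_apply,
      φ.apply_symm_apply]
  let Q : DualSys K₁ P₁ :=
    { n := Q₂.n
      vec := fun i => φ (Q₂.vec i)
      coord := fun i =>
        { toFun := fun x => ε (Q₂.coord i (φ.symm x))
          map_add' := fun x y => by simp only [map_add]
          map_smul' := fun k x => by
            simp only [hs, map_smul, smul_eq_mul, map_mul, ε.apply_symm_apply, RingHom.id_apply] }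
      sum_coord := fun x => by
        have := congrArg φ (Q₂.sum_coord (φ.symm x))
        rw [map_sum, φ.apply_symm_apply] at this
        refine Eq.trans ?_ this
        refine Finset.sum_congr rfl fun i _ => ?_
        show ε _ • φ _ = _
        rw [Algebra.smul_def, Algebra.smul_def, map_mul, h] }
  rw [Q₁.tr_eq_tr Q, DualSys.tr_apply, DualSys.tr_apply, map_sum]
  refine Finset.sum_congr rfl fun i _ => ?_
  show ε (Q₂.coord i (φ.symm (φ z * φ (Q₂.vec i)))) = _
  rw [← map_mul φ, φ.symm_apply_apply]

variable (s : A →+* B)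

/-- `B` as an algebra over `A` through `s`. -/
def Tw (_s : A →+* B) : Type u := B

instance : CommRing (Tw s) := inferInstanceAs (CommRing B)
instance : Algebra A (Tw s) := (s : A →+* Tw s).toAlgebra

/-- The ring of invariants. -/
abbrev invariants : Subring A := RingHom.eqLocus s (algebraMap A B)

theorem map_invariants (c : invariants s) : s (c : A) = algebraMap A B c := c.2

/-- The hypotheses of a finite etale monomorphic equivalence relation. -/
structure IsRel (e : B →ₐ[A] A) : Prop where
  e_s : ∀ a, e (s a) = a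
  epi : ∀ {C : Type u} [CommRing C] (f g : B →+* C), f.comp s = g.comp s →
    f.comp (algebraMap A B) = g.comp (algebraMap A B) → f = g
  trans : ∀ {C : Type u} [CommRing C] (f g : B →+* C),
    f.comp (algebraMap A B) = g.comp (algebraMap A B) →
      ∃ h : B →+* C, h.comp s = f.comp s ∧ h.comp (algebraMap A B) = g.comp s

variable {s} {e : B →ₐ[A] A}

theorem IsRel.compose (H : IsRel s e) {C : Type u} [CommRing C] (f g : B →+* C)
    (hc : f.comp (algebraMap A B) = g.comp s) :
    ∃ k : B →+* C, k.comp s = f.comp s ∧ k.comp (algebraMap A B) = g.comp (algebraMap A B) := by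
  let f₀ : B →+* C := (g.comp (algebraMap A B)).comp e.toRingHom
  obtain ⟨gi, hgs, hgt⟩ := H.trans f₀ g (by ext a; simp [f₀])
  have hgs' : gi.comp s = g.comp (algebraMap A B) := by
    rw [hgs]; ext a; simp [f₀, H.e_s]
  obtain ⟨k, hks, hkt⟩ := H.trans f gi (hc.trans hgt.symm)
  exact ⟨k, hks, hkt.trans hgs'⟩

theorem IsRel.tr_mem (H : IsRel s e) (P : DualSys A B) (a : A) : P.tr (s a) ∈ invariants s := by
  show s _ = algebraMap A B _
  let i₁ : B →+* B ⊗[A] B := Algebra.TensorProduct.includeLeftRingHom
  let f : B →+* B ⊗[A] B := (Algebra.TensorProduct.includeRight).toRingHom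
  have hfg : f.comp (algebraMap A B) = i₁.comp (algebraMap A B) := by
    ext x
    exact (Algebra.TensorProduct.includeRight.commutes x).trans rfl
  obtain ⟨h, hhs, hht⟩ := H.trans f i₁ hfg
  let j₁ : B →+* Tw s ⊗[A] B :=
    (Algebra.TensorProduct.includeLeftRingHom : Tw s →+* Tw s ⊗[A] B)
  let j₂ : B →+* Tw s ⊗[A] B := (Algebra.TensorProduct.includeRight).toRingHom
  have hj : j₂.comp (algebraMap A B) = j₁.comp s := by
    ext x
    exact (Algebra.TensorProduct.includeRight.commutes x).trans rfl
  obtain ⟨k, hks, hkt⟩ := H.compose j₂ j₁ hj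
  let φ : Tw s ⊗[A] B →+* B ⊗[A] B := liftHom (K := Tw s) (i₁ : Tw s →+* B ⊗[A] B) h
    fun x => (congrArg (fun m => m x) hht).symm
  let ψ : B ⊗[A] B →+* Tw s ⊗[A] B := liftHom j₁ k fun x => (congrArg (fun m => m x) hkt).symm
  have hφ₁ : ∀ x : B, φ (j₁ x) = i₁ x := fun x =>
    (liftHom_tmul (A := A) _ _ _ _ _).trans (by rw [map_one h, mul_one]; rfl)
  have hψ₁ : ∀ x : B, ψ (i₁ x) = j₁ x := fun x =>
    (liftHom_tmul (A := A) _ _ _ _ _).trans (by rw [map_one k, mul_one])
  have hφ₂ : φ.comp j₂ = h := RingHom.ext fun x => by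
    show φ ((1 : Tw s) ⊗ₜ[A] x) = h x
    simp only [φ, liftHom_tmul]
    exact (congrArg (· * h x) (map_one i₁)).trans (one_mul _)
  have hψ₂ : ψ.comp f = k := RingHom.ext fun x => by
    show ψ ((1 : B) ⊗ₜ[A] x) = k x
    simp only [ψ, liftHom_tmul]
    exact (congrArg (· * k x) (map_one j₁)).trans (one_mul _)
  have hψh : ψ.comp h = j₂ := by
    refine H.epi _ _ ?_ ?_
    · rw [RingHom.comp_assoc, hhs, ← RingHom.comp_assoc, hψ₂, hks]
    · rw [RingHom.comp_assoc, hht, hj]
      ext x; exact hψ₁ _
  have hφk : φ.comp k = f := by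
    refine H.epi _ _ ?_ ?_
    · rw [RingHom.comp_assoc, hks, ← RingHom.comp_assoc, hφ₂, hhs]
    · rw [RingHom.comp_assoc, hkt, hfg]
      ext x; exact hφ₁ _
  have e1 : ψ.comp φ = RingHom.id _ := by
    refine ringHom_ext (fun x => ?_) (fun x => ?_)
    · show ψ (φ (j₁ x)) = j₁ x
      rw [hφ₁, hψ₁]
    · show ψ (φ (j₂ x)) = j₂ x
      rw [show φ (j₂ x) = h x from congrArg (fun m => m x) hφ₂]
      exact congrArg (fun m => m x) hψh
  have e2 : φ.comp ψ = RingHom.id _ := by
    refine ringHom_ext (fun x => ?_) (fun x => ?_)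
    · show φ (ψ (i₁ x)) = i₁ x
      rw [hψ₁, hφ₁]
    · show φ (ψ (f x)) = f x
      rw [show ψ (f x) = k x from congrArg (fun m => m x) hψ₂]
      exact congrArg (fun m => m x) hφk
  have key := tr_of_ringEquiv (P.baseChange B) (P.baseChange (Tw s)) (RingEquiv.refl B)
    (RingEquiv.ofRingHom φ ψ e2 e1) (fun x => hφ₁ x) (1 ⊗ₜ s a)
  have hφa : φ (j₂ (s a)) = f (s a) :=
    (congrArg (fun m => m (s a)) hφ₂).trans (congrArg (fun m => m a) hhs)
  rw [show (RingEquiv.ofRingHom φ ψ e2 e1) ((1 : Tw s) ⊗ₜ[A] s a) = (1 : B) ⊗ₜ[A] s a from hφa,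
    P.baseChange_tr, P.baseChange_tr] at key
  exact key.symm

/-- The separability idempotent of the diagonal. -/
theorem exists_idempotent [Module.Finite A B] [Algebra.FormallyUnramified A B] :
    ∃ ε : B, (∀ z : B, ε * z = e z • ε) ∧ e ε = 1 := by
  let m : B ⊗[A] B →ₐ[A] B :=
    Algebra.TensorProduct.lift (AlgHom.id A B) ((Algebra.ofId A B).comp e) fun _ _ => .all _ _
  let u := Algebra.FormallyUnramified.elem A B
  refine ⟨m u, fun z => ?_, ?_⟩
  · have := congrArg m (Algebra.FormallyUnramified.one_tmul_mul_elem (R := A) z)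
    rw [map_mul, map_mul] at this
    simp only [m, Algebra.TensorProduct.lift_tmul, AlgHom.id_apply, AlgHom.comp_apply,
      Algebra.ofId_apply, one_mul, map_one, mul_one] at this
    rw [Algebra.smul_def, mul_comm]
    exact this.symm
  · have h : ∀ x : B ⊗[A] B, e (m x) = e (Algebra.TensorProduct.lmul' A x) := by
      intro x
      induction x using TensorProduct.induction_on with
      | zero => simp
      | tmul b b' => simp [m]
      | add x y hx hy => simp only [map_add, hx, hy]
    rw [h, Algebra.FormallyUnramified.lmul_elem, map_one]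

variable (s) in
/-- The map `A ⊗ A → B`. -/
noncomputable def pairMap : A ⊗[invariants s] A →+* B :=
  liftHom (K := A) (M := A) (algebraMap A B) s fun c => (map_invariants s c).symm

theorem pairMap_tmul (a a' : A) : pairMap s (a ⊗ₜ[invariants s] a') = algebraMap A B a * s a' :=
  rfl

/-- Effectivity of finite etale equivalence relations. -/
theorem effective [Module.Finite A B] [Module.Projective A B] [Algebra.FormallyUnramified A B]
    (H : IsRel s e) (hsurj : Function.Surjective (pairMap s)) :
    Module.Finite (invariants s) A ∧ Module.Projective (invariants s) A ∧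
      Algebra.Etale (invariants s) A ∧ Function.Bijective (pairMap s) := by
  obtain ⟨P⟩ := nonempty_dualSys A B
  obtain ⟨ε, hε, heε⟩ := exists_idempotent (e := e)
  have htrε : P.tr ε = 1 := by rw [P.tr_of_rankOne ε e.toLinearMap hε]; exact heε
  obtain ⟨u, hu⟩ := hsurj ε
  obtain ⟨N, y, x, hxy⟩ : ∃ (N : ℕ) (y x : Fin N → A), ε = ∑ i, algebraMap A B (y i) * s (x i) := by
    classical
    obtain ⟨S, hS⟩ := TensorProduct.exists_finset u
    refine ⟨S.card, fun i => (S.equivFin.symm i).1.1, fun i => (S.equivFin.symm i).1.2, ?_⟩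
    rw [← hu, hS, map_sum, ← Finset.sum_coe_sort]
    exact Fintype.sum_equiv S.equivFin _ _ fun i => by simp [pairMap]
  let C := invariants s
  let T : A → C := fun a => ⟨P.tr (s a), H.tr_mem P a⟩
  have hT : ∀ (c : C) (a : A), T (c • a) = c • T a := by
    intro c a
    apply Subtype.ext
    show P.tr (s ((c : A) * a)) = (c : A) * P.tr (s a)
    rw [map_mul, map_invariants, ← Algebra.smul_def, map_smul, smul_eq_mul]
  let coordA : Fin N → A →ₗ[C] C := fun i =>
    { toFun := fun a => T (a * x i)
      map_add' := fun a b => by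
        apply Subtype.ext
        show P.tr (s ((a + b) * x i)) = P.tr (s (a * x i)) + P.tr (s (b * x i))
        rw [add_mul, map_add, map_add]
      map_smul' := fun c a => by
        simp only [RingHom.id_apply, smul_mul_assoc, hT] }
  have hsum : ∀ a : A, ∑ i, coordA i a • y i = a := by
    intro a
    show ∑ i, P.tr (s (a * x i)) * y i = a
    have h1 : s a * ε = a • ε := by
      rw [mul_comm, hε, H.e_s]
    calc ∑ i, P.tr (s (a * x i)) * y i = P.tr (s a * ε) := by
          rw [hxy, Finset.mul_sum, map_sum]
          refine Finset.sum_congr rfl fun i _ => ?_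
          rw [show s a * (algebraMap A B (y i) * s (x i)) = y i • s (a * x i) by
            rw [map_mul, Algebra.smul_def]; ring, map_smul, smul_eq_mul, mul_comm]
      _ = a := by rw [h1, map_smul, htrε, smul_eq_mul, mul_one]
  let toFree : A →ₗ[C] (Fin N → C) := LinearMap.pi coordA
  let ofFree : (Fin N → C) →ₗ[C] A := Fintype.linearCombination C y
  have hsplit : ofFree.comp toFree = LinearMap.id := by
    ext a
    simp only [LinearMap.comp_apply, LinearMap.id_apply, ofFree, toFree,
      Fintype.linearCombination_apply, LinearMap.pi_apply]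
    exact hsum a
  have hproj : Module.Projective C A := Module.Projective.of_split toFree ofFree hsplit
  have hfin : Module.Finite C A :=
    Module.Finite.of_surjective ofFree fun a => ⟨toFree a, congrArg (fun l => l a) hsplit⟩
  -- the left inverse
  let Ψ : B →+ A ⊗[C] A :=
    { toFun := fun b => ∑ i, P.tr (b * s (x i)) ⊗ₜ[C] y i
      map_zero' := by simp
      map_add' := fun b b' => by simp only [add_mul, map_add, add_tmul, Finset.sum_add_distrib] }
  have hΨ : ∀ z, Ψ (pairMap s z) = z := by
    intro z
    induction z using TensorProduct.induction_on with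
    | zero => simp
    | tmul a a' =>
      show ∑ i, P.tr ((algebraMap A B a * s a') * s (x i)) ⊗ₜ[C] y i = a ⊗ₜ a'
      calc _ = ∑ i, a ⊗ₜ[C] (coordA i a' • y i) := by
            refine Finset.sum_congr rfl fun i _ => ?_
            rw [mul_assoc, ← map_mul s, ← Algebra.smul_def, map_smul, smul_eq_mul, ← smul_tmul]
            congr 1
            show a * P.tr (s (a' * x i)) = P.tr (s (a' * x i)) * a
            rw [mul_comm]
        _ = _ := by rw [← tmul_sum, hsum]
    | add z z' hz hz' => rw [map_add, map_add, hz, hz']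
  have hbij : Function.Bijective (pairMap s) :=
    ⟨Function.LeftInverse.injective hΨ, hsurj⟩
  have : Algebra.FiniteType C A := Module.Finite.finiteType A
  have hun : Algebra.FormallyUnramified C A := by
    rw [Algebra.FormallyUnramified.iff_exists_tensorProduct]
    refine ⟨u, fun a => hbij.1 ?_, ?_⟩
    · rw [map_mul, map_zero, hu, map_sub]
      show (algebraMap A B 1 * s a - algebraMap A B a * s 1) * ε = 0
      rw [map_one, map_one, one_mul, mul_one]
      rw [sub_mul, mul_comm (s a), hε, H.e_s, Algebra.smul_def, sub_self]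
    · have h : ∀ z, Algebra.TensorProduct.lmul' C z = e (pairMap s z) := by
        intro z
        induction z using TensorProduct.induction_on with
        | zero => simp
        | tmul a a' =>
          show a * a' = e (algebraMap A B a * s a')
          rw [map_mul, AlgHom.commutes, H.e_s, Algebra.algebraMap_self, RingHom.id_apply]
        | add z z' hz hz' => simp only [map_add, hz, hz']
      rw [h, hu, heε]
  have : Module.FinitePresentation C A := Module.finitePresentation_of_projective C A
  have : Module.Flat C A := Module.Flat.of_projective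
  have : Algebra.FinitePresentation C A := Algebra.FinitePresentation.of_finitePresentation C A
  exact ⟨hfin, hproj, Algebra.Etale.of_formallyUnramified_of_flat, hbij⟩

end Groth.Agent.Lib.AlgSpDecent.EffectiveRel
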