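import Groth.Prelude.Def_AlgSpDec
import Groth.Agent.Lib.Unram.BranchNbhd
import Groth.Agent.Lib.AlgSpDecent.Decent
import Groth.Agent.H46.UnivOpenTrdeg

/-!
Branches at elementary etale neighbourhoods.
-/

universe u

open CategoryTheory CategoryTheory.Limits AlgebraicGeometry Opposite Topology IsLocalRing

namespace Groth.Agent.Lib.AlgSpDecent.ElemBranch

open AlgSp Groth.Agent.Lib.AlgSpace Core Groth.Agent.Lib.Unram

/-- Residually trivial etale maps preserve the number of branches. -/
theorem numBranchesAt_eq {U X : Scheme.{u}} (g : U ⟶ X) [Etale g] (p : U)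
    (hres : Function.Bijective (g.residueFieldMap p)) :
    Brnch.numBranchesAt U p = Brnch.numBranchesAt X (g p) := by
  have hflat := Flat.stalkMap g p
  have hu := FormallyUnramified.stalkMap g p
  have hr := (BranchNbhd.residue_bijective_iff g p).mp hres
  algebraize [(g.stalkMap p).hom]
  have : IsLocalHom (algebraMap (X.presheaf.stalk (g p)) (U.presheaf.stalk p)) :=
    inferInstanceAs <| IsLocalHom (g.stalkMap p).hom
  have : Algebra.EssFiniteType (X.presheaf.stalk (g p)) (U.presheaf.stalk p) :=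
    LocallyOfFiniteType.stalkMap g p
  obtain ⟨e⟩ := BranchNbhd.exists_hens_equiv _ _
    (UnibranchEtaleAlg.isIndEtale_of_flat_unramified (X.presheaf.stalk (g p)) (U.presheaf.stalk p)) hr
  show Brnch.numBranches _ = Brnch.numBranches _
  rw [← BranchHenselian.card_minimalPrimes_henselization (X.presheaf.stalk (g p))
      (Henselian.Henselization.Henselization (X.presheaf.stalk (g p))),
    ← BranchHenselian.card_minimalPrimes_henselization (U.presheaf.stalk p)
      (Henselian.Henselization.Henselization (U.presheaf.stalk p)), BranchNbhd.card_congr e]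

theorem components_le (U : Scheme.{u}) (p : U) :
    {Z : Set ↥U | Z ∈ irreducibleComponents ↥U ∧ p ∈ Z}.encard ≤ Brnch.numBranchesAt U p := by
  have h := BranchNbhd.encard_le_numBranches (𝟙 U) p (by
    rw [BranchNbhd.residue_bijective_iff, Scheme.Hom.stalkMap_id]
    refine fun y => ⟨y, ?_⟩
    change ¬ IsUnit (y - y)
    rw [sub_self]
    exact not_isUnit_zero)
  simpa using h

/-- A point hit by a field valued point whose residue map is bijective downstairs has bijective residue map. -/
theorem bijective_residueFieldMap {R U : Scheme.{u}} (p : R ⟶ U) {L : Type u} [Field L]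
    (k : Spec (CommRingCat.of L) ⟶ R) (v : U) (φ : U.residueField v ⟶ CommRingCat.of L)
    (hφ : Function.Bijective φ) (h : k ≫ p = Spec.map φ ≫ U.fromSpecResidueField v) :
    p (k (closedPoint L)) = v ∧ Function.Bijective (p.residueFieldMap (k (closedPoint L))) := by
  have hv : p (k (closedPoint L)) = v := by
    refine (Scheme.Hom.comp_apply k p _).symm.trans ?_
    rw [h]
    exact (Scheme.Hom.comp_apply _ _ _).trans (Scheme.fromSpecResidueField_apply _ _)
  subst hv
  obtain ⟨ρ, hρ⟩ := H46.UnivOpenTrdeg.exists_residue_factor k _ rfl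
  have e : p.residueFieldMap (k (closedPoint L)) ≫ ρ = φ := by
    apply Spec.map_injective
    rw [← cancel_mono (U.fromSpecResidueField (p (k (closedPoint L)))), Spec.map_comp, Category.assoc,
      Scheme.Hom.SpecMap_residueFieldMap_fromSpecResidueField, ← h, reassoc_of% hρ]
  rw [← e] at hφ
  have hb : Function.Bijective ρ :=
    ⟨RingHom.injective ρ.hom, Function.Surjective.of_comp (g := p.residueFieldMap (k (closedPoint L))) hφ.2⟩
  exact ⟨rfl, (Function.Bijective.of_comp_iff' hb _).1 hφ⟩

variable {S : Scheme.{u}} {F : Sp S}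

/-- The number of branches is the same at all elementary etale neighbourhoods of a point. -/
theorem numBranchesAt_congr (hF : IsAlgSpace F) {x : Points F} {U V : Over S}
    {a : (yon S).obj U ⟶ F} {b : (yon S).obj V ⟶ F} {u : ↥U.left} {v : ↥V.left}
    (ha : IsElemEtaleNbhd a u x) (hb : IsElemEtaleNbhd b v x) :
    Brnch.numBranchesAt U.left u = Brnch.numBranchesAt V.left v := by
  have := ha.mono
  have := hb.mono
  have hxy : Points.mk (FieldPt.ofPt b v) = Points.mk (FieldPt.ofPt a u) := hb.ofPt_eq.trans ha.ofPt_eq.symm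
  obtain ⟨c, hc, -⟩ := Decent.existsUnique_factor (Decent.representable_toHom hF _) hxy
  obtain ⟨c', hc', -⟩ := Decent.existsUnique_factor (Decent.representable_toHom hF _) hxy.symm
  have e1 : c ≫ c' = 𝟙 _ := by
    apply (yon S).map_injective
    rw [← cancel_mono (FieldPt.ofPt a u).toHom, Functor.map_comp, Category.assoc, hc', hc,
      (yon S).map_id, Category.id_comp]
  have e2 : c' ≫ c = 𝟙 _ := by
    apply (yon S).map_injective
    rw [← cancel_mono (FieldPt.ofPt b v).toHom, Functor.map_comp, Category.assoc, hc, hc',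
      (yon S).map_id, Category.id_comp]
  have hci : IsIso c := ⟨c', e1, e2⟩
  obtain ⟨φ, hφ⟩ := Spec.map_surjective
    (show Spec (U.left.residueField u) ⟶ Spec (V.left.residueField v) from c.left)
  have hφiso : IsIso φ := by
    have : IsIso (Spec.map φ) := by rw [hφ]; exact inferInstanceAs (IsIso ((Over.forget S).map c))
    have : IsIso (Scheme.Spec.map φ.op) := this
    have : IsIso φ.op := isIso_of_reflects_iso φ.op Scheme.Spec
    exact isIso_of_op φ
  let su : Over.mk (U.left.fromSpecResidueField u ≫ U.hom) ⟶ U := Over.homMk (U.left.fromSpecResidueField u) rfl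
  let sv : Over.mk (V.left.fromSpecResidueField v ≫ V.hom) ⟶ V := Over.homMk (V.left.fromSpecResidueField v) rfl
  obtain ⟨R, p, q, sq⟩ := exists_isPullback_yon hF.diag a b
  have : Etale p.left := repWith_property hb.etale sq.flip
  have : Etale q.left := repWith_property ha.etale sq
  let c₀ : Over.mk (U.left.fromSpecResidueField u ≫ U.hom) ⟶ Over.mk (V.left.fromSpecResidueField v ≫ V.hom) := c
  obtain ⟨k, hk⟩ := (yon S).map_surjective (sq.lift ((yon S).map su) ((yon S).map (c₀ ≫ sv)) (by
    rw [Functor.map_comp, Category.assoc]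
    have h1 := FieldPt.toHom_ofPt a u
    have h2 := FieldPt.toHom_ofPt b v
    refine h1.symm.trans (hc.symm.trans ?_)
    rw [h2]
    rfl))
  have kp : k.left ≫ p.left = U.left.fromSpecResidueField u := by
    have : k ≫ p = su := (yon S).map_injective (by rw [Functor.map_comp, hk, sq.lift_fst])
    exact congrArg CommaMorphism.left this
  have kq : k.left ≫ q.left = Spec.map φ ≫ V.left.fromSpecResidueField v := by
    have : k ≫ q = c₀ ≫ sv := (yon S).map_injective (by rw [Functor.map_comp, hk, sq.lift_snd])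
    rw [hφ]
    exact congrArg CommaMorphism.left this
  obtain ⟨hpu, hpb⟩ := bijective_residueFieldMap p.left (L := U.left.residueField u) k.left u (𝟙 _)
    Function.bijective_id (by rw [Spec.map_id]; exact kp.trans (Category.id_comp _).symm)
  obtain ⟨hqv, hqb⟩ := bijective_residueFieldMap q.left (L := U.left.residueField u) k.left v φ
    (ConcreteCategory.bijective_of_isIso φ) kq
  rw [← hpu, ← hqv, ← numBranchesAt_eq p.left _ hpb, ← numBranchesAt_eq q.left _ hqb]

/-- Elementary etale neighbourhoods with as many components as there are branches. -/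
theorem exists_nbhd {x : Points F} {U : Over S} {a : (yon S).obj U ⟶ F} {u : ↥U.left}
    (ha : IsElemEtaleNbhd a u x) (n : ℕ) (hn : (n : ℕ∞) ≤ Brnch.numBranchesAt U.left u) :
    ∃ (V : Over S) (b : (yon S).obj V ⟶ F) (v : ↥V.left), IsElemEtaleNbhd b v x ∧
      (n : ℕ∞) ≤ {Z : Set ↥V.left | Z ∈ irreducibleComponents ↥V.left ∧ v ∈ Z}.encard := by
  let A := U.left.presheaf.stalk u
  let H := Henselian.Henselization.Henselization A
  rw [Brnch.numBranchesAt, ← BranchHenselian.card_minimalPrimes_henselization A H] at hn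
  obtain ⟨W, g, w, hg, hgw, hres, hc⟩ := BranchNbhd.exists_nbhd u H Henselian.IndEtale.isIndEtale_lim n hn
  have hb := hres fun y => by
    obtain ⟨a', ha'⟩ := Henselian.Henselization.exists_sub_mem A H y
    exact ⟨a', ha'⟩
  let V : Over S := Over.mk (g ≫ U.hom)
  let i : V ⟶ U := Over.homMk g
  have : MorphismProperty.IsStableUnderComposition @Etale.{u} :=
    ⟨fun f g (_ : Etale f) (_ : Etale g) ↦ inferInstanceAs (Etale (f ≫ g))⟩
  refine ⟨V, (yon S).map i ≫ a, w, ⟨repWith_yon_map_comp hg ha.etale, ?_, ?_⟩, hc⟩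
  · rw [Core.ofPt_map_comp]
    show Points.ofPt a (g w) = x
    rw [hgw, ha.ofPt_eq]
  · subst hgw
    have := ha.mono
    have : IsIso (g.residueFieldMap w) := (ConcreteCategory.isIso_iff_bijective _).2 hb
    let m : Over.mk (W.fromSpecResidueField w ≫ V.hom) ⟶ Over.mk (U.left.fromSpecResidueField (g w) ≫ U.hom) :=
      Over.homMk (Spec.map (g.residueFieldMap w)) (by
        show Spec.map (g.residueFieldMap w) ≫ U.left.fromSpecResidueField (g w) ≫ U.hom = W.fromSpecResidueField w ≫ g ≫ U.hom
        rw [Scheme.Hom.SpecMap_residueFieldMap_fromSpecResidueField_assoc])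
    have : IsIso ((Over.forget S).map m) := inferInstanceAs (IsIso (Spec.map (g.residueFieldMap w)))
    have : IsIso m := isIso_of_reflects_iso m (Over.forget S)
    have e : (FieldPt.ofPt ((yon S).map i ≫ a) w).toHom = (yon S).map m ≫ (FieldPt.ofPt a (g w)).toHom := by
      rw [FieldPt.toHom_ofPt, FieldPt.toHom_ofPt]
      show (yon S).map (Over.homMk (W.fromSpecResidueField w) rfl : _ ⟶ V) ≫ (yon S).map i ≫ a =
        (yon S).map m ≫ (yon S).map (Over.homMk (U.left.fromSpecResidueField (g w)) rfl : _ ⟶ U) ≫ a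
      rw [← (yon S).map_comp_assoc, ← (yon S).map_comp_assoc]
      congr 2
      exact Over.OverMorphism.ext (Scheme.Hom.SpecMap_residueFieldMap_fromSpecResidueField g w).symm
    have h1 : IsIso ((yon S).map m) := Functor.map_isIso _ m
    have h2 : Mono ((yon S).map m) := IsIso.mono_of_iso _
    rw [e]
    exact @mono_comp _ _ _ _ _ _ h2 _ ha.mono

end Groth.Agent.Lib.AlgSpDecent.ElemBranch

namespace Groth.Agent.Lib.AlgSpDecent.ElemBranch

open AlgSp Groth.Agent.Lib.AlgSpace Groth.Agent.Lib.Unram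

variable {S : Scheme.{u}} {F : Sp S} {x : Points F} {U₀ : Over S} {a₀ : (yon S).obj U₀ ⟶ F} {u₀ : ↥U₀.left}

theorem components_le_nb (hF : IsAlgSpace F) (h₀ : IsElemEtaleNbhd a₀ u₀ x) {U : Over S} {a : (yon S).obj U ⟶ F} {u : ↥U.left}
    (h : IsElemEtaleNbhd a u x) :
    {Z : Set ↥U.left | Z ∈ irreducibleComponents ↥U.left ∧ u ∈ Z}.encard ≤ Brnch.numBranchesAt U₀.left u₀ :=
  (components_le U.left u).trans (numBranchesAt_congr hF h h₀).le

/-- At most `n` components at all elementary etale neighbourhoods, with equality at one, means `n` branches. -/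
theorem components_iff (hF : IsAlgSpace F) (h₀ : IsElemEtaleNbhd a₀ u₀ x) (n : ℕ) :
    ((∀ (U : Over S) (a : (yon S).obj U ⟶ F) (u : ↥U.left), IsElemEtaleNbhd a u x →
        {Z : Set ↥U.left | Z ∈ irreducibleComponents ↥U.left ∧ u ∈ Z}.encard ≤ n) ∧
      (∃ (U : Over S) (a : (yon S).obj U ⟶ F) (u : ↥U.left), IsElemEtaleNbhd a u x ∧
        {Z : Set ↥U.left | Z ∈ irreducibleComponents ↥U.left ∧ u ∈ Z}.encard = n)) ↔
      Brnch.numBranchesAt U₀.left u₀ = n := by
  constructor
  · rintro ⟨hle, U, a, u, h, he⟩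
    refine le_antisymm ?_ (he ▸ components_le_nb hF h₀ h)
    by_contra hlt
    obtain ⟨V, b, v, hv, hc⟩ := exists_nbhd h₀ (n + 1) (by
      rw [Nat.cast_add, Nat.cast_one]
      exact (ENat.add_one_le_iff (ENat.coe_ne_top n)).2 (not_le.1 hlt))
    have := hc.trans (hle V b v hv)
    exact absurd (Nat.cast_le.1 this) (by omega)
  · intro hn
    refine ⟨fun U a u h => hn ▸ components_le_nb hF h₀ h, ?_⟩
    obtain ⟨V, b, v, hv, hc⟩ := exists_nbhd h₀ n hn.ge
    exact ⟨V, b, v, hv, le_antisymm (hn ▸ components_le_nb hF h₀ hv) hc⟩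

theorem forall_components_eq_one_iff (hF : IsAlgSpace F) (h₀ : IsElemEtaleNbhd a₀ u₀ x) :
    (∀ (U : Over S) (a : (yon S).obj U ⟶ F) (u : ↥U.left), IsElemEtaleNbhd a u x →
        {Z : Set ↥U.left | Z ∈ irreducibleComponents ↥U.left ∧ u ∈ Z}.encard = 1) ↔
      Brnch.numBranchesAt U₀.left u₀ = 1 := by
  refine (Iff.trans ?_ ((components_iff hF h₀ 1).trans (by rw [Nat.cast_one])))
  rw [Nat.cast_one]
  exact ⟨fun h => ⟨fun U a u hu => (h U a u hu).le, _, _, _, h₀, h _ _ _ h₀⟩,
    fun h U a u hu => le_antisymm (h.1 U a u hu) (BranchNbhd.one_le_encard U.left u)⟩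

theorem branches_iff (hF : IsAlgSpace F) (h₀ : IsElemEtaleNbhd a₀ u₀ x) (n : ℕ) :
    ((∀ (U : Over S) (a : (yon S).obj U ⟶ F) (u : ↥U.left), IsElemEtaleNbhd a u x →
        Brnch.numBranchesAt U.left u ≤ n) ∧
      (∃ (U : Over S) (a : (yon S).obj U ⟶ F) (u : ↥U.left), IsElemEtaleNbhd a u x ∧
        Brnch.numBranchesAt U.left u = n)) ↔
      Brnch.numBranchesAt U₀.left u₀ = n := by
  constructor
  · rintro ⟨-, U, a, u, h, he⟩
    rw [numBranchesAt_congr hF h₀ h, he]
  · intro hn
    exact ⟨fun U a u h => (numBranchesAt_congr hF h h₀).le.trans hn.le, _, _, _, h₀, hn⟩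

theorem hasUniqueMinimalPrime_iff (R : Type u) [CommRing R] :
    CAlgX.HasUniqueMinimalPrime R ↔ (minimalPrimes R).encard = 1 := by
  rw [Set.encard_eq_one]
  exact ⟨fun ⟨P, hP, hu⟩ => ⟨P, Set.eq_singleton_iff_unique_mem.2 ⟨hP, hu⟩⟩,
    fun ⟨P, hP⟩ => ⟨P, show P ∈ minimalPrimes R by rw [hP]; rfl, fun Q hQ => by
      change Q ∈ minimalPrimes R at hQ
      rwa [hP, Set.mem_singleton_iff] at hQ⟩⟩

end Groth.Agent.Lib.AlgSpDecent.ElemBranch
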