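import Groth.Agent.Lib.Henselian.EssEtale
import Mathlib.AlgebraicGeometry.Morphisms.Etale
import Mathlib.RingTheory.Localization.LocalizationLocalization
import Mathlib.RingTheory.Localization.BaseChange

/-!
Stalk maps of etale morphisms are essentially etale.
-/

universe u

open CategoryTheory AlgebraicGeometry IsLocalRing

namespace Groth.Agent.Lib.AlgSpDecent.EtaleStalk

/-- Localizations of an etale algebra at primes are essentially etale. -/
theorem isEssentiallyEtale_of_atPrime {A B : Type u} [CommRing A] [CommRing B] [Algebra A B]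
    [Algebra.Etale A B] (q : Ideal B) [q.IsPrime] (Ap Bq : Type u) [CommRing Ap] [IsLocalRing Ap]
    [CommRing Bq] [Algebra A Ap] [IsLocalization.AtPrime Ap (q.comap (algebraMap A B))]
    [Algebra B Bq] [IsLocalization.AtPrime Bq q] [Algebra Ap Bq] [Algebra A Bq]
    [IsScalarTower A Ap Bq] [IsScalarTower A B Bq] :
    EGA4loc.IsEssentiallyEtale Ap Bq := by
  let p : Ideal A := q.comap (algebraMap A B)
  let M : Submonoid B := Algebra.algebraMapSubmonoid B p.primeCompl
  let C := Localization M
  let : Algebra Ap C := localizationAlgebra p.primeCompl B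
  have : IsScalarTower A Ap C := isScalarTower_localizationAlgebra p.primeCompl B
  have hpush : Algebra.IsPushout A Ap B C := (Algebra.isPushout_of_isLocalization p.primeCompl Ap B C).symm
  have : Algebra.Etale Ap C := Algebra.Etale.of_equiv hpush.equiv
  have hdisj : Disjoint (M : Set B) q := by
    rw [Set.disjoint_left]
    rintro _ ⟨a, ha, rfl⟩ h
    exact ha h
  let Q : Ideal C := q.map (algebraMap B C)
  have hQ : Q.IsPrime := IsLocalization.isPrime_of_isPrime_disjoint M C q inferInstance hdisj
  have hQc : Q.comap (algebraMap B C) = q :=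
    IsLocalization.under_map_of_isPrime_disjoint M C inferInstance hdisj
  have hcomap : Q.comap (algebraMap Ap C) = maximalIdeal Ap := by
    have h1 : (Q.comap (algebraMap Ap C)).comap (algebraMap A Ap) = p := by
      rw [Ideal.comap_comap, ← IsScalarTower.algebraMap_eq, IsScalarTower.algebraMap_eq A B C,
        ← Ideal.comap_comap, hQc]
    rw [← IsLocalization.map_under p.primeCompl Ap (Q.comap (algebraMap Ap C)), Ideal.under_def, h1]
    exact IsLocalization.AtPrime.map_eq_maximalIdeal p Ap
  let D := Localization.AtPrime Q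
  have hD : IsLocalization.AtPrime D (Q.comap (algebraMap B C)) :=
    IsLocalization.isLocalization_isLocalization_atPrime_isLocalization M D Q
  have : IsLocalization.AtPrime D q := by
    simpa only [hQc] using hD
  let e : Bq ≃ₐ[B] D := IsLocalization.algEquiv q.primeCompl _ _
  have he : e.toRingEquiv.toRingHom.comp (algebraMap Ap Bq) = algebraMap Ap D := by
    refine IsLocalization.ringHom_ext p.primeCompl ?_
    rw [RingHom.comp_assoc, ← IsScalarTower.algebraMap_eq, IsScalarTower.algebraMap_eq A B Bq,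
      ← IsScalarTower.algebraMap_eq A Ap D, IsScalarTower.algebraMap_eq A B D]
    ext a
    exact e.commutes _
  exact ⟨C, inferInstance, inferInstance, Q, hQ, inferInstance, hcomap,
    ⟨AlgEquiv.ofRingEquiv (f := e.toRingEquiv) fun x => RingHom.congr_fun he x⟩⟩

/-- Stalk maps of etale morphisms are essentially etale. -/
theorem isEssentiallyEtale_stalkMap {X Y : Scheme.{u}} (f : X ⟶ Y) [Etale f] (x : X) :
    letI := (f.stalkMap x).hom.toAlgebra
    EGA4loc.IsEssentiallyEtale (Y.presheaf.stalk (f x)) (X.presheaf.stalk x) := by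
  obtain ⟨U, hU, hxU, -⟩ := exists_isAffineOpen_mem_and_subset (show f x ∈ (⊤ : Y.Opens) from trivial)
  obtain ⟨V, hV, hxV, hle'⟩ := exists_isAffineOpen_mem_and_subset (show x ∈ f ⁻¹ᵁ U from hxU)
  have hle : V ≤ f ⁻¹ᵁ U := hle'
  let : Algebra (Y.presheaf.stalk (f x)) (X.presheaf.stalk x) := (f.stalkMap x).hom.toAlgebra
  let : Algebra Γ(Y, U) Γ(X, V) := (f.appLE U V hle).hom.toAlgebra
  have : Algebra.Etale Γ(Y, U) Γ(X, V) := f.etale_appLE hU hV hle
  let : Algebra Γ(Y, U) (Y.presheaf.stalk (f x)) := (Y.presheaf.germ U (f x) hxU).hom.toAlgebra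
  let : Algebra Γ(X, V) (X.presheaf.stalk x) := (X.presheaf.germ V x hxV).hom.toAlgebra
  let : Algebra Γ(Y, U) (X.presheaf.stalk x) :=
    ((X.presheaf.germ V x hxV).hom.comp (f.appLE U V hle).hom).toAlgebra
  have : IsScalarTower Γ(Y, U) Γ(X, V) (X.presheaf.stalk x) := IsScalarTower.of_algebraMap_eq' rfl
  have : IsScalarTower Γ(Y, U) (Y.presheaf.stalk (f x)) (X.presheaf.stalk x) := by
    refine IsScalarTower.of_algebraMap_eq' (congrArg CommRingCat.Hom.hom (?_ :
      f.appLE U V hle ≫ X.presheaf.germ V x hxV = Y.presheaf.germ U (f x) hxU ≫ f.stalkMap x))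
    rw [Scheme.Hom.germ_stalkMap]
    show (f.app U ≫ X.presheaf.map (homOfLE hle).op) ≫ _ = _
    rw [Category.assoc, X.presheaf.germ_res]
  let q := (hV.primeIdealOf ⟨x, hxV⟩).asIdeal
  have : IsLocalization.AtPrime (X.presheaf.stalk x) q := hV.isLocalization_stalk ⟨x, hxV⟩
  have : IsLocalization.AtPrime (Y.presheaf.stalk (f x)) (q.comap (algebraMap Γ(Y, U) Γ(X, V))) := by
    have hp : q.comap (algebraMap Γ(Y, U) Γ(X, V)) = (hU.primeIdealOf ⟨f x, hxU⟩).asIdeal :=
      congrArg PrimeSpectrum.asIdeal (IsAffineOpen.comap_primeIdealOf_appLE U hU V hV hle hxV)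
    simpa only [hp] using hU.isLocalization_stalk ⟨f x, hxU⟩
  exact isEssentiallyEtale_of_atPrime (A := Γ(Y, U)) q _ _

end Groth.Agent.Lib.AlgSpDecent.EtaleStalk
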