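import Groth.Agent.Lib.AlgSpVal.Existence
import Groth.Agent.Lib.AlgSpDecent.Decent

/-!
Universally closed decent morphisms satisfy the existence criterion.
-/

universe u

open CategoryTheory CategoryTheory.Limits AlgebraicGeometry IsLocalRing
open AlgSp Groth.Agent.Lib.AlgSpace Groth.Agent.Lib.AlgSpMor Groth.Agent.Lib.AlgSpVal

namespace Groth.Agent.Lib.AlgSpDecent.ExistVC

variable {S : Scheme.{u}}

/-- Universally closed decent morphisms satisfy the existence criterion. -/
theorem existVC_of_decent {F G : Sp S} (hF : IsAlgSpace F) (hG : IsAlgSpace G)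
    {f : F ⟶ G} (hd : IsDecentMor f) (hc : IsUnivClosedMor f) : ExistVC f := by
  intro sq
  have sqP := IsPullback.of_hasPullback f sq.bot
  have hP : IsAlgSpace (pullback f sq.bot) :=
    isAlgSpace_of_isPullback sqP hG.diag hF (IsAlgSpace.yon_obj sq.ptA)
  haveI : IsAffine sq.ptA.left := inferInstanceAs (IsAffine (Spec _))
  haveI : IsAffine sq.ptK.left := inferInstanceAs (IsAffine (Spec _))
  haveI : Subsingleton ↥sq.ptK.left := inferInstanceAs (Subsingleton (PrimeSpectrum sq.K))
  obtain ⟨s, hs₁, hs₂⟩ : ∃ s, s ≫ pullback.fst f sq.bot = sq.top ∧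
      s ≫ pullback.snd f sq.bot = (yon S).map sq.j :=
    ⟨sqP.lift _ _ sq.comm, sqP.lift_fst _ _ _, sqP.lift_snd _ _ _⟩
  -- a point over the closed point in the closure of the given one
  have hcl : IsClosed (Points.map (pullback.snd f sq.bot) ''
      closure {Points.ofPt s (closedPoint sq.K)}) :=
    Proper.isClosedMap_of_isUnivClosedMor (IsAlgSpace.yon_obj sq.ptA)
      (Proper.univSp_baseChange sqP hc) _ isClosed_closure
  obtain ⟨z, hz, hzπ⟩ : Points.schemeHomeo sq.ptA (closedPoint sq.A) ∈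
      Points.map (pullback.snd f sq.bot) '' closure {Points.ofPt s (closedPoint sq.K)} := by
    refine Specializes.mem_closed ?_ hcl
      ⟨Points.ofPt s (closedPoint sq.K), subset_closure rfl, rfl⟩
    rw [Points.map_ofPt, hs₂, ← Category.comp_id ((yon S).map sq.j), ofPt_yon_map_comp]
    exact ((specializes_closedPoint (R := sq.A) (sq.j.left (closedPoint sq.K))).map
      (Points.continuous_ofPt (𝟙 ((yon S).obj sq.ptA))))
  obtain ⟨V, p, hp, hps⟩ := hP.atlas
  obtain ⟨v, rfl⟩ := surjective_ofPt hps z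
  obtain ⟨O, hO, hvO, -⟩ := exists_isAffineOpen_mem_and_subset (x := v) (U := ⊤) trivial
  let U : Over S := Over.mk (O.ι ≫ V.hom)
  let ι : U ⟶ V := Over.homMk O.ι rfl
  haveI : IsAffine U.left := hO
  have hq : RepWith @Etale ((yon S).map ι ≫ p) :=
    repWith_yon_map_comp (P := @Etale) (inferInstanceAs (Etale O.ι)) hp
  let u' : U.left := (⟨v, hvO⟩ : O)
  have hqu : Points.ofPt ((yon S).map ι ≫ p) u' = Points.ofPt p v := by rw [ofPt_yon_map_comp]; rfl
  have hdP : IsDecent (pullback f sq.bot) := hd sq.bot _ _ sqP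
  obtain ⟨u'', hu'', he''⟩ := AlgSpDecent.Decent.IsDecent.exists_lift hdP hq (x' := Points.ofPt s (closedPoint sq.K)) (u := u') (by
    rw [hqu]; exact specializes_iff_mem_closure.2 hz)
  obtain ⟨W, a, b, sqW⟩ := exists_isPullback_yon hP.diag ((yon S).map ι ≫ p) s
  obtain ⟨w, hw', -⟩ := AlgSpDecent.Core.exists_point_of_scheme_isPullback sqW u'' (closedPoint sq.K) he''
  have hw : a.left w ⤳ u' := hw'.symm ▸ hu''
  obtain ⟨e, -, he⟩ := exists_domExt_of_chart sq hs₁ hs₂ hq sqW (by rw [hqu]; exact hzπ) hw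
  exact ⟨e, he⟩

end Groth.Agent.Lib.AlgSpDecent.ExistVC
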