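import Mathlib.FieldTheory.IsAlgClosed.Classification
import Mathlib.RingTheory.AlgebraicIndependent.Adjoin
import Mathlib.RingTheory.AlgebraicIndependent.TranscendenceBasis

/-!
Embeddings into large algebraically closed fields.
-/

universe u

open Cardinal

namespace Groth.Agent.Lib.AlgSpDecent.ExtendEmbedding

/-- A field embedding extends to an extension of cardinality smaller than the algebraically closed target. -/
theorem exists_extension {F K k : Type u} [Field F] [Field K] [Field k] [IsAlgClosed k]
    [Algebra F K] [Algebra F k] (h : #K < #k) : Nonempty (K →ₐ[F] k) := by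
  cases finite_or_infinite K with
  | inl hK =>
    have : Module.Finite F K := Module.Finite.of_finite
    exact ⟨IsAlgClosed.lift⟩
  | inr hK =>
    obtain ⟨s, hs⟩ := exists_isTranscendenceBasis F K
    obtain ⟨t, ht⟩ := exists_isTranscendenceBasis F k
    have h1 : #F ≤ #K := mk_le_of_injective (algebraMap F K).injective
    have hk := IsAlgClosed.cardinal_le_max_transcendence_basis' _ ht
    have hst : #s < #t := by
      have hs' : #s ≤ #K := mk_le_of_injective Subtype.val_injective
      have hK0 : ℵ₀ ≤ #K := aleph0_le_mk K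
      refine hs'.trans_lt (lt_of_not_ge fun hle => ?_)
      exact absurd (hk.trans (max_le (max_le h1 hle) hK0)) (not_le_of_gt h)
    obtain ⟨e⟩ : Nonempty (s ↪ t) := (Cardinal.le_def _ _).1 hst.le
    have hte := ht.1.comp e e.injective
    let L := IntermediateField.adjoin F (Set.range ((↑) : s → K))
    let ψ : ↥L →ₐ[F] k :=
      (IsFractionRing.liftAlgHom (K := FractionRing (MvPolynomial s F))
        (algebraicIndependent_iff_injective_aeval.1 hte)).comp hs.1.aevalEquivField.symm.toAlgHom
    let _ : Algebra ↥L k := ψ.toAlgebra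
    have : IsScalarTower F ↥L k := IsScalarTower.of_algebraMap_eq fun x => (ψ.commutes x).symm
    have : Algebra.IsAlgebraic ↥L K := hs.isAlgebraic_field
    exact ⟨(IsAlgClosed.lift : K →ₐ[↥L] k).restrictScalars F⟩

theorem mk_lt_of_finite {F K : Type u} [Field F] [Field K] (φ : F →+* K) (hφ : φ.Finite)
    {k : Type u} [Field k] [Infinite k] (h : #F < #k) : #K < #k := by
  let _ := φ.toAlgebra
  have : Module.Finite F K := hφ
  obtain ⟨n, π, hπ⟩ := Module.Finite.exists_fin' F K
  refine (mk_le_of_surjective hπ).trans_lt ?_
  rw [mk_arrow, mk_fin, Cardinal.lift_natCast, Cardinal.lift_uzero, power_natCast]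
  rcases lt_or_ge (#F) ℵ₀ with h1 | h1
  · exact (power_lt_aleph0 h1 (natCast_lt_aleph0)).trans_le (aleph0_le_mk k)
  · exact (pow_le h1 (natCast_lt_aleph0)).trans_lt h

end Groth.Agent.Lib.AlgSpDecent.ExtendEmbedding
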