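import Groth.Agent.Lib.AlgSpDecent.PointRel
import Mathlib.RingTheory.LocalRing.ResidueField.Ideal
import Mathlib.AlgebraicGeometry.ResidueField
import Groth.Agent.S7179

/-!
Maps from reduced spaces with image a point factor through the monomorphic point.
-/

universe u

open CategoryTheory CategoryTheory.Limits AlgebraicGeometry Opposite Topology

namespace Groth.Agent.Lib.AlgSpDecent.Factor

open AlgSp Core Fibre Specialize Decent

/-- A map from a reduced scheme to an affine scheme with image a point, on rings. -/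
theorem exists_factor_spec {A : CommRingCat.{u}} {W : Scheme.{u}} [IsAffine W] [IsReduced W]
    (g : W ⟶ Spec A) (x : Spec A) (hg : ∀ w, g w = x) :
    ∃ h : W ⟶ Spec ((Spec A).residueField x), h ≫ (Spec A).fromSpecResidueField x = g := by
  let φ : A ⟶ Γ(W, ⊤) := Spec.preimage (W.isoSpec.inv ≫ g)
  have hφ : Spec.map φ = W.isoSpec.inv ≫ g := Spec.map_preimage _
  have hpt : ∀ P : PrimeSpectrum Γ(W, ⊤), P.asIdeal.comap φ.hom = x.asIdeal := fun P => by
    have h1 : Spec.map φ P = x := by rw [hφ]; exact hg _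
    exact congrArg PrimeSpectrum.asIdeal h1
  have h₁ : x.asIdeal ≤ RingHom.ker φ.hom := fun a ha => by
    rw [RingHom.mem_ker]
    refine IsNilpotent.eq_zero (mem_nilradical.1 ?_)
    rw [nilradical_eq_sInf, Submodule.mem_sInf]
    intro J hJ
    exact (hpt ⟨J, hJ⟩).ge ha
  have h₂ : x.asIdeal.primeCompl ≤ (IsUnit.submonoid Γ(W, ⊤)).comap φ.hom := fun a ha => by
    show IsUnit (φ.hom a)
    by_contra hu
    obtain ⟨m, hm, ham⟩ := exists_max_ideal_of_mem_nonunits (mem_nonunits_iff.2 hu)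
    exact ha ((hpt ⟨m, hm.isPrime⟩).le ham)
  let ψ : CommRingCat.of x.asIdeal.ResidueField ⟶ Γ(W, ⊤) :=
    CommRingCat.ofHom (Ideal.ResidueField.lift x.asIdeal φ.hom h₁ h₂)
  have hψ : CommRingCat.ofHom (algebraMap A x.asIdeal.ResidueField) ≫ ψ = φ := by
    ext a
    exact Ideal.ResidueField.lift_algebraMap _ _ h₁ h₂ a
  refine ⟨W.isoSpec.hom ≫ Spec.map ψ ≫ Spec.map (Scheme.Spec.residueFieldIso A x).hom, ?_⟩
  rw [← Scheme.Spec.map_residueFieldIso_inv_eq_fromSpecResidueField, Category.assoc, Category.assoc,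
    ← Spec.map_comp_assoc (Scheme.Spec.residueFieldIso A x).inv, Iso.inv_hom_id, Spec.map_id, Category.id_comp, ← Spec.map_comp, hψ, hφ,
    Iso.hom_inv_id_assoc]

/-- A map from a reduced affine scheme with image a point. -/
theorem exists_factor {X W : Scheme.{u}} [IsAffine W] [IsReduced W] (g : W ⟶ X) (u : X)
    (hg : ∀ w, g w = u) :
    ∃ h : W ⟶ Spec (X.residueField u), h ≫ X.fromSpecResidueField u = g := by
  obtain ⟨_, ⟨U₀, hU₀, rfl⟩, huU, -⟩ := X.isBasis_affineOpens.exists_subset_of_mem_open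
    (Set.mem_univ u) isOpen_univ
  change X.Opens at U₀
  have : IsAffine (U₀ : Scheme.{u}) := hU₀
  let k := (U₀ : Scheme.{u}).isoSpec.inv ≫ U₀.ι
  obtain ⟨x, hx⟩ : ∃ x, k x = u := by
    refine ⟨(U₀ : Scheme.{u}).isoSpec.hom ⟨u, huU⟩, ?_⟩
    rw [← Scheme.Hom.comp_apply, Iso.hom_inv_id_assoc]
    rfl
  have hsub : Set.range g ⊆ Set.range k := by
    rintro _ ⟨w, rfl⟩
    rw [hg]; exact ⟨x, hx⟩
  let g₁ := IsOpenImmersion.lift k g hsub
  have hg₁ : g₁ ≫ k = g := IsOpenImmersion.lift_fac _ _ _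
  obtain ⟨h, hh⟩ := exists_factor_spec g₁ x (fun w => by
    apply k.isOpenEmbedding.injective
    rw [← Scheme.Hom.comp_apply, hg₁, hg, hx])
  subst hx
  refine ⟨h ≫ Spec.map (k.residueFieldMap x), ?_⟩
  rw [Category.assoc, Scheme.Hom.SpecMap_residueFieldMap_fromSpecResidueField, reassoc_of% hh, hg₁]

variable {S : Scheme.{u}}

/-- Factorisations through monomorphisms descend along locally surjective maps. -/
theorem exists_descend {F G Z X : Sp S} (e : F ⟶ G) [Sheaf.IsLocallySurjective e] (m : Z ⟶ X)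
    [Mono m] (k : G ⟶ X) (g : F ⟶ Z) (h : g ≫ m = e ≫ k) : ∃ l, l ≫ m = k := by
  obtain ⟨l, hl⟩ := AlgSpace.exists_desc e (IsPullback.of_hasPullback e e) g (by
    rw [← cancel_mono m, Category.assoc, Category.assoc, h, pullback.condition_assoc])
  refine ⟨l, ?_⟩
  have : Epi e := inferInstance
  rw [← cancel_epi e, reassoc_of% hl, h]

/-- A map from a reduced space with image the class of a quasi-compact monomorphic point factors
through it. -/
theorem exists_factor_point {X Y : Sp S} (hX : IsAlgSpace X) (f : Y ⟶ X)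
    (p : FieldPt X) [Mono p.toHom] (hq : RepWith @QuasiCompact p.toHom)
    (hY : EtaleLocally (fun U => IsReduced U) Y)
    (hf : ∀ y : Points Y, Points.map f y = Points.mk p) :
    ∃ g : Y ⟶ (yon S).obj p.pt, g ≫ p.toHom = f := by
  obtain ⟨V, b, hb, hbs, hV⟩ := hY
  obtain ⟨U, a, ha, hs⟩ := hX.atlas
  have hp := representable_toHom hX p
  have hbfs : ∀ v, Points.ofPt (b ≫ f) v = Points.mk p := fun v => by rw [ofPt_comp]; exact hf _
  let V' := ha.rep.pullback (b ≫ f)
  let π : V' ⟶ V := ha.rep.snd (b ≫ f)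
  let s : V' ⟶ U := ha.rep.fst' (b ≫ f)
  have sq := ha.rep.isPullback' (b ≫ f)
  have hπe : Etale π.left := ha.property_snd (b ≫ f)
  have hπs : Surjective π.left := hs.property (b ≫ f) _ _ sq
  have hV'r : IsReduced V'.left := Groth.Agent.S7179.result π.left
  have hfib : ∀ z, Points.ofPt a (s.left z) = Points.mk p := fun z =>
    (ofPt_eq_of_scheme_isPullback sq.w _ rfl z).trans (hbfs _)
  have hspec : ∀ (u u' : ↥U.left), Points.ofPt a u = Points.mk p → Points.ofPt a u' = Points.mk p →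
      u' ⤳ u → u = u' := fun u u' hu hu' h => Specialize.eq_of_specializes
    (Specialize.finite_fibres_of_qc_point ⟨p, rfl, hq⟩) ha hu hu' h
  have key : ∀ z : ↥V'.left, ∃ N : V'.left.Opens, z ∈ N ∧ IsAffineOpen N ∧
      ∀ w ∈ N, s.left w = s.left z := by
    intro z
    obtain ⟨_, ⟨W, hW, rfl⟩, hzW, -⟩ := U.left.isBasis_affineOpens.exists_subset_of_mem_open
      (Set.mem_univ (s.left z)) isOpen_univ
    change U.left.Opens at W
    let T := {u : ↥U.left | u ∈ W ∧ Points.ofPt a u = Points.mk p ∧ u ≠ s.left z}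
    have hTfin : T.Finite := by
      refine (((Specialize.finite_fibres_of_qc_point ⟨p, rfl, hq⟩) (Over.mk (W.ι ≫ U.hom))
        ((yon S).map (openIncl W) ≫ a) hW (repWith_etale_openIncl_comp W ha)).image
        (fun w : W => w.1)).subset ?_
      rintro u ⟨huW, hu, -⟩
      exact ⟨⟨u, huW⟩, (ofPt_openIncl_comp W a ⟨u, huW⟩).trans hu, rfl⟩
    have hnot : s.left z ∉ closure T := by
      rw [← Set.biUnion_of_singleton T, hTfin.closure_biUnion]
      intro h
      obtain ⟨y, hy, hzy⟩ := Set.mem_iUnion₂.1 h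
      exact hy.2.2 (hspec _ _ (hfib z) hy.2.1 (specializes_iff_mem_closure.2 hzy)).symm
    obtain ⟨_, ⟨N, hN, rfl⟩, hzN, hNsub⟩ := V'.left.isBasis_affineOpens.exists_subset_of_mem_open
      (show z ∈ s.left ⁻¹' ((W : Set ↥U.left) ∩ (closure T)ᶜ) from ⟨hzW, hnot⟩)
      ((W.isOpen.inter isClosed_closure.isOpen_compl).preimage s.left.continuous)
    change V'.left.Opens at N
    refine ⟨N, hzN, hN, fun w hw => ?_⟩
    by_contra hne
    exact (hNsub hw).2 (subset_closure ⟨(hNsub hw).1, hfib w, hne⟩)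
  choose N hzN hN hconst using key
  have hloc : ∀ z, ∃ c : Over.mk ((N z).ι ≫ V'.hom) ⟶ p.pt,
      (yon S).map c ≫ p.toHom = (yon S).map (openIncl (N z)) ≫ (yon S).map π ≫ b ≫ f := by
    intro z
    have : IsAffine (Over.mk ((N z).ι ≫ V'.hom)).left := hN z
    have : IsReduced (Over.mk ((N z).ι ≫ V'.hom)).left := isReduced_of_isOpenImmersion (N z).ι
    have : IsAffine ((N z) : Scheme.{u}) := hN z
    obtain ⟨h, hh⟩ := exists_factor ((N z).ι ≫ s.left) (s.left z) (fun w => hconst z _ w.2)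
    obtain ⟨c, hc, -⟩ := existsUnique_factor hp (q := FieldPt.ofPt a (s.left z)) (hfib z).symm
    change (yon S).map c ≫ p.toHom = _ at hc
    let h' : Over.mk ((N z).ι ≫ V'.hom) ⟶ (FieldPt.ofPt a (s.left z)).pt := Over.homMk h (by
      show h ≫ U.left.fromSpecResidueField _ ≫ U.hom = (N z).ι ≫ V'.hom
      rw [reassoc_of% hh, Over.w s])
    have hh' : h' ≫ PointRel.incl (s.left z) a = openIncl (N z) ≫ s :=
      Over.OverMorphism.ext hh
    refine ⟨h' ≫ c, ?_⟩
    rw [← sq.w, Functor.map_comp, Category.assoc, hc, PointRel.incl_comp, ← Category.assoc,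
      ← Functor.map_comp, hh', Functor.map_comp, Category.assoc]
  choose c hc using hloc
  have hJ : Sieve.ofArrows _ (fun z => openIncl (N z)) ∈ AlgSp.J S V' :=
    AlgSpace.ofArrows_mem_J _ _ (fun z => inferInstanceAs (Flat (N z).ι))
      (fun z => inferInstanceAs (LocallyOfFinitePresentation (N z).ι))
      (fun x => ⟨x, ⟨x, hzN x⟩, rfl⟩)
  obtain ⟨g₀, hg₀, -⟩ := AlgSpace.exists_desc_of_family _ _ hJ (fun z => (yon S).map (c z))
    (fun i j W gi gj e => by
      rw [← cancel_mono p.toHom]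
      simp only [Category.assoc, hc]
      simp only [← Category.assoc, ← Functor.map_comp]
      rw [e])
  have hg₀' : g₀ ≫ p.toHom = (yon S).map π ≫ b ≫ f :=
    AlgSpace.hom_ext_of_family _ _ hJ fun z => by rw [reassoc_of% hg₀ z, hc z]
  have := AlgSpace.isLocallySurjective_of_etale hb hbs
  have : Sheaf.IsLocallySurjective ((yon S).map π) :=
    AlgSpace.isLocallySurjective_of_etale ((repWith_yon_map_iff _ _).2 hπe)
      ((repWith_yon_map_iff _ _).2 hπs)
  obtain ⟨g₁, hg₁⟩ := exists_descend ((yon S).map π) p.toHom (b ≫ f) g₀ hg₀'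
  exact ⟨_, (exists_descend b p.toHom f g₁ hg₁).choose_spec⟩

end Groth.Agent.Lib.AlgSpDecent.Factor
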