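import Groth.Agent.Lib.AlgSpDecent.ClosedPoint
import Groth.Agent.Lib.AlgSpMor.LocP

/-!
Quasi-compact monomorphic points: charts are preimmersions and fibres are embedded.
-/

universe u

open CategoryTheory CategoryTheory.Limits AlgebraicGeometry Opposite Topology

namespace Groth.Agent.Lib.AlgSpDecent.PointEmbedding

open AlgSp Core Fibre Specialize Decent ClosedPoint

variable {S : Scheme.{u}} {F : Sp S}

/-- The pullback of a quasi-compact monomorphic point to an etale chart is a preimmersion. -/
theorem isPreimmersion_fst (hA : IsAlgSpace F) (p : FieldPt F) [Mono p.toHom]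
    (hq : RepWith @QuasiCompact p.toHom) {U : Over S} {a : (yon S).obj U ⟶ F} (ha : RepWith @Etale a) :
    IsPreimmersion (ha.rep.fst' p.toHom).left := by
  have hp := representable_toHom hA p
  let E := ha.rep.pullback p.toHom
  let π : E ⟶ p.pt := ha.rep.snd p.toHom
  let f : E ⟶ U := ha.rep.fst' p.toHom
  have hfin := finite_fibres_of_qc_point (x := Points.mk p) ⟨p, rfl, hq⟩
  have : DiscreteTopology ↥E.left := discreteTopology_pullback p ha
  have : Etale π.left := etale_snd p ha
  have hfm : Mono f.left := mono_fst p ha.rep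
  have hrange : Set.range f.left = Points.ofPt a ⁻¹' {Points.mk p} := range_fst p ha.rep
  have hfib : ∀ e, Points.ofPt a (f.left e) = Points.mk p := fun e => hrange.le ⟨e, rfl⟩
  have : SurjectiveOnStalks f.left := by
    refine ⟨fun e y => ?_⟩
    let u := f.left e
    obtain ⟨c, hc, -⟩ := existsUnique_factor hp (q := FieldPt.ofPt a u) (hfib e).symm
    change (yon S).map c ≫ p.toHom = _ at hc
    let i : (FieldPt.ofPt a u).pt ⟶ U := Over.homMk (U.left.fromSpecResidueField u) rfl
    have hw : (yon S).map i ≫ a = (yon S).map c ≫ p.toHom := by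
      rw [hc, FieldPt.toHom_ofPt]
    let g := ha.rep.lift' (g := p.toHom) i c hw
    have hg : g ≫ f = i := ha.rep.lift'_fst (g := p.toHom) i c hw
    obtain ⟨t⟩ := Core.nonempty_pt (FieldPt.ofPt a u)
    have hit : i.left t = u := by
      have : i.left t ∈ Set.range (U.left.fromSpecResidueField u) := ⟨t, rfl⟩
      rw [Scheme.range_fromSpecResidueField] at this
      exact this
    have hgt : g.left t = e := by
      apply f.left.injective
      have := congrArg (fun m : (FieldPt.ofPt a u).pt ⟶ U => m.left t) hg
      exact this.trans hit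
    have hfield : IsField (E.left.presheaf.stalk e) :=
      isField_stalk_of_etale (k := p.K) π.left _
    have hsurj : SurjectiveOnStalks (g.left ≫ f.left) := by
      rw [← Over.comp_left, hg]
      exact inferInstanceAs (SurjectiveOnStalks (U.left.fromSpecResidueField u))
    exact surjective_stalkMap_of_comp f.left g.left t e hgt hfield y
  have hemb : IsEmbedding f.left := by
    refine ⟨isInducing_iff_nhds.2 fun e => ?_, f.left.injective⟩
    rw [nhds_discrete]
    refine le_antisymm ?_ ?_
    · rw [← Filter.map_le_iff_le_comap, Filter.map_pure]; exact pure_le_nhds _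
    · rw [Filter.le_pure_iff, Filter.mem_comap]
      obtain ⟨_, ⟨W, hW, rfl⟩, heW, -⟩ := U.left.isBasis_affineOpens.exists_subset_of_mem_open
        (Set.mem_univ (f.left e)) isOpen_univ
      change U.left.Opens at W
      let T := {u : ↥U.left | u ∈ W ∧ u ∈ Set.range f.left ∧ u ≠ f.left e}
      have hTfin : T.Finite := by
        refine ((hfin (Over.mk (W.ι ≫ U.hom)) ((yon S).map (openIncl W) ≫ a) hW
          (repWith_etale_openIncl_comp W ha)).image (fun w : W => w.1)).subset ?_
        rintro u ⟨huW, ⟨e', rfl⟩, -⟩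
        exact ⟨⟨f.left e', huW⟩,
          (ofPt_openIncl_comp W a ⟨f.left e', huW⟩).trans (hfib e'), rfl⟩
      have hnot : f.left e ∉ closure T := by
        intro hz
        rw [← Set.biUnion_of_singleton T, hTfin.closure_biUnion] at hz
        obtain ⟨y, hy, hz⟩ := Set.mem_iUnion₂.1 hz
        obtain ⟨e'', rfl⟩ := hy.2.1
        exact hy.2.2 (Specialize.eq_of_specializes hfin ha (hfib e) (hfib e'')
          (specializes_iff_mem_closure.2 hz)).symm
      refine ⟨(W : Set ↥U.left) ∩ (closure T)ᶜ,
        (W.isOpen.inter isClosed_closure.isOpen_compl).mem_nhds ⟨heW, hnot⟩, ?_⟩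
      rintro e' ⟨h1, h2⟩
      by_contra hne
      exact h2 (subset_closure ⟨h1, ⟨e', rfl⟩, fun h => hne (f.left.injective h)⟩)
  exact { ‹SurjectiveOnStalks f.left› with isEmbedding := hemb }

/-- The fibre over a quasi-compact monomorphic point is embedded in the points of the source. -/
theorem isEmbedding_fibre {X Y : Sp S} (hX : IsAlgSpace X) (hY : IsAlgSpace Y) {f : X ⟶ Y}
    (p : FieldPt Y) [Mono p.toHom] (hq : RepWith @QuasiCompact p.toHom) {P : Sp S} {fst : P ⟶ X}
    {snd : P ⟶ (yon S).obj p.pt} (hsq : IsPullback fst snd f p.toHom) :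
    IsEmbedding (Points.map fst) := by
  have : Mono fst := hsq.mono_fst_of_mono inferInstance
  refine ⟨⟨TopologicalSpace.ext_iff.2 fun O => ⟨fun hO => ?_, fun ⟨O', hO', e⟩ => e ▸ hO'.preimage (Points.continuous_map fst)⟩⟩,
    Core.injective_map_of_mono fst⟩
  obtain ⟨U, V, a, b, h, ha, has, hb, -, hw⟩ := AlgSpMor.LocP.exists_chart hX hY f
  let E := hb.rep.pullback p.toHom
  let jE : E ⟶ V := hb.rep.fst' p.toHom
  have : IsPreimmersion jE.left := isPreimmersion_fst hY p hq hb
  have sqT := (IsPullback.of_hasPullback h jE).map (yon S)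
  have sqUk := (sqT.flip.paste_horiz (hb.rep.isPullback' p.toHom).flip).flip
  let c : (yon S).obj (pullback h jE) ⟶ P := hsq.lift ((yon S).map (pullback.fst h jE) ≫ a)
    ((yon S).map (pullback.snd h jE) ≫ (yon S).map (hb.rep.snd p.toHom))
    (by rw [Category.assoc, hw]; exact sqUk.w)
  have sqc : IsPullback ((yon S).map (pullback.fst h jE)) c a fst := by
    refine (IsPullback.of_right ?_ (hsq.lift_fst _ _ _) hsq.flip).flip
    rw [hsq.lift_snd, hw]
    exact sqUk.flip
  have hje : IsEmbedding (pullback.fst h jE).left := by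
    have : IsPreimmersion (pullback.fst h jE).left := MorphismProperty.of_isPullback (P := @IsPreimmersion)
      ((IsPullback.of_hasPullback h jE).map (Over.forget S)).flip ‹_›
    exact (pullback.fst h jE).left.isEmbedding
  obtain ⟨W, hW, hWO⟩ := hje.isInducing.isOpen_iff.1 (hO.preimage (Points.continuous_ofPt c))
  refine ⟨Points.ofPt a '' W, Core.isOpenMap_ofPt ha W hW, ?_⟩
  ext z
  have key : ∀ u, Points.ofPt a u = Points.map fst z →
      ∃ t, (pullback.fst h jE).left t = u ∧ Points.ofPt c t = z := by
    intro u hu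
    obtain ⟨t', ht₁, ht₂⟩ := Core.exists_point_of_isPullback sqc
      (Points.ofPt (𝟙 ((yon S).obj U)) u) z (by rw [← Core.ofPt_comp, Category.id_comp, hu])
    obtain ⟨t, rfl⟩ := (Points.schemeEquiv _).surjective t'
    refine ⟨t, ?_, ?_⟩
    · apply (Points.schemeEquiv U).injective
      simp only [Points.schemeEquiv]
      refine (Core.ofPt_yon_map (pullback.fst h jE) t).symm.trans ?_
      rw [← Category.id_comp ((yon S).map (pullback.fst h jE)), Core.ofPt_comp]
      exact ht₁.trans ((congrArg (fun φ => Points.ofPt φ u) ((yon S).map_id U).symm).trans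
        (Core.ofPt_yon_map (𝟙 U) u))
    · rw [← ht₂, ← Category.id_comp c, Core.ofPt_comp]
      rfl
  constructor
  · rintro ⟨u, hu, he⟩
    obtain ⟨t, rfl, rfl⟩ := key u he
    exact hWO.le hu
  · intro hz
    obtain ⟨u, hu⟩ := Core.surjective_ofPt has (Points.map fst z)
    obtain ⟨t, rfl, rfl⟩ := key u hu
    exact ⟨_, hWO.ge hz, hu⟩

end Groth.Agent.Lib.AlgSpDecent.PointEmbedding
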