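import Groth.Agent.Lib.AlgSpDecent.FibreDimPts
import Groth.Agent.Lib.AlgSpDecent.IsolatedPt
import Groth.Agent.Lib.AlgSpDecent.PointEmbedding
import Groth.Agent.Lib.AlgSpDecent.DimDecent
import Groth.Agent.Lib.AlgSpDecent.Decent
import Groth.Agent.Lib.AlgSpDecent.FiniteNhd

/-!
Isolated points of fibres of morphisms locally of finite type of algebraic spaces.
-/

universe u

open CategoryTheory CategoryTheory.Limits AlgebraicGeometry Opposite Topology TopologicalSpace

namespace Groth.Agent.Lib.AlgSpDecent.FibreQf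

open AlgSp Groth.Agent.Lib.AlgSpace Core RelDim

variable {S : Scheme.{u}} {X Y : Sp S} {f : X ⟶ Y} {k : FieldPt Y} {Xk : Sp S} {fst : Xk ⟶ X}
  {snd : Xk ⟶ (yon S).obj k.pt}
  (hX : IsAlgSpace X) (hY : IsAlgSpace Y) (hf : LocP @LocallyOfFiniteType f)
  (sq : IsPullback fst snd f k.toHom)

include hX hY sq in
theorem isAlgSpace_fibre : IsAlgSpace Xk :=
  isAlgSpace_of_isPullback sq hY.diag hX (IsAlgSpace.yon_obj _)

include hX hY hf sq in
theorem chart {U : Over S} {a : (yon S).obj U ⟶ Xk} (ha : RepWith @Etale a) :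
    ∃ g : U ⟶ k.pt, a ≫ snd = (yon S).map g ∧ LocallyOfFiniteType g.left ∧
      IsLocallyNoetherian U.left ∧ JacobsonSpace ↥U.left := by
  have hs := AlgSpMor.LocP.locP_of_isPullback (AlgSpMor.LocP.etaleLocalST_of_list (Or.inl rfl))
    hX hY (IsAlgSpace.yon_obj _) sq hf
  obtain ⟨g, hg⟩ := (yon S).map_surjective (a ≫ snd)
  have : LocallyOfFiniteType g.left :=
    hs a (𝟙 _) g ha (AlgSp.repWith_id @Etale _) (by rw [Category.comp_id, hg])
  have : IsLocallyNoetherian k.pt.left :=
    inferInstanceAs (IsLocallyNoetherian (Spec (CommRingCat.of k.K)))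
  have : JacobsonSpace ↥k.pt.left :=
    inferInstanceAs (JacobsonSpace (PrimeSpectrum k.K))
  exact ⟨g, hg.symm, inferInstance, LocallyOfFiniteType.isLocallyNoetherian g.left,
    LocallyOfFiniteType.jacobsonSpace g.left⟩

include hX hY hf sq in
theorem isLocNoethSp_fibre : IsLocNoethSp Xk := by
  obtain ⟨U, a, ha, hs⟩ := (isAlgSpace_fibre hX hY sq).atlas
  obtain ⟨_, -, -, hU, -⟩ := chart hX hY hf sq ha
  exact ⟨U, a, ha, hs, hU⟩

include hX hY hf sq in
/-- An isolated point pulls back to open and closed points of the charts. -/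
theorem isOpen_isClosed_chart {U : Over S} {a : (yon S).obj U ⟶ Xk} (ha : RepWith @Etale a)
    {u : ↥U.left} (hx : IsOpen ({Points.ofPt a u} : Set (Points Xk))) :
    IsOpen ({u} : Set ↥U.left) ∧ IsClosed ({u} : Set ↥U.left) := by
  obtain ⟨_, -, -, hN, hJ⟩ := chart hX hY hf sq ha
  have hLN := isLocNoethSp_fibre hX hY hf sq
  have hP : IsOpen (Points.ofPt a ⁻¹' {Points.ofPt a u}) := hx.preimage (Points.continuous_ofPt a)
  have hclosed : ∀ v, Points.ofPt a v = Points.ofPt a u → IsClosed ({v} : Set ↥U.left) := by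
    intro v hv
    have hne : (closure ({v} : Set ↥U.left) ∩ Points.ofPt a ⁻¹' {Points.ofPt a u}).Nonempty :=
      ⟨v, subset_closure rfl, hv⟩
    obtain ⟨c, ⟨hcv, hcP⟩, hcc⟩ := nonempty_inter_closedPoints hne
      (isClosed_closure.isLocallyClosed.inter hP.isLocallyClosed)
    have : c = v := LocNoeth.eq_of_specializes_locNoeth hLN ha (hcP.trans hv.symm)
      (specializes_iff_mem_closure.2 hcv)
    exact this ▸ hcc
  have hcl := hclosed u rfl
  refine ⟨IsolatedPt.isOpen_singleton_of_extremal (fun y hy => ?_) (fun y hy => ?_), hcl⟩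
  · have hyP : y ∈ Points.ofPt a ⁻¹' {Points.ofPt a u} := hy.mem_open hP rfl
    exact (LocNoeth.eq_of_specializes_locNoeth hLN ha hyP.symm hy).symm
  · exact (hcl.closure_subset (specializes_iff_mem_closure.1 hy) : y = u)

include hX hY hf sq in
/-- Isolated points are the closed points without proper generizations. -/
theorem isOpen_iff_extremal (z : Points Xk) :
    IsOpen ({z} : Set (Points Xk)) ↔
      IsClosed ({z} : Set (Points Xk)) ∧ ∀ z' : Points Xk, z' ⤳ z → z' = z := by
  obtain ⟨U, a, ha, has⟩ := (isAlgSpace_fibre hX hY sq).atlas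
  obtain ⟨_, -, -, hN, -⟩ := chart hX hY hf sq ha
  have hLN := isLocNoethSp_fibre hX hY hf sq
  constructor
  · intro hz
    refine ⟨?_, fun z' h => h.mem_open hz rfl⟩
    have hpt : ∀ v, Points.ofPt a v = z → IsClosed ({v} : Set ↥U.left) ∧ IsOpen ({v} : Set ↥U.left) :=
      fun v hv => (isOpen_isClosed_chart hX hY hf sq ha (u := v) (hv.symm ▸ hz)).symm
    rw [← isOpen_compl_iff, Core.isOpen_iff_chart ha has, Set.preimage_compl, isOpen_compl_iff,
      ← isOpen_compl_iff, isOpen_iff_forall_mem_open]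
    intro y hy
    obtain ⟨_, ⟨V, hV, rfl⟩, hyV, -⟩ := U.left.isBasis_affineOpens.exists_subset_of_mem_open
      (Set.mem_univ y) isOpen_univ
    change U.left.Opens at V
    have : IsNoetherianRing Γ(U.left, V) := IsLocallyNoetherian.component_noetherian ⟨V, hV⟩
    have : NoetherianSpace ↥(V : Scheme.{u}) := noetherianSpace_of_isAffineOpen V hV
    let P : Set ↥(V : Scheme.{u}) := V.ι ⁻¹' (Points.ofPt a ⁻¹' {z})
    have : DiscreteTopology ↥P := by
      refine discreteTopology_iff_isOpen_singleton.2 fun p => ?_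
      have h1 := ((hpt (V.ι p.1) p.2).2.preimage V.ι.continuous).preimage
        (continuous_subtype_val (p := (· ∈ P)))
      convert h1 using 1
      ext q
      exact ⟨fun h => by rw [h]; rfl, fun h => Subtype.ext (V.ι.isOpenEmbedding.injective h)⟩
    have hfin : P.Finite :=
      (NoetherianSpace.isCompact P).finite (isDiscrete_iff_discreteTopology.2 this)
    have hcl : IsClosed (V.ι '' P) := by
      rw [← Set.biUnion_of_singleton (V.ι '' P)]
      refine (hfin.image _).isClosed_biUnion ?_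
      rintro _ ⟨p, hp, rfl⟩
      exact (hpt _ hp).1
    refine ⟨(V : Set ↥U.left) ∩ (V.ι '' P)ᶜ, fun w hw hwz => hw.2 ⟨⟨w, hw.1⟩, hwz, rfl⟩,
      V.isOpen.inter hcl.isOpen_compl, hyV, ?_⟩
    rintro ⟨p, hp, rfl⟩
    exact hy hp
  · rintro ⟨hcl, hgen⟩
    rw [Core.isOpen_iff_chart ha has, isOpen_iff_forall_mem_open]
    intro v hv
    refine ⟨{v}, Set.singleton_subset_iff.2 hv, IsolatedPt.isOpen_singleton_of_extremal
      (fun y hy => ?_) (fun y hy => ?_), rfl⟩
    · have h1 : y ∈ Points.ofPt a ⁻¹' {z} := hgen _ (by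
        have := hy.map (Points.continuous_ofPt a)
        rwa [show Points.ofPt a v = z from hv] at this)
      exact (LocNoeth.eq_of_specializes_locNoeth hLN ha (hv.trans h1.symm) hy).symm
    · have h1 : y ∈ Points.ofPt a ⁻¹' {z} := hcl.closure_subset (specializes_iff_mem_closure.1 (by
        have := hy.map (Points.continuous_ofPt a)
        rwa [show Points.ofPt a v = z from hv] at this))
      exact LocNoeth.eq_of_specializes_locNoeth hLN ha (h1.trans hv.symm) hy

include hX hY hf sq in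
/-- Isolated points are those where some chart has local dimension zero. -/
theorem isOpen_iff_hasAt (z : Points Xk) :
    IsOpen ({z} : Set (Points Xk)) ↔ HasAt (fun U u => FlatMor.localDim ↥U u = 0) Xk z := by
  constructor
  · intro hz
    obtain ⟨U, a, ha, has⟩ := (isAlgSpace_fibre hX hY sq).atlas
    obtain ⟨_, -, -, hN, -⟩ := chart hX hY hf sq ha
    obtain ⟨u, rfl⟩ := Core.surjective_ofPt has z
    exact ⟨U, a, u, ha, rfl,
      (IsolatedPt.localDim_eq_zero_iff u).2 (isOpen_isClosed_chart hX hY hf sq ha hz).1⟩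
  · rintro ⟨U, a, u, ha, rfl, hd⟩
    obtain ⟨_, -, -, hN, -⟩ := chart hX hY hf sq ha
    have := Core.isOpenMap_ofPt ha _ ((IsolatedPt.localDim_eq_zero_iff u).1 hd)
    rwa [Set.image_singleton] at this

include hX hY hf sq in
/-- Isolated points are those over which the morphism is quasi-finite. -/
theorem isOpen_iff_qf (z : Points Xk) :
    IsOpen ({z} : Set (Points Xk)) ↔ HasAtMor FiniteNhd.QfAt f (Points.map fst z) := by
  rw [qfAt_iff_fibreDim hX hY hf, ← fibreDim_of_isPullback hX hY (IsAlgSpace.yon_obj _) sq hf z (· = 0)]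
  have hXk := isAlgSpace_fibre hX hY sq
  have hs := AlgSpMor.LocP.locP_of_isPullback (AlgSpMor.LocP.etaleLocalST_of_list (Or.inl rfl))
    hX hY (IsAlgSpace.yon_obj _) sq hf
  have hsub : Subsingleton ↥k.pt.left := inferInstanceAs (Subsingleton (PrimeSpectrum k.K))
  obtain ⟨U, a, ha, has⟩ := hXk.atlas
  obtain ⟨g, hg, -, hN, -⟩ := chart hX hY hf sq ha
  obtain ⟨u, rfl⟩ := Core.surjective_ofPt has z
  rw [hasAtMor_fibreDim_pred hXk (IsAlgSpace.yon_obj _) hs (· = 0) ha (AlgSp.repWith_id @Etale _)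
      (show a ≫ snd = (yon S).map g ≫ 𝟙 _ by rw [Category.comp_id, hg]) u,
    FibreDimPts.fibreDimAt_eq_localDim, IsolatedPt.localDim_eq_zero_iff]
  refine ⟨fun h => (isOpen_isClosed_chart hX hY hf sq ha h).1, fun h => ?_⟩
  have := Core.isOpenMap_ofPt ha _ h
  rwa [Set.image_singleton] at this

include hX hY hf sq in
theorem localDim_iff_of_decent (hd : IsDecent Xk) (z : Points Xk) :
    FlatMor.localDim (Points Xk) z = 0 ↔ IsOpen ({z} : Set (Points Xk)) := by
  have hXk := isAlgSpace_fibre hX hY sq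
  obtain ⟨U, a, ha, has⟩ := hXk.atlas
  obtain ⟨_, -, -, hN, -⟩ := chart hX hY hf sq ha
  obtain ⟨u, rfl⟩ := Core.surjective_ofPt has z
  rw [← DimDecent.localDim_eq hXk hd ha u, IsolatedPt.localDim_eq_zero_iff]
  refine ⟨fun h => ?_, fun h => (isOpen_isClosed_chart hX hY hf sq ha h).1⟩
  have := Core.isOpenMap_ofPt ha _ h
  rwa [Set.image_singleton] at this

include hX hY hf sq in
theorem discrete_of_finite (hd : IsDecent Xk) [Finite (Points Xk)] : DiscreteTopology (Points Xk) := by
  refine discreteTopology_iff_isOpen_singleton.2 fun z => ?_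
  obtain ⟨U, a, u, hU, ha, rfl⟩ := DimIntegral.exists_affine_chart_pt (isAlgSpace_fibre hX hY sq) z
  obtain ⟨_, -, -, hN, hJ⟩ := chart hX hY hf sq ha
  have : Finite ↥U.left := by
    refine Set.finite_univ_iff.1 ((Set.finite_univ.biUnion fun y _ =>
      Decent.IsDecent.finite_fibres hd y U a hU ha).subset fun v _ => ?_)
    exact Set.mem_iUnion₂.2 ⟨_, trivial, rfl⟩
  have := Core.isOpenMap_ofPt ha _ (isOpen_discrete ({u} : Set ↥U.left))
  rwa [Set.image_singleton] at this

include sq in
theorem map_fst_mem (z : Points Xk) : Points.map f (Points.map fst z) = Points.mk k := by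
  rw [← Points.map_comp, sq.w, Points.map_comp]
  obtain ⟨w, hw⟩ := (Points.schemeEquiv k.pt).surjective (Points.map snd z)
  rw [← hw]
  show Points.map k.toHom (Points.ofScheme k.pt w) = _
  rw [Core.map_ofScheme, Points.ofPt_toHom]

include sq in
theorem range_fst : Set.range (Points.map fst) = Points.map f ⁻¹' {Points.mk k} := by
  refine subset_antisymm (fun x ⟨z, hz⟩ => hz ▸ map_fst_mem sq z) fun x hx => ?_
  obtain ⟨z, hz, -⟩ := Core.exists_point_of_isPullback sq x
    (Points.ofScheme k.pt (IsLocalRing.closedPoint k.K)) (by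
      rw [Core.map_ofScheme, Points.ofPt_toHom]; exact hx)
  exact ⟨z, hz⟩

include hX hY hf sq in
theorem discrete_iff_qf :
    DiscreteTopology (Points Xk) ↔
      ∀ x : Points X, Points.map f x = Points.mk k → HasAtMor FiniteNhd.QfAt f x := by
  rw [discreteTopology_iff_isOpen_singleton]
  constructor
  · intro h x hx
    obtain ⟨z, rfl⟩ : x ∈ Set.range (Points.map fst) := (range_fst sq).ge hx
    exact (isOpen_iff_qf hX hY hf sq z).1 (h z)
  · exact fun h z => (isOpen_iff_qf hX hY hf sq z).2 (h _ (map_fst_mem sq z))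

include hX hY hf sq in
theorem dim_eq_zero_iff_qf (hy : Points.mk k ∈ Set.range (Points.map f)) :
    AlgSp.dim Xk = 0 ↔
      ∀ x : Points X, Points.map f x = Points.mk k → HasAtMor FiniteNhd.QfAt f x := by
  have hne := mt (FibreDimPts.dim_fibre_eq_bot_iff hX hY hf sq).1 (fun h => h hy)
  constructor
  · intro h x hx
    obtain ⟨U, V, a, b, g, u, ha, hb, w, hu, hd⟩ :=
      (FibreDimPts.dim_fibre_le_iff hX hY hf sq 0).1 h.le x hx
    refine (qfAt_iff_fibreDim hX hY hf x).2 ⟨U, V, a, b, g, u, ha, hb, w, hu, ?_⟩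
    have : LocallyOfFiniteType g.left := hf a b g ha hb w
    change FlatMor.fibreDimAt g.left u ≤ 0 at hd
    show FlatMor.fibreDimAt g.left u = 0
    rw [H46.DimData.fibreDimAt_eq] at hd ⊢
    exact le_antisymm hd (WithBot.coe_le_coe.2 zero_le)
  · intro h
    refine le_antisymm ((FibreDimPts.dim_fibre_le_iff hX hY hf sq 0).2 fun x hx => ?_) ?_
    · obtain ⟨U, V, a, b, g, u, ha, hb, w, hu, hd⟩ := (qfAt_iff_fibreDim hX hY hf x).1 (h x hx)
      exact ⟨U, V, a, b, g, u, ha, hb, w, hu, hd.le⟩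
    · obtain ⟨d, hd⟩ := WithBot.ne_bot_iff_exists.1 hne
      rw [← hd]
      exact WithBot.coe_le_coe.2 zero_le

/-- A decent target gives a monomorphic model of the fibre, homeomorphic to the fibre. -/
theorem exists_model (hX : IsAlgSpace X) (hY : IsAlgSpace Y) (f : X ⟶ Y) (hd : IsDecent Y) (y : Points Y) :
    ∃ (p : FieldPt Y) (P : Sp S) (q₁ : P ⟶ X) (q₂ : P ⟶ (yon S).obj p.pt)
      (e : Points P ≃ₜ ↥(Points.map f ⁻¹' {y})), Points.mk p = y ∧ IsPullback q₁ q₂ f p.toHom ∧
      (∀ z, (e z : Points X) = Points.map q₁ z) ∧ (IsDecent X → IsDecent P) := by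
  obtain ⟨p, rfl, hm, hq⟩ := hd y
  have sq := IsPullback.of_hasPullback f p.toHom
  have hemb := PointEmbedding.isEmbedding_fibre hX hY p hq sq
  refine ⟨p, _, _, _, hemb.toHomeomorph.trans (Homeomorph.setCongr (range_fst sq)), rfl, sq,
    fun z => rfl, fun hdX => Decent.isDecent_of_representable (f := pullback.fst f p.toHom) ?_ hdX⟩
  exact (repWith_baseChange sq.flip hq).rep

end Groth.Agent.Lib.AlgSpDecent.FibreQf
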