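import Groth.Agent.Lib.AlgSpDecent.OnePointMono
import Groth.Agent.Lib.AlgSpMor.FTPoint
import Mathlib.AlgebraicGeometry.Morphisms.Flat
import Mathlib.AlgebraicGeometry.Morphisms.Affine

/-!
Local Noetherianness of fibres under extensions of the field.
-/

universe u

open CategoryTheory CategoryTheory.Limits AlgebraicGeometry Opposite Topology

namespace Groth.Agent.Lib.AlgSpDecent.FieldBC

/-- Local Noetherianness descends along affine flat surjective morphisms. -/
theorem isLocallyNoetherian_of_affine_flat_surjective {X X' : Scheme.{u}} (e : X' ⟶ X)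
    [IsAffineHom e] [Flat e] [Surjective e] [IsLocallyNoetherian X'] : IsLocallyNoetherian X := by
  refine isLocallyNoetherian_of_affine_cover (iSup_affineOpens_eq_top X) fun V => ?_
  have hV := V.2
  have hW : IsAffineOpen (e ⁻¹ᵁ V.1) := hV.preimage e
  have : IsAffine (V.1 : Scheme.{u}) := hV
  have : IsAffine (e ⁻¹ᵁ V.1 : Scheme.{u}) := hW
  let t := e ∣_ V.1
  have : Flat t := IsZariskiLocalAtTarget.restrict ‹Flat e› _
  have : Surjective t := IsZariskiLocalAtTarget.restrict ‹Surjective e› _
  have hff : t.appTop.hom.FaithfullyFlat :=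
    (Flat.flat_and_surjective_iff_faithfullyFlat_of_isAffine (f := t)).mp ⟨inferInstance, inferInstance⟩
  have hN : IsNoetherianRing Γ((e ⁻¹ᵁ V.1 : Scheme.{u}), ⊤) :=
    IsLocallyNoetherian.component_noetherian ⟨⊤, isAffineOpen_top _⟩
  algebraize [t.appTop.hom]
  have := Groth.Agent.Lib.Henselian.NoetherianCriterion.isNoetherianRing_of_faithfullyFlat
    (S := Γ((e ⁻¹ᵁ V.1 : Scheme.{u}), ⊤)) Γ((V.1 : Scheme.{u}), ⊤)
  exact isNoetherianRing_of_ringEquiv Γ((V.1 : Scheme.{u}), ⊤) V.1.topIso.commRingCatIsoToRingEquiv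

open AlgSp Groth.Agent.Lib.AlgSpace Core

variable {S : Scheme.{u}} {Q Q' : Sp S} {k k' : Type u} [Field k] [Field k']
  {σ : Spec (CommRingCat.of k) ⟶ S} {σ' : Spec (CommRingCat.of k') ⟶ S}
  {j : Over.mk σ' ⟶ Over.mk σ} {p : Q' ⟶ Q} {snd' : Q' ⟶ (yon S).obj (Over.mk σ')}
  {snd : Q ⟶ (yon S).obj (Over.mk σ)}

theorem exists_chart_bc (hQ : IsAlgSpace Q) (sq : IsPullback p snd' snd ((yon S).map j))
    {U : Over S} {a : (yon S).obj U ⟶ Q} (ha : RepWith @Etale a) (has : RepWith @Surjective a) :
    ∃ (W : Over S) (h : U ⟶ Over.mk σ) (w : W ⟶ U) (w' : W ⟶ Over.mk σ') (a' : (yon S).obj W ⟶ Q'),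
      IsPullback w.left w'.left h.left j.left ∧ RepWith @Etale a' ∧ RepWith @Surjective a' := by
  obtain ⟨h, hh⟩ := (yon S).map_surjective (a ≫ snd)
  let W := Limits.pullback h j
  have sqW := IsPullback.of_hasPullback h j
  let a' : (yon S).obj W ⟶ Q' := sq.lift ((yon S).map (pullback.fst h j) ≫ a)
    ((yon S).map (pullback.snd h j)) (by
      rw [Category.assoc, ← hh, ← Functor.map_comp, ← Functor.map_comp, sqW.w])
  have key : IsPullback ((yon S).map (pullback.fst h j)) a' a p := by
    refine IsPullback.of_bot ?_ (sq.lift_fst _ _ _).symm sq.flip.flip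
    rw [← hh, sq.lift_snd]
    exact (isPullback_yon sqW)
  exact ⟨W, h, _, _, a', sqW.map (Over.forget S), repWith_baseChange key ha,
    repWith_baseChange key has⟩

/-- A fibre over a finitely generated extension of the field stays locally Noetherian. -/
theorem isLocNoethSp_bc (hQ : IsAlgSpace Q) (sq : IsPullback p snd' snd ((yon S).map j))
    [LocallyOfFiniteType j.left] (h : IsLocNoethSp Q) : IsLocNoethSp Q' := by
  obtain ⟨U, a, ha, has, hU⟩ := h
  obtain ⟨W, h, w, w', a', sqW, ha', has'⟩ := exists_chart_bc hQ sq ha has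
  have : IsLocallyNoetherian U.left := hU
  have : LocallyOfFiniteType w.left := MorphismProperty.of_isPullback sqW.flip ‹_›
  exact ⟨W, a', ha', has', LocallyOfFiniteType.isLocallyNoetherian w.left⟩

/-- Local Noetherianness descends along extensions of the field. -/
theorem isLocNoethSp_descend (hQ : IsAlgSpace Q) (sq : IsPullback p snd' snd ((yon S).map j))
    (h : IsLocNoethSp Q') : IsLocNoethSp Q := by
  obtain ⟨U, a, ha, has⟩ := hQ.atlas
  obtain ⟨W, h', w, w', a', sqW, ha', has'⟩ := exists_chart_bc hQ sq ha has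
  have : IsLocallyNoetherian W.left := CodimOneSp.isLocallyNoetherian_chart h ha'
  have : Subsingleton ↥(Over.mk σ).left := inferInstanceAs (Subsingleton (PrimeSpectrum k))
  have : IsAffine (Over.mk σ).left := inferInstanceAs (IsAffine (Spec _))
  have : IsAffine (Over.mk σ').left := inferInstanceAs (IsAffine (Spec _))
  have hjf : Flat j.left := by
    obtain ⟨φ, hφ⟩ : ∃ φ : CommRingCat.of k ⟶ CommRingCat.of k', Spec.map φ = j.left :=
      Spec.map_surjective j.left
    rw [← hφ, HasRingHomProperty.Spec_iff (P := @Flat)]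
    let := φ.hom.toAlgebra
    exact (inferInstance : Module.Flat k k')
  have hjs : Surjective j.left :=
    ⟨fun z => ⟨IsLocalRing.closedPoint k', Subsingleton.elim _ _⟩⟩
  have : IsAffineHom w.left := MorphismProperty.of_isPullback sqW.flip (inferInstanceAs (IsAffineHom j.left))
  have : Flat w.left := MorphismProperty.of_isPullback sqW.flip hjf
  have : Surjective w.left := MorphismProperty.of_isPullback sqW.flip hjs
  exact ⟨U, a, ha, has, isLocallyNoetherian_of_affine_flat_surjective w.left⟩

/-- A point represented by a monomorphism receives every other representative. -/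
theorem exists_hom_of_mono {F : Sp S} (hF : IsAlgSpace F) (p p₀ : FieldPt F) [Mono p₀.toHom]
    (h : Points.mk p = Points.mk p₀) : ∃ j : p.pt ⟶ p₀.pt, (yon S).map j ≫ p₀.toHom = p.toHom := by
  have sq := IsPullback.of_hasPullback p.toHom p₀.toHom
  have hM := isAlgSpace_of_isPullback sq hF.diag (IsAlgSpace.yon_obj _) (IsAlgSpace.yon_obj _)
  have : Mono (pullback.fst p.toHom p₀.toHom) := pullback.fst_of_mono
  obtain ⟨z, -, -⟩ := Core.exists_point_of_isPullback sq (Points.ofScheme p.pt (IsLocalRing.closedPoint p.K))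
    (Points.ofScheme p₀.pt (IsLocalRing.closedPoint p₀.K)) (by
      rw [Core.map_ofScheme, Core.map_ofScheme, Points.ofPt_toHom, Points.ofPt_toHom, h])
  have : Nonempty (Points (pullback p.toHom p₀.toHom)) := ⟨z⟩
  have : MorphismProperty.ContainsIdentities (@LocallyOfFinitePresentation : MorphismProperty Scheme.{u}) :=
    ⟨fun _ => inferInstance⟩
  have : MorphismProperty.ContainsIdentities (@Flat : MorphismProperty Scheme.{u}) :=
    ⟨fun _ => inferInstance⟩
  have := OnePointMono.isIso_of_mono (IsAlgSpace.yon_obj p.pt) hM (pullback.fst p.toHom p₀.toHom)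
    (p := 𝟙 ((yon S).obj (Over.mk p.str)))
    (AlgSpMor.LocP.locP_of_repWith (AlgSpMor.LocP.etaleLocalST_of_list (Or.inr (Or.inl rfl)))
      (AlgSp.repWith_id @LocallyOfFinitePresentation _))
    (AlgSpMor.LocP.locP_of_repWith (AlgSpMor.LocP.etaleLocalST_of_list (Or.inr (Or.inr (Or.inl rfl))))
      (AlgSp.repWith_id @Flat _))
    (fun z => ⟨z, Points.map_id z⟩)
  obtain ⟨j, hj⟩ := (yon S).map_surjective
    (inv (pullback.fst p.toHom p₀.toHom) ≫ pullback.snd p.toHom p₀.toHom)
  exact ⟨j, by rw [hj, Category.assoc, ← sq.w, IsIso.inv_hom_id_assoc]⟩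

end Groth.Agent.Lib.AlgSpDecent.FieldBC
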