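import Groth.Agent.Lib.AlgSpace.Quot
import Groth.Agent.Lib.AlgSpDecent.OpenScheme
import Groth.Agent.Lib.AlgSpDecent.Restrict
import Groth.Agent.Lib.AlgSpDecent.Glue
import Groth.Agent.Lib.AlgSpDecent.Specialize
import Groth.Agent.Lib.SourceDescent.Scheme
import Groth.Agent.Lib.AlgSpMor.AffineDescent

/-!
Quotients of separated schemes etale over an algebraic space by finite groups of automorphisms.
-/

universe u

open CategoryTheory CategoryTheory.Limits AlgebraicGeometry Opposite Topology

namespace Groth.Agent.Lib.AlgSpDecent.FiniteRel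

open AlgSp Groth.Agent.Lib.AlgSpace Core Specialize

variable {S : Scheme.{u}}

/-- The morphism picking out a point of a scheme over `S`. -/
noncomputable abbrev res {T : Over S} (z : ↥T.left) :
    Over.mk (T.left.fromSpecResidueField z ≫ T.hom) ⟶ T :=
  Over.homMk (T.left.fromSpecResidueField z) rfl

/-- A group of automorphisms, as a family of endomorphisms. -/
structure IsGroup {W : Over S} {ι : Type u} (σ : ι → (W ⟶ W)) : Prop where
  exists_id : ∃ i, σ i = 𝟙 W
  exists_inv : ∀ i, ∃ j, σ i ≫ σ j = 𝟙 W ∧ σ j ≫ σ i = 𝟙 W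
  exists_comp : ∀ i j, ∃ k, σ k = σ i ≫ σ j

theorem isIso_left {W : Over S} {ι : Type u} {σ : ι → (W ⟶ W)} (hσ : IsGroup σ) (i : ι) :
    IsIso (σ i).left := by
  obtain ⟨j, h1, h2⟩ := hσ.exists_inv i
  exact ⟨(σ j).left, congrArg CommaMorphism.left h1, congrArg CommaMorphism.left h2⟩

/-- The image of a point under a morphism is seen on residue field points. -/
theorem res_apply {T W : Over S} (z : ↥T.left) (a : T ⟶ W) (p) :
    (res z ≫ a).left p = a.left z :=
  congrArg a.left (Scheme.fromSpecResidueField_apply z p)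

/-- Residue points of a lift into an open range. -/
theorem exists_res_factor {T A R : Over S} (g : A ⟶ R) [IsOpenImmersion g.left] (c : T ⟶ R)
    (z : ↥T.left) (hz : c.left z ∈ Set.range g.left) : ∃ m, m ≫ g = res z ≫ c := by
  have h : Set.range (res z ≫ c).left ⊆ Set.range g.left := by
    rintro _ ⟨p, rfl⟩
    rw [res_apply z c p]
    exact hz
  refine ⟨Over.homMk (IsOpenImmersion.lift g.left (res z ≫ c).left h) ?_,
    Over.OverMorphism.ext (IsOpenImmersion.lift_fac _ _ _)⟩
  rw [← Over.w g, IsOpenImmersion.lift_fac_assoc]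
  exact Over.w (res z ≫ c)

set_option maxHeartbeats 800000 in
/-- Quotient by a finite group of automorphisms over the space. -/
theorem exists_quotient {X : Sp S} (hX : IsAlgSpace X) {W : Over S} [W.left.IsSeparated]
    (haff : ∀ T : Set ↥W.left, T.Finite → ∃ A : W.left.Opens, IsAffineOpen A ∧ T ⊆ (A : Set ↥W.left))
    {b : (yon S).obj W ⟶ X} (hb : RepWith @Etale b) {ι : Type u} [Finite ι] {σ : ι → (W ⟶ W)}
    (hσ : IsGroup σ) (hσb : ∀ i, (yon S).map (σ i) ≫ b = b) :
    ∃ (V : Over S) (c : W ⟶ V) (l : (yon S).obj V ⟶ X),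
      (yon S).map c ≫ l = b ∧ RepWith @Etale l ∧ IsFinite c.left ∧ Etale c.left ∧
        Surjective c.left ∧ V.left.IsSeparated ∧ (∀ i, σ i ≫ c = c) ∧
        ∀ {T : Over S} (a a' : T ⟶ W), a ≫ c = a' ≫ c → ∀ z, ∃ i, res z ≫ a ≫ σ i = res z ≫ a' := by
  let hr := hb.rep
  let R := hr.pullback b
  let s : R ⟶ W := hr.fst' b
  let t : R ⟶ W := hr.snd b
  have sqR : IsPullback ((yon S).map s) ((yon S).map t) b b := hr.isPullback' b
  have hes : Etale s.left := hb.property b _ _ sqR.flip
  have het : Etale t.left := hb.property_snd b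
  have hΓ : ∀ i, ∃ γ : W ⟶ R, γ ≫ t = 𝟙 W ∧ γ ≫ s = σ i := fun i =>
    ⟨hr.lift' (σ i) (𝟙 W) (by rw [CategoryTheory.Functor.map_id, Category.id_comp, hσb]),
      hr.lift'_snd _ _ _, hr.lift'_fst _ _ _⟩
  choose Γ hΓt hΓs using hΓ
  have hoi : ∀ i, IsOpenImmersion (Γ i).left := fun i => by
    have h : (Γ i).left ≫ t.left = 𝟙 _ := congrArg CommaMorphism.left (hΓt i)
    have : IsSplitMono (Γ i).left := ⟨⟨⟨t.left, h⟩⟩⟩
    have : Etale (Γ i).left := by
      have : Etale ((Γ i).left ≫ t.left) := by rw [h]; infer_instance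
      exact Etale.of_comp (Γ i).left t.left
    exact IsOpenImmersion.of_flat_of_mono (Γ i).left
  let O : R.left.Opens := ⨆ i, (Γ i).left.opensRange
  let RW : Over S := Over.mk (O.ι ≫ R.hom)
  let j : RW ⟶ R := Over.homMk O.ι rfl
  have hjoi : IsOpenImmersion j.left := inferInstanceAs (IsOpenImmersion O.ι)
  have : Mono j := (Over.forget S).mono_of_mono_map (inferInstanceAs (Mono j.left))
  -- membership
  have hmem : ∀ {T : Over S} (c : T ⟶ R),
      Set.range c.left ⊆ Set.range j.left ↔ ∀ z, ∃ i, res z ≫ c ≫ t ≫ σ i = res z ≫ c ≫ s := by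
    intro T c
    constructor
    · intro h z
      obtain ⟨w, hw⟩ := h ⟨z, rfl⟩
      have hz : c.left z ∈ O := by rw [← hw]; exact w.2
      obtain ⟨i, hi⟩ := TopologicalSpace.Opens.mem_iSup.1 hz
      have := hoi i
      obtain ⟨m, hm⟩ := exists_res_factor (Γ i) c z hi
      refine ⟨i, ?_⟩
      calc res z ≫ c ≫ t ≫ σ i = (res z ≫ c) ≫ t ≫ σ i := by simp only [Category.assoc]
        _ = m ≫ (Γ i ≫ t) ≫ σ i := by rw [← hm]; simp only [Category.assoc]
        _ = m ≫ Γ i ≫ s := by rw [hΓt, Category.id_comp, hΓs]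
        _ = (res z ≫ c) ≫ s := by rw [← hm, Category.assoc]
        _ = res z ≫ c ≫ s := Category.assoc _ _ _
    · intro h
      rintro _ ⟨z, rfl⟩
      obtain ⟨i, hi⟩ := h z
      have e : res z ≫ c = (res z ≫ c ≫ t) ≫ Γ i := hr.hom_ext'
        (by
          show (res z ≫ c) ≫ s = ((res z ≫ c ≫ t) ≫ Γ i) ≫ s
          simp only [Category.assoc, hΓs, hi])
        (by
          show (res z ≫ c) ≫ t = ((res z ≫ c ≫ t) ≫ Γ i) ≫ t
          simp only [Category.assoc, hΓt, Category.comp_id])
      obtain ⟨pt⟩ : Nonempty ↥(Over.mk (T.left.fromSpecResidueField z ≫ T.hom)).left :=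
        inferInstanceAs (Nonempty (Spec (T.left.residueField z)))
      have hz : c.left z = (Γ i).left ((res z ≫ c ≫ t).left pt) :=
        (res_apply z c pt).symm.trans (congrArg (fun m : _ ⟶ R => m.left pt) e)
      refine ⟨⟨c.left z, TopologicalSpace.Opens.mem_iSup.2 ⟨i, ⟨_, hz.symm⟩⟩⟩, rfl⟩
  -- the relation
  let s' : RW ⟶ W := j ≫ s
  let t' : RW ⟶ W := j ≫ t
  let Rel : ∀ {T : Over S}, (T ⟶ W) → (T ⟶ W) → Prop := fun {T} a a' =>
    (yon S).map a ≫ b = (yon S).map a' ≫ b ∧ ∀ z, ∃ i, res z ≫ a ≫ σ i = res z ≫ a'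
  have hrel : ∀ {T : Over S} (a a' : T ⟶ W),
      (∃ c : T ⟶ RW, c ≫ t' = a ∧ c ≫ s' = a') ↔ Rel a a' := by
    intro T a a'
    constructor
    · rintro ⟨c, rfl, rfl⟩
      refine ⟨?_, fun z => ?_⟩
      · simp only [t', s', Functor.map_comp, Category.assoc, sqR.w]
      · have h := (hmem (c ≫ j)).1 (by rintro _ ⟨y, rfl⟩; exact ⟨c.left y, rfl⟩) z
        simpa only [t', s', Category.assoc] using h
    · rintro ⟨h1, h2⟩
      obtain ⟨c, hc₁, hc₂⟩ : ∃ c : T ⟶ R, c ≫ s = a' ∧ c ≫ t = a :=
        ⟨hr.lift' a' a h1.symm, hr.lift'_fst _ _ _, hr.lift'_snd _ _ _⟩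
      have hsub := (hmem c).2 (fun z => by
        obtain ⟨i, hi⟩ := h2 z
        exact ⟨i, by rw [reassoc_of% hc₂, hc₁, hi]⟩)
      obtain ⟨l, hl⟩ : ∃ l : T ⟶ RW, l ≫ j = c := by
        refine ⟨Over.homMk (IsOpenImmersion.lift j.left c.left hsub) ?_,
          Over.OverMorphism.ext (IsOpenImmersion.lift_fac _ _ _)⟩
        rw [← Over.w j, IsOpenImmersion.lift_fac_assoc]
        exact Over.w c
      exact ⟨l, by rw [← hc₂, ← hl, Category.assoc], by rw [← hc₁, ← hl, Category.assoc]⟩
  have heq : IsEtaleEqvRel s' t' :=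
    { injective := fun T r r' h1 h2 => by
        rw [← cancel_mono j]
        exact hr.hom_ext' (by simpa only [s', Category.assoc] using h2)
          (by simpa only [t', Category.assoc] using h1)
      equivalence := fun T => by
        refine ⟨fun a => (hrel a a).2 ⟨rfl, fun z => ?_⟩, fun h => ?_, fun h h' => ?_⟩
        · obtain ⟨i, hi⟩ := hσ.exists_id
          exact ⟨i, by rw [hi, Category.comp_id]⟩
        · obtain ⟨h1, h2⟩ := (hrel _ _).1 h
          refine (hrel _ _).2 ⟨h1.symm, fun z => ?_⟩
          obtain ⟨i, hi⟩ := h2 z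
          obtain ⟨i', hii, -⟩ := hσ.exists_inv i
          refine ⟨i', ?_⟩
          rw [← reassoc_of% hi, hii, Category.comp_id]
        · obtain ⟨h1, h2⟩ := (hrel _ _).1 h
          obtain ⟨h1', h2'⟩ := (hrel _ _).1 h'
          refine (hrel _ _).2 ⟨h1.trans h1', fun z => ?_⟩
          obtain ⟨i, hi⟩ := h2 z
          obtain ⟨i', hi'⟩ := h2' z
          obtain ⟨k, hk⟩ := hσ.exists_comp i i'
          exact ⟨k, by rw [hk, reassoc_of% hi, hi']⟩
      etale_left := by show Etale (j.left ≫ s.left); infer_instance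
      etale_right := by show Etale (j.left ≫ t.left); infer_instance }
  -- finiteness of the projection
  have hjfac : ∀ i, ∃ g : W ⟶ RW, g ≫ j = Γ i := fun i => by
    have hsub : Set.range (Γ i).left ⊆ Set.range j.left := by
      rintro _ ⟨w, rfl⟩
      exact ⟨⟨_, TopologicalSpace.Opens.mem_iSup.2 ⟨i, ⟨w, rfl⟩⟩⟩, rfl⟩
    refine ⟨Over.homMk (IsOpenImmersion.lift j.left (Γ i).left hsub) ?_,
      Over.OverMorphism.ext (IsOpenImmersion.lift_fac _ _ _)⟩
    rw [← Over.w j, IsOpenImmersion.lift_fac_assoc]
    exact Over.w (Γ i)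
  choose g hg using hjfac
  have hfin : IsFinite t'.left := by
    have hgt : ∀ i, (g i).left ≫ t'.left = 𝟙 _ := fun i => by
      rw [← Over.comp_left, ← Category.assoc, hg i, hΓt i]
      rfl
    have hgo : ∀ i, IsOpenImmersion (g i).left := fun i => by
      have := hoi i
      have : IsOpenImmersion ((g i).left ≫ j.left) := by rw [← Over.comp_left, hg i]; exact hoi i
      exact IsOpenImmersion.of_comp (g i).left j.left
    have hcov : ∀ x : ↥RW.left, ∃ i w, (g i).left w = x := fun x => by
      obtain ⟨i, w, hw⟩ := TopologicalSpace.Opens.mem_iSup.1 x.2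
      refine ⟨i, w, ?_⟩
      apply j.left.isOpenEmbedding.injective
      rw [← Scheme.Hom.comp_apply, ← Over.comp_left, hg i]
      exact hw
    have hfix : ∀ (i : ι) (x : ↥RW.left), x ∈ Set.range (g i).left → (g i).left (t'.left x) = x := by
      rintro i _ ⟨w, rfl⟩
      rw [← Scheme.Hom.comp_apply (g i).left, hgt i]
      rfl
    have hqc : QuasiCompact t'.left := ⟨fun K hKo hK => by
      have : t'.left ⁻¹' K = ⋃ i, (g i).left '' K := by
        ext x
        simp only [Set.mem_preimage, Set.mem_iUnion, Set.mem_image]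
        refine ⟨fun hx => ?_, ?_⟩
        · obtain ⟨i, hi⟩ := hcov x
          exact ⟨i, _, hx, hfix i x hi⟩
        · rintro ⟨i, w, hw, rfl⟩
          rw [← Scheme.Hom.comp_apply, hgt i]
          exact hw
      rw [this]
      exact isCompact_iUnion fun i => hK.image (g i).left.continuous⟩
    have huc : UniversallyClosed t'.left := by
      refine ⟨fun X' Y' i₁ i₂ f' sq C hC => ?_⟩
      have hsec : ∀ i, ∃ σY : Y' ⟶ X', σY ≫ f' = 𝟙 _ ∧ σY ≫ i₁ = i₂ ≫ (g i).left := fun i =>
        ⟨sq.lift (𝟙 _) (i₂ ≫ (g i).left) (by rw [Category.id_comp, Category.assoc, hgt i,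
          Category.comp_id]), sq.lift_fst _ _ _, sq.lift_snd _ _ _⟩
      choose σY hσY₁ hσY₂ using hsec
      have : f' '' C = ⋃ i, σY i ⁻¹' C := by
        ext y
        simp only [Set.mem_image, Set.mem_iUnion, Set.mem_preimage]
        constructor
        · rintro ⟨x, hx, rfl⟩
          obtain ⟨i, w, hw⟩ := hcov (i₁ x)
          refine ⟨i, ?_⟩
          have := hgo i
          let rx := X'.fromSpecResidueField x
          have hsub : Set.range (rx ≫ i₁) ⊆ Set.range (g i).left := by
            rintro _ ⟨p, rfl⟩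
            rw [Scheme.Hom.comp_apply, Scheme.fromSpecResidueField_apply]
            exact ⟨w, hw⟩
          obtain ⟨m, hm⟩ : ∃ m, m ≫ (g i).left = rx ≫ i₁ :=
            ⟨_, IsOpenImmersion.lift_fac _ _ hsub⟩
          have hm' : m = rx ≫ f' ≫ i₂ := by
            rw [sq.w, ← reassoc_of% hm, hgt i, Category.comp_id]
          have e : rx ≫ f' ≫ σY i = rx := by
            apply sq.hom_ext
            · simp only [Category.assoc, hσY₁, Category.comp_id]
            · simp only [Category.assoc, hσY₂]
              rw [← hm, hm']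
              simp only [Category.assoc]
          obtain ⟨pt⟩ : Nonempty ↥(Spec (X'.residueField x)) := inferInstance
          have e' : (rx ≫ f' ≫ σY i) pt = rx pt := by rw [e]
          simp only [Scheme.Hom.comp_apply, rx, Scheme.fromSpecResidueField_apply] at e'
          rw [e']
          exact hx
        · rintro ⟨i, hi⟩
          exact ⟨_, hi, by rw [← Scheme.Hom.comp_apply, hσY₁ i]; rfl⟩
      rw [this]
      exact isClosed_iUnion_of_finite fun i => hC.preimage (σY i).continuous
    have : Etale t'.left := heq.etale_right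
    have : IsSeparated t'.left := by
      have hm : Mono (pullback.lift s'.left t'.left ((Over.w s').trans (Over.w t').symm) :
          RW.left ⟶ pullback W.hom W.hom) := by
        refine ⟨fun {Z} p p' e => ?_⟩
        have h1 := congrArg (· ≫ pullback.fst _ _) e
        have h2 := congrArg (· ≫ pullback.snd _ _) e
        simp only [Category.assoc, pullback.lift_fst, pullback.lift_snd] at h1 h2
        have hpp : p ≫ RW.hom = p' ≫ RW.hom := by
          rw [← Over.w t', reassoc_of% h2]
        let po : Over.mk (p ≫ RW.hom) ⟶ RW := Over.homMk p rfl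
        let po' : Over.mk (p ≫ RW.hom) ⟶ RW := Over.homMk p' hpp.symm
        exact congrArg CommaMorphism.left (heq.injective _ po po' (Over.OverMorphism.ext h2)
          (Over.OverMorphism.ext h1))
      have : IsSeparated W.hom := inferInstance
      have e : t'.left = pullback.lift s'.left t'.left ((Over.w s').trans (Over.w t').symm) ≫
          pullback.snd W.hom W.hom := (pullback.lift_snd _ _ _).symm
      rw [e]
      infer_instance
    have := locallyQuasiFinite_of_etale t'.left
    have : IsProper t'.left := { toIsSeparated := ‹_›, toUniversallyClosed := huc }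
    exact IsFinite.of_isProper_of_locallyQuasiFinite t'.left
  -- the quotient
  let Q := QuotSh.quot Scheme.fppfPrecoverage s' t'
  have hQ : IsAlgSpace Q := isAlgSpace_quot heq
  let π : (yon S).obj W ⟶ Q := quotMap s' t'
  have hπ := isPresentation_quot heq
  have sqπ : IsPullback ((yon S).map t') ((yon S).map s') π π := isPullback_quot heq.toIsEqvRel
  have hcond : (yon S).map s' ≫ b = (yon S).map t' ≫ b := by
    simp only [s', t', Functor.map_comp, Category.assoc, sqR.w]
  let φ : Q ⟶ X :=
    coequalizer.desc ((QuotSh.repIsoUliftYoneda Scheme.fppfPrecoverage W).hom ≫ b) (by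
      rw [repMap_repIso_hom_assoc, repMap_repIso_hom_assoc, hcond])
  have hφ : π ≫ φ = b := by
    simp only [π, quotMap, QuotSh.quotπ, φ, Category.assoc]
    erw [coequalizer.π_desc]
    simp
  -- open subschemes of the quotient
  have hpiece : ∀ w : ↥W.left, ∃ (Q₀ : Over S) (l₀ : (yon S).obj Q₀ ⟶ Q),
      RepWith @IsOpenImmersion l₀ ∧ Points.ofPt π w ∈ Set.range (Points.map l₀) := by
    intro w
    obtain ⟨A, hA, hTA⟩ := haff _ (Set.finite_range fun i => (σ i).left w)
    classical
    have := Fintype.ofFinite ι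
    let D : W.left.Opens := A ⊓ Finset.univ.inf fun i => (σ i).left ⁻¹ᵁ A
    have hDaff : IsAffineOpen D := by
      have key : ∀ F : Finset ι, IsAffineOpen (A ⊓ F.inf fun i => (σ i).left ⁻¹ᵁ A) := by
        intro F
        induction F using Finset.induction with
        | empty => simpa using hA
        | insert i F _ ih =>
          have := isIso_left hσ i
          rw [Finset.inf_insert, inf_left_comm]
          exact (hA.preimage (σ i).left).inf ih
      exact key _
    have hinf : ∀ (y : ↥W.left), y ∈ D ↔ y ∈ A ∧ ∀ i, (σ i).left y ∈ A := fun y => by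
      have : ∀ F : Finset ι, y ∈ (F.inf fun i => (σ i).left ⁻¹ᵁ A) ↔ ∀ i ∈ F, (σ i).left y ∈ A := by
        intro F
        induction F using Finset.induction with
        | empty => simp
        | insert i F _ ih =>
          rw [Finset.inf_insert, Finset.forall_mem_insert, ← ih]
          rfl
      exact and_congr Iff.rfl ((this _).trans (by simp))
    obtain ⟨e₀, he₀⟩ := hσ.exists_id
    have hwD : w ∈ D := (hinf w).2 ⟨hTA ⟨e₀, by simp [he₀]⟩, fun i => hTA ⟨i, rfl⟩⟩
    have hfinD : IsFinite ((hπ.etale.rep.snd π).left ∣_ D) ∧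
        ∀ x, (hπ.etale.rep.snd π).left x ∈ D → (hπ.etale.rep.fst' π).left x ∈ D := by
      let e : hπ.etale.rep.pullback π ≅ RW :=
        (yon S).preimageIso ((hπ.etale.rep.isPullback' π).isoIsPullback _ _ sqπ.flip)
      have he₁ : e.hom ≫ s' = hπ.etale.rep.fst' π := (yon S).map_injective (by
        rw [Functor.map_comp]
        exact (congrArg (· ≫ _) ((yon S).map_preimage _)).trans
          ((hπ.etale.rep.isPullback' π).isoIsPullback_hom_fst _ _ sqπ.flip))
      have he₂ : e.hom ≫ t' = hπ.etale.rep.snd π := (yon S).map_injective (by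
        rw [Functor.map_comp]
        exact (congrArg (· ≫ _) ((yon S).map_preimage _)).trans
          ((hπ.etale.rep.isPullback' π).isoIsPullback_hom_snd _ _ sqπ.flip))
      have : IsIso e.hom.left := inferInstanceAs (IsIso ((Over.forget S).map e.hom))
      have hf : IsFinite (hπ.etale.rep.snd π).left := by rw [← he₂, Over.comp_left]; infer_instance
      refine ⟨MorphismProperty.of_isPullback (P := @IsFinite)
        (isPullback_morphismRestrict (hπ.etale.rep.snd π).left D).flip hf, fun x hx => ?_⟩
      obtain ⟨-, h2⟩ := (hinf _).1 hx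
      have hy := (hmem (e.hom ≫ j)).1 (by rintro _ ⟨y, rfl⟩; exact ⟨e.hom.left y, rfl⟩) x
      obtain ⟨i, hi⟩ := hy
      obtain ⟨pt⟩ : Nonempty
          ↥(Over.mk ((hπ.etale.rep.pullback π).left.fromSpecResidueField x ≫
            (hπ.etale.rep.pullback π).hom)).left :=
        inferInstanceAs (Nonempty (Spec ((hπ.etale.rep.pullback π).left.residueField x)))
      have hx' : (hπ.etale.rep.fst' π).left x = (σ i).left ((hπ.etale.rep.snd π).left x) := by
        rw [← he₁, ← he₂]
        have := congrArg (fun m : _ ⟶ W => m.left pt) hi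
        have h3 := (res_apply x ((e.hom ≫ j) ≫ t ≫ σ i) pt).symm.trans
          (this.trans (res_apply x ((e.hom ≫ j) ≫ s) pt))
        exact h3.symm
      rw [hx']
      refine (hinf _).2 ⟨h2 i, fun k => ?_⟩
      obtain ⟨k', hk'⟩ := hσ.exists_comp i k
      rw [← Scheme.Hom.comp_apply, ← Over.comp_left, ← hk']
      exact h2 k'
    have := hfinD.1
    let a₀ := (yon S).map (openIncl D) ≫ π
    have ha₀ : RepWith @Etale a₀ := repWith_etale_openIncl_comp D hπ.etale
    have : IsAffine (Over.mk (D.ι ≫ W.hom)).left := hDaff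
    have : IsFinite (ha₀.rep.snd a₀).left :=
      Restrict.isFinite_snd_restrict hπ.etale.rep D hfinD.2 ha₀.rep
    obtain ⟨Q₀, -, l₀, -, -, -, -, -, hl₀, hrange⟩ := OpenScheme.exists_open_scheme hQ ha₀
    refine ⟨Q₀, l₀, hl₀, ?_⟩
    rw [hrange]
    exact ⟨⟨w, hwD⟩, ofPt_openIncl_comp D π ⟨w, hwD⟩⟩
  choose Q₀ l₀ hl₀ hmem₀ using hpiece
  obtain ⟨V, m, hm, hrange⟩ := Glue.exists_union hl₀ hQ
  have hmi : IsIso m := OpenScheme.isIso_of_surjective hm fun x => by
    obtain ⟨w, rfl⟩ := Core.surjective_ofPt hπ.surjective x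
    exact hrange.ge (Set.mem_iUnion.2 ⟨w, hmem₀ w⟩)
  obtain ⟨c, hc⟩ := (yon S).map_surjective (π ≫ inv m)
  have hcm : (yon S).map c ≫ m = π := by rw [hc, Category.assoc, IsIso.inv_hom_id, Category.comp_id]
  have hker : ∀ {T : Over S} (a a' : T ⟶ W), a ≫ c = a' ≫ c → ∃ r : T ⟶ RW, r ≫ t' = a ∧ r ≫ s' = a' := by
    intro T a a' h
    have h' : (yon S).map a ≫ π = (yon S).map a' ≫ π := by
      rw [← hcm, ← Category.assoc, ← Category.assoc, ← Functor.map_comp, ← Functor.map_comp, h]
    obtain ⟨r, hr'⟩ := (yon S).map_surjective (sqπ.lift _ _ h')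
    exact ⟨r, (yon S).map_injective (by rw [Functor.map_comp, hr', sqπ.lift_fst]),
      (yon S).map_injective (by rw [Functor.map_comp, hr', sqπ.lift_snd])⟩
  have hce' : RepWith @Etale ((yon S).map c) := by
    rw [hc]
    exact (repWith_comp_iso_iff @Etale π (inv m)).2 hπ.etale
  have hcs' : RepWith @Surjective ((yon S).map c) := by
    rw [hc]
    exact (repWith_comp_iso_iff @Surjective π (inv m)).2 hπ.surjective
  have hce : Etale c.left := (repWith_yon_map_iff _ _).1 hce'
  have hcs : Surjective c.left := (repWith_yon_map_iff _ _).1 hcs'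
  have sqc : IsPullback t' s' c c := by
    refine isPullback_of_yon_map (?_ : IsPullback _ _ ((yon S).map c) ((yon S).map c))
    refine IsPullback.of_iso sqπ (Iso.refl _) (Iso.refl _) (Iso.refl _) (asIso (inv m)) ?_ ?_ ?_ ?_
    · simp
    · simp
    · simp [hc]
    · simp [hc]
  have hcf : IsFinite c.left := by
    have := AlgSpMor.AffineDescent.isLocalAtTarget_isFinite.{u}
    have sq' := sqc.flip.map (Over.forget S)
    refine of_fppfCover @IsFinite (fppfCover_mk c.left) ?_
    rw [← (IsPullback.of_hasPullback c.left c.left).isoIsPullback_hom_snd _ _ sq']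
    exact (MorphismProperty.cancel_left_of_respectsIso @IsFinite _ _).2 hfin
  have hσc : ∀ i, σ i ≫ c = c := fun i => by
    obtain ⟨r, hr₁, hr₂⟩ := (hrel (𝟙 W) (σ i)).2
      ⟨by rw [CategoryTheory.Functor.map_id, Category.id_comp, hσb], fun z => ⟨i, by
        rw [Category.id_comp]⟩⟩
    have := sqc.w
    rw [← hr₂, Category.assoc, ← this, reassoc_of% hr₁]
  refine ⟨V, c, m ≫ φ, by rw [← Category.assoc, hcm, hφ], ?_, hcf, hce, hcs, ?_, hσc,
    fun a a' h z => ?_⟩
  · -- etale
    have : (MorphismProperty.inverseImage (@Etale) (Over.forget S)).RespectsIso :=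
      MorphismProperty.RespectsIso.inverseImage _ _
    have hl : Representable (m ≫ φ) := hX.representable_from_yon _
    refine MorphismProperty.relative.of_exists fun T τ => ⟨_, _, _, hl.isPullback τ, ?_⟩
    let q := hl.fst' τ
    let pr := hl.snd τ
    have sq₁ : IsPullback ((yon S).map (pullback.snd q c)) ((yon S).map (pullback.fst q c))
        ((yon S).map c) ((yon S).map q) := (Fibre.isPullback_yon_pullback q c).flip
    have sq₂ : IsPullback ((yon S).map (pullback.snd q c))
        ((yon S).map (pullback.fst q c ≫ pr)) b τ := by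
      rw [Functor.map_comp]
      have := sq₁.paste_vert (hl.isPullback' τ)
      rwa [← Category.assoc, hcm, hφ] at this
    have het' : Etale ((pullback.fst q c).left ≫ pr.left) := hb.property τ _ _ sq₂
    have : Surjective (pullback.fst q c).left := Fibre.surjective_left_pullback_fst q c
    have : Etale (pullback.fst q c).left :=
      MorphismProperty.of_isPullback (P := @Etale)
        ((IsPullback.of_hasPullback q c).map (Over.forget S)).flip hce
    exact SourceDescent.Scheme.etale.descends _ _ ‹Etale (pullback.fst q c).left› ‹_› het'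
  · -- separated
    let p₀ := terminal.from V.left
    let cc : pullback (terminal.from W.left) (terminal.from W.left) ⟶ pullback p₀ p₀ :=
      pullback.map _ _ _ _ c.left c.left (𝟙 _) (terminal.hom_ext _ _) (terminal.hom_ext _ _)
    have : UniversallyClosed cc := by
      have hfc : IsFinite cc :=
        MorphismProperty.pullbackMap (P := @IsFinite) hcf hcf (terminal.hom_ext _ _)
          (terminal.hom_ext _ _)
      infer_instance
    have hW : IsClosed (Set.range (pullback.diagonal (terminal.from W.left))) := by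
      have : IsSeparated (terminal.from W.left) := inferInstance
      exact (pullback.diagonal (terminal.from W.left)).isClosedEmbedding.isClosed_range
    have hcomm : pullback.diagonal (terminal.from W.left) ≫ cc = c.left ≫ pullback.diagonal p₀ := by
      apply pullback.hom_ext <;> simp [cc, pullback.map, pullback.lift_fst, pullback.lift_snd]
    have hrV : Set.range (pullback.diagonal p₀) =
        cc '' Set.range (pullback.diagonal (terminal.from W.left)) := by
      rw [← Set.range_comp, ← TopCat.coe_comp, ← Scheme.Hom.comp_base, hcomm, Scheme.Hom.comp_base,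
        TopCat.coe_comp, c.left.surjective.range_comp]
    refine ⟨⟨IsClosedImmersion.of_isPreimmersion (pullback.diagonal p₀) ?_⟩⟩
    rw [hrV]
    exact cc.isClosedMap _ hW
  · obtain ⟨r, h1, h2⟩ := hker a a' h
    exact ((hrel a a').1 ⟨r, h1, h2⟩).2 z

end Groth.Agent.Lib.AlgSpDecent.FiniteRel
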