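import Groth.Agent.Lib.AlgSpDecent.Core
import Groth.Agent.Lib.AlgSpMor.SchImage.Family
import Groth.Agent.Lib.AlgSpFpqc.Classes
import Groth.Agent.Lib.AlgSpace.OpenSubExists
import Groth.Agent.Lib.Unram.BaseChangeNhd
import Mathlib.AlgebraicGeometry.Morphisms.FlatMono

/-! Helper lemmas for flat local neighbourhoods of closed points. -/

set_option autoImplicit false
universe u

open CategoryTheory CategoryTheory.Limits AlgebraicGeometry Topology Opposite

namespace Groth.Agent.Lib.AlgSpDecent.FlatNbhd

open AlgSp Groth.Agent.Lib.AlgSpace Groth.Agent.Lib.AlgSpMor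

/-- A morphism from a one-point affine scheme factors through the local scheme at the image. -/
theorem exists_lift_fromSpecStalk {A B : Scheme.{u}} [IsAffine A] [Subsingleton A] (f : A ⟶ B) (e : A)
    {b : B} (h : f e = b) : ∃ l, l ≫ B.fromSpecStalk b = f := by
  subst h
  have : Surjective (A.fromSpecStalk e) := ⟨fun x => ⟨IsLocalRing.closedPoint _, Subsingleton.elim _ _⟩⟩
  have : QuasiCompact (A.fromSpecStalk e) := inferInstance
  have : Flat (A.fromSpecStalk e) := Unram.BaseChangeNhd.flat_fromSpecStalk e
  have : IsIso (A.fromSpecStalk e) := Flat.isIso_of_surjective_of_mono _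
  exact ⟨inv (A.fromSpecStalk e) ≫ Spec.map (f.stalkMap e), by
    rw [Category.assoc, Scheme.SpecMap_stalkMap_fromSpecStalk, IsIso.inv_hom_id_assoc]⟩

variable {S : Scheme.{u}}

/-- The ideal of a closed immersion on an affine object cuts out the range of the base change. -/
theorem range_eq_zeroLocus {X Z : Sp S} {i : Z ⟶ X} {I : IdealEt X} (hI : IsCutOutBy I i)
    (E : EtOver X) (hE : IsAffine E.obj.left.left) {P : Over S} {p₁ : (yon S).obj P ⟶ Z}
    {m : P ⟶ E.obj.left} (sq : IsPullback p₁ ((yon S).map m) i E.obj.hom) :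
    Set.range m.left = E.obj.left.left.zeroLocus (U := ⊤) (I.ideal E hE : Set _) := by
  obtain ⟨hi, rfl⟩ := hI
  have := hE
  have : IsClosedImmersion m.left := repWith_property hi sq
  have h1 : Scheme.IdealSheafData.ofIdealTop ((idealOfRep hi.1).ideal E hE) = m.left.ker := by
    rw [SchImage.ofIdealTop_idealOfRep, SchImage.kerAt_eq_ker sq]
  rw [← Scheme.IdealSheafData.coe_support_ofIdealTop, h1, Scheme.Hom.support_ker]
  exact (m.left.isClosedEmbedding.isClosed_range.closure_eq).symm

/-- Powers of an ideal cut out the same set. -/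
theorem zeroLocus_pow {U : Scheme.{u}} (I : Ideal Γ(U, ⊤)) {n : ℕ} (hn : 1 ≤ n) :
    U.zeroLocus (U := ⊤) ((I ^ n : Ideal _) : Set _) = U.zeroLocus (U := ⊤) (I : Set _) := by
  ext x
  simp only [Scheme.mem_zeroLocus_iff, SetLike.mem_coe]
  refine ⟨fun h f hf hx => h (f ^ n) (Ideal.pow_mem_pow hf n) ?_,
    fun h f hf => h f (Ideal.pow_le_self (by omega) hf)⟩
  rwa [Scheme.basicOpen_pow U f (by omega)]

/-- A representable, etale, surjective monomorphism is an isomorphism. -/
theorem isIso_of_etale_surjective_mono {F G : Sp S} (f : F ⟶ G) (he : RepWith @Etale f)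
    (hs : Function.Surjective (Points.map f)) [Mono f] : IsIso f := by
  apply AlgSpFpqc.Classes.isIso_of_repWith
  refine repWith_of_exists fun T g => ⟨_, he.rep.snd g, he.rep.fst g, he.rep.isPullback g, ?_⟩
  have sq := he.rep.isPullback g
  have : Etale (he.rep.snd g).left := he.property_snd g
  have hm : Mono ((yon S).map (he.rep.snd g)) := sq.mono_snd_of_mono inferInstance
  have h1 : Mono (he.rep.snd g) := (yon S).mono_of_mono_map hm
  have : Mono (he.rep.snd g).left := inferInstanceAs (Mono ((Over.forget S).map (he.rep.snd g)))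
  have : IsOpenImmersion (he.rep.snd g).left := IsOpenImmersion.of_flat_of_mono _
  have : Surjective (he.rep.snd g).left := repWith_property (repWith_surjective_of_points he.rep hs) sq
  exact (isIso_iff_isOpenImmersion_and_surjective _).2 ⟨inferInstance, inferInstance⟩

end Groth.Agent.Lib.AlgSpDecent.FlatNbhd
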