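import Groth.Agent.Lib.AlgSpDecent.FlatRelDim
import Groth.Agent.Lib.AlgSpDecent.CodimOneSp

/-!
Local dimension at points of locally Noetherian algebraic spaces, read on charts.
-/

universe u

open CategoryTheory CategoryTheory.Limits AlgebraicGeometry Opposite Topology

namespace Groth.Agent.Lib.AlgSpDecent.FlatRelDimSp

theorem localDim_map_etale {A B : Scheme.{u}} (e : A ⟶ B) [Etale e] [IsLocallyNoetherian B] (a : A) :
    FlatMor.localDim ↥A a = FlatMor.localDim ↥B (e a) := by
  have h := FlatRelDim.localDim_eq e 0 (fun z => by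
    have := SourceDescent.Scheme.locallyQuasiFinite_of_etale e
    rw [Nat.cast_zero]
    exact (RelDim.quasiFiniteAt_iff_fibreDimAt e z).1 (Scheme.Hom.quasiFiniteAt _ _)) a
  rwa [Nat.cast_zero, add_zero] at h

open AlgSp Groth.Agent.Lib.AlgSpace Core

variable {S : Scheme.{u}} {X : Sp S}

/-- On a locally Noetherian space the local dimension at a point can be read off any etale chart. -/
theorem hasAt_localDim_iff (hX : IsAlgSpace X) (hN : IsLocNoethSp X) (P : WithBot ℕ∞ → Prop)
    {U : Over S} {a : (yon S).obj U ⟶ X} (ha : RepWith @Etale a) (u : ↥U.left) :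
    HasAt (fun U u => P (FlatMor.localDim ↥U u)) X (Points.ofPt a u) ↔
      P (FlatMor.localDim ↥U.left u) := by
  refine ⟨?_, fun h => ⟨U, a, u, ha, rfl, h⟩⟩
  rintro ⟨U', a', u', ha', hu, h⟩
  obtain ⟨U'', p, q, sq⟩ := exists_isPullback_yon hX.diag a a'
  have : Etale p.left := repWith_property ha' sq.flip
  have : Etale q.left := repWith_property ha sq
  have : IsLocallyNoetherian U.left := CodimOneSp.isLocallyNoetherian_chart hN ha
  have : IsLocallyNoetherian U'.left := CodimOneSp.isLocallyNoetherian_chart hN ha'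
  obtain ⟨z, rfl, rfl⟩ := (ofPt_eq_ofPt_iff_of_isPullback sq u u').1 hu.symm
  rw [← localDim_map_etale q.left z] at h
  rwa [← localDim_map_etale p.left z]

end Groth.Agent.Lib.AlgSpDecent.FlatRelDimSp
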