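import Groth.Agent.Lib.AlgSpDecent.Fibre
import Groth.Agent.Lib.FibreDeg.Basic
import Groth.Agent.Lib.FibreDeg.Points
import Groth.Prelude.Def_W4decUnivBdd

/-!
Universally bounded fibres of maps from schemes to algebraic spaces.
-/

universe u

open CategoryTheory CategoryTheory.Limits AlgebraicGeometry Opposite

namespace Groth.Agent.Lib.AlgSpDecent.UnivBdd

open AlgSp Core FibreDeg.Basic

variable {S : Scheme.{u}} {F : Sp S} {U : Over S} {a : (yon S).obj U ⟶ F}

/-- The bound at a single field valued point. -/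
def Bdd (hr : Representable a) (q : FieldPt F) (n : ℕ) : Prop :=
  FD (hr.snd q.toHom).left n

theorem isPullback_chosen (hr : Representable a) (q : FieldPt F) :
    IsPullback ((yon S).map (hr.snd q.toHom)) ((yon S).map (hr.fst' q.toHom)) q.toHom a :=
  (hr.isPullback' q.toHom).flip

theorem fd_iff_of_isPullback' {L : Over S} {g : (yon S).obj L ⟶ F} (hr : Representable a)
    {K : Type u} [Field K] (hL : L.left = Spec (CommRingCat.of K)) {T : Over S} {c : T ⟶ L}
    {snd : (yon S).obj T ⟶ (yon S).obj U} (sq : IsPullback ((yon S).map c) snd g a) (n : ℕ) :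
    FD c.left n ↔ FD (hr.snd g).left n := by
  let e : T ≅ hr.pullback g :=
    (yon S).preimageIso (sq.flip.isoIsPullback _ _ (hr.isPullback' g))
  have he : e.hom ≫ hr.snd g = c := (yon S).map_injective (by
    rw [Functor.map_comp]
    exact (congrArg (· ≫ _) ((yon S).map_preimage _)).trans
      (sq.flip.isoIsPullback_hom_snd _ _ (hr.isPullback' g)))
  have key : ∀ {X Y : Scheme.{u}} (f : X ⟶ Y), Y = Spec (CommRingCat.of K) → Flat f := by
    rintro X Y f rfl
    exact flat_of_field f
  have hflat : Flat (hr.snd g).left := key _ hL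
  have : IsIso e.hom.left := inferInstanceAs (IsIso ((Over.forget S).map e.hom))
  rw [← he, Over.comp_left]
  exact fd_comp_iso e.hom.left (hr.snd g).left n

/-- The bound is the one of any fibre product. -/
theorem bdd_iff (hr : Representable a) (q : FieldPt F) {T : Over S} {c : T ⟶ q.pt}
    {snd : (yon S).obj T ⟶ (yon S).obj U} (sq : IsPullback ((yon S).map c) snd q.toHom a) (n : ℕ) :
    (IsFinite c.left ∧ ∀ s, c.left.finrank s ≤ n) ↔ Bdd hr q n :=
  fd_iff_of_isPullback' (L := q.pt) hr (K := q.K) rfl sq n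

theorem degFibresLE_iff (hr : Representable a) (n : ℕ) :
    W4dec.DegFibresLE n a ↔ ∀ q : FieldPt F, Bdd hr q n :=
  ⟨fun h q => h q _ _ _ (isPullback_chosen hr q),
    fun h q _ _ _ sq => (bdd_iff hr q sq n).2 (h q)⟩

/-- The bound depends only on the point. -/
theorem bdd_of_mk_eq (hr : Representable a) {q q' : FieldPt F} (h : Points.mk q = Points.mk q')
    {n : ℕ} (hb : Bdd hr q' n) : Bdd hr q n := by
  rw [Points.mk_eq_mk_iff, rel_iff] at h
  obtain ⟨Ω, _, w, α, β, h⟩ := h
  let g : (yon S).obj (Over.mk w) ⟶ F := (yon S).map α ≫ q.toHom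
  have key : ∀ (p : FieldPt F) (γ : Over.mk w ⟶ p.pt), (yon S).map γ ≫ p.toHom = g →
      (FD (hr.snd g).left n ↔ Bdd hr p n) := fun p γ hγ => by
    have sqp := IsPullback.of_hasPullback (hr.snd p.toHom) γ
    have sq2 := (sqp.map (yon S)).paste_horiz (hr.isPullback' p.toHom)
    rw [hγ, ← Functor.map_comp] at sq2
    refine (fd_iff_of_isPullback' (L := Over.mk w) hr (K := Ω) rfl sq2.flip n).symm.trans ?_
    exact fd_iff_of_isPullback (K := p.K) (L := Ω) (g := γ.left) (sqp.map (Over.forget S)) n
  exact (key q α rfl).1 ((key q' β h.symm).2 hb)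

theorem isEmpty_pullback (hr : Representable a) (q : FieldPt F)
    (h : Points.mk q ∉ Set.range (Points.ofPt a)) : IsEmpty ↥(hr.pullback q.toHom).left :=
  ⟨fun e => h ⟨_, (Fibre.range_fst q hr).subset ⟨e, rfl⟩⟩⟩

/-- Outside the image the bound is trivial. -/
theorem bdd_of_notMem (hr : Representable a) (q : FieldPt F)
    (h : Points.mk q ∉ Set.range (Points.ofPt a)) (n : ℕ) : Bdd hr q n := by
  have := isEmpty_pullback hr q h
  have hflat : Flat (hr.snd q.toHom).left := flat_of_field (K := q.K) _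
  have hfin : IsFinite (hr.snd q.toHom).left := inferInstance
  refine ⟨hfin, fun s => ?_⟩
  rcases Nat.eq_zero_or_pos ((hr.snd q.toHom).left.finrank s) with h0 | h0
  · omega
  · have h1 : (1 : ↥q.pt.left → ℕ) ≤ (hr.snd q.toHom).left.finrank := fun t => by
      rw [Subsingleton.elim (α := PrimeSpectrum q.K) t s]
      exact h0
    obtain ⟨⟨e, -⟩⟩ : Nonempty {e : ↥(hr.pullback q.toHom).left // True} := by
      obtain ⟨e, -⟩ := (Scheme.Hom.one_le_finrank_iff_surjective (f := (hr.snd q.toHom).left)).1 h1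
        |>.surj s
      exact ⟨⟨e, trivial⟩⟩
    exact isEmptyElim e

/-- The bound gives a bound on the number of points. -/
theorem natCard_le (hr : Representable a) (q : FieldPt F) {n : ℕ} (h : Bdd hr q n) :
    Finite ↥(hr.pullback q.toHom).left ∧ Nat.card ↥(hr.pullback q.toHom).left ≤ n :=
  FibreDeg.Points.natCard_le _ n ((finiteOfDegLE_iff (K := q.K) _ n).2 h)

end Groth.Agent.Lib.AlgSpDecent.UnivBdd
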