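import Groth.Agent.Lib.AlgSpDecent.GenericFiniteSet
import Groth.Agent.Lib.AlgSpDecent.DimIntegral
import Groth.Agent.Lib.AlgSpDecent.UnivBdd
import Groth.Agent.Lib.AlgSpDecent.QS
import Groth.Agent.Lib.AlgSpMor.Proper
import Groth.Agent.Lib.FibreDeg.Strat
import Mathlib.AlgebraicGeometry.Fiber

/-!
Morphisms finite over the points of codimension zero are finite over a dense open subspace.
-/

universe u

open CategoryTheory CategoryTheory.Limits AlgebraicGeometry Opposite Topology

namespace Groth.Agent.Lib.AlgSpDecent.GenericFiniteDense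

open AlgSp Groth.Agent.Lib.AlgSpace Core
open Groth.Agent.Lib.AlgSpMor.Codim (IsGen)

variable {S : Scheme.{u}} {X Y : Sp S}

/-- The points of codimension zero. -/
abbrev gens (F : Sp S) : Set (Points F) :=
  {x | HasAt (fun U u => ringKrullDim ↥(U.presheaf.stalk u) = 0) F x}

/-- An affine chart through finitely many points. -/
theorem exists_affine_chart_finite (hF : IsAlgSpace Y) {T : Set (Points Y)} (hT : T.Finite) :
    ∃ (V : Over S) (b : (yon S).obj V ⟶ Y), IsAffine V.left ∧ RepWith @Etale b ∧
      T ⊆ Set.range (Points.ofPt b) := by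
  have := hT.to_subtype
  choose W c w hW hc hw using fun y : T => DimIntegral.exists_affine_chart_pt hF y.1
  let O : Set (Points Y) := ⋃ y, Set.range (Points.ofPt (c y))
  have hO : IsOpen O := isOpen_iUnion fun y => Core.isOpen_range_ofPt (hc y)
  obtain ⟨F, j, hF', hj, hjr⟩ := exists_open_subspace hF hO
  have hcompact : IsCompact (Set.range (Points.map j)) := by
    rw [hjr]
    refine isCompact_iUnion fun y => ?_
    have := hW y
    exact isCompact_range (Points.continuous_ofPt (c y))
  have : CompactSpace (Points F) := ⟨by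
    rw [(isOpenEmbedding_map hj).isEmbedding.isCompact_iff, Set.image_univ]
    exact hcompact⟩
  obtain ⟨V, φ, hV, hφe, hφs⟩ := AlgSpMor.QC.exists_affine_atlas hF'
  have : MorphismProperty.IsStableUnderComposition @Etale.{u} := ⟨fun f g (_ : Etale f) (_ : Etale g) ↦ inferInstanceAs (Etale (f ≫ g))⟩
  refine ⟨V, φ ≫ j, hV, repWith_comp hφe (repWith_mono hj fun _ _ g (_ : IsOpenImmersion g) => (inferInstance : Etale g)), fun y hy => ?_⟩
  obtain ⟨y', hy'⟩ := hjr.ge (Set.mem_iUnion.2 ⟨⟨y, hy⟩, ⟨w ⟨y, hy⟩, hw ⟨y, hy⟩⟩⟩)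
  obtain ⟨v, rfl⟩ := Core.surjective_ofPt hφs y'
  exact ⟨v, by rw [Core.ofPt_comp, hy']⟩

theorem finite_of_noetherian {A : Type*} [TopologicalSpace A] [TopologicalSpace.NoetherianSpace A]
    [QuasiSober A] [T0Space A] (h : ∀ x y : A, x ⤳ y → x = y) : Finite A := by
  have hs : ∀ Z ∈ irreducibleComponents A, Z.Subsingleton := by
    intro Z hZ a ha b hb
    have hg := hZ.1.isGenericPoint_genericPoint (isClosed_of_mem_irreducibleComponents Z hZ)
    rw [← h _ a (hg.specializes ha), ← h _ b (hg.specializes hb)]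
  refine Set.finite_univ_iff.1 (((TopologicalSpace.NoetherianSpace.finite_irreducibleComponents).biUnion
    fun Z hZ => (hs Z hZ).finite).subset fun x _ => Set.mem_iUnion₂.2
      ⟨irreducibleComponent x, irreducibleComponent_mem_irreducibleComponents x, mem_irreducibleComponent⟩)

/-- Generic fibres of a morphism of finite type between affine schemes are finite. -/
theorem isFinite_fibre {U V : Scheme.{u}} [IsAffine U] [IsAffine V] (h : U ⟶ V) [LocallyOfFiniteType h]
    (hgen : ∀ u, IsGen u ↔ IsGen (h u)) {v : V} (hv : IsGen v) :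
    IsFinite (h.fiberToSpecResidueField v) ∧ (h ⁻¹' {v}).Finite := by
  have : QuasiCompact h := HasAffineProperty.iff_of_isAffine.2 (inferInstance : CompactSpace U)
  have : LocallyOfFiniteType (h.fiberToSpecResidueField v) := inferInstanceAs (LocallyOfFiniteType (pullback.snd h (V.fromSpecResidueField v)))
  have : QuasiCompact (h.fiberToSpecResidueField v) := inferInstanceAs (QuasiCompact (pullback.snd h (V.fromSpecResidueField v)))
  have : IsLocallyNoetherian (h.fiber v) := LocallyOfFiniteType.isLocallyNoetherian (h.fiberToSpecResidueField v)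
  have : CompactSpace (h.fiber v) := QuasiCompact.compactSpace_of_compactSpace (h.fiberToSpecResidueField v)
  have : IsNoetherian (h.fiber v) := {}
  have hfin : Finite (h.fiber v) := finite_of_noetherian fun x y hs => by
    apply (h.fiberHomeo v).injective
    apply Subtype.ext
    exact ((hgen ((h.fiberHomeo v) y).1).2
      ((show h ((h.fiberHomeo v) y).1 = v from ((h.fiberHomeo v) y).2).symm ▸ hv)) _
      ((hs.map (h.fiberHomeo v).continuous).map continuous_subtype_val)
  have : LocallyQuasiFinite (h.fiberToSpecResidueField v) :=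
    locallyQuasiFinite_iff_finite_preimage_singleton.2 fun _ => Set.toFinite _
  refine ⟨IsFinite.of_locallyQuasiFinite _, ?_⟩
  have : Finite ↥(h ⁻¹' {v}) := Finite.of_equiv _ (h.fiberHomeo v).toEquiv
  exact Set.toFinite _

/-- The fibre of an etale chart over a point with a quasi-compact representative is finite. -/
theorem finite_snd_fibre {F : Sp S} (hF : IsDecent F) {V U₀ : Over S} [IsAffine V.left]
    {b : (yon S).obj V ⟶ F} (hb : RepWith @Etale b) (ξ : (yon S).obj U₀ ⟶ F) (u₀ : ↥U₀.left) :
    ((hb.rep.snd ξ).left ⁻¹' {u₀}).Finite := by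
  let q' := FieldPt.ofPt ξ u₀
  obtain ⟨q, hq, -, hqc⟩ := hF (Points.mk q')
  let π : (hb.rep.pullback q.toHom).left ⟶ Spec (.of q.K) := (hb.rep.snd q.toHom).left
  have hfin := Fibre.finite_pullback_of_qc q hqc hb
  have : Etale π := hb.property_snd _
  have := locallyQuasiFinite_of_etale π
  have : CompactSpace ↥(hb.rep.pullback q.toHom).left := Finite.compactSpace
  have : IsFinite π := IsFinite.of_locallyQuasiFinite π
  let pt : ↥(Spec (CommRingCat.of q.K)) := IsLocalRing.closedPoint q.K
  have hbdd : UnivBdd.Bdd hb.rep q (π.finrank pt) := ⟨‹IsFinite π›, fun s => le_of_eq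
    (congrArg π.finrank (Subsingleton.elim (α := PrimeSpectrum q.K) s pt))⟩
  obtain ⟨hfin', -⟩ := UnivBdd.natCard_le hb.rep q' (UnivBdd.bdd_of_mk_eq hb.rep hq.symm hbdd)
  let m : q'.pt ⟶ U₀ := Over.homMk (U₀.left.fromSpecResidueField u₀) rfl
  let K := pullback (hb.rep.snd ξ) m
  have sqK := ((IsPullback.of_hasPullback (hb.rep.snd ξ) m).map (yon S)).paste_horiz (hb.rep.isPullback' ξ)
  rw [show (yon S).map m ≫ ξ = q'.toHom from (FieldPt.toHom_ofPt ξ u₀).symm] at sqK
  let e := (yon S).preimageIso (sqK.isoIsPullback _ _ (hb.rep.isPullback' q'.toHom))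
  have : Finite ↥K.left := Finite.of_injective e.hom.left ((Over.forget S).mapIso e).hom.homeomorph.injective
  refine (Set.finite_range (pullback.fst (hb.rep.snd ξ) m).left).subset ?_
  rw [Restrict.range_fst_over]
  exact fun t ht => by
    rw [Set.mem_preimage, ht]
    exact ⟨IsLocalRing.closedPoint _, Scheme.fromSpecResidueField_apply u₀ _⟩

/-- The fibres of the self product over generic points are finite. -/
theorem finite_selfProduct_fibre {U V : Over S} {P : Sp S} {p : (yon S).obj U ⟶ P} (hp : Representable p)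
    {h : U ⟶ V} (hpw : (yon S).map (hp.fst' p) ≫ (yon S).map h = (yon S).map (hp.snd p) ≫ (yon S).map h)
    {v : ↥V.left} (hfin : IsFinite (h.left.fiberToSpecResidueField v)) (hh : (h.left ⁻¹' {v}).Finite) :
    (((hp.snd p).left ≫ h.left) ⁻¹' {v}).Finite := by
  let σ := hp.fst' p
  let τ := hp.snd p
  let w₁ : pullback h h ⟶ U := pullback.fst h h
  have sqW := (IsPullback.of_hasPullback h h).map (Over.forget S)
  let m : hp.pullback p ⟶ pullback h h := pullback.lift σ τ ((yon S).map_injective (by
    rw [Functor.map_comp, Functor.map_comp]; exact hpw))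
  have : Mono m := by
    refine ⟨fun a c e => hp.hom_ext' ?_ ?_⟩
    · have h1 : a ≫ m ≫ pullback.fst h h = c ≫ m ≫ pullback.fst h h := by
        rw [← Category.assoc, ← Category.assoc, e]
      rwa [pullback.lift_fst] at h1
    · have h1 : a ≫ m ≫ pullback.snd h h = c ≫ m ≫ pullback.snd h h := by
        rw [← Category.assoc, ← Category.assoc, e]
      rwa [pullback.lift_snd] at h1
  have hinj : Function.Injective m.left := by
    have : Mono m.left := inferInstance
    exact m.left.injective
  refine Set.Finite.of_injOn (f := m.left) (t := ((pullback.snd h h).left ≫ h.left) ⁻¹' {v}) ?_ hinj.injOn ?_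
  · intro r hr
    show ((m ≫ pullback.snd h h) ≫ h).left r ∈ ({v} : Set ↥V.left)
    rw [pullback.lift_snd]
    exact hr
  · refine (hh.biUnion (t := fun u => (pullback.snd h h).left ⁻¹' {u}) fun u hu => ?_).subset
      fun z hz => Set.mem_iUnion₂.2 ⟨(pullback.snd h h).left z, hz, rfl⟩
    have hu' : h.left u = v := hu
    subst hu'
    have : IsFinite (h.left.fiberToSpecResidueField (h.left u)) := hfin
    have : IsFinite ((pullback.snd h h).left.fiberToSpecResidueField u) :=
      MorphismProperty.of_isPullback (P := @IsFinite) (isPullback_fiberToSpecResidueField_of_isPullback sqW u) ‹_›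
    have : Finite ((pullback.snd h h).left.fiber u) := Set.finite_univ_iff.1
      ((((pullback.snd h h).left.fiberToSpecResidueField u).finite_preimage_singleton (IsLocalRing.closedPoint _)).subset
        fun x _ => Subsingleton.elim (α := PrimeSpectrum (U.left.residueField u)) _ _)
    have : Finite ↥((pullback.snd h h).left ⁻¹' {u}) := Finite.of_equiv _ ((pullback.snd h h).left.fiberHomeo u).toEquiv
    exact Set.toFinite _

/-- The finite base change to a dense chart. -/
theorem exists_dense (hX : IsAlgSpace X) (hY : IsAlgSpace Y) {f : X ⟶ Y}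
    (hf : LocP @LocallyOfFiniteType f) (hdec : IsDecent Y) (hX0 : (gens X).Finite) (hY0 : (gens Y).Finite)
    (hpre : ∀ x, x ∈ gens X ↔ Points.map f x ∈ gens Y)
    (hqs : IsQuasiCompactMor f ∨ IsSeparatedMor f) :
    ∃ (D : Over S) (b : (yon S).obj D ⟶ Y) (W : Over S) (i : W ⟶ D) (fst : (yon S).obj W ⟶ X),
      RepWith @Etale b ∧ Dense (Set.range (Points.ofPt b)) ∧
        IsPullback fst ((yon S).map i) f b ∧ IsFinite i.left := by
  obtain ⟨V, b, hV, hb, hbY0⟩ := exists_affine_chart_finite hY hY0
  have hgenV : ∀ v, IsGen v ↔ Points.ofPt b v ∈ gens Y := fun v =>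
    (AlgSpMor.Codim.hasAt_dim0_iff hY hb v).symm
  have hVfin : {v : V.left | IsGen v}.Finite :=
    (hY0.biUnion fun y _ => Decent.IsDecent.finite_fibres hdec y V b hV hb).subset
      fun v hv => Set.mem_iUnion₂.2 ⟨_, (hgenV v).1 hv, rfl⟩
  let P := pullback f b
  let q : P ⟶ (yon S).obj V := pullback.snd f b
  let πX : P ⟶ X := pullback.fst f b
  have sq : IsPullback πX q f b := IsPullback.of_hasPullback _ _
  have hP : IsAlgSpace P := isAlgSpace_of_isPullback sq hY.diag hX (IsAlgSpace.yon_obj V)
  have : MorphismProperty.IsStableUnderComposition @Etale.{u} := ⟨fun f g (_ : Etale f) (_ : Etale g) ↦ inferInstanceAs (Etale (f ≫ g))⟩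
  have hπ : RepWith @Etale πX := repWith_baseChange sq.flip hb
  have hkey : ∀ {U : Over S} {p : (yon S).obj U ⟶ P} {h : U ⟶ V}, RepWith @Etale p →
      (yon S).map h = p ≫ q → ∀ u, (IsGen u ↔ IsGen (h.left u)) ∧ (Points.ofPt (p ≫ πX) u ∈ gens X ↔ IsGen u) := by
    intro U p h hp hh u
    have h1 := AlgSpMor.Codim.hasAt_dim0_iff hX (repWith_comp hp hπ) u
    refine ⟨h1.symm.trans ((hpre _).trans ?_), h1⟩
    rw [hgenV, ← Core.ofPt_comp, Category.assoc, sq.w, ← Category.assoc, ← hh, Core.ofPt_map_comp]
  -- a chart through the generic points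
  obtain ⟨U, p, hU, hp, hcov, hall⟩ : ∃ (U : Over S) (p : (yon S).obj U ⟶ P), IsAffine U.left ∧
      RepWith @Etale p ∧ (∀ z, Points.map πX z ∈ gens X → z ∈ Set.range (Points.ofPt p)) ∧
      (IsQuasiCompactMor f → Function.Surjective (Points.ofPt p)) := by
    by_cases hq : IsQuasiCompactMor f
    · have : CompactSpace (Points P) :=
        AlgSpMor.QC.compactSpace_points (hq (IsAlgSpace.yon_obj V) (AlgSpMor.QC.isQuasiCompactSp_yon (T := V)) b _ _ sq)
      obtain ⟨U, p, hU, hpe, hps⟩ := AlgSpMor.QC.exists_affine_atlas hP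
      exact ⟨U, p, hU, hpe, fun z _ => Core.surjective_ofPt hps z, fun _ => Core.surjective_ofPt hps⟩
    have hsep := hqs.resolve_left hq
    have hXdec : IsDecent X := Decent.isDecent_of_isDecentMor
      (QS.isDecentMor_of_isQuasiSeparatedMor hX hY (repWith_mono hsep fun _ _ g (_ : IsClosedImmersion g) => (inferInstance : QuasiCompact g))) hdec
    obtain ⟨U₀, a₀, hU₀, ha₀, hcov₀⟩ := exists_affine_chart_finite hX hX0
    let T := hb.rep.pullback (a₀ ≫ f)
    have sqT := hb.rep.isPullback' (a₀ ≫ f)
    let pT : (yon S).obj T ⟶ P := sq.lift ((yon S).map (hb.rep.snd (a₀ ≫ f)) ≫ a₀)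
      ((yon S).map (hb.rep.fst' (a₀ ≫ f))) (by rw [Category.assoc]; exact sqT.w.symm)
    have hpT : IsPullback ((yon S).map (hb.rep.snd (a₀ ≫ f))) pT a₀ πX := by
      refine IsPullback.of_bot (v₁₁ := pT) ?_ (sq.lift_fst _ _ _).symm sq
      rw [sq.lift_snd]
      exact sqT.flip
    have hZ : {z | Points.map πX z ∈ gens X}.Finite := by
      let A : Set ↥U₀.left := Points.ofPt a₀ ⁻¹' gens X
      have hA : A.Finite := by
        refine (hX0.biUnion fun x _ => Decent.IsDecent.finite_fibres hXdec x U₀ a₀ hU₀ ha₀).subset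
          fun u hu => Set.mem_iUnion₂.2 ⟨_, hu, rfl⟩
      refine (((hA.biUnion fun u₀ _ => finite_snd_fibre hdec hb (a₀ ≫ f) u₀)).image (Points.ofPt pT)).subset ?_
      intro z hz
      obtain ⟨u₀, hu₀⟩ := hcov₀ hz
      obtain ⟨t', ht₁, ht₂⟩ := Core.exists_point_of_isPullback hpT
        (Points.ofPt (𝟙 ((yon S).obj U₀)) u₀) z (by rw [← Core.ofPt_comp, Category.id_comp]; exact hu₀)
      obtain ⟨t, rfl⟩ := (Points.schemeEquiv T).surjective t'
      have ht : (hb.rep.snd (a₀ ≫ f)).left t = u₀ := by
        apply (Points.schemeEquiv U₀).injective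
        have e := ht₁
        simp only [Points.schemeEquiv] at e ⊢
        exact (Core.ofPt_yon_map (hb.rep.snd (a₀ ≫ f)) t).symm.trans ((Core.ofPt_comp _ _ t).trans e)
      refine ⟨t, Set.mem_iUnion₂.2 ⟨u₀, show Points.ofPt a₀ u₀ ∈ gens X from hu₀.symm ▸ hz, ht⟩, ?_⟩
      rw [← ht₂, ← Category.id_comp pT, Core.ofPt_comp]
      rfl
    obtain ⟨U, p, hU, hp, hcov⟩ := exists_affine_chart_finite hP hZ
    exact ⟨U, p, hU, hp, fun z hz => hcov hz, fun h => absurd h hq⟩
  have := hU
  have := hV
  obtain ⟨h, hh⟩ := (yon S).map_surjective (p ≫ q)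
  have hw : (p ≫ πX) ≫ f = (yon S).map h ≫ b := by rw [hh, Category.assoc, Category.assoc, sq.w]
  have hlft : LocallyOfFiniteType h.left := hf (p ≫ πX) b h (repWith_comp hp hπ) hb hw
  have hgU : ∀ u, IsGen u ↔ IsGen (h.left u) := fun u => (hkey hp hh u).1
  obtain ⟨D₁, hD₁, hD₁m, hfin₁⟩ := GenericFiniteSet.exists_isFinite h.left hVfin
    (fun v hv => (isFinite_fibre h.left hgU hv).2) hgU
  -- the self product
  let hr := hp.rep
  let τ := hr.snd p
  have : Etale τ.left := hp.property_snd p
  have : IsSeparated τ.left := SelfFibre.isSeparated_snd hr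
  let g : (hr.pullback p).left ⟶ V.left := τ.left ≫ h.left
  obtain ⟨D₂, hD₂, hD₂m, hfin₂⟩ := GenericFiniteSet.exists_isFinite g hVfin
    (fun v hv => finite_selfProduct_fibre hr (h := h)
      (by rw [hh, ← Category.assoc, ← Category.assoc, (hr.isPullback' p).w])
      (isFinite_fibre h.left hgU hv).1 (isFinite_fibre h.left hgU hv).2)
    (fun r => (AlgSpMor.Codim.isGen_iff_of_etale τ.left r).symm.trans (hgU _))
  let D : V.left.Opens := D₁ ⊓ D₂
  have hD : IsAffineOpen D := hD₁.inf hD₂
  have hDm : ∀ v, IsGen v → v ∈ D := fun v hv => ⟨hD₁m v hv, hD₂m v hv⟩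
  have hfinU : IsFinite (h.left ∣_ D) := GenericFiniteSp.isFinite_restrict_of_le _ inf_le_left hfin₁
  have hfinR : IsFinite (g ∣_ D) := GenericFiniteSp.isFinite_restrict_of_le _ inf_le_right hfin₂
  have : IsAffine (D : Scheme.{u}) := hD
  let UD : U.left.Opens := h.left ⁻¹ᵁ D
  have : IsAffine (Over.mk (UD.ι ≫ U.hom)).left :=
    isAffine_of_isAffineHom (h.left ∣_ D)
  let DV : Over S := Over.mk (D.ι ≫ V.hom)
  let jD : DV ⟶ V := Specialize.openIncl D
  have sqD := IsPullback.of_hasPullback q ((yon S).map jD)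
  have hj : RepWith @IsOpenImmersion ((yon S).map jD) :=
    (repWith_yon_map_iff _ _).2 (inferInstanceAs (IsOpenImmersion D.ι))
  have hjP : RepWith @IsOpenImmersion (pullback.fst q ((yon S).map jD)) :=
    repWith_baseChange sqD.flip hj
  have : Mono (pullback.fst q ((yon S).map jD)) := mono_of_repWith (P := @IsOpenImmersion)
    (fun _ _ g (_ : IsOpenImmersion g) ↦ (inferInstance : Mono g)) hjP
  have hP₂ : IsAlgSpace (pullback q ((yon S).map jD)) :=
    isAlgSpace_of_isPullback sqD (IsAlgSpace.yon_obj V).diag hP (IsAlgSpace.yon_obj DV)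
  let h₂ : Over.mk (UD.ι ≫ U.hom) ⟶ DV := Over.homMk (h.left ∣_ D) (by
    show (h.left ∣_ D) ≫ D.ι ≫ V.hom = UD.ι ≫ U.hom
    rw [← Category.assoc, morphismRestrict_ι, Category.assoc, Over.w h])
  have hh₂ : h₂ ≫ jD = Specialize.openIncl UD ≫ h := Over.OverMorphism.ext (morphismRestrict_ι _ _)
  let p₂ : (yon S).obj (Over.mk (UD.ι ≫ U.hom)) ⟶ pullback q ((yon S).map jD) :=
    pullback.lift ((yon S).map (Specialize.openIncl UD) ≫ p) ((yon S).map h₂)
      (by rw [Category.assoc, ← hh, ← Functor.map_comp, ← Functor.map_comp, hh₂])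
  have sqp : IsPullback ((yon S).map (Specialize.openIncl UD)) p₂ p
      (pullback.fst q ((yon S).map jD)) := by
    refine (IsPullback.of_bot (v₁₁ := p₂) ?_ (pullback.lift_fst _ _ _).symm sqD)
    rw [show p₂ ≫ pullback.snd q ((yon S).map jD) = (yon S).map h₂ from pullback.lift_snd _ _ _, ← hh]
    exact (IsPullback.of_map_of_faithful (Over.forget S)
      (isPullback_morphismRestrict h.left D).flip : IsPullback (Specialize.openIncl UD) h₂ h jD).map (yon S)
  have hp₂ : RepWith @Etale p₂ := repWith_baseChange sqp hp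
  have : IsFinite (hp₂.rep.snd p₂).left := by
    have sqc := (hp₂.rep.isPullback' p₂).paste_horiz sqp
    rw [pullback.lift_fst] at sqc
    let e := (yon S).preimageIso (sqc.isoIsPullback _ _ ((IsPullback.of_hasPullback τ (Specialize.openIncl UD)).map (yon S) |>.paste_horiz (hr.isPullback' p)))
    have he : e.hom ≫ pullback.snd τ (Specialize.openIncl UD) = hp₂.rep.snd p₂ := (yon S).map_injective (by
      rw [Functor.map_comp]
      exact (congrArg (· ≫ _) ((yon S).map_preimage _)).trans (IsPullback.isoIsPullback_hom_snd _ _ _ _))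
    have hfin : IsFinite (pullback.snd τ (Specialize.openIncl UD)).left := by
      have sqK : IsPullback (pullback.fst τ (Specialize.openIncl UD)).left
          ((pullback.snd τ (Specialize.openIncl UD)).left ≫ (h.left ∣_ D)) g D.ι :=
        ((IsPullback.of_hasPullback τ (Specialize.openIncl UD)).map (Over.forget S)).paste_vert
          (isPullback_morphismRestrict h.left D).flip
      have : IsFinite ((pullback.snd τ (Specialize.openIncl UD)).left ≫ (h.left ∣_ D)) := by
        rw [← IsPullback.isoIsPullback_hom_snd _ _ sqK (isPullback_morphismRestrict g D).flip]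
        exact (MorphismProperty.cancel_left_of_respectsIso @IsFinite _ _).2 hfinR
      exact IsFinite.of_comp _ (h.left ∣_ D)
    rw [← he, Over.comp_left]
    exact (MorphismProperty.cancel_left_of_respectsIso @IsFinite _ _).2 hfin
  obtain ⟨Q, c, l, hQ, hcfin, hcet, hcs, hcl, hl, hrange⟩ := OpenScheme.exists_open_scheme hP₂ hp₂
  obtain ⟨i, hi⟩ := (yon S).map_surjective (l ≫ pullback.snd q ((yon S).map jD))
  have hci : c ≫ i = h₂ := (yon S).map_injective (by
    rw [Functor.map_comp, hi, ← Category.assoc, hcl]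
    exact pullback.lift_snd _ _ _)
  have hifin : IsFinite i.left := by
    have hh₂' : IsFinite (c.left ≫ i.left) := by
      rw [← Over.comp_left, hci]
      exact hfinU
    have : LocallyOfFiniteType i.left :=
      SourceDescent.Scheme.locallyOfFiniteType.descends c.left i.left ‹_› ‹_› inferInstance
    have : IsSeparated i.left := by
      have : IsAffine DV.left := hD
      infer_instance
    have : UniversallyClosed i.left := UniversallyClosed.of_comp_surjective c.left i.left
    have : IsAffineHom i.left := by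
      have : IsAffine DV.left := hD
      infer_instance
    exact (IsFinite.iff_isProper_and_isAffineHom).2 ⟨{}, inferInstance⟩
  -- everything is covered
  have hin : ∀ y, Points.map (pullback.fst q ((yon S).map jD)) y ∈ Set.range (Points.ofPt p) →
      y ∈ Set.range (Points.map l) := by
    intro y ⟨u, hu⟩
    obtain ⟨t', -, ht⟩ := Core.exists_point_of_isPullback sqp (Points.ofPt (𝟙 ((yon S).obj U)) u) y
      (by rw [← Core.ofPt_comp, Category.id_comp, hu])
    obtain ⟨t, rfl⟩ := (Points.schemeEquiv _).surjective t'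
    refine hrange.ge ⟨t, ?_⟩
    rw [← ht, ← Category.id_comp p₂, Core.ofPt_comp]
    rfl
  have hsurj : Function.Surjective (Points.map l) := by
    intro y
    by_cases hq : IsQuasiCompactMor f
    · exact hin y (hall hq _)
    have hsep := hqs.resolve_left hq
    have hsepD : IsSeparatedMor (pullback.snd q ((yon S).map jD)) :=
      AlgSpMor.Sep.repWith_diagonal_baseChange sqD (AlgSpMor.Sep.repWith_diagonal_baseChange sq hsep)
    have hcl : IsClosed (Set.range (Points.map l)) := by
      have huc : IsUnivClosedMor l := AlgSpMor.Proper.isUnivClosedMor_of_comp (IsAlgSpace.yon_obj Q) hP₂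
        (IsAlgSpace.yon_obj DV).diag (q := pullback.snd q ((yon S).map jD))
        (by
          rw [← hi]
          exact AlgSpMor.Proper.isUnivClosedMor_of_repWith ((repWith_yon_map_iff _ _).2 (inferInstance : UniversallyClosed i.left)))
        hsepD
      exact (AlgSpMor.Proper.isClosedMap_of_isUnivClosedMor hP₂ huc).isClosed_range
    obtain ⟨A, a, u, -, ha, rfl⟩ := DimIntegral.exists_affine_chart_pt hP₂ y
    obtain ⟨u', hu', hgen⟩ := GenericFiniteSet.exists_isGen u
    refine (hu'.map (Points.continuous_ofPt a)).mem_closed hcl (hin _ (hcov _ ?_))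
    have he : RepWith @Etale ((a ≫ pullback.fst q ((yon S).map jD)) ≫ πX) :=
      repWith_comp (repWith_comp ha (repWith_mono hjP fun _ _ g (_ : IsOpenImmersion g) => (inferInstance : Etale g))) hπ
    rw [← Core.ofPt_comp, ← Core.ofPt_comp]
    exact (AlgSpMor.Codim.hasAt_dim0_iff hX he u').2 hgen
  have : IsIso l := OpenScheme.isIso_of_surjective hl hsurj
  refine ⟨DV, (yon S).map jD ≫ b, Q, i, l ≫ pullback.fst q ((yon S).map jD) ≫ πX,
    Specialize.repWith_etale_openIncl_comp D hb, ?_, ?_, hifin⟩
  · refine dense_iff_inter_open.2 fun O hO ⟨y, hy⟩ => ?_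
    obtain ⟨A, a, u, -, ha, rfl⟩ := DimIntegral.exists_affine_chart_pt hY y
    obtain ⟨u', hu', hgen⟩ := GenericFiniteSet.exists_isGen u
    have hmem : Points.ofPt a u' ∈ gens Y := (AlgSpMor.Codim.hasAt_dim0_iff hY ha u').2 hgen
    obtain ⟨v, hv⟩ := hbY0 hmem
    refine ⟨_, (hu'.map (Points.continuous_ofPt a)).mem_open hO hy,
      ⟨(⟨v, hDm v ((hgenV v).2 (hv.symm ▸ hmem))⟩ : ↥D), ?_⟩⟩
    exact (Specialize.ofPt_openIncl_comp D b _).trans hv
  · rw [hi]
    exact IsPullback.of_iso (sqD.paste_horiz sq) (asIso l).symm (Iso.refl _) (Iso.refl _) (Iso.refl _)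
      (by simp) (by simp) (by simp) (by simp [jD])

end Groth.Agent.Lib.AlgSpDecent.GenericFiniteDense
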