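import Groth.Agent.Lib.AlgSpDecent.GenericFiniteSp
import Mathlib.AlgebraicGeometry.ZariskisMainTheorem

/-!
Separated morphisms, finite over the set of points of codimension zero, are finite over a dense open.
-/

universe u

open CategoryTheory CategoryTheory.Limits AlgebraicGeometry Topology

namespace Groth.Agent.Lib.AlgSpDecent.GenericFiniteSet

open Groth.Agent.Lib.AlgSpMor.Codim (IsGen)

theorem exists_isGen {X : Scheme.{u}} (x : X) : ∃ g, g ⤳ x ∧ IsGen g := by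
  have hi := irreducibleComponent_mem_irreducibleComponents x
  have hg := hi.1.isGenericPoint_genericPoint (isClosed_of_mem_irreducibleComponents _ hi)
  refine ⟨hi.1.genericPoint, hg.specializes mem_irreducibleComponent, fun y hy => ?_⟩
  have h1 : irreducibleComponent x ⊆ closure {y} := hg.symm.subset.trans
    (closure_minimal (Set.singleton_subset_iff.2 hy.mem_closure) isClosed_closure)
  exact IsGenericPoint.eq (subset_antisymm (hi.2 isIrreducible_singleton.closure h1) h1) hg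

theorem exists_affine_disjoint {V : Scheme.{u}} [IsAffine V] (H : Set V) [Finite H]
    (hH : ∀ v, v ∈ H ↔ IsGen v) (D₀ : H → V.Opens) (h₀ : ∀ η, η.1 ∈ D₀ η) :
    ∃ D : H → V.Opens, (∀ η, IsAffineOpen (D η) ∧ η.1 ∈ D η ∧ D η ≤ D₀ η) ∧
      Pairwise (fun a b => Disjoint (D a) (D b)) ∧ IsAffineOpen (⨆ η, D η) := by
  have key : ∀ η : H, ∃ D : V.Opens, IsAffineOpen D ∧ η.1 ∈ D ∧ D ≤ D₀ η ∧
      ∀ η' : H, η'.1 ∈ D → η' = η := by
    intro η
    let C : Set V := ⋃ η' : {η' : H // η' ≠ η}, closure {η'.1.1}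
    have hC : IsClosed C := isClosed_iUnion_of_finite fun _ => isClosed_closure
    have hηC : η.1 ∉ C := by
      intro h
      obtain ⟨η', hη'⟩ := Set.mem_iUnion.1 h
      exact η'.2 (Subtype.ext ((hH η.1).1 η.2 _ (specializes_iff_mem_closure.2 hη')))
    obtain ⟨D, hD, hηD, hle⟩ := exists_isAffineOpen_mem_and_subset
      (show η.1 ∈ D₀ η ⊓ ⟨Cᶜ, hC.isOpen_compl⟩ from ⟨h₀ η, hηC⟩)
    refine ⟨D, hD, hηD, fun x hx => (hle hx).1, fun η' hη' => ?_⟩
    by_contra hne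
    exact (hle hη').2 (Set.mem_iUnion.2 ⟨⟨η', hne⟩, subset_closure rfl⟩)
  choose D hD hηD hle huniq using key
  have hdis : Pairwise (fun a b => Disjoint (D a) (D b)) := by
    intro a b hne
    rw [disjoint_iff, eq_bot_iff]
    rintro v ⟨ha, hb⟩
    obtain ⟨g, hg, hgen⟩ := exists_isGen v
    let gH : H := ⟨g, (hH g).2 hgen⟩
    exact hne ((huniq a gH (hg.mem_open (D a).2 ha)).symm.trans (huniq b gH (hg.mem_open (D b).2 hb)))
  exact ⟨D, fun η => ⟨hD η, hηD η, hle η⟩, hdis, IsAffineOpen.iSup_of_disjoint hD hdis⟩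

/-- Finite over a neighbourhood of all minimal points. -/
theorem exists_isFinite {R V : Scheme.{u}} [IsAffine V] (f : R ⟶ V) [IsSeparated f]
    [LocallyOfFiniteType f] (hfin : {v : V | IsGen v}.Finite)
    (hfib : ∀ v, IsGen v → (f ⁻¹' {v}).Finite) (hgen : ∀ r, IsGen r ↔ IsGen (f r)) :
    ∃ D : V.Opens, IsAffineOpen D ∧ (∀ v, IsGen v → v ∈ D) ∧ IsFinite (f ∣_ D) := by
  classical
  let H : Set V := {v | IsGen v}
  have : Finite H := hfin.to_subtype
  have hqf : ∀ r, IsGen (f r) → r ∈ f.quasiFiniteLocus := by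
    intro r hr
    rw [Scheme.Hom.mem_quasiFiniteLocus, Scheme.Hom.quasiFiniteAt_iff_isOpen_singleton_asFiber]
    have : Finite (f.fiber (f r)) := by
      have := (hfib (f r) hr).to_subtype
      exact Finite.of_equiv _ (f.fiberHomeo (f r)).symm.toEquiv
    have hcl : ∀ z : f.fiber (f r), IsClosed ({z} : Set (f.fiber (f r))) := by
      intro z
      refine closure_subset_iff_isClosed.1 fun w hw => ?_
      apply (f.fiberHomeo (f r)).injective
      apply Subtype.ext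
      have hs := ((specializes_iff_mem_closure.2 hw).map (f.fiberHomeo (f r)).continuous).map continuous_subtype_val
      have hwgen : IsGen ((f.fiberHomeo (f r)) w).1 :=
        (hgen _).2 ((show f ((f.fiberHomeo (f r)) w).1 = f r from ((f.fiberHomeo (f r)) w).2).symm ▸ hr)
      exact (hwgen _ hs).symm
    have : T1Space (f.fiber (f r)) := ⟨hcl⟩
    exact isOpen_discrete _
  have key : ∀ r : ↥(f ⁻¹' H), ∃ W : R.Opens, IsAffineOpen W ∧ r.1 ∈ W ∧ W ≤ f.quasiFiniteLocus := fun r => by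
    obtain ⟨W, hW, hrW, hle⟩ := exists_isAffineOpen_mem_and_subset (hqf r.1 r.2)
    exact ⟨W, hW, hrW, hle⟩
  choose W hW hrW hle using key
  have : Finite ↥(f ⁻¹' H) := ((hfin.biUnion fun v hv => hfib v hv).subset fun r hr =>
    Set.mem_iUnion₂.2 ⟨f r, hr, rfl⟩).to_subtype
  let K : R.Opens := ⨆ r, W r
  have : CompactSpace ↥(K : Scheme.{u}) := by
    refine isCompact_iff_compactSpace.1 ?_
    show IsCompact ((⨆ r, W r : R.Opens) : Set R)
    rw [TopologicalSpace.Opens.coe_iSup]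
    exact isCompact_iUnion fun r => (hW r).isCompact
  have : QuasiCompact (K.ι ≫ f) := HasAffineProperty.iff_of_isAffine.2 ‹_›
  have : LocallyQuasiFinite (f.quasiFiniteLocus.ι ≫ f) := by
    rw [← Scheme.Hom.quasiFiniteLocus_eq_top_iff, Scheme.Hom.quasiFiniteLocus_comp]
    exact top_le_iff.1 fun x _ => x.2
  have : LocallyQuasiFinite (K.ι ≫ f) := by
    rw [← Scheme.homOfLE_ι R (iSup_le hle), Category.assoc]
    infer_instance
  have key2 : ∀ η : H, ∃ D : V.Opens, η.1 ∈ D ∧ IsFinite ((K.ι ≫ f) ∣_ D) := fun η => by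
    obtain ⟨D, -, hηD, hD⟩ := GenericFinite.exists_isFinite (K.ι ≫ f) (η := η.1) η.2
    exact ⟨D, hηD, hD⟩
  choose D₀ hηD₀ hD₀ using key2
  obtain ⟨Dη, hDη, hdis, hD⟩ := exists_affine_disjoint H (fun v => Iff.rfl) D₀ hηD₀
  let D : V.Opens := ⨆ η, Dη η
  have hfinK : IsFinite ((K.ι ≫ f) ∣_ D) := by
    rw [IsZariskiLocalAtTarget.iff_of_iSup_eq_top (P := (@IsFinite : MorphismProperty Scheme.{u}))
      (fun η => D.ι ⁻¹ᵁ Dη η) (top_le_iff.1 fun x _ => by
        obtain ⟨η, hη⟩ := TopologicalSpace.Opens.mem_iSup.1 x.2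
        exact TopologicalSpace.Opens.mem_iSup.2 ⟨η, hη⟩)]
    intro η
    refine (MorphismProperty.arrow_mk_iso_iff @IsFinite (morphismRestrictRestrict _ D _)).2 ?_
    have e : D.ι ''ᵁ (D.ι ⁻¹ᵁ Dη η) = Dη η := by
      rw [Scheme.Hom.image_preimage_eq_opensRange_inf, Scheme.Opens.opensRange_ι,
        inf_eq_right.2 (le_iSup Dη η)]
    rw [e]
    exact GenericFiniteSp.isFinite_restrict_of_le _ (hDη η).2.2 (hD₀ η)
  have hmem : ∀ v, IsGen v → v ∈ D := fun v hv =>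
    TopologicalSpace.Opens.mem_iSup.2 ⟨⟨v, hv⟩, (hDη ⟨v, hv⟩).2.1⟩
  refine ⟨D, hD, hmem, ?_⟩
  rw [morphismRestrict_comp] at hfinK
  have hprop : IsProper (K.ι ∣_ (f ⁻¹ᵁ D)) := by
    have : IsFinite ((K.ι ∣_ (f ⁻¹ᵁ D)) ≫ f ∣_ D) := hfinK
    have : IsProper ((K.ι ∣_ (f ⁻¹ᵁ D)) ≫ f ∣_ D) := inferInstance
    exact IsProper.of_comp _ (f ∣_ D)
  have : Surjective (K.ι ∣_ (f ⁻¹ᵁ D)) := by
    refine ⟨fun r => ?_⟩
    have hcl := (K.ι ∣_ (f ⁻¹ᵁ D)).isClosedMap.isClosed_range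
    obtain ⟨g, hg, hgg⟩ := exists_isGen r.1
    have hgH : f g ∈ H := (hgen g).1 hgg
    have hgK : g ∈ K := TopologicalSpace.Opens.mem_iSup.2 ⟨⟨g, hgH⟩, hrW _⟩
    let g' : ↥(f ⁻¹ᵁ D) := ⟨g, hmem _ hgH⟩
    obtain ⟨k, hk⟩ : g' ∈ Set.range (K.ι ∣_ (f ⁻¹ᵁ D)) := by
      refine ⟨⟨⟨g, hgK⟩, hmem _ hgH⟩, ?_⟩
      apply Subtype.ext
      exact congrArg (fun m => m (⟨⟨g, hgK⟩, hmem _ hgH⟩ : ↥(K.ι ⁻¹ᵁ (f ⁻¹ᵁ D)))) (morphismRestrict_ι K.ι (f ⁻¹ᵁ D))
    exact ((subtype_specializes_iff g' r).2 hg).mem_closed hcl ⟨k, hk⟩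
  have : IsIso (K.ι ∣_ (f ⁻¹ᵁ D)) := (isIso_iff_isOpenImmersion_and_surjective _).2 ⟨inferInstance, inferInstance⟩
  exact (MorphismProperty.cancel_left_of_respectsIso @IsFinite (K.ι ∣_ (f ⁻¹ᵁ D)) (f ∣_ D)).1 hfinK

end Groth.Agent.Lib.AlgSpDecent.GenericFiniteSet
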