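import Groth.Agent.Lib.AlgSpDecent.DenseOpen
import Groth.Agent.Lib.AlgSpMor.Codim
import Groth.Agent.Lib.AlgSpDecent.DimIntegral
import Groth.Prelude.Def_AlgSpDec

/-!
Generic points of integral algebraic spaces.
-/

universe u

open CategoryTheory CategoryTheory.Limits AlgebraicGeometry Opposite Topology

namespace Groth.Agent.Lib.AlgSpDecent.IntegralGen

open AlgSp Groth.Agent.Lib.AlgSpace Core

variable {S : Scheme.{u}} {X Y : Sp S}

theorem gens_iff (hX : IsAlgSpace X) (hXi : IsIntegralSp X) {x : Points X}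
    (hx : IsGenericPoint x (Set.univ : Set (Points X))) (x' : Points X) :
    HasAt (fun U u => ringKrullDim ↥(U.presheaf.stalk u) = 0) X x' ↔ x' = x := by
  have := Decent.t0Space_points hX hXi.2.1
  obtain ⟨U, a, u, -, ha, rfl⟩ := DimIntegral.exists_affine_chart_pt hX x'
  rw [AlgSpMor.Codim.hasAt_dim0_iff hX ha u]
  constructor
  · intro hu
    obtain ⟨u', hu', he⟩ := Decent.IsDecent.exists_lift hXi.2.1 ha
      (hx.specializes (Set.mem_univ (Points.ofPt a u)))
    rw [hu u' hu'] at he
    exact he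
  · intro he w hw
    have h1 : Points.ofPt a w ⤳ x := he ▸ hw.map (Points.continuous_ofPt a)
    have h2 : Points.ofPt a w = x := (h1.antisymm (hx.specializes (Set.mem_univ _))).eq
    exact (Decent.IsDecent.eq_of_specializes hXi.2.1 ha (he.trans h2.symm) hw).symm

theorem map_generic (hY : IsAlgSpace Y) (hYi : IsIntegralSp Y) {f : X ⟶ Y}
    (hd : IsDominantMor f) {x : Points X} (hx : IsGenericPoint x (Set.univ : Set (Points X)))
    {y : Points Y} (hy : IsGenericPoint y (Set.univ : Set (Points Y))) : Points.map f x = y := by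
  have := Decent.t0Space_points hY hYi.2.1
  refine ((hy.specializes (Set.mem_univ _)).antisymm ?_).eq.symm
  refine specializes_iff_mem_closure.2 ?_
  have hsub : Set.range (Points.map f) ⊆ closure {Points.map f x} := by
    rintro _ ⟨z, rfl⟩
    exact specializes_iff_mem_closure.1 ((hx.specializes (Set.mem_univ z)).map (Points.continuous_map f))
  exact closure_minimal hsub isClosed_closure (hd y)

theorem mem_open {y : Points Y} (hy : IsGenericPoint y (Set.univ : Set (Points Y))) {O : Set (Points Y)}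
    (hO : IsOpen O) (hne : O.Nonempty) : y ∈ O :=
  (hy.specializes (Set.mem_univ hne.choose)).mem_open hO hne.choose_spec

theorem exists_affine_open (hY : IsAlgSpace Y) (hYi : IsIntegralSp Y) {y : Points Y}
    (hy : IsGenericPoint y (Set.univ : Set (Points Y))) {O : Set (Points Y)} (hO : IsOpen O)
    (hne : O.Nonempty) :
    ∃ (V : Over S) (b : (yon S).obj V ⟶ Y) (v : ↥V.left), IsAffine V.left ∧
      RepWith @IsOpenImmersion b ∧ Set.range (Points.ofPt b) ⊆ O ∧ Points.ofPt b v = y := by
  obtain ⟨G, m, hm, hdense⟩ := DenseOpen.exists_dense_open hY hYi.2.1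
  obtain ⟨z, hzO, ⟨g', rfl⟩⟩ := hdense.inter_open_nonempty O hO hne
  have hO' : IsOpen (O ∩ Set.range (Points.map m)) := hO.inter (isOpenEmbedding_map hm).isOpen_range
  obtain ⟨hyO, g, hg⟩ := mem_open hy hO' ⟨_, hzO, ⟨g', rfl⟩⟩
  obtain ⟨t, rfl⟩ := (Points.schemeEquiv G).surjective g
  have hg' : Points.ofPt m t = y := by
    rw [← hg, ← Category.id_comp m, Core.ofPt_comp]
    rfl
  let O₁ : G.left.Opens := ⟨Points.ofPt m ⁻¹' O, hO.preimage (Points.continuous_ofPt m)⟩
  obtain ⟨V₀, hV₀, htV, hVO⟩ := exists_isAffineOpen_mem_and_subset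
    (show t ∈ O₁ from show Points.ofPt m t ∈ O from hg'.symm ▸ hyO)
  refine ⟨Over.mk (V₀.ι ≫ G.hom), (yon S).map (Specialize.openIncl V₀) ≫ m, ⟨t, htV⟩, hV₀, ?_, ?_, ?_⟩
  · have : MorphismProperty.IsStableUnderComposition @IsOpenImmersion.{u} := inferInstance
    exact repWith_comp ((repWith_yon_map_iff _ _).2 (inferInstanceAs (IsOpenImmersion V₀.ι))) hm
  · rintro _ ⟨w, rfl⟩
    rw [Specialize.ofPt_openIncl_comp]
    exact hVO w.2
  · exact (Specialize.ofPt_openIncl_comp V₀ m _).trans hg'

end Groth.Agent.Lib.AlgSpDecent.IntegralGen
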