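import Groth.Prelude.Def_AlgSpDec
import Groth.Prelude.Def_AlgSpOX
import Groth.Agent.Lib.AlgSpRed.Stalk
import Groth.Agent.Lib.AlgSpace.Points
import Groth.Agent.Lib.AlgSpDecent.Core
import Groth.Agent.Lib.AlgSpMor.LocP

/-!
Global functions on an integral algebraic space.
-/

universe u

open CategoryTheory CategoryTheory.Limits AlgebraicGeometry Opposite Topology TopologicalSpace

namespace Groth.Agent.Lib.AlgSpDecent.IntegralGsect

open AlgSp Groth.Agent.Lib.AlgSpace

variable {S : Scheme.{u}} {X : Sp S}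

/-- The restriction of a global function to a chart. -/
noncomputable def res (E : EtOver X) : ↥(gsectEt (OEt X)) →+* Γ(E.obj.left.left, ⊤) :=
  (ULift.ringEquiv.toRingHom).comp (limit.π (OEt X).obj (op E)).hom

theorem res_map {E E' : EtOver X} (g : E ⟶ E') (s : ↥(gsectEt (OEt X))) :
    g.hom.left.left.appTop.hom (res E' s) = res E s := by
  have h := ConcreteCategory.congr_hom (limit.w (OEt X).obj g.op) s
  rw [ConcreteCategory.comp_apply, OEt_map] at h
  exact congrArg ULift.down h

theorem ext {s t : ↥(gsectEt (OEt X))} (h : ∀ E, res E s = res E t) : s = t :=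
  Concrete.limit_ext _ _ _ fun E => ULift.ext _ _ (h E.unop)

variable (hX : IsAlgSpace X) (hr : EtaleLocally (fun U => IsReduced U) X) [IrreducibleSpace (Points X)]

include hX hr

theorem isReduced_left (E : EtOver X) : IsReduced E.obj.left.left :=
  Groth.Agent.Lib.AlgSpRed.Stalk.isReduced_chart hX.diag hr E.property

theorem exists_res_ne_zero {s : ↥(gsectEt (OEt X))} (hs : s ≠ 0) :
    ∃ E : EtOver X, E.obj.left.left.basicOpen (res E s) ≠ ⊥ := by
  by_contra h
  simp only [not_exists, not_not] at h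
  refine hs (ext fun E => ?_)
  have := isReduced_left hX hr E
  rw [map_zero]
  exact (basicOpen_eq_bot_iff _).1 (h E)

/-- The non-vanishing locus of a nonzero global function meets every nonempty open of every chart. -/
theorem exists_mem_basicOpen {s : ↥(gsectEt (OEt X))} (hs : s ≠ 0) (E : EtOver X)
    {W : E.obj.left.left.Opens} (hW : (W : Set E.obj.left.left).Nonempty) :
    ∃ w ∈ W, w ∈ E.obj.left.left.basicOpen (res E s) := by
  obtain ⟨E', hE'⟩ := exists_res_ne_zero hX hr hs
  obtain ⟨v, hv⟩ := Set.nonempty_iff_ne_empty.2 (fun h0 => hE' (Opens.ext (h0.trans Opens.coe_bot.symm)))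
  obtain ⟨w₀, hw₀⟩ := hW
  obtain ⟨z, ⟨v', hv', rfl⟩, ⟨w, hw, hwz⟩⟩ := nonempty_preirreducible_inter
    (Core.isOpenMap_ofPt E'.property _ (E'.obj.left.left.basicOpen (res E' s)).2)
    (Core.isOpenMap_ofPt E.property _ W.2) ⟨_, v, hv, rfl⟩ ⟨_, w₀, hw₀, rfl⟩
  obtain ⟨R, p, q, sq⟩ := exists_isPullback_yon hX.diag E'.obj.hom E.obj.hom
  obtain ⟨r, hpr, hqr⟩ := (ofPt_eq_ofPt_iff_of_isPullback sq v' w).1 hwz.symm
  have hp : Etale p.left := repWith_property E.property sq.flip
  let E₃ : EtOver X := EtOver.mk ((yon S).map p ≫ E'.obj.hom)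
    (AlgSpMor.LocP.repWith_etale_comp p E'.property)
  let g' : E₃ ⟶ E' := EtOver.homMk p rfl
  let g : E₃ ⟶ E := EtOver.homMk q sq.w.symm
  have h1 : r ∈ R.left.basicOpen (res E₃ s) := by
    rw [← res_map g' s]
    show r ∈ R.left.basicOpen (p.left.appTop (res E' s))
    rw [← Scheme.preimage_basicOpen_top]
    exact (show p.left r ∈ E'.obj.left.left.basicOpen (res E' s) from hpr ▸ hv')
  refine ⟨w, hw, ?_⟩
  rw [← res_map g s] at h1
  change r ∈ R.left.basicOpen (q.left.appTop (res E s)) at h1
  rw [← Scheme.preimage_basicOpen_top] at h1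
  rw [← hqr]
  exact h1

theorem eq_zero_of_mul_eq_zero_res {t : ↥(gsectEt (OEt X))} (ht : t ≠ 0) (E : EtOver X)
    {W : E.obj.left.left.Opens} (a : Γ(E.obj.left.left, W))
    (h : E.obj.left.left.presheaf.map (homOfLE (le_top : W ≤ ⊤)).op (res E t) * a = 0) : a = 0 := by
  have := isReduced_left hX hr E
  rw [← basicOpen_eq_bot_iff]
  by_contra hne
  obtain ⟨w, hw, hwt⟩ := exists_mem_basicOpen hX hr ht E
    (Set.nonempty_iff_ne_empty.2 fun h0 => hne (Opens.ext (h0.trans Opens.coe_bot.symm)))
  have hmul := congrArg (E.obj.left.left.basicOpen) h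
  rw [Scheme.basicOpen_mul, Scheme.basicOpen_res, Scheme.basicOpen_zero] at hmul
  exact (hmul.le ⟨⟨E.obj.left.left.basicOpen_le a hw, hwt⟩, hw⟩ : w ∈ (⊥ : E.obj.left.left.Opens))

theorem germ_injective (E : EtOver X) (u : ↥E.obj.left.left) :
    Function.Injective fun s : ↥(gsectEt (OEt X)) =>
      E.obj.left.left.presheaf.germ ⊤ u trivial (res E s) := by
  intro s t h
  by_contra hne
  have h0 : E.obj.left.left.presheaf.germ ⊤ u trivial (res E (s - t)) = 0 := by
    simp only [map_sub]; exact sub_eq_zero.2 h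
  obtain ⟨W, hu, i₁, i₂, hW⟩ := E.obj.left.left.presheaf.germ_eq (U := ⊤) (V := ⊤) u trivial trivial _ 0 (h0.trans (map_zero _).symm)
  obtain ⟨w, hw, hwst⟩ := exists_mem_basicOpen hX hr (sub_ne_zero.2 hne) E ⟨u, hu⟩
  have h2 := congrArg E.obj.left.left.basicOpen hW
  rw [map_zero, Scheme.basicOpen_zero, Scheme.basicOpen_res] at h2
  exact (h2.le ⟨hw, hwst⟩ : w ∈ (⊥ : E.obj.left.left.Opens))

/-- The global functions of an integral space form a domain. -/
theorem isDomain : IsDomain ↥(gsectEt (OEt X)) := by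
  obtain ⟨U, a, ha, has⟩ := hX.atlas
  obtain ⟨x⟩ := (inferInstance : IrreducibleSpace (Points X)).toNonempty
  obtain ⟨u, rfl⟩ := Core.surjective_ofPt has x
  let E : EtOver X := EtOver.mk a ha
  have hinj := germ_injective hX hr E u
  have : Nontrivial ↥(gsectEt (OEt X)) :=
    ((E.obj.left.left.presheaf.germ ⊤ u trivial).hom.comp (res E)).domain_nontrivial
  have : NoZeroDivisors ↥(gsectEt (OEt X)) := by
    refine ⟨fun {s t} h => ?_⟩
    by_contra hc
    rw [not_or] at hc
    refine hc.2 (ext fun E' => ?_)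
    rw [map_zero]
    refine eq_zero_of_mul_eq_zero_res hX hr hc.1 E' (res E' t) ?_
    have := congrArg (res E') h
    rw [map_mul, map_zero] at this
    have h3 := congrArg (E'.obj.left.left.presheaf.map (homOfLE (le_top : (⊤ : E'.obj.left.left.Opens) ≤ ⊤)).op) this
    simpa using this
  exact NoZeroDivisors.to_isDomain _

theorem exists_div {s t : ↥(gsectEt (OEt X))} (ht : t ≠ 0)
    (hloc : ∀ (E : EtOver X) (u : ↥E.obj.left.left), ∃ a,
      E.obj.left.left.presheaf.germ ⊤ u trivial (res E t) * a =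
        E.obj.left.left.presheaf.germ ⊤ u trivial (res E s)) :
    ∃ r, t * r = s := by
  have hE : ∀ E : EtOver X, ∃ r, res E t * r = res E s := by
    intro E
    let Z := E.obj.left.left
    have hnb : ∀ u : ↥Z, ∃ (W : Z.Opens) (_ : u ∈ W) (r : Γ(Z, W)),
        Z.presheaf.map (homOfLE (le_top : W ≤ ⊤)).op (res E t) * r =
          Z.presheaf.map (homOfLE (le_top : W ≤ ⊤)).op (res E s) := by
      intro u
      obtain ⟨a, ha⟩ := hloc E u
      obtain ⟨W₁, hu₁, r₁, rfl⟩ := Z.presheaf.exists_germ_eq a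
      have h1 : Z.presheaf.germ W₁ u hu₁ (Z.presheaf.map (homOfLE le_top).op (res E t) * r₁) =
          Z.presheaf.germ ⊤ u trivial (res E s) := by
        rw [map_mul]
        erw [Z.presheaf.germ_res_apply (homOfLE (le_top : W₁ ≤ ⊤)) u hu₁]
        exact ha
      obtain ⟨W, hu, i₁, i₂, hW⟩ := Z.presheaf.germ_eq (U := W₁) (V := ⊤) u hu₁ trivial _ _ h1
      refine ⟨W, hu, Z.presheaf.map i₁.op r₁, ?_⟩
      have e := hW
      rw [map_mul, ← ConcreteCategory.comp_apply, ← Functor.map_comp] at e
      exact e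
    choose W hW r hr' using hnb
    have hcov : iSup W = (⊤ : Z.Opens) := top_le_iff.1 fun z _ => Opens.mem_iSup.2 ⟨z, hW z⟩
    have hcompat : TopCat.Presheaf.IsCompatible Z.presheaf W r := by
      intro i j
      refine sub_eq_zero.1 (eq_zero_of_mul_eq_zero_res hX hr ht E _ ?_)
      have hi := congrArg (Z.presheaf.map (Opens.infLELeft (W i) (W j)).op) (hr' i)
      have hj := congrArg (Z.presheaf.map (Opens.infLERight (W i) (W j)).op) (hr' j)
      rw [map_mul, ← ConcreteCategory.comp_apply, ← ConcreteCategory.comp_apply, ← Functor.map_comp] at hi hj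
      rw [mul_sub, sub_eq_zero]
      exact hi.trans hj.symm
    obtain ⟨g, hg, -⟩ := Z.sheaf.existsUnique_gluing' W ⊤ (fun i => homOfLE le_top)
      (le_of_eq hcov.symm) r hcompat
    have hfin : ∀ g' : Γ(Z, ⊤), (∀ i, Z.presheaf.map (homOfLE (le_top : W i ≤ ⊤)).op g' = r i) →
        res E t * g' = res E s := by
      intro g' hg'
      refine Z.sheaf.eq_of_locally_eq' W ⊤ (fun i => homOfLE le_top) (le_of_eq hcov.symm) _ _ fun i => ?_
      show Z.presheaf.map (homOfLE (le_top : W i ≤ ⊤)).op (res E t * g') = _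
      rw [map_mul, hg' i]
      exact hr' i
    exact ⟨_, hfin g hg⟩
  choose r hr₂ using hE
  have hnat : ∀ {E E' : EtOver X} (g : E ⟶ E'), g.hom.left.left.appTop.hom (r E') = r E := by
    intro E E' g
    refine sub_eq_zero.1 (eq_zero_of_mul_eq_zero_res hX hr ht E _ ?_)
    have h1 := congrArg g.hom.left.left.appTop.hom (hr₂ E')
    rw [map_mul, res_map, res_map] at h1
    have h2 : E.obj.left.left.presheaf.map (homOfLE (le_top : (⊤ : E.obj.left.left.Opens) ≤ ⊤)).op (res E t) = res E t := by
      simp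
    rw [h2, mul_sub, h1, hr₂, sub_self]
  let φ : ∀ E : EtOver X, Polynomial ℤ →+* Γ(E.obj.left.left, ⊤) := fun E =>
    Polynomial.eval₂RingHom (Int.castRingHom _) (r E)
  let c : Cone (OEt X).obj :=
    { pt := CommRingCat.of (ULift.{u + 1} (Polynomial ℤ))
      π :=
        { app := fun E => CommRingCat.ofHom (ULift.ringEquiv.symm.toRingHom.comp
            ((φ E.unop).comp ULift.ringEquiv.toRingHom))
          naturality := fun E E' g => by
            apply CommRingCat.hom_ext
            refine RingHom.ext fun p => ?_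
            apply ULift.ext
            show φ E'.unop p.down = g.unop.hom.left.left.appTop.hom (φ E.unop p.down)
            rw [← RingHom.comp_apply g.unop.hom.left.left.appTop.hom]
            congr 1
            refine Polynomial.ringHom_ext' (RingHom.ext_int _ _) ?_
            simp [φ, hnat] } }
  refine ⟨(limit.lift _ c).hom ⟨Polynomial.X⟩, ext fun E => ?_⟩
  rw [map_mul]
  refine Eq.trans (congrArg (res E t * ·) ?_) (hr₂ E)
  show (ConcreteCategory.hom (limit.lift _ c ≫ limit.π _ (op E)) ⟨Polynomial.X⟩).down = _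
  rw [limit.lift_π]
  show φ E Polynomial.X = _
  simp [φ]

/-- The global functions of a normal integral space are integrally closed. -/
theorem isIntegrallyClosed
    (hn : ∀ (E : EtOver X) (u : ↥E.obj.left.left), IsDomain (E.obj.left.left.presheaf.stalk u) ∧
      IsIntegrallyClosed (E.obj.left.left.presheaf.stalk u)) :
    IsIntegrallyClosed ↥(gsectEt (OEt X)) := by
  have := isDomain hX hr
  let A := ↥(gsectEt (OEt X))
  rw [isIntegrallyClosed_iff (FractionRing A)]
  intro x hx
  obtain ⟨s, t, ht, rfl⟩ := IsFractionRing.div_surjective A x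
  have ht0 : t ≠ 0 := nonZeroDivisors.ne_zero ht
  obtain ⟨r, hr'⟩ := exists_div hX hr ht0 (s := s) fun E u => by
    obtain ⟨hd, hic⟩ := hn E u
    let O := E.obj.left.left.presheaf.stalk u
    let φ : A →+* O := (E.obj.left.left.presheaf.germ ⊤ u trivial).hom.comp (res E)
    have hφ : Function.Injective φ := germ_injective hX hr E u
    let ψ : A →+* FractionRing O := (algebraMap O (FractionRing O)).comp φ
    have hψ : Function.Injective ψ := (IsFractionRing.injective O (FractionRing O)).comp hφ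
    let Φ : FractionRing A →+* FractionRing O := IsFractionRing.lift hψ
    have hΦ : ∀ a, Φ (algebraMap A (FractionRing A) a) = ψ a := IsFractionRing.lift_algebraMap hψ
    have hint : IsIntegral O (Φ (algebraMap A _ s / algebraMap A _ t)) := by
      obtain ⟨P, hP, hP0⟩ := hx
      refine ⟨P.map φ, hP.map φ, ?_⟩
      rw [Polynomial.eval₂_map, show (algebraMap O (FractionRing O)).comp φ = Φ.comp (algebraMap A _) from
        RingHom.ext fun a => (hΦ a).symm, ← Polynomial.hom_eval₂, hP0, map_zero]
    obtain ⟨a, ha⟩ := (isIntegrallyClosed_iff (FractionRing O)).1 hic hint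
    refine ⟨a, IsFractionRing.injective O (FractionRing O) ?_⟩
    rw [map_mul, ha, map_div₀, hΦ, hΦ]
    exact mul_div_cancel₀ _ ((map_ne_zero_iff ψ hψ).2 ht0)
  refine ⟨r, ?_⟩
  rw [← hr', map_mul, mul_comm]
  exact (mul_div_cancel_right₀ _ ((map_ne_zero_iff _ (IsFractionRing.injective A (FractionRing A))).2 ht0)).symm

end Groth.Agent.Lib.AlgSpDecent.IntegralGsect
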