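import Groth.Agent.H54.EtaleSep
import Mathlib.AlgebraicGeometry.ZariskisMainTheorem
import Mathlib.AlgebraicGeometry.Morphisms.Finite

/-!
Etale neighbourhoods isolating a finite set of points of a separated quasi-finite morphism.
-/

universe u

open CategoryTheory CategoryTheory.Limits AlgebraicGeometry Topology

namespace Groth.Agent.Lib.AlgSpDecent.Isolate

open H54.GeomLift

variable {W V : Scheme.{u}} (g : W ⟶ V) [LocallyQuasiFinite g] [LocallyOfFiniteType g] [IsSeparated g]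

/-- Two opens finite over the base have union finite over the base. -/
theorem isFinite_sup {X U : Scheme.{u}} (π : X ⟶ U) [IsSeparated π] [LocallyQuasiFinite π]
    [LocallyOfFiniteType π] (A B : X.Opens) (hA : IsFinite (A.ι ≫ π)) (hB : IsFinite (B.ι ≫ π)) :
    IsFinite ((A ⊔ B).ι ≫ π) := by
  let c := Limits.coprod.desc (X.homOfLE (le_sup_left : A ≤ A ⊔ B)) (X.homOfLE (le_sup_right : B ≤ A ⊔ B))
  have hc : Surjective c := ⟨fun x => by
    rcases TopologicalSpace.Opens.mem_sup.1 x.2 with h | h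
    · refine ⟨(Limits.coprod.inl : (A : Scheme.{u}) ⟶ _ ⨿ (B : Scheme.{u})) ⟨x.1, h⟩, ?_⟩
      rw [← Scheme.Hom.comp_apply, Limits.coprod.inl_desc]
      exact Subtype.ext (by simp)
    · refine ⟨(Limits.coprod.inr : (B : Scheme.{u}) ⟶ (A : Scheme.{u}) ⨿ _) ⟨x.1, h⟩, ?_⟩
      rw [← Scheme.Hom.comp_apply, Limits.coprod.inr_desc]
      exact Subtype.ext (by simp)⟩
  have e : c ≫ (A ⊔ B).ι ≫ π = Limits.coprod.desc (A.ι ≫ π) (B.ι ≫ π) := by
    refine coprod.hom_ext ?_ ?_ <;> simp [c]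
  have : IsFinite (c ≫ (A ⊔ B).ι ≫ π) := by rw [e]; infer_instance
  have : UniversallyClosed ((A ⊔ B).ι ≫ π) := UniversallyClosed.of_comp_surjective c _
  have : IsProper ((A ⊔ B).ι ≫ π) := { }
  exact (IsFinite.iff_isProper_and_locallyQuasiFinite _).2 ⟨this, inferInstance⟩

theorem exists_finset {k : Type u} [Field k] [IsAlgClosed k] (ξ : Spec (CommRingCat.of k) ⟶ V)
    (s : Finset (Lift g ξ)) :
    ∃ (U : Scheme.{u}) (a : U ⟶ V) (_ : Etale a) (η : Spec (CommRingCat.of k) ⟶ U)
      (O : (pullback g a).Opens), η ≫ a = ξ ∧ IsFinite (O.ι ≫ pullback.snd g a) ∧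
      ∀ z : Lift (pullback.snd g a) η, pt z.1 ∈ O ↔ ∃ q ∈ s, z.1 ≫ pullback.fst g a = q.1 := by
  classical
  induction s using Finset.induction with
  | empty =>
    refine ⟨V, 𝟙 V, inferInstance, ξ, ⊥, Category.comp_id _, ?_, fun z => ?_⟩
    · have : IsEmpty ((⊥ : (pullback g (𝟙 V)).Opens) : Scheme.{u}) := ⟨fun x => x.2⟩
      infer_instance
    · exact ⟨fun h => h.elim, fun ⟨q, hq, _⟩ => (Finset.notMem_empty q hq).elim⟩
  | insert q s hqs ih =>
    obtain ⟨U, a, _, η, O, hη, hO, hmem⟩ := ih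
    obtain ⟨U', a', _, η', P, j, _, p, hP, hη', hp, hpu⟩ := H54.EtaleSep.exists_datum g q.1
    have hη'' : η' ≫ a' = ξ := hη'.trans q.2
    let r₁ := pullback.fst a a'
    let r₂ := pullback.snd a a'
    let b : pullback a a' ⟶ V := r₁ ≫ a
    have : Etale r₁ := MorphismProperty.pullback_fst _ _ ‹_›
    let ζ : Spec (CommRingCat.of k) ⟶ pullback a a' := pullback.lift η η' (hη.trans hη''.symm)
    have hζ₁ : ζ ≫ r₁ = η := pullback.lift_fst _ _ _
    have hζ₂ : ζ ≫ r₂ = η' := pullback.lift_snd _ _ _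
    let m₁ : pullback g b ⟶ pullback g a := pullback.lift (pullback.fst g b) (pullback.snd g b ≫ r₁)
      (by rw [pullback.condition, Category.assoc])
    let m₂ : pullback g b ⟶ pullback g a' := pullback.lift (pullback.fst g b) (pullback.snd g b ≫ r₂)
      (by rw [pullback.condition, Category.assoc]; exact congrArg (_ ≫ ·) pullback.condition)
    have hm₁f : m₁ ≫ pullback.fst g a = pullback.fst g b := pullback.lift_fst _ _ _
    have hm₁s : m₁ ≫ pullback.snd g a = pullback.snd g b ≫ r₁ := pullback.lift_snd _ _ _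
    have hm₂f : m₂ ≫ pullback.fst g a' = pullback.fst g b := pullback.lift_fst _ _ _
    have hm₂s : m₂ ≫ pullback.snd g a' = pullback.snd g b ≫ r₂ := pullback.lift_snd _ _ _
    have sq₁ : IsPullback m₁ (pullback.snd g b) (pullback.snd g a) r₁ := by
      refine IsPullback.of_right ?_ hm₁s (IsPullback.of_hasPullback g a)
      rw [hm₁f]
      exact IsPullback.of_hasPullback g b
    have sq₂ : IsPullback m₂ (pullback.snd g b) (pullback.snd g a') r₂ := by
      refine IsPullback.of_right ?_ hm₂s (IsPullback.of_hasPullback g a')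
      rw [hm₂f, show r₂ ≫ a' = b from (pullback.condition).symm]
      exact IsPullback.of_hasPullback g b
    have finite_preimage : ∀ {Y T : Scheme.{u}} {π : Y ⟶ T} {m : pullback g b ⟶ Y} {r : pullback a a' ⟶ T},
        IsPullback m (pullback.snd g b) π r → ∀ A : Y.Opens, IsFinite (A.ι ≫ π) →
          IsFinite ((m ⁻¹ᵁ A).ι ≫ pullback.snd g b) := by
      intro Y T π m r sq A hA
      exact MorphismProperty.of_isPullback (P := @IsFinite) ((isPullback_morphismRestrict m A).paste_vert sq) hA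
    let A := m₁ ⁻¹ᵁ O
    let B := m₂ ⁻¹ᵁ j.opensRange
    have hA : IsFinite (A.ι ≫ pullback.snd g b) := finite_preimage sq₁ O hO
    have hB : IsFinite (B.ι ≫ pullback.snd g b) := finite_preimage sq₂ _ (by
      rw [← j.isoOpensRange_inv_comp, Category.assoc]
      infer_instance)
    refine ⟨pullback a a', b, inferInstance, ζ, A ⊔ B, ?_, isFinite_sup _ A B hA hB, fun z => ?_⟩
    · rw [← Category.assoc, hζ₁, hη]
    let z₁ : Lift (pullback.snd g a) η := ⟨z.1 ≫ m₁, by rw [Category.assoc, hm₁s, reassoc_of% z.2, hζ₁]⟩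
    let z₂ : Lift (pullback.snd g a') η' := ⟨z.1 ≫ m₂, by rw [Category.assoc, hm₂s, reassoc_of% z.2, hζ₂]⟩
    rw [TopologicalSpace.Opens.mem_sup]
    constructor
    · rintro (hz | hz)
      · obtain ⟨q', hq', e⟩ := (hmem z₁).1 hz
        exact ⟨q', Finset.mem_insert_of_mem hq', by rw [← hm₁f, ← Category.assoc]; exact e⟩
      · have : LocallyQuasiFinite j := H54.EtaleSep.locallyQuasiFinite_of_formallyUnramified j
        obtain ⟨x, hx⟩ : pt z₂.1 ∈ Set.range j := hz
        obtain ⟨w, hw⟩ := exists_lift j z₂.1 x hx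
        have := hpu ⟨w.1, by rw [← Category.assoc, w.2]; exact z₂.2⟩
        refine ⟨q, Finset.mem_insert_self _ _, ?_⟩
        have hwp : w.1 = p.1 := congrArg Subtype.val this
        rw [← hm₂f, ← Category.assoc]
        show z₂.1 ≫ pullback.fst g a' = q.1
        rw [← w.2, Category.assoc, hwp, hp]
    · rintro ⟨q', hq', e⟩
      rcases Finset.mem_insert.1 hq' with rfl | hq'
      · right
        have e2 : z₂.1 = p.1 ≫ j := by
          refine pullback.hom_ext ?_ ?_
          · rw [Category.assoc, Category.assoc]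
            exact (show z.1 ≫ m₂ ≫ pullback.fst g a' = q'.1 by rw [hm₂f]; exact e).trans hp.symm
          · rw [z₂.2, Category.assoc, p.2]
        show pt z₂.1 ∈ Set.range j
        rw [e2]
        exact ⟨_, rfl⟩
      · left
        exact (hmem z₁).2 ⟨q', hq', by
          show (z.1 ≫ m₁) ≫ pullback.fst g a = q'.1
          rw [Category.assoc, hm₁f]; exact e⟩

/-- Isolation of a finite set of points of one fibre. -/
theorem exists_isolation (v : V) {T : Set W} (hT : T.Finite) (hTv : ∀ w ∈ T, g w = v) :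
    ∃ (U : Scheme.{u}) (a : U ⟶ V) (_ : Etale a) (u : U) (O : (pullback g a).Opens), a u = v ∧
      IsFinite (O.ι ≫ pullback.snd g a) ∧
      ∀ z : ↥(pullback g a), pullback.snd g a z = u → (z ∈ O ↔ pullback.fst g a z ∈ T) := by
  classical
  obtain ⟨k, _, _, ξ, rfl⟩ := exists_pt_eq v
  have : Finite {s : Lift g ξ // pt s.1 ∈ T} := by
    have := hT.to_subtype
    have : ∀ w : T, Finite {s : Lift g ξ // pt s.1 = w.1} := fun w => (card_pt_eq g ξ w.1 (hTv _ w.2)).1
    exact Finite.of_surjective (fun p : Σ w : T, {s : Lift g ξ // pt s.1 = w.1} =>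
      (⟨p.2.1, p.2.2.symm ▸ p.1.2⟩ : {s : Lift g ξ // pt s.1 ∈ T}))
      fun s => ⟨⟨⟨_, s.2⟩, ⟨s.1, rfl⟩⟩, rfl⟩
  have hfin : {s : Lift g ξ | pt s.1 ∈ T}.Finite := Set.finite_coe_iff.1 this
  obtain ⟨U, a, ha, η, O, hη, hO, hmem⟩ := exists_finset g ξ hfin.toFinset
  refine ⟨U, a, ha, pt η, O, by rw [← pt_comp, hη], hO, fun z hz => ?_⟩
  obtain ⟨ζ, hζ⟩ := exists_lift (pullback.snd g a) η z hz
  subst hζ
  let q₀ : Lift g ξ := ⟨ζ.1 ≫ pullback.fst g a, by
    rw [Category.assoc, pullback.condition, reassoc_of% ζ.2, hη]⟩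
  rw [hmem ζ]
  constructor
  · rintro ⟨q, hq, e⟩
    have h2 := (Set.Finite.mem_toFinset hfin).1 hq
    show pt (ζ.1 ≫ pullback.fst g a) ∈ T
    rw [e]; exact h2
  · intro h
    exact ⟨q₀, (Set.Finite.mem_toFinset hfin).2 h, rfl⟩

end Groth.Agent.Lib.AlgSpDecent.Isolate
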