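import Groth.Agent.Lib.AlgSpDecent.Isolate
import Groth.Agent.Lib.AlgSpDecent.ChartOver
import Groth.Agent.Lib.AlgSpGeomConn.Basic
import Groth.Agent.Lib.AlgSpMor.LqfRep
import Groth.Agent.Lib.AlgSpMor.SepPair
import Groth.Agent.Lib.AlgSpMor.AffineDescent
import Groth.Agent.Lib.AlgSpMor.QC

/-!
Etale localisation of separated morphisms at finitely many quasi-finite points.
-/

universe u

open CategoryTheory CategoryTheory.Limits AlgebraicGeometry Opposite Topology

namespace Groth.Agent.Lib.AlgSpDecent.IsolateSp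

open AlgSp Groth.Agent.Lib.AlgSpace Core FiniteNhd

variable {S : Scheme.{u}} {X Y : Sp S}

theorem isOpen_qf (hX : IsAlgSpace X) (hY : IsAlgSpace Y) {f : X ⟶ Y} (hf : LocP @LocallyOfFiniteType f) :
    IsOpen {x | HasAtMor QfAt f x} := by
  obtain ⟨U, V, a, b, h, ha, has, hb, -, w⟩ := AlgSpMor.LocP.exists_chart hX hY f
  have : LocallyOfFiniteType h.left := hf a b h ha hb w
  rw [Core.isOpen_iff_chart ha has]
  convert h.left.quasiFiniteLocus.2 using 1
  ext u
  exact ChartOver.qfAt_iff_chart hX hY hf ha hb w u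

theorem repWith_isClosedImmersion_jV {A P U : Sp S} {l : A ⟶ P} {π : P ⟶ U} (hl : RepWith @IsOpenImmersion l)
    (hsep : IsSeparatedMor π) (hfin : RepWith @IsFinite (l ≫ π)) : RepWith @IsClosedImmersion l := by
  have sq := IsPullback.of_hasPullback (l ≫ π) π
  let γ := sq.lift (𝟙 A) l (by rw [Category.id_comp])
  have hγ : RepWith @IsFinite γ :=
    repWith_mono (AlgSpace.repWith_baseChange (AlgSpMor.Sep.isPullback_section _ γ (sq.lift_fst _ _ _))
      (AlgSpMor.Sep.repWith_diagonal_baseChange sq.flip hsep))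
      fun _ _ g (_ : IsClosedImmersion g) => (inferInstance : IsFinite g)
  have : MorphismProperty.IsStableUnderComposition @IsFinite.{u} :=
    ⟨fun f g (_ : IsFinite f) (_ : IsFinite g) ↦ inferInstanceAs (IsFinite (f ≫ g))⟩
  have h := repWith_comp hγ (AlgSpace.repWith_baseChange sq hfin)
  rw [show γ ≫ pullback.snd (l ≫ π) π = l from sq.lift_snd _ _ _] at h
  refine ⟨h.rep, fun T W g a b sq' => ?_⟩
  have : IsOpenImmersion b.left := hl.property g a b sq'
  have : IsFinite b.left := h.property g a b sq'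
  show IsClosedImmersion b.left
  exact (IsClosedImmersion.iff_isFinite_and_mono b.left).2 ⟨inferInstance, inferInstance⟩

/-- The scheme of quasi-finite points over an etale chart of the target. -/
structure QfChart (f : X ⟶ Y) {V : Over S} (b : (yon S).obj V ⟶ Y) where
  Q : Sp S
  j : Q ⟶ X
  W : Over S
  e : (yon S).obj W ⟶ Q
  g : W ⟶ V
  hj : RepWith @IsOpenImmersion j
  range : Set.range (Points.map j) = {x | HasAtMor QfAt f x}
  sq : IsPullback e ((yon S).map g) (j ≫ f) b
  lqf : LocallyQuasiFinite g.left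
  lft : LocallyOfFiniteType g.left
  sep : IsSeparated g.left

theorem exists_qfChart (hX : IsAlgSpace X) (hY : IsAlgSpace Y) {f : X ⟶ Y}
    (hf : LocP @LocallyOfFiniteType f) (hsep : IsSeparatedMor f) {V : Over S}
    {b : (yon S).obj V ⟶ Y} (hb : RepWith @Etale b) : Nonempty (QfChart f b) := by
  obtain ⟨Q, j, hQ, hj, hjr⟩ := AlgSpace.exists_open_subspace hX (isOpen_qf hX hY hf)
  have hqf : LocP (@LocallyQuasiFinite ⊓ @LocallyOfFiniteType) (j ≫ f) := by
    obtain ⟨U', V', a, c, h, ha, has, hc, -, w⟩ := AlgSpMor.LocP.exists_chart hQ hY (j ≫ f)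
    have : MorphismProperty.IsStableUnderComposition @Etale.{u} :=
      ⟨fun f g (_ : Etale f) (_ : Etale g) ↦ inferInstanceAs (Etale (f ≫ g))⟩
    have haj : RepWith @Etale (a ≫ j) :=
      repWith_comp ha (repWith_mono hj fun _ _ g (_ : IsOpenImmersion g) => (inferInstance : Etale g))
    have w' : (a ≫ j) ≫ f = (yon S).map h ≫ c := by rw [Category.assoc]; exact w
    have : LocallyOfFiniteType h.left := hf (a ≫ j) c h haj hc w'
    refine AlgSpMor.LocP.locP_of_chart AlgSpMor.LocP.lqfLft hQ.diag hY.diag ha has hc w ⟨?_, this⟩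
    refine (Scheme.Hom.quasiFiniteLocus_eq_top_iff _).1 (top_le_iff.1 fun u _ => ?_)
    refine (ChartOver.qfAt_iff_chart hX hY hf haj hc w' u).1 ?_
    rw [Core.ofPt_comp]
    exact hjr.le ⟨_, rfl⟩
  have hjc : RepWith @IsClosedImmersion (pullback.diagonal (j ≫ f)) := by
    have hmj : Mono j := AlgSpace.mono_of_repWith (P := @IsOpenImmersion)
      (fun _ _ g (_ : IsOpenImmersion g) ↦ (inferInstance : Mono g)) hj
    let m : pullback (j ≫ f) (j ≫ f) ⟶ pullback f f :=
      pullback.map _ _ _ _ j j (𝟙 _) (by simp) (by simp)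
    have e : pullback.diagonal (j ≫ f) ≫ m = j ≫ pullback.diagonal f := by
      apply pullback.hom_ext <;> simp [m, pullback.map, pullback.lift_fst, pullback.lift_snd]
    refine AlgSpace.repWith_baseChange (fst := j) (g := m) ?_ hsep
    refine AlgSpace.isPullback_of_yon e.symm (fun T c c' h _ ↦ (cancel_mono j).1 h)
      fun T c d hcd ↦ ?_
    have h1 := congr($hcd ≫ pullback.fst f f)
    have h2 := congr($hcd ≫ pullback.snd f f)
    simp only [Category.assoc, pullback.diagonal_fst, pullback.diagonal_snd, Category.comp_id, m,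
      pullback.map, pullback.lift_fst, pullback.lift_snd] at h1 h2
    refine ⟨d ≫ pullback.fst _ _, by rw [Category.assoc]; exact h1.symm, pullback.hom_ext (by simp) ?_⟩
    rw [Category.assoc, pullback.diagonal_snd, Category.comp_id, ← cancel_mono j, Category.assoc,
      Category.assoc, ← h1, ← h2]
  obtain ⟨W, w, e, sq⟩ := AlgSpMor.LqfRep.representable hQ hY hqf hjc b
  have h := AlgSpMor.LocP.locP_of_isPullback AlgSpMor.LocP.lqfLft hQ hY (IsAlgSpace.yon_obj V) sq hqf
    (𝟙 _) (𝟙 _) w (AlgSp.repWith_id @Etale _) (AlgSp.repWith_id @Etale _)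
    (by rw [Category.id_comp, Category.comp_id])
  exact ⟨⟨Q, j, W, e, w, hj, hjr, sq, h.1, h.2,
    (AlgSp.isSeparatedMor_yon_map_iff _).1 (AlgSpMor.Sep.repWith_diagonal_baseChange sq hjc)⟩⟩

theorem QfChart.map_f {f : X ⟶ Y} {V : Over S} {b : (yon S).obj V ⟶ Y} (C : QfChart f b) (w : ↥C.W.left) :
    Points.map f (Points.ofPt (C.e ≫ C.j) w) = Points.ofPt b (C.g.left w) := by
  rw [← Core.ofPt_comp, Category.assoc, C.sq.w, Core.ofPt_map_comp]

/-- The etale localisation at the points of a finite set of one fibre of the quasi-finite chart. -/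
theorem exists_localization {X Y : Space S} (f : X ⟶ Y) (hsep : IsSeparatedMor f.hom) {V : Over S}
    {b : (yon S).obj V ⟶ Y.obj} (hb : RepWith @Etale b) (C : QfChart f.hom b) (v : ↥V.left)
    {T : Set ↥C.W.left} (hT : T.Finite) (hTv : ∀ w ∈ T, C.g.left w = v) :
    ∃ (U : Space S) (A : U ⟶ Y) (u : Points U.obj), IsEtaleMor A.hom ∧
      Points.map A.hom u = Points.ofPt b v ∧
      ∀ (P : Space S) (prX : P ⟶ X) (prU : P ⟶ U), IsPullback prX.hom prU.hom f.hom A.hom →
        ∃ (Vs : Space S) (jV : Vs ⟶ P), RepWith @IsOpenImmersion jV.hom ∧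
          RepWith @IsClosedImmersion jV.hom ∧ IsFiniteMor (jV ≫ prU).hom ∧
          (∀ p : Points Vs.obj, Points.map (jV ≫ prU).hom p = u →
            ∃ w ∈ T, Points.map (jV ≫ prX).hom p = Points.ofPt (C.e ≫ C.j) w) ∧
          (∀ w ∈ T, ∃ p : Points Vs.obj, Points.map (jV ≫ prX).hom p = Points.ofPt (C.e ≫ C.j) w ∧
            Points.map (jV ≫ prU).hom p = u) ∧
          ∀ z : Points P.obj, z ∉ Set.range (Points.map jV.hom) → Points.map prU.hom z = u →
            ∀ x, Points.map prX.hom z = x → x ∈ Set.range (Points.map C.j) →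
              ∃ w, w ∉ T ∧ C.g.left w = v ∧ Points.ofPt (C.e ≫ C.j) w = x := by
  have := C.lqf
  have := C.lft
  have := C.sep
  obtain ⟨U₁, a, _, u₁, O, hu, hO, hmem⟩ := Isolate.exists_isolation C.g.left v hT hTv
  let U : Over S := Over.mk (a ≫ V.hom)
  let au : U ⟶ V := Over.homMk a rfl
  let A : (yon S).obj U ⟶ Y.obj := (yon S).map au ≫ b
  let Us : Space S := ⟨(yon S).obj U, IsAlgSpace.yon_obj U⟩
  have : MorphismProperty.IsStableUnderComposition @Etale.{u} :=
    ⟨fun f g (_ : Etale f) (_ : Etale g) ↦ inferInstanceAs (Etale (f ≫ g))⟩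
  have hA : RepWith @Etale A := repWith_comp ((AlgSp.repWith_yon_map_iff _ _).2 ‹Etale a›) hb
  refine ⟨Us, ObjectProperty.homMk A, Points.ofScheme U u₁, fun _ φ hφ => repWith_comp hφ hA, ?_,
    fun P prX prU sq => ?_⟩
  · show Points.map A _ = _
    rw [Core.map_ofScheme, Core.ofPt_map_comp]
    exact congrArg _ hu
  change IsPullback prX.hom prU.hom f.hom A at sq
  let WU : Over S := Over.mk (pullback.fst C.g.left a ≫ C.W.hom)
  let p₁ : WU ⟶ C.W := Over.homMk (pullback.fst C.g.left a) rfl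
  let p₂ : WU ⟶ U := Over.homMk (pullback.snd C.g.left a) (by
    show pullback.snd C.g.left a ≫ a ≫ V.hom = pullback.fst C.g.left a ≫ C.W.hom
    rw [← pullback.condition_assoc, Over.w C.g])
  have sqW : IsPullback p₁ p₂ C.g au :=
    IsPullback.of_map (Over.forget S) (Over.OverMorphism.ext pullback.condition)
      (IsPullback.of_hasPullback C.g.left a)
  have sqQ : IsPullback ((yon S).map p₁ ≫ C.e) ((yon S).map p₂) (C.j ≫ f.hom) A :=
    (isPullback_yon sqW).paste_horiz C.sq
  let φ : (yon S).obj WU ⟶ P.obj := sq.lift (((yon S).map p₁ ≫ C.e) ≫ C.j) ((yon S).map p₂)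
    (by rw [Category.assoc]; exact sqQ.w)
  have sqφ : IsPullback ((yon S).map p₁ ≫ C.e) φ C.j prX.hom := by
    refine IsPullback.of_bot (v₁₁ := φ) ?_ (sq.lift_fst _ _ _).symm sq
    rw [sq.lift_snd]
    exact sqQ
  have hφ : RepWith @IsOpenImmersion φ := AlgSpace.repWith_baseChange sqφ C.hj
  let O' : WU.left.Opens := O
  let Vo : Over S := Over.mk (O'.ι ≫ WU.hom)
  let Vs : Space S := ⟨(yon S).obj Vo, IsAlgSpace.yon_obj Vo⟩
  let l : (yon S).obj Vo ⟶ P.obj := (yon S).map (Specialize.openIncl O') ≫ φ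
  have hl : RepWith @IsOpenImmersion l :=
    (AlgSp.repWith_isMultiplicative @IsOpenImmersion).comp_mem _ _
      ((AlgSp.repWith_yon_map_iff _ _).2 (inferInstanceAs (IsOpenImmersion O'.ι))) hφ
  have hlU : l ≫ prU.hom = (yon S).map (Specialize.openIncl O' ≫ p₂) := by
    rw [Category.assoc, sq.lift_snd, Functor.map_comp]
  have hlX : l ≫ prX.hom = (yon S).map (Specialize.openIncl O' ≫ p₁) ≫ C.e ≫ C.j := by
    rw [Category.assoc, sq.lift_fst, Functor.map_comp, Category.assoc, Category.assoc]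
  have hfin : RepWith @IsFinite (l ≫ prU.hom) := by
    rw [hlU]; exact (AlgSp.repWith_yon_map_iff _ _).2 hO
  have happX : ∀ z : ↥Vo.left, Points.map (l ≫ prX.hom) (Points.ofScheme Vo z) =
      Points.ofPt (C.e ≫ C.j) (pullback.fst C.g.left a z.1) := fun z => by
    rw [Core.map_ofScheme, hlX, Core.ofPt_map_comp]
    exact congrArg _ (Scheme.Hom.comp_apply _ _ z)
  have happU : ∀ z : ↥Vo.left, Points.map (l ≫ prU.hom) (Points.ofScheme Vo z) =
      Points.ofScheme U (pullback.snd C.g.left a z.1) := fun z => by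
    rw [Core.map_ofScheme, hlU, Core.ofPt_yon_map]
    exact congrArg _ (Scheme.Hom.comp_apply _ _ z)
  refine ⟨Vs, ObjectProperty.homMk l, hl,
    repWith_isClosedImmersion_jV hl (AlgSpMor.Sep.repWith_diagonal_baseChange sq hsep) hfin,
    AlgSpMor.AffineDescent.isFiniteMor_iff.2 hfin, fun p hp => ?_, fun w hw => ?_, fun z hz hzu x hx hxj => ?_⟩
  · obtain ⟨z, rfl⟩ := (Points.schemeEquiv Vo).surjective p
    have hzu : pullback.snd C.g.left a z.1 = u₁ :=
      (Points.schemeEquiv U).injective ((happU z).symm.trans hp)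
    exact ⟨_, (hmem z.1 hzu).1 z.2, happX z⟩
  · obtain ⟨z, hz₁, hz₂⟩ := Scheme.Pullback.exists_preimage_pullback (f := C.g.left) (g := a) w u₁
      ((hTv w hw).trans hu.symm)
    have hzO : z ∈ O := (hmem z hz₂).2 (hz₁.symm ▸ hw)
    refine ⟨Points.ofScheme Vo ⟨z, hzO⟩, (happX ⟨z, hzO⟩).trans (congrArg _ hz₁), ?_⟩
    exact (happU ⟨z, hzO⟩).trans (congrArg _ hz₂)
  · obtain ⟨y, rfl⟩ := hxj
    obtain ⟨q, hq₁, hq₂⟩ := Core.exists_point_of_isPullback sqφ y z hx.symm
    obtain ⟨t, rfl⟩ := (Points.schemeEquiv WU).surjective q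
    have hzu' : pullback.snd C.g.left a t = u₁ := by
      apply (Points.schemeEquiv U).injective
      refine Eq.trans ?_ hzu
      rw [← hq₂, ← Points.map_comp, sq.lift_snd]
      exact ((Core.map_ofScheme _ t).trans (Core.ofPt_yon_map p₂ t)).symm
    have htO : t ∉ O := fun h => hz ⟨Points.ofScheme Vo ⟨t, h⟩, by
      refine (Core.map_ofScheme l _).trans ?_
      rw [Specialize.ofPt_openIncl_comp, ← hq₂]
      exact (Core.map_ofScheme φ t).symm⟩
    refine ⟨pullback.fst C.g.left a t, fun h => htO ((hmem t hzu').2 h), ?_, ?_⟩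
    · rw [← Scheme.Hom.comp_apply, pullback.condition, Scheme.Hom.comp_apply, hzu', hu]
    · rw [Core.ofPt_comp, ← hq₁]
      refine congrArg _ ?_
      show _ = Points.map ((yon S).map p₁ ≫ C.e) (Points.ofScheme WU t)
      rw [Core.map_ofScheme ((yon S).map p₁ ≫ C.e) t, Core.ofPt_map_comp p₁ C.e t]
      simp [p₁]

theorem exists_point (hX : IsAlgSpace X) {f : X ⟶ Y} {V : Over S} {b : (yon S).obj V ⟶ Y}
    (C : QfChart f b) {v : ↥V.left} {x : Points X} (hq : HasAtMor QfAt f x)
    (hx : Points.map f x = Points.ofPt b v) :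
    ∃ w, C.g.left w = v ∧ Points.ofPt (C.e ≫ C.j) w = x := by
  obtain ⟨y, rfl⟩ := C.range.ge hq
  obtain ⟨w, hw₁, hw₂⟩ := AlgSpGeomConn.exists_ofPt_of_isPullback C.sq.flip y v (by
    rw [Points.map_comp]; exact hx)
  exact ⟨w, hw₁, by rw [Core.ofPt_comp, hw₂]⟩

/-- Over an elementary etale neighbourhood the points of a fibre are those of the space. -/
theorem injOn_of_mono {f : X ⟶ Y} {V : Over S} {b : (yon S).obj V ⟶ Y} (C : QfChart f b) {v : ↥V.left}
    (hm : Mono (FieldPt.ofPt b v).toHom) :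
    Set.InjOn (Points.ofPt (C.e ≫ C.j)) {w | C.g.left w = v} := by
  intro w hw w' hw' he
  let K : Over S := Over.mk (V.left.fromSpecResidueField v ≫ V.hom)
  let c : K ⟶ V := Over.homMk (V.left.fromSpecResidueField v) rfl
  have hp : Mono ((yon S).map c ≫ b) := by
    have := hm
    rw [FieldPt.toHom_ofPt] at this
    exact this
  let R := Limits.pullback C.g c
  have sq := (isPullback_yon (IsPullback.of_hasPullback C.g c)).paste_horiz C.sq
  have hmono : Mono (((yon S).map (pullback.fst C.g c) ≫ C.e) ≫ C.j) := by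
    have := sq.mono_fst_of_mono hp
    have := AlgSpace.mono_of_repWith (P := @IsOpenImmersion)
      (fun _ _ g (_ : IsOpenImmersion g) ↦ (inferInstance : Mono g)) C.hj
    infer_instance
  have key : ∀ w, C.g.left w = v → ∃ r : ↥R.left, (pullback.fst C.g c).left r = w := by
    intro w hw
    obtain ⟨r, hr, -⟩ := Scheme.exists_preimage_of_isPullback
      ((IsPullback.of_hasPullback C.g c).map (Over.forget S)) w (IsLocalRing.closedPoint _)
      (hw.trans (Scheme.fromSpecResidueField_apply _ _).symm)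
    exact ⟨r, hr⟩
  obtain ⟨r, rfl⟩ := key w hw
  obtain ⟨r', rfl⟩ := key w' hw'
  refine congrArg _ ((Points.schemeEquiv R).injective (Core.injective_map_of_mono
    (((yon S).map (pullback.fst C.g c) ≫ C.e) ≫ C.j) ?_))
  show Points.map _ (Points.ofScheme R r) = Points.map _ (Points.ofScheme R r')
  rw [Core.map_ofScheme, Core.map_ofScheme, Category.assoc, Core.ofPt_map_comp, Core.ofPt_map_comp]
  exact he

/-- The quasi-finite points in one fibre of a quasi-compact morphism are finitely many. -/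
theorem finite_fibre (hX : IsAlgSpace X) (hY : IsAlgSpace Y) {f : X ⟶ Y}
    (hf : LocP @LocallyOfFiniteType f) (hqc : IsQuasiCompactMor f) {V : Over S} [IsAffine V.left]
    {b : (yon S).obj V ⟶ Y} (hb : RepWith @Etale b) (C : QfChart f b) (v : ↥V.left) :
    {w | C.g.left w = v}.Finite := by
  have sqP := IsPullback.of_hasPullback f b
  obtain ⟨T, c, hc, hcs, hT⟩ := hqc (IsAlgSpace.yon_obj V) AlgSpMor.QC.isQuasiCompactSp_yon b _ _ sqP
  have : CompactSpace ↥T.left := hT
  obtain ⟨h, hh⟩ := (yon S).map_surjective (c ≫ pullback.snd f b)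
  have : MorphismProperty.IsStableUnderComposition @Etale.{u} :=
    ⟨fun f g (_ : Etale f) (_ : Etale g) ↦ inferInstanceAs (Etale (f ≫ g))⟩
  have ha : RepWith @Etale (c ≫ pullback.fst f b) :=
    repWith_comp hc (AlgSpace.repWith_baseChange sqP.flip hb)
  have hw : (c ≫ pullback.fst f b) ≫ f = (yon S).map h ≫ b := by
    rw [hh, Category.assoc, Category.assoc, sqP.w]
  have : LocallyOfFiniteType h.left := hf _ b h ha hb hw
  have : QuasiCompact h.left := inferInstance
  let ψ : (yon S).obj C.W ⟶ pullback f b := sqP.lift (C.e ≫ C.j) ((yon S).map C.g)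
    (by rw [Category.assoc]; exact C.sq.w)
  have sqψ : IsPullback C.e ψ C.j (pullback.fst f b) := by
    refine IsPullback.of_bot (v₁₁ := ψ) ?_ (sqP.lift_fst _ _ _).symm sqP
    rw [sqP.lift_snd]
    exact C.sq
  have := AlgSpace.mono_of_repWith (P := @IsOpenImmersion)
    (fun _ _ g (_ : IsOpenImmersion g) ↦ (inferInstance : Mono g)) (AlgSpace.repWith_baseChange sqψ C.hj)
  have hψ : Function.Injective (Points.ofPt ψ) := fun w w' e => by
    rw [← map_ofScheme ψ w, ← map_ofScheme ψ w'] at e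
    exact (Points.schemeEquiv C.W).injective (Core.injective_map_of_mono ψ e)
  have : LocallyOfFiniteType (h.left.fiberToSpecResidueField v) :=
    MorphismProperty.pullback_snd _ _ ‹_›
  have : IsLocallyNoetherian (h.left.fiber v) :=
    LocallyOfFiniteType.isLocallyNoetherian (h.left.fiberToSpecResidueField v)
  have : IsNoetherian (h.left.fiber v) := { }
  let q : Set ↥(h.left.fiber v) := h.left.fiberι v ⁻¹' h.left.quasiFiniteLocus
  have hq : _root_.IsDiscrete q := by
    rw [isDiscrete_iff_discreteTopology, discreteTopology_iff_isOpen_singleton]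
    rintro ⟨z, hz⟩
    obtain ⟨t, ht⟩ : ∃ t, t = h.left.fiberι v z := ⟨_, rfl⟩
    have hv : h.left t = v := by
      have : h.left.fiberι v z ∈ h.left ⁻¹' {v} := h.left.range_fiberι v ▸ Set.mem_range_self z
      rw [ht]; exact this
    subst hv
    obtain rfl : z = h.left.asFiber t :=
      (h.left.fiberι _).isEmbedding.injective (ht.symm.trans (h.left.fiberι_asFiber t).symm)
    have := Scheme.Hom.mem_quasiFiniteLocus.1 (ht.symm ▸ hz : t ∈ h.left.quasiFiniteLocus)
    refine isOpen_induced_iff.2 ⟨_, this.isClopen_singleton_asFiber.isOpen, ?_⟩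
    ext y
    simp [Subtype.ext_iff]
  have hqf : q.Finite := by
    have hc : IsCompact q := TopologicalSpace.NoetherianSpace.isCompact _
    exact hc.finite hq
  refine Set.Finite.of_finite_image ((hqf.image fun z => Points.ofPt c (h.left.fiberι v z)).subset ?_) hψ.injOn
  rintro _ ⟨w, hwv, rfl⟩
  obtain ⟨t, ht⟩ := AlgSpace.surjective_ofPt hcs (Points.ofPt ψ w)
  have htv : h.left t = v := by
    apply (Points.schemeEquiv V).injective
    have e := congrArg (Points.map (pullback.snd f b)) ht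
    rw [← Core.ofPt_comp, ← Core.ofPt_comp, sqP.lift_snd, ← hh] at e
    rw [Core.ofPt_yon_map, Core.ofPt_yon_map] at e
    exact e.trans (congrArg _ hwv)
  have htq : t ∈ h.left.quasiFiniteLocus := by
    refine (ChartOver.qfAt_iff_chart hX hY hf ha hb hw t).1 ?_
    rw [Core.ofPt_comp, ht, ← Core.ofPt_comp, sqP.lift_fst, Core.ofPt_comp]
    exact C.range.le ⟨_, rfl⟩
  obtain ⟨z, hz⟩ : t ∈ Set.range (h.left.fiberι v) := (h.left.range_fiberι v).ge htv
  exact ⟨z, show h.left.fiberι v z ∈ h.left.quasiFiniteLocus from hz ▸ htq, by show Points.ofPt c (h.left.fiberι v z) = _; rw [hz, ht]⟩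

end Groth.Agent.Lib.AlgSpDecent.IsolateSp
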