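import Groth.Agent.Lib.AlgSpDecent.Restrict
import Groth.Agent.Lib.AlgSpDecent.Criteria
import Groth.Agent.Lib.AlgSpace.DiagProp
import Mathlib.AlgebraicGeometry.AlgClosed.Basic
import Mathlib.AlgebraicGeometry.Morphisms.FlatMono
import Mathlib.AlgebraicGeometry.Morphisms.Immersion
import Mathlib.AlgebraicGeometry.Morphisms.UniversallyOpen
import Mathlib.FieldTheory.IsAlgClosed.AlgebraicClosure

/-!
Locally separated algebraic spaces are decent.

For an affine etale chart `a : U ⟶ F` and a point `q : Spec k ⟶ F` the fibre `E = U ×_F Spec k` is a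
discrete subscheme of the affine scheme `U × Spec k` (the immersion comes from local separatedness).
It is closed: otherwise a geometric point `c` of its closure would give, by translation along the
relation of the chart, a contradiction with the diagonal being open in the relation.
-/

universe u

open CategoryTheory CategoryTheory.Limits AlgebraicGeometry Opposite Topology

namespace Groth.Agent.Lib.AlgSpDecent.LocSep

open AlgSp Core Fibre Specialize

variable {S : Scheme.{u}} {F : Sp S}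

/-- The absolute product. -/
noncomputable abbrev absProd (X Y : Scheme.{u}) : Scheme.{u} :=
  pullback (terminal.from X) (terminal.from Y)

/-- A pair of morphisms gives a morphism to the absolute product. -/
noncomputable def pair {Z X Y : Scheme.{u}} (f : Z ⟶ X) (g : Z ⟶ Y) : Z ⟶ absProd X Y :=
  pullback.lift f g (Subsingleton.elim _ _)

@[reassoc (attr := simp)]
theorem pair_fst {Z X Y : Scheme.{u}} (f : Z ⟶ X) (g : Z ⟶ Y) :
    pair f g ≫ pullback.fst _ _ = f := pullback.lift_fst _ _ _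

@[reassoc (attr := simp)]
theorem pair_snd {Z X Y : Scheme.{u}} (f : Z ⟶ X) (g : Z ⟶ Y) :
    pair f g ≫ pullback.snd _ _ = g := pullback.lift_snd _ _ _

theorem isImmersion_pair (hX : IsLocallySeparatedSp F) {U V E : Over S} {a : (yon S).obj U ⟶ F}
    {b : (yon S).obj V ⟶ F} {p : E ⟶ U} {q : E ⟶ V}
    (sq : IsPullback ((yon S).map p) ((yon S).map q) a b) :
    IsImmersion (pair p.left q.left) := by
  have h : IsImmersion (prod.lift p q).left := hX.property _ _ _
    (AlgSpace.isPullback_diag_yonProd sq)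
  have e : (prod.lift p q).left ≫ (Over.prodLeftIsoPullback U V).hom ≫
      pullback.mapDesc U.hom V.hom (terminal.from S) ≫
      (pullback.congrHom (terminal.comp_from U.hom) (terminal.comp_from V.hom)).hom =
        pair p.left q.left := by
    apply pullback.hom_ext <;>
      simp [pullback.mapDesc, pullback.lift_fst, pullback.lift_snd, pullback.lift_fst_assoc,
        pullback.lift_snd_assoc, ← Over.comp_left]
    · exact congrArg (fun m : E ⟶ U => m.left) (prod.lift_fst p q)
    · exact congrArg (fun m : E ⟶ V => m.left) (prod.lift_snd p q)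
  rw [← e]
  infer_instance

/-- The diagonal is isolated in the relation. -/
theorem exists_open_diag {X R : Scheme.{u}} (s t : R ⟶ X) [Etale t] (δ : X ⟶ R)
    (hs : δ ≫ s = 𝟙 X) (ht : δ ≫ t = 𝟙 X) [IsImmersion (pair s t)] :
    ∃ O : (absProd X X).Opens, (∀ x, pair (𝟙 X) (𝟙 X) x ∈ O) ∧
      ∀ {Z : Scheme.{u}} (l : Z ⟶ R), (∀ z, pair s t (l z) ∈ O) → l ≫ s = l ≫ t := by
  have : Etale δ := by
    have h : Etale (δ ≫ t) := by rw [ht]; infer_instance
    exact MorphismProperty.of_postcomp (W' := @Etale) _ δ t ‹_› h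
  have : Mono δ := by
    have : IsSplitMono δ := ⟨⟨⟨s, hs⟩⟩⟩
    infer_instance
  have : IsOpenImmersion δ := IsOpenImmersion.of_flat_of_mono δ
  obtain ⟨O, hO, hOpre⟩ := (pair s t).isEmbedding.isInducing.isOpen_iff.1
    δ.isOpenEmbedding.isOpen_range
  refine ⟨⟨O, hO⟩, fun x => ?_, fun {Z} l hl => ?_⟩
  · have h1 : δ x ∈ (pair s t) ⁻¹' O := hOpre ▸ Set.mem_range_self x
    have h2 : δ ≫ pair s t = pair (𝟙 X) (𝟙 X) := by
      apply pullback.hom_ext <;> simp [pullback.lift_fst, pullback.lift_snd, hs, ht]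
    rw [← h2]
    exact h1
  · have hsub : Set.range l ⊆ Set.range δ := by
      rintro _ ⟨z, rfl⟩
      rw [← hOpre]
      exact hl z
    rw [← IsOpenImmersion.lift_fac δ l hsub, Category.assoc, Category.assoc, hs, ht]

theorem apply_geometric_point {T : Scheme.{u}} (c : ↥T) {R : CommRingCat.{u}}
    (f : T.residueField c ⟶ R) (pt : ↥(Spec R)) :
    (Spec.map f ≫ T.fromSpecResidueField c) pt = c := by
  rw [Scheme.Hom.comp_apply]
  exact Scheme.fromSpecResidueField_apply _ _

theorem exists_geometric_point {T : Scheme.{u}} (c : ↥T) :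
    ∃ (Ω : Type u) (_ : Field Ω) (_ : IsAlgClosed Ω) (γ : Spec (CommRingCat.of Ω) ⟶ T)
      (pt : ↥(Spec (CommRingCat.of Ω))), γ pt = c := by
  obtain ⟨pt⟩ : Nonempty (PrimeSpectrum (AlgebraicClosure (T.residueField c))) := inferInstance
  exact ⟨AlgebraicClosure (T.residueField c), inferInstance, inferInstance,
    Spec.map (CommRingCat.ofHom (algebraMap (T.residueField c)
      (AlgebraicClosure (T.residueField c)))) ≫ T.fromSpecResidueField c, pt,
    apply_geometric_point c _ _⟩

section Closed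

variable {X E : Scheme.{u}} {k : Type u} [Field k] (ψ : E ⟶ X) (π : E ⟶ Spec (CommRingCat.of k))
variable {Ω : Type u} [Field Ω] (j₀ : Spec (CommRingCat.of Ω) ⟶ Spec (CommRingCat.of k))

/-- Base change of the product to `Ω`. -/
noncomputable def baseMap (X : Scheme.{u}) {k Ω : Type u} [Field k] [Field Ω]
    (j₀ : Spec (CommRingCat.of Ω) ⟶ Spec (CommRingCat.of k)) :
    absProd X (Spec (CommRingCat.of Ω)) ⟶ absProd X (Spec (CommRingCat.of k)) :=
  pair (pullback.fst _ _) (pullback.snd _ _ ≫ j₀)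

@[reassoc (attr := simp)]
theorem baseMap_fst : baseMap X j₀ ≫ pullback.fst _ _ = pullback.fst _ _ := pair_fst _ _

@[reassoc (attr := simp)]
theorem baseMap_snd : baseMap X j₀ ≫ pullback.snd _ _ = pullback.snd _ _ ≫ j₀ := pair_snd _ _

theorem isPullback_baseMap :
    IsPullback (pullback.snd _ _ : absProd X (Spec (CommRingCat.of Ω)) ⟶ _) (baseMap X j₀) j₀
      (pullback.snd _ _) := by
  let K := Spec (CommRingCat.of k)
  have h0 : IsPullback (pullback.snd (terminal.from X) (terminal.from (Spec (CommRingCat.of Ω))))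
      (pullback.fst (terminal.from X) (terminal.from (Spec (CommRingCat.of Ω)))) (j₀ ≫ terminal.from K) (terminal.from X) := by
    rw [Subsingleton.elim (j₀ ≫ terminal.from K) (terminal.from (Spec (CommRingCat.of Ω)))]
    exact (IsPullback.of_hasPullback _ _).flip
  refine IsPullback.of_bot ?_ (by simp)
    (IsPullback.of_hasPullback (terminal.from X) (terminal.from K)).flip
  have hb : baseMap X j₀ ≫ pullback.fst (terminal.from X) (terminal.from K) =
      pullback.fst _ _ := baseMap_fst j₀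
  rw [hb]
  exact h0

/-- Over an algebraically closed field the points over the fibre are sections. -/
theorem exists_section [IsAlgClosed Ω] [Etale π] (pt : ↥(Spec (CommRingCat.of Ω)))
    {z : ↥(absProd X (Spec (CommRingCat.of Ω)))}
    (hz : baseMap X j₀ z ∈ Set.range (pair ψ π)) :
    ∃ l : Spec (CommRingCat.of Ω) ⟶ E, l ≫ π = j₀ ∧
      pair (l ≫ ψ) (𝟙 (Spec (CommRingCat.of Ω))) pt = z ∧
      IsClosed ({z} : Set ↥(absProd X (Spec (CommRingCat.of Ω)))) := by
  let ρ := baseMap X j₀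
  have sqρ := isPullback_baseMap (X := X) j₀
  have : Subsingleton ↥(Spec (CommRingCat.of Ω)) := inferInstanceAs (Subsingleton (PrimeSpectrum Ω))
  obtain ⟨e, he⟩ := hz
  obtain ⟨μ, hμ₁, hμ₂⟩ := Scheme.Pullback.exists_preimage_pullback (f := pair ψ π) (g := ρ) e z he
  let M := pullback (pair ψ π) ρ
  let η : M ⟶ (Spec (CommRingCat.of Ω)) := pullback.snd (pair ψ π) ρ ≫ pullback.snd _ _
  have sqM : IsPullback η (pullback.fst (pair ψ π) ρ) j₀ π := by
    have h := (IsPullback.of_hasPullback (pair ψ π) ρ).flip.paste_horiz sqρ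
    rwa [pair_snd] at h
  have : Etale η := MorphismProperty.of_isPullback (P := @Etale) sqM.flip ‹Etale π›
  have := locallyQuasiFinite_of_etale η
  have : IsLocallyArtinian (Spec (CommRingCat.of Ω)) := inferInstanceAs (IsLocallyArtinian (Spec (CommRingCat.of Ω)))
  have : IsLocallyArtinian M := IsLocallyArtinian.of_locallyQuasiFinite (f := η)
  let σ := pointOfClosedPoint η μ (isClosed_discrete _)
  have hση : σ ≫ η = 𝟙 (Spec (CommRingCat.of Ω)) := pointOfClosedPoint_comp η μ _
  have hσ : σ pt = μ := pointOfClosedPoint_apply η μ _ _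
  refine ⟨σ ≫ pullback.fst _ _, ?_, ?_, ?_⟩
  · rw [Category.assoc, ← sqM.w, reassoc_of% hση]
  · have e1 : σ ≫ pullback.snd (pair ψ π) ρ = pair ((σ ≫ pullback.fst _ _) ≫ ψ) (𝟙 (Spec (CommRingCat.of Ω))) := by
      apply pullback.hom_ext
      · have h := congrArg (fun m => σ ≫ m ≫ pullback.fst _ _)
          (pullback.condition (f := pair ψ π) (g := ρ))
        simpa [ρ, pullback.lift_fst] using h.symm
      · simpa [η, pullback.lift_snd] using hση
    rw [← e1, Scheme.Hom.comp_apply, hσ, hμ₂]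
  · have : IsClosedImmersion (pair ((σ ≫ pullback.fst (pair ψ π) ρ) ≫ ψ) (𝟙 (Spec (CommRingCat.of Ω)))) :=
      isClosedImmersion_of_comp_eq_id (pullback.snd _ _) _ (pair_snd _ _)
    have e1 : σ ≫ pullback.snd (pair ψ π) ρ = pair ((σ ≫ pullback.fst _ _) ≫ ψ) (𝟙 (Spec (CommRingCat.of Ω))) := by
      apply pullback.hom_ext
      · have h := congrArg (fun m => σ ≫ m ≫ pullback.fst _ _)
          (pullback.condition (f := pair ψ π) (g := ρ))
        simpa [ρ, pullback.lift_fst] using h.symm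
      · simpa [η, pullback.lift_snd] using hση
    have hr := (pair ((σ ≫ pullback.fst (pair ψ π) ρ) ≫ ψ) (𝟙 (Spec (CommRingCat.of Ω)))).isClosedEmbedding.isClosed_range
    rwa [Set.range_eq_singleton (y := z) (fun p => by
      rw [Subsingleton.elim p pt, ← e1, Scheme.Hom.comp_apply, hσ, hμ₂])] at hr

theorem universallyOpen_baseMap : UniversallyOpen (baseMap X j₀) := by
  have : IsIntegral (Spec (CommRingCat.of k)) := inferInstance
  have : Subsingleton ↥(Spec (CommRingCat.of k)) := inferInstanceAs (Subsingleton (PrimeSpectrum k))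
  exact MorphismProperty.of_isPullback (P := @UniversallyOpen) (isPullback_baseMap j₀)
    (inferInstance : UniversallyOpen j₀)

variable (O : (absProd X X).Opens)
  (hrel : ∀ {P : Scheme.{u}} (l l' : P ⟶ E), l ≫ π = l' ≫ π →
    (∀ p, pair (l ≫ ψ) (l' ≫ ψ) p ∈ O) → l ≫ ψ = l' ≫ ψ)

include hrel in
theorem pair_notMem [IsAlgClosed Ω] [Etale π] (c₁ : Spec (CommRingCat.of Ω) ⟶ X)
    (pt : ↥(Spec (CommRingCat.of Ω)))
    (hcl₀ : pair c₁ (𝟙 (Spec (CommRingCat.of Ω))) pt ∈
      closure (baseMap X j₀ ⁻¹' Set.range (pair ψ π)))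
    (hcn₀ : pair c₁ (𝟙 (Spec (CommRingCat.of Ω))) pt ∉ baseMap X j₀ ⁻¹' Set.range (pair ψ π))
    (l : Spec (CommRingCat.of Ω) ⟶ E) (hl : l ≫ π = j₀) : pair c₁ (l ≫ ψ) pt ∉ O := by
  intro hmem
  let T' := absProd X (Spec (CommRingCat.of Ω))
  let ρ := baseMap X j₀
  let c'' : (Spec (CommRingCat.of Ω)) ⟶ T' := pair c₁ (𝟙 (Spec (CommRingCat.of Ω)))
  have : Subsingleton ↥(Spec (CommRingCat.of Ω)) := inferInstanceAs (Subsingleton (PrimeSpectrum Ω))
  let φ : T' ⟶ absProd X X := pair (pullback.fst _ _) (pullback.snd _ _ ≫ l ≫ ψ)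
  have hφ : ∀ g : (Spec (CommRingCat.of Ω)) ⟶ X, pair g (𝟙 (Spec (CommRingCat.of Ω))) ≫ φ = pair g (l ≫ ψ) := fun g => by
    apply pullback.hom_ext <;> simp [φ, pullback.lift_fst, pullback.lift_snd,
      pullback.lift_snd_assoc]
  let h₀ : ↥T' := pair (l ≫ ψ) (𝟙 (Spec (CommRingCat.of Ω))) pt
  have hh₀ : h₀ ∈ baseMap X j₀ ⁻¹' Set.range (pair ψ π) := ⟨l pt, by
    show _ = ρ (pair (l ≫ ψ) (𝟙 (Spec (CommRingCat.of Ω))) pt)
    rw [← Scheme.Hom.comp_apply, ← Scheme.Hom.comp_apply]
    refine congrArg (fun m : (Spec (CommRingCat.of Ω)) ⟶ absProd X (Spec (CommRingCat.of k)) => m pt) ?_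
    apply pullback.hom_ext <;> simp [ρ, pullback.lift_fst, pullback.lift_snd,
      pullback.lift_snd_assoc, hl]⟩
  obtain ⟨-, -, -, hcl⟩ := exists_section ψ π j₀ pt hh₀
  have hopen : IsOpen ((φ ⁻¹' (O : Set ↥(absProd X X))) \ {h₀}) :=
    (O.isOpen.preimage φ.continuous).sdiff hcl
  have hmem' : c'' pt ∈ (φ ⁻¹' (O : Set ↥(absProd X X))) \ {h₀} := by
    refine ⟨?_, fun he => hcn₀ ((Set.mem_singleton_iff.1 he) ▸ hh₀)⟩
    show φ (c'' pt) ∈ O
    rw [← Scheme.Hom.comp_apply, hφ]
    exact hmem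
  obtain ⟨z, ⟨hzO, hzh⟩, hzN⟩ := mem_closure_iff.1 hcl₀ _ hopen hmem'
  obtain ⟨lz, hlz, rfl, -⟩ := exists_section ψ π j₀ pt hzN
  have hzO' : φ (pair (lz ≫ ψ) (𝟙 (Spec (CommRingCat.of Ω))) pt) ∈ O := hzO
  rw [← Scheme.Hom.comp_apply, hφ] at hzO'
  exact hzh (by rw [Set.mem_singleton_iff, hrel lz l (hlz.trans hl.symm) (fun p => by rw [Subsingleton.elim (α := ↥(Spec (CommRingCat.of Ω))) p pt]; exact hzO')])

include hrel in
theorem false_of_closure [IsAlgClosed Ω] [Etale π] (hdiag : ∀ x, pair (𝟙 X) (𝟙 X) x ∈ O)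
    (γ : Spec (CommRingCat.of Ω) ⟶ absProd X (Spec (CommRingCat.of k)))
    (pt : ↥(Spec (CommRingCat.of Ω)))
    (hc : γ pt ∈ closure (Set.range (pair ψ π))) (hcn : γ pt ∉ Set.range (pair ψ π)) : False := by
  let j₀ := γ ≫ pullback.snd (terminal.from X) (terminal.from (Spec (CommRingCat.of k)))
  let c₁ := γ ≫ pullback.fst (terminal.from X) (terminal.from (Spec (CommRingCat.of k)))
  let T' := absProd X (Spec (CommRingCat.of Ω))
  let ρ := baseMap X j₀
  have := universallyOpen_baseMap (X := X) j₀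
  have : Subsingleton ↥(Spec (CommRingCat.of Ω)) := inferInstanceAs (Subsingleton (PrimeSpectrum Ω))
  let c'' : (Spec (CommRingCat.of Ω)) ⟶ T' := pair c₁ (𝟙 (Spec (CommRingCat.of Ω)))
  have hc'' : c'' ≫ ρ = γ := by
    apply pullback.hom_ext <;> simp [c'', ρ, c₁, j₀, pullback.lift_fst, pullback.lift_snd,
      pullback.lift_snd_assoc]
  let N₀ : Set ↥T' := ρ ⁻¹' Set.range (pair ψ π)
  have hcl₀ : c'' pt ∈ closure N₀ := by
    rw [← ρ.isOpenMap.preimage_closure_eq_closure_preimage ρ.continuous]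
    show ρ (c'' pt) ∈ closure (Set.range (pair ψ π))
    rw [← Scheme.Hom.comp_apply, hc'']
    exact hc
  have hcn₀ : c'' pt ∉ N₀ := fun h => hcn (by
    have h' : ρ (c'' pt) ∈ Set.range (pair ψ π) := h
    rwa [← Scheme.Hom.comp_apply, hc''] at h')
  let φ' : T' ⟶ absProd X X := pair (pullback.snd _ _ ≫ c₁) (pullback.fst _ _)
  have hφ' : ∀ g : (Spec (CommRingCat.of Ω)) ⟶ X, pair g (𝟙 (Spec (CommRingCat.of Ω))) ≫ φ' = pair c₁ g := fun g => by
    apply pullback.hom_ext <;> simp [φ', pullback.lift_fst, pullback.lift_snd,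
      pullback.lift_snd_assoc]
  have hmem : c'' pt ∈ φ' ⁻¹' (O : Set ↥(absProd X X)) := by
    show φ' (c'' pt) ∈ O
    rw [← Scheme.Hom.comp_apply, hφ']
    have e3 : pair c₁ c₁ = c₁ ≫ pair (𝟙 X) (𝟙 X) := by
      apply pullback.hom_ext <;> simp [pullback.lift_fst, pullback.lift_snd]
    rw [e3, Scheme.Hom.comp_apply]
    exact hdiag _
  obtain ⟨z, hzO, hzN⟩ := mem_closure_iff.1 hcl₀ _ (O.isOpen.preimage φ'.continuous) hmem
  obtain ⟨lz, hlz, rfl, -⟩ := exists_section ψ π j₀ pt hzN
  have hzO' : φ' (pair (lz ≫ ψ) (𝟙 (Spec (CommRingCat.of Ω))) pt) ∈ O := hzO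
  rw [← Scheme.Hom.comp_apply, hφ'] at hzO'
  exact pair_notMem ψ π j₀ O hrel c₁ pt hcl₀ hcn₀ lz hlz hzO'


include hrel in
theorem isClosed_range [Etale π] (hdiag : ∀ x, pair (𝟙 X) (𝟙 X) x ∈ O) :
    IsClosed (Set.range (pair ψ π)) := by
  rw [← closure_subset_iff_isClosed]
  intro c hc
  by_contra hcn
  obtain ⟨Ω, _, _, γ, pt, rfl⟩ := exists_geometric_point c
  exact false_of_closure ψ π O hrel hdiag γ pt hc hcn

end Closed

/-- The fibre of an affine chart at a field-valued point is closed in the product, hence finite. -/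
theorem finite_pullback (hX : IsLocallySeparatedSp F) {U : Over S} [IsAffine U.left]
    {a : (yon S).obj U ⟶ F} (ha : RepWith @Etale a) (q : FieldPt F) :
    Finite ↥(ha.rep.pullback q.toHom).left := by
  let E := ha.rep.pullback q.toHom
  let π := (ha.rep.snd q.toHom).left
  let ψ := (ha.rep.fst' q.toHom).left
  let K : Scheme.{u} := q.pt.left
  have sqE := ha.rep.isPullback' q.toHom
  have sqR := ha.rep.isPullback' a
  have : Etale π := etale_snd q ha
  have : IsImmersion (pair ψ π) := isImmersion_pair hX sqE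
  have : IsImmersion (pair (ha.rep.fst' a).left (ha.rep.snd a).left) := isImmersion_pair hX sqR
  have : Etale (ha.rep.snd a).left := ha.property_snd a
  have := discreteTopology_pullback q ha
  let δ := ha.rep.lift' (g := a) (𝟙 U) (𝟙 U) rfl
  obtain ⟨O, hOdiag, hO⟩ := exists_open_diag (ha.rep.fst' a).left (ha.rep.snd a).left δ.left
    (congrArg (fun m : U ⟶ U => m.left) (ha.rep.lift'_fst (g := a) (𝟙 U) (𝟙 U) rfl))
    (congrArg (fun m : U ⟶ U => m.left) (ha.rep.lift'_snd (g := a) (𝟙 U) (𝟙 U) rfl))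
  have : IsAffine K := inferInstanceAs (IsAffine (Spec (CommRingCat.of q.K)))
  have hcl : IsClosed (Set.range (pair ψ π)) := by
    refine isClosed_range (k := q.K) ψ π O (fun {P} l l' hl hO' => ?_) hOdiag
    let str : P ⟶ S := (l ≫ π) ≫ q.str
    let L : Over.mk str ⟶ E := Over.homMk l (by
      rw [← Over.w (ha.rep.snd q.toHom)]
      exact (Category.assoc _ _ _).symm)
    let L' : Over.mk str ⟶ E := Over.homMk l' (by
      rw [← Over.w (ha.rep.snd q.toHom)]
      exact (Category.assoc _ _ _).symm.trans (congrArg (· ≫ q.str) hl.symm))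
    have hLL : L ≫ ha.rep.snd q.toHom = L' ≫ ha.rep.snd q.toHom := Over.OverMorphism.ext hl
    have hw : (yon S).map (L ≫ ha.rep.fst' q.toHom) ≫ a =
        (yon S).map (L' ≫ ha.rep.fst' q.toHom) ≫ a := by
      rw [Functor.map_comp, Functor.map_comp, Category.assoc, Category.assoc, sqE.w,
        ← Category.assoc, ← Category.assoc, ← Functor.map_comp, ← Functor.map_comp, hLL]
    let r := ha.rep.lift' (g := a) _ _ hw
    have hr₁ : r.left ≫ (ha.rep.fst' a).left = l ≫ ψ :=
      congrArg (fun m : Over.mk str ⟶ U => m.left) (ha.rep.lift'_fst (g := a) _ _ hw)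
    have hr₂ : r.left ≫ (ha.rep.snd a).left = l' ≫ ψ :=
      congrArg (fun m : Over.mk str ⟶ U => m.left) (ha.rep.lift'_snd (g := a) _ _ hw)
    have e2 : r.left ≫ pair (ha.rep.fst' a).left (ha.rep.snd a).left = pair (l ≫ ψ) (l' ≫ ψ) := by
      apply pullback.hom_ext
      · rw [Category.assoc, pair_fst, pair_fst]; exact hr₁
      · rw [Category.assoc, pair_snd, pair_snd]; exact hr₂
    have h := hO r.left (fun z => by rw [← Scheme.Hom.comp_apply, e2]; exact hO' z)
    rwa [hr₁, hr₂] at h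
  have : IsClosedImmersion (pair ψ π) := .of_isPreimmersion _ hcl
  have : CompactSpace ↥E.left := QuasiCompact.compactSpace_of_compactSpace (pair ψ π)
  exact finite_of_compact_of_discrete

/-- Locally separated algebraic spaces are decent. -/
theorem isDecent (hA : IsAlgSpace F) (hX : IsLocallySeparatedSp F) : IsDecent F := by
  intro x
  obtain ⟨q, rfl⟩ := Points.mk_surjective x
  obtain ⟨ι, U, φ, hU, hφ, hsurj⟩ := exists_affine_chart hA
  refine Criteria.exists_mono_qc_of_cover hA q U φ hφ hsurj fun i => ?_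
  have := hU i
  exact finite_pullback hX (hφ i) q

end Groth.Agent.Lib.AlgSpDecent.LocSep
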