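import Groth.Agent.Lib.AlgSpDecent.GenericFiniteSp
import Mathlib.AlgebraicGeometry.Artinian
import Mathlib.AlgebraicGeometry.Morphisms.QuasiFinite
import Mathlib.Algebra.Category.Ring.Epi
import Mathlib.LinearAlgebra.Dual.Basis
import Mathlib.LinearAlgebra.TensorProduct.Tower

/-!
Monomorphisms into locally Artinian schemes are locally closed immersions.
-/

universe u

open CategoryTheory CategoryTheory.Limits AlgebraicGeometry TopologicalSpace TensorProduct

namespace Groth.Agent.Lib.AlgSpDecent.LqfField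

/-- An epimorphism from an Artinian local ring is surjective. -/
theorem surjective_of_isEpi {R A : Type u} [CommRing R] [IsArtinianRing R] [IsLocalRing R]
    [CommRing A] [Algebra R A] [Algebra.IsEpi R A] : Function.Surjective (algebraMap R A) := by
  let R' := (Algebra.linearMap R A).range
  have h1 : R'.mkQ 1 = 0 := (Submodule.Quotient.mk_eq_zero R').mpr ⟨1, map_one (algebraMap R A)⟩
  have hz : ∀ x y : A ⧸ R', x ⊗ₜ[R] y = 0 := by
    intro x y
    obtain ⟨x, rfl⟩ := R'.mkQ_surjective x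
    obtain ⟨y, rfl⟩ := R'.mkQ_surjective y
    have he : x ⊗ₜ[R] y = 1 ⊗ₜ[R] (x * y) := by
      have h := (Algebra.isEpi_iff_forall_one_tmul_eq R A).mp inferInstance x
      calc x ⊗ₜ[R] y = x ⊗ₜ 1 * 1 ⊗ₜ y := by simp
        _ = 1 ⊗ₜ[R] (x * y) := by rw [← h]; simp
    rw [← TensorProduct.map_tmul R'.mkQ R'.mkQ, he, TensorProduct.map_tmul, h1, zero_tmul]
  let m := IsLocalRing.maximalIdeal R
  let M := (A ⧸ R') ⧸ (m • ⊤ : Submodule R (A ⧸ R'))
  let : Field (R ⧸ m) := Ideal.Quotient.field m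
  have hle : (⊤ : Submodule R (A ⧸ R')) ≤ m • ⊤ := by
    intro q _
    rw [← Submodule.Quotient.mk_eq_zero]
    by_contra hne
    obtain ⟨φ, hφ⟩ : ∃ φ : M →ₗ[R ⧸ m] (R ⧸ m), φ (Submodule.Quotient.mk q) ≠ 0 := by
      by_contra h
      simp only [not_exists, not_not] at h
      exact hne ((Module.forall_dual_apply_eq_zero_iff (R ⧸ m) _).1 h)
    let ψ : (A ⧸ R') →ₗ[R] (R ⧸ m) := (φ.restrictScalars R).comp (Submodule.mkQ _)
    have := congrArg (TensorProduct.lift ((LinearMap.mul R (R ⧸ m)).compl₁₂ ψ ψ)) (hz q q)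
    rw [map_zero, TensorProduct.lift.tmul] at this
    exact hφ (mul_self_eq_zero.1 this)
  obtain ⟨n, hn⟩ : IsNilpotent m := by
    rw [show m = Ideal.jacobson ⊥ from (IsLocalRing.jacobson_eq_maximalIdeal ⊥ bot_ne_top).symm]
    exact IsArtinianRing.isNilpotent_jacobson_bot
  have htop : ∀ k : ℕ, (⊤ : Submodule R (A ⧸ R')) ≤ m ^ k • ⊤ := by
    intro k
    induction k with
    | zero => simp
    | succ k ih =>
      rw [pow_succ, Submodule.mul_smul]
      exact ih.trans (Submodule.smul_mono le_rfl hle)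
  have h0 := htop n
  rw [show m ^ n = ⊥ from hn, Submodule.bot_smul] at h0
  have : Subsingleton (A ⧸ R') := ⟨fun a b =>
    ((Submodule.mem_bot R).1 (h0 Submodule.mem_top)).trans ((Submodule.mem_bot R).1 (h0 Submodule.mem_top)).symm⟩
  rwa [Submodule.Quotient.subsingleton_iff, LinearMap.range_eq_top] at this

theorem isClosedImmersion_of_mono {W U : Scheme.{u}} (f : W ⟶ U) [Mono f] [IsAffine W] [IsAffine U]
    [IsArtinianRing Γ(U, ⊤)] [IsLocalRing Γ(U, ⊤)] : IsClosedImmersion f := by
  refine IsClosedImmersion.of_surjective_of_isAffine f ?_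
  have : Mono (Spec.map f.appTop) := by
    have h : Spec.map f.appTop = W.isoSpec.inv ≫ f ≫ U.isoSpec.hom := by
      rw [← Scheme.isoSpec_hom_naturality, Iso.inv_hom_id_assoc]
    rw [h]; infer_instance
  have hepi : Epi f.appTop := by
    refine ⟨fun {Z} g g' h => ?_⟩
    refine Spec.map_injective ((cancel_mono (Spec.map f.appTop)).1 ?_)
    rw [← Spec.map_comp, ← Spec.map_comp, h]
  let := f.appTop.hom.toAlgebra
  have : Algebra.IsEpi Γ(U, ⊤) Γ(W, ⊤) := CommRingCat.epi_iff_epi.mp (inferInstanceAs (Epi f.appTop))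
  exact surjective_of_isEpi (R := Γ(U, ⊤)) (A := Γ(W, ⊤))

/-- An affine neighbourhood consisting of one point in a discrete scheme. -/
theorem exists_singleton_affine (U : Scheme.{u}) [DiscreteTopology U] (u : U) :
    ∃ V : U.Opens, IsAffineOpen V ∧ (V : Set U) = {u} := by
  obtain ⟨V, hV, hu, hle⟩ :=
    exists_isAffineOpen_mem_and_subset (x := u) (U := ⟨{u}, isOpen_discrete _⟩) rfl
  exact ⟨V, hV, Set.Subset.antisymm hle (Set.singleton_subset_iff.2 hu)⟩

theorem isLocalRing_of_singleton {U : Scheme.{u}} {V : U.Opens} (hV : IsAffineOpen V) {u : U}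
    (h : (V : Set U) = {u}) : IsLocalRing Γ(U, V) := by
  have : Subsingleton ↥(V : Scheme.{u}) :=
    ⟨fun a b => Subtype.ext ((Set.mem_singleton_iff.1 (h ▸ a.2 : a.1 ∈ ({u} : Set U))).trans
      (Set.mem_singleton_iff.1 (h ▸ b.2 : b.1 ∈ ({u} : Set U))).symm)⟩
  have : Subsingleton (PrimeSpectrum Γ(U, V)) :=
    hV.isoSpec.hom.homeomorph.surjective.subsingleton
  have : Nonempty ↥(V : Scheme.{u}) := ⟨⟨u, show u ∈ (V : Set U) by rw [h]; rfl⟩⟩
  have : Nonempty (PrimeSpectrum Γ(U, V)) := Nonempty.map hV.isoSpec.hom.homeomorph ‹_›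
  have : Nontrivial Γ(U, V) := PrimeSpectrum.nonempty_iff_nontrivial.1 ‹_›
  have : Subsingleton (MaximalSpectrum Γ(U, V)) :=
    MaximalSpectrum.toPrimeSpectrum_injective.subsingleton
  exact IsLocalRing.of_singleton_maximalSpectrum

/-- A monomorphism to a locally Artinian scheme is locally quasi-finite and locally of finite type. -/
theorem lqf_lft_of_mono {W U : Scheme.{u}} (f : W ⟶ U) [Mono f] [IsLocallyArtinian U] :
    LocallyQuasiFinite f ∧ LocallyOfFiniteType f := by
  have : DiscreteTopology W :=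
    DiscreteTopology.of_continuous_injective f.continuous f.injective
  choose V hV hVw using fun w : W => exists_singleton_affine W w
  have hcov : IsOpenCover V := .mk (by ext w; simp only [Opens.coe_iSup, Set.mem_iUnion, Opens.coe_top, Set.mem_univ, iff_true]; exact ⟨w, by rw [hVw]; rfl⟩)
  have key : ∀ w, LocallyQuasiFinite ((V w).ι ≫ f) ∧ LocallyOfFiniteType ((V w).ι ≫ f) := by
    intro w
    obtain ⟨O, hO, hOu⟩ := exists_singleton_affine U (f w)
    have hle : V w ≤ f ⁻¹ᵁ O := fun z hz => by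
      rw [← SetLike.mem_coe, hVw] at hz
      show f z ∈ O
      rw [← SetLike.mem_coe, hOu, Set.mem_singleton_iff.1 hz]
      rfl
    have : IsAffine (V w : Scheme.{u}) := hV w
    have : IsAffine (O : Scheme.{u}) := hO
    let g := f.resLE O (V w) hle
    have hg : g ≫ O.ι = (V w).ι ≫ f := Scheme.Hom.resLE_comp_ι _ _
    have : Mono g := mono_of_mono_fac hg
    have : IsLocalRing Γ(U, O) := isLocalRing_of_singleton hO hOu
    have : IsArtinianRing Γ(U, O) := IsLocallyArtinian.isArtinianRing_presheaf_obj ⟨O, hO⟩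
    have := O.topIso.commRingCatIsoToRingEquiv.symm.surjective.isArtinianRing
    have := O.topIso.commRingCatIsoToRingEquiv.symm.isLocalRing
    have := isClosedImmersion_of_mono g
    rw [← hg]
    exact ⟨inferInstance, inferInstance⟩
  have hsup : iSup V = ⊤ := hcov.iSup_eq_top
  exact ⟨GenericFiniteSp.locallyQuasiFinite_of_nhds f fun w =>
      ⟨V w, by rw [← SetLike.mem_coe, hVw]; rfl, (key w).1⟩,
    (IsZariskiLocalAtSource.iff_of_iSup_eq_top (P := (@LocallyOfFiniteType : MorphismProperty Scheme.{u}))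
      V hsup).2 fun w => (key w).2⟩

end Groth.Agent.Lib.AlgSpDecent.LqfField
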