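import Groth.Agent.S9988
import Groth.Agent.S9989
import Groth.Agent.S9996
import Groth.Agent.S10700
import Groth.Agent.S10045
import Groth.Agent.S10192
import Groth.Agent.S0432
import Groth.Agent.Lib.AlgSpDecent.FlatNbhd
import Groth.Agent.Lib.AlgSpLimit.Reduced
import Groth.Agent.Lib.EtMod.SuppLocal
import Groth.Agent.Lib.EtMod.WeakAssFinite

/-!
# Unions of closed subspaces that are schemes
-/

universe u

set_option linter.style.haveILetI false

open CategoryTheory CategoryTheory.Limits AlgebraicGeometry Opposite Topology AlgSp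

namespace Groth.Agent.Lib.AlgSpDecent.MinimalNonScheme

open Groth.Agent.Lib.AlgSpMor Groth.Agent.Lib.AlgSpMor.SchImage Groth.Agent.Lib.AlgSpace

variable {S : Scheme.{u}}

/-- The ideal of a closed immersion is quasi-coherent. -/
theorem isQCoh_idealOfRep {Z X : Sp S} {i : Z ⟶ X} (hi : RepWith @IsClosedImmersion i) :
    (idealOfRep hi.1).IsQCoh := by
  intro E E' g hE hE'
  haveI := hE
  haveI := hE'
  rw [← ofIdealTop_le_iff, ← comap_ofIdealTop, ofIdealTop_idealOfRep, ofIdealTop_idealOfRep]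
  have e : E'.obj.hom = (yon S).map g.hom.left ≫ E.obj.hom := (EtOver.w g).symm
  rw [e]
  exact le_of_eq ((cut_kerAt_self hi _).unique ((cut_kerAt_self hi E.obj.hom).comap g.hom.left))

/-- Two closed subspaces covering a reduced space have ideals meeting in zero. -/
theorem inf_eq_bot {Y Z X : Sp S} {i : Y ⟶ X} {j : Z ⟶ X} (hi : RepWith @IsClosedImmersion i)
    (hj : RepWith @IsClosedImmersion j) (hX : IsAlgSpace X) (hr : IsReducedSp X)
    (hcov : Set.range (Points.map i) ∪ Set.range (Points.map j) = Set.univ)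
    (E : EtOver X) (hE : IsAffine E.obj.left.left) :
    (idealOfRep hi.1).ideal E hE ⊓ (idealOfRep hj.1).ideal E hE = ⊥ := by
  haveI := hE
  haveI : AlgebraicGeometry.IsReduced E.obj.left.left :=
    AlgSpLimit.isReduced_of_etale_chart hX hr E.property
  rw [eq_bot_iff]
  intro a ha
  refine (nilpotent_iff_mem_prime.2 fun p hp => ?_).eq_zero
  obtain ⟨u, hu⟩ := EtMod.exists_primeAtPt_eq (U := E.obj.left.left) p
  rw [← hu]
  rcases (Set.ext_iff.1 hcov (Points.ofPt E.obj.hom u)).2 trivial with h | h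
  · exact (EtMod.mem_range_map_iff hi E u).1 h ha.1
  · exact (EtMod.mem_range_map_iff hj E u).1 h ha.2

/-- The identity is cut out by the zero ideal. -/
theorem isCutOutBy_bot (X : Sp S) : IsCutOutBy (⊥ : IdealEt X) (𝟙 X) := by
  refine ⟨repWith_of_exists fun T ξ => ⟨T, 𝟙 T, ξ, IsPullback.of_vert_isIso
    ⟨by rw [CategoryTheory.Functor.map_id, Category.comp_id, Category.id_comp]⟩,
    inferInstanceAs (IsClosedImmersion (𝟙 T.left))⟩, IdealEt.ext ?_⟩
  funext E hE
  haveI := hE
  rw [FerrandEtale.Union.ideal_eq_ker _ E hE (T := E.obj.left) (fst := E.obj.hom) (p := 𝟙 _)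
    (IsPullback.of_vert_isIso ⟨by rw [CategoryTheory.Functor.map_id, Category.comp_id, Category.id_comp]⟩)]
  exact (RingHom.injective_iff_ker_eq_bot _).1 (by
    rw [Over.id_left, Scheme.Hom.id_appTop]
    exact fun a b h => h)

/-- A space with no points is a scheme. -/
theorem isRepresentable_of_isEmpty {X : Sp S} (hX : IsAlgSpace X) [IsEmpty (Points X)] :
    X.obj.IsRepresentable := by
  obtain ⟨U, p, he, hs⟩ := hX.atlas
  haveI : IsEmpty U.left := ⟨fun u => IsEmpty.false (Points.ofPt p u)⟩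
  haveI : Mono p := mono_of_yon p fun T a b _ => by
    obtain ⟨a, rfl⟩ := (yon S).map_surjective a
    obtain ⟨b, rfl⟩ := (yon S).map_surjective b
    haveI : IsEmpty T.left := a.left.base.hom.toFun |> Function.isEmpty
    exact congrArg _ (Over.OverMorphism.ext
      ((isInitialOfIsEmpty (X := T.left)).hom_ext _ _))
  haveI := FlatNbhd.isIso_of_etale_surjective_mono p he fun x => isEmptyElim x
  exact (representableByOfIso (asIso p)).isRepresentable

/-- A closed subspace of a scheme is a scheme. -/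
theorem isRepresentable_of_closedImmersion {V Y : Sp S} {c : V ⟶ Y} (hc : RepWith @IsClosedImmersion c)
    (hY : Y.obj.IsRepresentable) : V.obj.IsRepresentable := by
  obtain ⟨W, ⟨r⟩⟩ := hY.has_representation
  obtain ⟨T, v, fst, sq, -⟩ := repWith_exists hc (isoOfRepresentableBy r).hom
  haveI := sq.isIso_fst_of_isIso
  exact (representableByOfIso (asIso fst)).isRepresentable

/-- An algebraic space that is a scheme. -/
theorem exists_iso_ofScheme {Y : AlgSp.Space S} (hY : Y.obj.obj.IsRepresentable) :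
    ∃ W : Over S, Nonempty ((ofScheme S).obj W ≅ Y) := by
  obtain ⟨W, ⟨r⟩⟩ := hY.has_representation
  exact ⟨W, ⟨ObjectProperty.isoMk _ (isoOfRepresentableBy r)⟩⟩

/-- Pushouts of closed immersions of schemes over a base. -/
theorem exists_pushout_over {Z X Y : Over S} (i : Z ⟶ X) (j : Z ⟶ Y) [IsClosedImmersion i.left]
    [IsClosedImmersion j.left] : ∃ (P : Over S) (a : X ⟶ P) (b : Y ⟶ P), IsPushout i j a b := by
  obtain ⟨P, a, b, hpo, -⟩ := Groth.Agent.S0432.result i.left j.left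
  let s : P ⟶ S := hpo.desc X.hom Y.hom (by rw [Over.w i, Over.w j])
  refine ⟨Over.mk s, Over.homMk a (hpo.inl_desc _ _ _), Over.homMk b (hpo.inr_desc _ _ _), ?_⟩
  exact IsPushout.of_map (F := Over.forget S) (Over.OverMorphism.ext hpo.w) hpo

/-- The union of two closed subspaces that are schemes is a scheme. -/
theorem isRepresentable_of_union {X Y Z : AlgSp.Space S} (hr : IsReducedSp X.obj) (iY : Y ⟶ X) (iZ : Z ⟶ X)
    (hY : RepWith @IsClosedImmersion iY.hom) (hZ : RepWith @IsClosedImmersion iZ.hom)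
    (hY' : Y.obj.obj.IsRepresentable) (hZ' : Z.obj.obj.IsRepresentable)
    (hcov : Set.range (Points.map iY.hom) ∪ Set.range (Points.map iZ.hom) = Set.univ) :
    X.obj.obj.IsRepresentable := by
  let I := idealOfRep hY.1
  let J := idealOfRep hZ.1
  have hI : I.IsQCoh := isQCoh_idealOfRep hY
  have hJ : J.IsQCoh := isQCoh_idealOfRep hZ
  have hIJ : (I ⊔ J).IsQCoh := fun E E' g hE hE' => by
    rw [IdealEt.sup_ideal, IdealEt.sup_ideal, Ideal.map_sup]
    exact sup_le_sup (hI g hE hE') (hJ g hE hE')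
  obtain ⟨V, v, hv⟩ := Groth.Agent.S9988.result X (I ⊔ J) hIJ
  obtain ⟨c, hc⟩ := (Groth.Agent.S9989.result iY v I (I ⊔ J) ⟨hY, rfl⟩ hv).1 fun E hE => le_sup_left
  obtain ⟨d, hd⟩ := (Groth.Agent.S9989.result iZ v J (I ⊔ J) ⟨hZ, rfl⟩ hv).1 fun E hE => le_sup_right
  obtain ⟨-, -, hpo⟩ := Groth.Agent.S9996.result iY iZ (𝟙 X) v I J ⊥ hI hJ
    (fun E hE => (inf_eq_bot hY hZ X.property hr hcov E hE).symm) ⟨hY, rfl⟩ ⟨hZ, rfl⟩
    (isCutOutBy_bot X.obj) hv iY iZ c d (Category.comp_id _) (Category.comp_id _) hc hd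
  haveI := mono_of_closedImmersion hY
  haveI := mono_of_closedImmersion hZ
  have hcc := FerrandEtale.Union.repWith_of_comp_mono (congrArg InducedCategory.Hom.hom hc) hv.choose
  have hdc := FerrandEtale.Union.repWith_of_comp_mono (congrArg InducedCategory.Hom.hom hd) hv.choose
  obtain ⟨WY, ⟨eY⟩⟩ := exists_iso_ofScheme hY'
  obtain ⟨WZ, ⟨eZ⟩⟩ := exists_iso_ofScheme hZ'
  obtain ⟨WV, ⟨eV⟩⟩ := exists_iso_ofScheme (isRepresentable_of_closedImmersion hcc hY')
  obtain ⟨f, hf⟩ := (ofScheme S).map_surjective (eV.hom ≫ c ≫ eY.inv)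
  obtain ⟨g, hg⟩ := (ofScheme S).map_surjective (eV.hom ≫ d ≫ eZ.inv)
  have hcl : ∀ {A B : Over S} (k : A ⟶ B) {P Q : AlgSp.Space S} (eA : (ofScheme S).obj A ≅ P)
      (eB : (ofScheme S).obj B ≅ Q) (q : P ⟶ Q), RepWith @IsClosedImmersion q.hom →
      (ofScheme S).map k = eA.hom ≫ q ≫ eB.inv → IsClosedImmersion k.left := fun k P Q eA eB q hq h => by
    refine (repWith_yon_map_iff _ k).1 ?_
    let eA' : (yon S).obj _ ≅ P.obj := (ObjectProperty.ι _).mapIso eA
    let eB' : (yon S).obj _ ≅ Q.obj := (ObjectProperty.ι _).mapIso eB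
    have e : (yon S).map k = eA'.hom ≫ q.hom ≫ eB'.inv :=
      congrArg (fun m => (ObjectProperty.ι _).map m) h
    rw [e]
    exact (MorphismProperty.cancel_left_of_respectsIso (RepWith @IsClosedImmersion) _ _).2
      ((MorphismProperty.cancel_right_of_respectsIso (RepWith @IsClosedImmersion) _ _).2 hq)
  haveI := hcl f eV eY c hcc hf
  haveI := hcl g eV eZ d hdc hg
  obtain ⟨P, a, b, hP⟩ := exists_pushout_over f g
  have haff : ∀ y : ↥WZ.left, ∃ U : WY.left.Opens, IsAffineOpen U ∧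
      g.left ⁻¹' {y} ⊆ f.left ⁻¹' (U : Set ↥WY.left) := fun y => by
    by_cases h : ∃ z, g.left z = y
    · obtain ⟨z, hz⟩ := h
      obtain ⟨U, hU, hzU, -⟩ :=
        WY.left.isBasis_affineOpens.exists_subset_of_mem_open (show f.left z ∈ Set.univ from trivial) isOpen_univ
      obtain ⟨U, hU, rfl⟩ := hU
      refine ⟨U, hU, fun z' hz' => ?_⟩
      rw [g.left.isClosedEmbedding.injective ((Set.mem_singleton_iff.1 hz').trans hz.symm)]
      exact hzU
    · exact ⟨⊥, isAffineOpen_bot _, fun z hz => absurd ⟨z, hz⟩ h⟩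
  have h1 := Groth.Agent.S10700.result f g haff a b hP
  have h2 : IsPushout ((ofScheme S).map f) ((ofScheme S).map g) (eY.hom ≫ iY) (eZ.hom ≫ iZ) :=
    hpo.of_iso eV.symm eY.symm eZ.symm (Iso.refl X)
      (by rw [hf]; simp) (by rw [hg]; simp) (by simp) (by simp)
  let e := h1.isoIsPushout _ _ h2
  exact (representableByOfIso ((ObjectProperty.ι _).mapIso e)).isRepresentable

/-- A minimal non-scheme is reduced and irreducible. -/
theorem reduced_irreducible (X : AlgSp.Space S) (hX : ¬ X.obj.obj.IsRepresentable)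
    (hmin : ∀ (Z : AlgSp.Space S) (i : Z ⟶ X), RepWith @IsClosedImmersion i.hom → ¬ IsIso i →
      Z.obj.obj.IsRepresentable) :
    IsReducedSp X.obj ∧ IrreducibleSpace (Points X.obj) := by
  have hne : ∀ {Z : AlgSp.Space S} (i : Z ⟶ X), Set.range (Points.map i.hom) ≠ Set.univ → ¬ IsIso i :=
    fun {Z} i h hi => h (Set.eq_univ_of_forall fun x => ⟨Points.map (inv i).hom x, by
      rw [← Points.map_comp, show (inv i).hom ≫ i.hom = 𝟙 X.obj from
        congrArg InducedCategory.Hom.hom (IsIso.inv_hom_id i), Points.map_id]⟩)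
  obtain ⟨R, r, hr⟩ := Groth.Agent.S10192.result X Set.univ isClosed_univ
  have hred : IsReducedSp X.obj := by
    by_cases h : IsIso r
    · obtain ⟨U, p, he, hs, hU⟩ := hr.2.2
      haveI : IsIso r.hom := inferInstanceAs (IsIso ((ObjectProperty.ι _).map r))
      exact ⟨U, p ≫ r.hom, (MorphismProperty.cancel_right_of_respectsIso (RepWith @Etale) p r.hom).2 he,
        (MorphismProperty.cancel_right_of_respectsIso (RepWith @Surjective) p r.hom).2 hs, hU⟩
    · exact absurd (Groth.Agent.S10045.result S X R r hr (hmin R r hr.1 h)) hX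
  refine ⟨hred, ?_⟩
  haveI : Nonempty (Points X.obj) := by
    by_contra h
    haveI : IsEmpty (Points X.obj) := not_nonempty_iff.1 h
    exact hX (isRepresentable_of_isEmpty X.property)
  haveI : PreirreducibleSpace (Points X.obj) := ⟨isPreirreducible_iff_isClosed_union_isClosed.2 fun z₁ z₂ h₁ h₂ hu => by
    by_contra h
    obtain ⟨n₁, n₂⟩ := not_or.1 h
    obtain ⟨Z₁, i₁, hi₁⟩ := Groth.Agent.S10192.result X z₁ h₁
    obtain ⟨Z₂, i₂, hi₂⟩ := Groth.Agent.S10192.result X z₂ h₂
    refine hX (isRepresentable_of_union hred i₁ i₂ hi₁.1 hi₂.1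
      (hmin Z₁ i₁ hi₁.1 (hne i₁ fun e => n₁ (by rw [← hi₁.2.1, e])))
      (hmin Z₂ i₂ hi₂.1 (hne i₂ fun e => n₂ (by rw [← hi₂.2.1, e]))) ?_)
    rw [hi₁.2.1, hi₂.2.1]
    exact Set.univ_subset_iff.1 hu⟩
  exact ⟨inferInstance⟩

end Groth.Agent.Lib.AlgSpDecent.MinimalNonScheme
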