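import Groth.Agent.Lib.AlgSpDecent.OnePoint
import Groth.Agent.Lib.AlgSpMor.FlatMono
import Groth.Agent.Lib.AlgSpFpqc.Classes
import Groth.Agent.Lib.AlgSpace.Local
import Mathlib.AlgebraicGeometry.Morphisms.FlatMono

/-!
Monomorphisms into one-point spaces covered by the spectrum of a field.
-/

universe u

open CategoryTheory CategoryTheory.Limits AlgebraicGeometry Opposite Topology

namespace Groth.Agent.Lib.AlgSpDecent.OnePointMono

theorem discreteTopology_of_isField {U : Scheme.{u}} [IsLocallyNoetherian U]
    (h : ∀ u : U, IsField (U.presheaf.stalk u)) : DiscreteTopology U := by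
  have h0 : topologicalKrullDim U ≤ 0 := by
    rw [SpecOrder.topologicalKrullDim_eq_iSup]
    refine iSup_le fun u => ?_
    rw [← DimDecent.ringKrullDim_stalk, ringKrullDim_eq_zero_of_isField (h u)]
  have := IsLocallyArtinian.of_topologicalKrullDim_le_zero h0
  infer_instance

open AlgSp Groth.Agent.Lib.AlgSpace Core

variable {S : Scheme.{u}} {Z Z' : Sp S}

theorem isIso_of_mono (hZ : IsAlgSpace Z) (hZ' : IsAlgSpace Z') (f : Z' ⟶ Z) [Mono f]
    [Nonempty (Points Z')] {k : Type u} [Field k] {str : Spec (CommRingCat.of k) ⟶ S}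
    {p : (yon S).obj (Over.mk str) ⟶ Z} (hpl : LocP @LocallyOfFinitePresentation p)
    (hpf : LocP @Flat p) (hps : IsSurjectiveMor p) : IsIso f := by
  have hfl : LocP @Flat f := fun U V a b h ha hb w =>
    FieldCover.flat_of_isField_stalk h.left fun z => FieldCover.isField_stalk_chart hZ hpf hps hb _
  have hrep : Representable f := AlgSpMor.FlatMono.representable hZ' hZ hfl
  obtain ⟨U, a, ha, has⟩ := hZ.atlas
  have sq := hrep.isPullback a
  let w := hrep.snd a
  have hwm : Mono ((yon S).map w) := by
    refine ⟨fun {T} g g' e => sq.hom_ext ?_ e⟩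
    apply (cancel_mono f).1
    rw [Category.assoc, Category.assoc, sq.w, ← Category.assoc, ← Category.assoc, e]
  have hwm' : Mono w.left := by
    have h1 : Mono w := (yon S).mono_of_mono_map hwm
    exact inferInstanceAs (Mono ((Over.forget S).map w))
  have hflw : Flat w.left := FieldCover.flat_of_isField_stalk w.left fun z =>
    FieldCover.isField_stalk_chart hZ hpf hps ha _
  have : IsLocallyNoetherian U.left :=
    CodimOneSp.isLocallyNoetherian_chart (OnePoint.isLocNoethSp_of_cover hZ hpl hpf hps) ha
  have : DiscreteTopology ↥U.left :=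
    discreteTopology_of_isField (FieldCover.isField_stalk_chart hZ hpf hps ha)
  have := FieldCover.subsingleton_points hps
  have hsurj : Surjective w.left := ⟨fun u => by
    obtain ⟨z'⟩ := ‹Nonempty (Points Z')›
    obtain ⟨z, -, hz⟩ := Core.exists_point_of_isPullback sq z'
      (Points.ofPt (𝟙 ((yon S).obj U)) u) (Subsingleton.elim _ _)
    obtain ⟨z₀, rfl⟩ := (Points.schemeEquiv _).surjective z
    have e1 : ∀ (V : Over S) (v : ↥V.left),
        Points.ofScheme V v = Points.ofPt (𝟙 ((yon S).obj V)) v := fun V v =>
      ((congrArg (fun φ => Points.ofPt φ v) ((yon S).map_id V).symm).trans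
        (Core.ofPt_yon_map (𝟙 V) v)).symm
    refine ⟨z₀, (Points.schemeEquiv U).injective ?_⟩
    simp only [Points.schemeEquiv] at hz
    show Points.ofScheme U (w.left z₀) = Points.ofScheme U u
    rw [e1 U u, ← hz]
    refine ((Core.ofPt_yon_map w z₀).symm).trans ?_
    show Points.ofPt ((yon S).map w) z₀ = Points.map ((yon S).map w) (Points.ofScheme _ z₀)
    rw [e1 (hrep.pullback a) z₀, ← Core.ofPt_comp, Category.id_comp]⟩
  have : QuasiCompact w.left := ⟨fun O hO hOc => by
    have hfin : O.Finite := hOc.finite_of_discrete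
    exact (hfin.preimage w.left.injective.injOn).isCompact⟩
  have hiso : IsIso w.left := Flat.isIso_of_surjective_of_mono w.left
  let P : MorphismProperty Scheme.{u} := MorphismProperty.isomorphisms Scheme.{u}
  have : Sheaf.IsLocallySurjective a := AlgSpace.isLocallySurjective_of_etale ha has
  have : P.DescendsAlong fppfCover := inferInstanceAs
    (P.DescendsAlong (@Surjective ⊓ @Flat ⊓ @LocallyOfFinitePresentation))
  have : P.IsLocalAtTarget Scheme.fppfPrecoverage := isLocalAtTarget_fppf P
  exact AlgSpFpqc.Classes.isIso_of_repWith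
    (repWith_of_isLocallySurjective hrep a sq P ((repWith_yon_map_iff P w).2 hiso))

end Groth.Agent.Lib.AlgSpDecent.OnePointMono
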