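import Groth.Agent.Lib.AlgSpDecent.RelDim
import Groth.Agent.Lib.AlgSpDecent.DimCharts
import Groth.Agent.Lib.AlgSpDecent.LocNoeth
import Groth.Agent.Lib.AlgSpDecent.Decent
import Groth.Agent.Lib.AlgSpDecent.CodimOneSp
import Groth.Agent.Lib.AlgSpMor.Proper
import Groth.Agent.H46.DimData

/-!
Lower bounds for the dimension of the source of a closed surjective morphism.
-/

universe u

open CategoryTheory CategoryTheory.Limits AlgebraicGeometry Opposite Topology

namespace Groth.Agent.Lib.AlgSpDecent.ProperDim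

open SpecOrder Groth.Agent.Lib.Cyc H46.FibreTrdeg LocNoeth

theorem exists_gen_of_succ_le {X : Type*} [TopologicalSpace X] {v : X} {n : ℕ}
    (h : ((n + 1 : ℕ) : ℕ∞) ≤ cohtPt v) :
    ∃ v', v' ⤳ v ∧ ¬ v ⤳ v' ∧ (n : ℕ∞) ≤ cohtPt v' := by
  letI := specializationPreorder X
  by_contra hc
  simp only [not_exists, not_and, not_le] at hc
  have : cohtPt v ≤ n := by
    unfold cohtPt
    rw [Order.coheight_eq_iSup_gt_coheight]
    refine iSup₂_le fun v' hv' => ?_
    obtain ⟨h1, h2⟩ := lt_iff_le_not_ge.1 hv'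
    exact (ENat.add_one_le_iff (ne_top_of_lt (hc v' h1 h2))).2 (hc v' h1 h2)
  have := (h.trans this)
  norm_cast at this
  omega

/-- Inside a fibre one can specialize until the residue transcendence degree is used up. -/
theorem exists_cohtPt_add_le {U V : Scheme.{u}} (g : U ⟶ V) [LocallyOfFiniteType g] (ξ : U) (n r : ℕ)
    (hn : (n : ℕ∞) ≤ cohtPt ξ) (hr : r ≤ trd g ξ) : ∃ w : U, ((n + r : ℕ) : ℕ∞) ≤ cohtPt w := by
  let φ := g.fiberToSpecResidueField (g ξ)
  have hφ : LocallyOfFiniteType φ := MorphismProperty.pullback_snd _ _ ‹_›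
  have hd := FieldDim.isDimFun_fdelta (K := V.residueField (g ξ)) φ
  let δ := FieldDim.fdelta (K := V.residueField (g ξ)) φ
  suffices key : ∀ (m : ℕ) (a : g.fiber (g ξ)), δ a = m → ∀ k : ℕ,
      (k : ℕ∞) ≤ cohtPt (g.fiberι (g ξ) a) → ∃ w : U, ((k + m : ℕ) : ℕ∞) ≤ cohtPt w by
    obtain ⟨w, hw⟩ := key (δ (g.asFiber ξ)).toNat (g.asFiber ξ)
      (Int.toNat_of_nonneg (FieldDim.fdelta_nonneg (K := V.residueField (g ξ)) φ _)).symm n
      (by rwa [g.fiberι_asFiber])
    refine ⟨w, le_trans ?_ hw⟩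
    have h2 : trd g ξ = (δ (g.asFiber ξ)).toNat := by
      have h := FieldDim.trdegAt_fiber g (g ξ) (g.asFiber ξ)
      rw [g.fiberι_asFiber, trdegAt_eq g,
        FieldDim.trdegAt_eq_fdelta (K := V.residueField (g ξ)) φ] at h
      exact_mod_cast h.symm
    exact_mod_cast (show n + r ≤ n + (δ (g.asFiber ξ)).toNat by omega)
  intro m
  induction m with
  | zero => exact fun a _ k hk => ⟨_, by simpa using hk⟩
  | succ m ih =>
    intro a ha k hk
    classical
    have hnc : ¬ IsClosed ({a} : Set (g.fiber (g ξ))) := fun hc => by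
      have := FieldDim.fdelta_of_isClosed (K := V.residueField (g ξ)) φ a hc
      change δ a = 0 at this
      omega
    let P : ℕ → Prop := fun i => ∃ b, a ⤳ b ∧ b ≠ a ∧ (δ b).toNat = i
    obtain ⟨b₀, hb₀, hne₀⟩ : ∃ b, a ⤳ b ∧ b ≠ a := by
      by_contra hc
      simp only [not_exists, not_and, not_not] at hc
      exact hnc (isClosed_of_closure_subset fun b hb => hc b (specializes_iff_mem_closure.2 hb))
    have hbd : ∀ b, a ⤳ b → b ≠ a → (δ b).toNat ≤ m := fun b hb hne => by
      have h1 : δ b < δ a := (hd a b hb hne.symm).1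
      omega
    obtain ⟨b, hab, hne, hbmax⟩ : ∃ b, a ⤳ b ∧ b ≠ a ∧ (δ b).toNat = Nat.findGreatest P m :=
      Nat.findGreatest_spec (P := P) (hbd b₀ hb₀ hne₀) ⟨b₀, hb₀, hne₀, rfl⟩
    have him : δ a = δ b + 1 := (hd a b hab hne.symm).2 fun c hac hcb => by
      by_contra hc
      simp only [not_or] at hc
      have h1 : δ b < δ c := (hd c b hcb hc.2).1
      have h2 := Nat.le_findGreatest (P := P) (hbd c hac hc.1) ⟨c, hac, hc.1, rfl⟩
      have h3 : 0 ≤ δ b := FieldDim.fdelta_nonneg (K := V.residueField (g ξ)) φ b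
      omega
    obtain ⟨w, hw⟩ := ih b (by omega) (k + 1) (by
      have h1 := cohtPt_add_one_le (hab.map (g.fiberι (g ξ)).continuous) fun hba => hne
        ((g.fiberι (g ξ)).isEmbedding.injective
          (hba.antisymm (hab.map (g.fiberι (g ξ)).continuous)).eq)
      push_cast
      exact le_trans (by gcongr) h1)
    exact ⟨w, le_trans (by exact_mod_cast (show k + (m + 1) ≤ k + 1 + m by omega)) hw⟩

open AlgSp Groth.Agent.Lib.AlgSpace Groth.Agent.Lib.AlgSpDecent.Core

variable {S : Scheme.{u}} {X Y : Sp S} {f : X ⟶ Y}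

/-- The dimension of the source is at least the dimension of the target plus the generic relative
dimension, for closed surjective morphisms. -/
theorem cohtPt_add_le_dim (hX : IsAlgSpace X) (hY : IsAlgSpace Y) (hXd : IsDecent X) (hYd : IsDecent Y)
    (hYN : IsLocNoethSp Y) (hf : LocP @LocallyOfFiniteType f) (hc : IsClosedMap (Points.map f))
    (hs : Function.Surjective (Points.map f)) {x₀ : Points X}
    (hx₀ : IsGenericPoint x₀ (Set.univ : Set (Points X))) (r : ℕ)
    (hr : HasAtMor (fun _ _ h u => Dual3.resTrdeg h u = (r : Cardinal.{u})) f x₀)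
    {V' : Over S} {b' : (yon S).obj V' ⟶ Y} (hb' : RepWith @Etale b') (v' : ↥V'.left) :
    (((cohtPt v' + r : ℕ∞)) : WithBot ℕ∞) ≤ AlgSp.dim X := by
  obtain ⟨U, V, a, b, h, ha, has, hb, hbs, w⟩ := AlgSpMor.LocP.exists_chart hX hY f
  have : LocallyOfFiniteType h.left := hf a b h ha hb w
  have e : ∀ z, Points.map f (Points.ofPt a z) = Points.ofPt b (h.left z) := fun z => by
    rw [← Core.ofPt_comp, w, Core.ofPt_map_comp]
  have htr : ∀ z z', Points.ofPt a z = Points.ofPt a z' → trd h.left z = trd h.left z' := fun z z' he => by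
    have h1 : Residue.trdegAt h.left z = Residue.trdegAt h.left z' :=
      RelDim.resTrdeg_eq_of_charts hX hY ha hb w ha hb w he
    rw [trdegAt_eq h.left, trdegAt_eq h.left] at h1
    exact_mod_cast h1
  have key : ∀ (n : ℕ) (v : ↥V.left), (n : ℕ∞) ≤ cohtPt v →
      ∃ u : ↥U.left, Points.ofPt b (h.left u) = Points.ofPt b v ∧ r ≤ trd h.left u ∧
        (n : ℕ∞) ≤ cohtPt u := by
    intro n
    induction n with
    | zero =>
      intro v _
      obtain ⟨z, hz⟩ := hs (Points.ofPt b v)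
      obtain ⟨u, rfl⟩ := Core.surjective_ofPt has z
      obtain ⟨u₀, hu₀, he⟩ := Decent.IsDecent.exists_lift hXd ha (hx₀.specializes (Set.mem_univ (Points.ofPt a u)))
      obtain ⟨ζ, h1, h2, -, h4⟩ := H46.DimData.exists_specializes_trd_le h.left hu₀
      refine ⟨ζ, by rw [h2, ← e, hz], le_trans (le_of_eq ?_) h4, bot_le⟩
      have h5 := (RelDim.hasAtMor_resTrdeg_pred hX hY (· = (r : Cardinal.{u})) ha hb w u₀).1 (he.symm ▸ hr)
      change Residue.trdegAt h.left u₀ = r at h5
      rw [trdegAt_eq h.left] at h5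
      exact_mod_cast h5.symm
    | succ n ih =>
      intro v hv
      obtain ⟨v₁, hv₁, hnv, hn⟩ := exists_gen_of_succ_le hv
      have hney : Points.ofPt b v₁ ≠ Points.ofPt b v := fun he =>
        hnv (by rw [← Decent.IsDecent.eq_of_specializes hYd hb he.symm hv₁])
      obtain ⟨u₁, he₁, hr₁, hn₁⟩ := ih v₁ hn
      obtain ⟨z, hxz, hz⟩ := hc.specializingMap (show Points.map f (Points.ofPt a u₁) ⤳ Points.ofPt b v by
        rw [e, he₁]; exact hv₁.map (Points.continuous_ofPt b))
      obtain ⟨u, rfl⟩ := Core.surjective_ofPt has z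
      obtain ⟨u₂, hu₂, he₂⟩ := Decent.IsDecent.exists_lift hXd ha hxz
      obtain ⟨ζ, h1, h2, -, h4⟩ := H46.DimData.exists_specializes_trd_le h.left hu₂
      have hζ : Points.ofPt b (h.left ζ) = Points.ofPt b v := by rw [h2, ← e, hz]
      refine ⟨ζ, hζ, hr₁.trans ((htr _ _ he₂).symm.le.trans h4), ?_⟩
      have hne : ¬ ζ ⤳ u₂ := fun hh => hney (by
        rw [← he₁, ← e, ← he₂, e, (hh.antisymm h1).eq.symm, hζ])
      refine le_trans ?_ (cohtPt_add_one_le h1 hne)
      rw [DimCharts.cohtPt_eq_of_charts ha ha he₂]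
      push_cast
      gcongr
  obtain ⟨v, hv⟩ := Core.surjective_ofPt hbs (Points.ofPt b' v')
  have : IsLocallyNoetherian V.left := CodimOneSp.isLocallyNoetherian_chart hYN hb
  rw [DimCharts.cohtPt_eq_of_charts hb' hb hv.symm]
  obtain ⟨n, hn⟩ := ENat.ne_top_iff_exists.1 (cohtPt_ne_top v)
  obtain ⟨u, -, hru, hnu⟩ := key n v hn.le
  obtain ⟨w', hw'⟩ := exists_cohtPt_add_le h.left u n r hnu hru
  rw [← hn, ← Nat.cast_add]
  exact (WithBot.coe_le_coe.2 hw').trans (DimCharts.cohtPt_le_dim ha w')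

end Groth.Agent.Lib.AlgSpDecent.ProperDim
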