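import Groth.Agent.Lib.AlgSpDecent.FieldCover
import Groth.Agent.Lib.AlgSpace.Quot
import Groth.Agent.Lib.AlgSpDecent.ClosedPoint

/-!
Existence of residual spaces: the quotient of the relation induced on a point of a chart.
-/

universe u

open CategoryTheory CategoryTheory.Limits AlgebraicGeometry Opposite Topology

namespace Groth.Agent.Lib.AlgSpDecent.ResidualExists

theorem isReduced_of_isField_stalks {P : Scheme.{u}} (h : ∀ e : P, IsField (P.presheaf.stalk e)) :
    IsReduced P := by
  have : ∀ e : P, _root_.IsReduced (P.presheaf.stalk e) := fun e => by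
    have := (h e).isDomain
    infer_instance
  exact isReduced_of_isReduced_stalk _

/-- A preimmersion into a discrete scheme whose local rings are fields is an open immersion. -/
theorem isOpenImmersion_of_isPreimmersion {R P : Scheme.{u}} (j : R ⟶ P) [IsPreimmersion j]
    [DiscreteTopology P] (h : ∀ e : P, IsField (P.presheaf.stalk e)) : IsOpenImmersion j := by
  have hopen : IsOpenEmbedding j := ⟨j.isEmbedding, isOpen_discrete _⟩
  have : ∀ z : R, IsIso (j.stalkMap z) := fun z => by
    let := (h (j z)).toField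
    exact (ConcreteCategory.isIso_iff_bijective (C := CommRingCat) _).2
      ⟨(j.stalkMap z).hom.injective, j.stalkMap_surjective z⟩
  exact IsOpenImmersion.of_isIso_stalkMap j hopen

open AlgSp Groth.Agent.Lib.AlgSpace Core

variable {S : Scheme.{u}} {X : Sp S}

/-- The first projection of the relation induced on a field-valued preimmersion into a chart is etale. -/
theorem etale_of_isPullback (hX : IsAlgSpace X) {k : Type u} [Field k]
    {str : Spec (CommRingCat.of k) ⟶ S} {U : Over S} {a : (yon S).obj U ⟶ X} (ha : RepWith @Etale a)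
    (j : Over.mk str ⟶ U) [IsPreimmersion j.left] {R : Over S} {s t : R ⟶ Over.mk str}
    (sq : IsPullback ((yon S).map t) ((yon S).map s) ((yon S).map j ≫ a) ((yon S).map j ≫ a)) :
    Etale s.left := by
  obtain ⟨R₀, t₀, s₀, sq0⟩ := exists_isPullback_yon hX.diag a a
  have : Etale s₀.left := repWith_property ha sq0
  let P1 := Limits.pullback j s₀
  let T1 : P1 ⟶ U := pullback.snd j s₀ ≫ t₀
  have sqP : IsPullback ((yon S).map T1) ((yon S).map (pullback.fst j s₀)) a ((yon S).map j ≫ a) := by
    rw [Functor.map_comp]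
    exact ((IsPullback.of_hasPullback j s₀).flip.map (yon S)).paste_horiz sq0
  let R' := Limits.pullback T1 j
  have sqR : IsPullback ((yon S).map (pullback.snd T1 j))
      ((yon S).map (pullback.fst T1 j ≫ pullback.fst j s₀)) ((yon S).map j ≫ a) ((yon S).map j ≫ a) := by
    rw [Functor.map_comp (yon S) (pullback.fst T1 j)]
    exact ((IsPullback.of_hasPullback T1 j).flip.map (yon S)).paste_vert sqP
  have hπ : Etale (pullback.fst j s₀).left :=
    MorphismProperty.of_isPullback ((IsPullback.of_hasPullback j s₀).flip.map (Over.forget S)) ‹_›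
  have : DiscreteTopology ↥P1.left := by
    have := SourceDescent.Scheme.locallyQuasiFinite_of_etale (pullback.fst j s₀).left
    refine discreteTopology_iff_isOpen_singleton.2 fun e => ?_
    have h := (pullback.fst j s₀).left.isDiscrete_preimage_singleton ((pullback.fst j s₀).left e)
    have huniv : (pullback.fst j s₀).left ⁻¹' {(pullback.fst j s₀).left e} = Set.univ :=
      Set.eq_univ_of_forall fun x =>
        @Subsingleton.elim _ (inferInstanceAs (Subsingleton (PrimeSpectrum k))) _ _
    rw [huniv] at h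
    have := isDiscrete_univ_iff.1 h
    exact isOpen_discrete _
  have hF : ∀ e : ↥P1.left, IsField (P1.left.presheaf.stalk e) :=
    ClosedPoint.isField_stalk_of_etale (k := k) (pullback.fst j s₀).left
  have : IsPreimmersion (pullback.fst T1 j).left :=
    MorphismProperty.of_isPullback ((IsPullback.of_hasPullback T1 j).flip.map (Over.forget S)) ‹_›
  have := isOpenImmersion_of_isPreimmersion (pullback.fst T1 j).left hF
  let e := sq.isoIsPullback _ _ sqR
  obtain ⟨e₀, he₀⟩ := (yon S).map_surjective e.hom
  have : IsIso ((yon S).map e₀) := he₀ ▸ inferInstance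
  have : IsIso e₀ := isIso_of_reflects_iso e₀ (yon S)
  have hs : s = e₀ ≫ pullback.fst T1 j ≫ pullback.fst j s₀ := (yon S).map_injective (by
    rw [Functor.map_comp (yon S) e₀, he₀]
    exact (sq.isoIsPullback_hom_snd _ _ sqR).symm)
  have h1 : IsIso e₀.left := inferInstanceAs (IsIso ((Over.forget S).map e₀))
  have h2 : Etale ((pullback.fst T1 j).left ≫ (pullback.fst j s₀).left) :=
    inferInstanceAs (Etale _)
  rw [hs, Over.comp_left, Over.comp_left]
  exact (MorphismProperty.cancel_left_of_respectsIso @Etale _ _).2 h2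

theorem isEqvRel_of_isPullback {W R : Over S} {s t : R ⟶ W} {π : (yon S).obj W ⟶ X}
    (sq : IsPullback ((yon S).map t) ((yon S).map s) π π) : IsEqvRel s t := by
  refine ⟨fun T r r' h1 h2 => (yon S).map_injective (sq.hom_ext ?_ ?_), fun T => ?_⟩
  · rw [← Functor.map_comp, h1, Functor.map_comp]
  · rw [← Functor.map_comp, h2, Functor.map_comp]
  have key : ∀ a b : T ⟶ W, (∃ r : T ⟶ R, r ≫ t = a ∧ r ≫ s = b) ↔
      (yon S).map a ≫ π = (yon S).map b ≫ π := fun a b => by
    constructor
    · rintro ⟨r, rfl, rfl⟩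
      rw [Functor.map_comp, Functor.map_comp, Category.assoc, Category.assoc, sq.w]
    · intro h
      obtain ⟨r, hr⟩ := (yon S).map_surjective (sq.lift _ _ h)
      exact ⟨r, (yon S).map_injective (by rw [Functor.map_comp, hr, sq.lift_fst]),
        (yon S).map_injective (by rw [Functor.map_comp, hr, sq.lift_snd])⟩
  exact ⟨fun a => (key a a).2 rfl, fun h => (key _ _).2 ((key _ _).1 h).symm,
    fun h h' => (key _ _).2 (((key _ _).1 h).trans ((key _ _).1 h'))⟩

/-- The image of a field-valued preimmersion into a chart is an algebraic space. -/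
theorem exists_residual (hX : IsAlgSpace X) {k : Type u} [Field k]
    {str : Spec (CommRingCat.of k) ⟶ S} {U : Over S} {a : (yon S).obj U ⟶ X} (ha : RepWith @Etale a)
    (j : Over.mk str ⟶ U) [IsPreimmersion j.left] :
    ∃ (Z : Sp S) (i : Z ⟶ X) (p : (yon S).obj (Over.mk str) ⟶ Z), IsAlgSpace Z ∧ Mono i ∧
      RepWith @Etale p ∧ RepWith @Surjective p ∧ p ≫ i = (yon S).map j ≫ a := by
  obtain ⟨R, t, s, sq⟩ := exists_isPullback_yon hX.diag ((yon S).map j ≫ a) ((yon S).map j ≫ a)
  have h : IsEtaleEqvRel s t :=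
    ⟨isEqvRel_of_isPullback sq, etale_of_isPullback hX ha j sq, etale_of_isPullback hX ha j sq.flip⟩
  have hq := isPresentation_quot h
  haveI := isLocallySurjective_quotMap s t
  obtain ⟨i, hi⟩ := exists_desc (quotMap s t) (isPullback_quot h.toIsEqvRel)
    ((yon S).map j ≫ a) sq.w
  refine ⟨_, i, quotMap s t, isAlgSpace_quot h, mono_of_yon i fun T x y e => ?_,
    hq.etale, hq.surjective, hi⟩
  obtain ⟨T₁, p₁, x', hp₁, hx⟩ := exists_lift_of_isLocallySurjective (quotMap s t) x
  obtain ⟨T₂, p₂, y', hp₂, hy⟩ :=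
    exists_lift_of_isLocallySurjective (quotMap s t) ((yon S).map p₁ ≫ y)
  have hpp : fppfCover (p₂ ≫ p₁).left := MorphismProperty.comp_mem fppfCover _ _ hp₂ hp₁
  haveI := epi_yon_map (p₂ ≫ p₁) hpp
  rw [← cancel_epi ((yon S).map (p₂ ≫ p₁))]
  simp only [Functor.map_comp, Category.assoc]
  rw [← hx, ← hy]
  have key : ((yon S).map p₂ ≫ x') ≫ ((yon S).map j ≫ a) = y' ≫ ((yon S).map j ≫ a) := by
    rw [← hi]
    simp only [Category.assoc]
    rw [reassoc_of% hx, reassoc_of% hy, show x ≫ i = y ≫ i from e]
  have e1 := sq.lift_fst _ _ key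
  have e2 := sq.lift_snd _ _ key
  calc (yon S).map p₂ ≫ x' ≫ quotMap s t
      = (sq.lift _ _ key ≫ (yon S).map t) ≫ quotMap s t := by rw [e1, Category.assoc]
    _ = (sq.lift _ _ key ≫ (yon S).map s) ≫ quotMap s t := by
      rw [Category.assoc, Category.assoc, quotMap_condition s t]
    _ = y' ≫ quotMap s t := by rw [e2]

end Groth.Agent.Lib.AlgSpDecent.ResidualExists
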