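import Groth.Agent.Lib.AlgSpDecent.Restrict
import Groth.Agent.Lib.AlgSpDecent.DualSystem
import Mathlib.AlgebraicGeometry.Morphisms.Etale
import Mathlib.RingTheory.Flat.EquationalCriterion
import Mathlib.RingTheory.Finiteness.ModuleFinitePresentation

/-!
Saturated affine neighbourhoods of finite fibres, through norms.
-/

universe u

open CategoryTheory CategoryTheory.Limits AlgebraicGeometry Opposite

namespace Groth.Agent.Lib.AlgSpDecent.Saturate

open AlgSp Core Fibre Specialize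

/-- In an affine scheme a finite subset of an open lies in a principal open inside it. -/
theorem exists_basicOpen_supset {V : Scheme.{u}} [IsAffine V] {O : Set V} (hO : IsOpen O)
    {T : Set V} (hT : T.Finite) (hTO : T ⊆ O) :
    ∃ g : Γ(V, ⊤), T ⊆ V.basicOpen g ∧ (V.basicOpen g : Set V) ⊆ O := by
  classical
  let hV := isAffineOpen_top V
  let e := hV.fromSpec
  obtain ⟨I, hI⟩ := (PrimeSpectrum.isClosed_iff_zeroLocus_ideal _).1
    ((hO.isClosed_compl).preimage e.continuous)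
  have hsurj : Function.Surjective e := by
    intro x
    have : x ∈ Set.range e := by rw [hV.range_fromSpec]; trivial
    exact this
  choose p hp using fun x : V => hsurj x
  rcases T.eq_empty_or_nonempty with rfl | ⟨x₀, hx₀⟩
  · exact ⟨0, Set.empty_subset _, by simp [Scheme.basicOpen_zero]⟩
  obtain ⟨g, hgI, hg⟩ := Set.not_subset.1 (fun hc : (I : Set Γ(V, ⊤)) ⊆
      ⋃ x ∈ (hT.toFinset : Set V), ((p x).asIdeal : Set Γ(V, ⊤)) => by
    obtain ⟨x, hx, hle⟩ := (Ideal.subset_union_prime (f := fun x : V => (p x).asIdeal) x₀ x₀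
      (fun i _ _ _ => (p i).isPrime)).1 hc
    have : p x ∈ e ⁻¹' Oᶜ := by rw [hI]; exact hle
    exact this (show e (p x) ∈ O from (hp x).symm ▸ hTO (hT.mem_toFinset.1 hx)))
  refine ⟨g, fun x hx => ?_, fun x hx => ?_⟩
  · have : p x ∈ e ⁻¹ᵁ V.basicOpen g := by
      rw [hV.fromSpec_preimage_basicOpen]
      exact fun h => hg (Set.mem_iUnion₂.2 ⟨x, hT.mem_toFinset.2 hx, h⟩)
    have h2 : e (p x) ∈ V.basicOpen g := this
    rwa [hp x] at h2
  · by_contra hxO
    have h1 : p x ∈ e ⁻¹' Oᶜ := show e (p x) ∈ Oᶜ from (hp x).symm ▸ hxO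
    rw [hI] at h1
    have h2 : p x ∈ e ⁻¹ᵁ V.basicOpen g := show e (p x) ∈ V.basicOpen g from (hp x).symm ▸ hx
    rw [hV.fromSpec_preimage_basicOpen] at h2
    exact h2 (h1 hgI)

/-- The norm of a function on a finite locally free cover: the locus over which it is invertible
everywhere is affine. -/
theorem exists_affineOpen_iff {R V : Scheme.{u}} (f : R ⟶ V) {D : V.Opens} (hD : IsAffineOpen D)
    [IsFinite (f ∣_ D)] [Flat f] [LocallyOfFinitePresentation f] (b : Γ(R, f ⁻¹ᵁ D)) :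
    ∃ D' : V.Opens, IsAffineOpen D' ∧ D' ≤ D ∧
      ∀ u ∈ D, (u ∈ D' ↔ ∀ r, f r = u → r ∈ R.basicOpen b) := by
  have : IsAffine (D : Scheme.{u}) := hD
  have hfD : IsAffineOpen (f ⁻¹ᵁ D) := by
    have : IsAffine ((f ⁻¹ᵁ D : R.Opens) : Scheme.{u}) := isAffine_of_isAffineHom (f ∣_ D)
    exact this
  let φ : Γ(V, D) →+* Γ(R, f ⁻¹ᵁ D) := (f.app D).hom
  let _ : Algebra Γ(V, D) Γ(R, f ⁻¹ᵁ D) := φ.toAlgebra
  have hfin : φ.Finite := by
    have h00 := (f ∣_ D).finite_appTop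
    rw [Scheme.Hom.appTop, morphismRestrict_app] at h00
    have h0 : ((R.presheaf.map (eqToHom (image_morphismRestrict_preimage f D ⊤)).op).hom.comp
      (f.app (D.ι ''ᵁ ⊤)).hom).Finite := h00
    have e : D.ι ''ᵁ ⊤ = D := Scheme.Opens.ι_image_top _
    have h1 : (f.app (D.ι ''ᵁ ⊤)).hom.Finite := by
      let m := R.presheaf.map (eqToHom (image_morphismRestrict_preimage f D ⊤)).op
      have hm : IsIso m := inferInstance
      have : (CategoryTheory.inv m).hom.Finite :=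
        RingHom.Finite.of_surjective _ (ConcreteCategory.bijective_of_isIso _).2
      have h := RingHom.Finite.comp this h0
      rw [← RingHom.comp_assoc, ← CommRingCat.hom_comp, IsIso.hom_inv_id, CommRingCat.hom_id,
        RingHom.id_comp] at h
      exact h
    rw [e] at h1
    exact h1
  have hflat := HasRingHomProperty.appLE (P := @Flat) f ‹_› ⟨D, hD⟩ ⟨_, hfD⟩ le_rfl
  have hfp := HasRingHomProperty.appLE (P := @LocallyOfFinitePresentation) f ‹_› ⟨D, hD⟩ ⟨_, hfD⟩ le_rfl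
  simp only [Scheme.Hom.appLE_eq_app] at hflat hfp
  have : Module.Finite Γ(V, D) Γ(R, f ⁻¹ᵁ D) := hfin
  have : Module.Flat Γ(V, D) Γ(R, f ⁻¹ᵁ D) := hflat
  have : Algebra.FinitePresentation Γ(V, D) Γ(R, f ⁻¹ᵁ D) := hfp
  have : Module.FinitePresentation Γ(V, D) Γ(R, f ⁻¹ᵁ D) :=
    (Module.FinitePresentation.iff_finitePresentation_of_finite _ _).2 inferInstance
  have : Module.Projective Γ(V, D) Γ(R, f ⁻¹ᵁ D) := Module.Flat.projective_of_finitePresentation
  obtain ⟨P⟩ := DualSystem.nonempty_dualSys Γ(V, D) Γ(R, f ⁻¹ᵁ D)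
  refine ⟨V.basicOpen (P.norm b), hD.basicOpen _, V.basicOpen_le _, fun u hu => ?_⟩
  let p := hD.primeIdealOf ⟨u, hu⟩
  have hp : hD.fromSpec p = u := hD.fromSpec_primeIdealOf ⟨u, hu⟩
  have h1 : u ∈ V.basicOpen (P.norm b) ↔ P.norm b ∉ p.asIdeal := by
    rw [show u ∈ V.basicOpen (P.norm b) ↔ p ∈ hD.fromSpec ⁻¹ᵁ V.basicOpen (P.norm b) from
      (congrArg (fun x => x ∈ V.basicOpen (P.norm b)) hp).symm.to_iff]
    rw [hD.fromSpec_preimage_basicOpen]
    rfl
  have hcomm : ∀ q : PrimeSpectrum Γ(R, f ⁻¹ᵁ D),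
      hD.fromSpec (PrimeSpectrum.comap φ q) = f (hfD.fromSpec q) := by
    intro q
    have := congrArg (fun m => m q) (hD.SpecMap_appLE_fromSpec f hfD le_rfl)
    rw [Scheme.Hom.appLE_eq_app] at this
    exact this
  have hb : ∀ q, hfD.fromSpec q ∈ R.basicOpen b ↔ b ∉ q.asIdeal := by
    intro q
    show q ∈ hfD.fromSpec ⁻¹ᵁ R.basicOpen b ↔ _
    rw [hfD.fromSpec_preimage_basicOpen]
    rfl
  rw [h1, P.norm_notMem_iff]
  constructor
  · intro h r hr
    have hr' : r ∈ f ⁻¹ᵁ D := show f r ∈ D from hr.symm ▸ hu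
    obtain ⟨q, rfl⟩ : ∃ q, hfD.fromSpec q = r :=
      ⟨hfD.primeIdealOf ⟨r, hr'⟩, hfD.fromSpec_primeIdealOf ⟨r, hr'⟩⟩
    refine (hb q).2 (h q (hD.fromSpec.isOpenEmbedding.injective ?_))
    exact ((hcomm q).trans hr).trans hp.symm
  · intro h q hq
    refine (hb q).1 (h _ ?_)
    rw [← hcomm, ← hp]
    exact congrArg hD.fromSpec hq

variable {S : Scheme.{u}} {F : Sp S} {U : Over S} {a : (yon S).obj U ⟶ F}

/-- A saturated affine neighbourhood of a finite fibre over which the self fibre product is finite. -/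
theorem exists_saturated (ha : RepWith @Etale a) [IsAffine U.left] {η : ↥U.left}
    (hfib : (Points.ofPt a ⁻¹' {Points.ofPt a η}).Finite)
    (hD : ∀ z, Points.ofPt a z = Points.ofPt a η →
      ∃ D : U.left.Opens, z ∈ D ∧ IsFinite ((ha.rep.snd a).left ∣_ D)) :
    ∃ D : U.left.Opens, IsAffineOpen D ∧ η ∈ D ∧ IsFinite ((ha.rep.snd a).left ∣_ D) ∧
      ∀ r, (ha.rep.snd a).left r ∈ D → (ha.rep.fst' a).left r ∈ D := by
  let Fz := Points.ofPt a ⁻¹' {Points.ofPt a η}
  choose D₀ hD₀ hfin₀ using fun z : Fz => hD z.1 z.2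
  let O : U.left.Opens := ⨆ z, D₀ z
  have := hfib.to_subtype
  obtain ⟨g, hFg, hgO⟩ := exists_basicOpen_supset O.isOpen hfib (fun z hz =>
    TopologicalSpace.Opens.mem_iSup.2 ⟨⟨z, hz⟩, hD₀ ⟨z, hz⟩⟩)
  let Dg : U.left.Opens := U.left.basicOpen g
  let t := (ha.rep.snd a).left
  let s := (ha.rep.fst' a).left
  have hfg : IsFinite (t ∣_ Dg) := Restrict.isFinite_restrict_of_cover t D₀ hfin₀ hgO
  have : Etale t := ha.property_snd a
  let gs : Γ((ha.rep.pullback a).left, ⊤) := s.appTop g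
  let b : Γ((ha.rep.pullback a).left, t ⁻¹ᵁ Dg) :=
    (ha.rep.pullback a).left.presheaf.map (homOfLE le_top).op gs
  obtain ⟨D, hDa, hDle, hiff⟩ :=
    exists_affineOpen_iff t ((isAffineOpen_top U.left).basicOpen g) b
  have hb : ∀ r, t r ∈ Dg → (r ∈ (ha.rep.pullback a).left.basicOpen b ↔ s r ∈ Dg) := by
    intro r hr
    rw [show (ha.rep.pullback a).left.basicOpen b =
      (t ⁻¹ᵁ Dg) ⊓ (ha.rep.pullback a).left.basicOpen gs from Scheme.basicOpen_res _ _ _]
    constructor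
    · rintro ⟨-, h⟩
      show r ∈ s ⁻¹ᵁ Dg
      rw [show s ⁻¹ᵁ Dg = (ha.rep.pullback a).left.basicOpen gs from Scheme.preimage_basicOpen_top s g]
      exact h
    · intro h
      refine ⟨hr, ?_⟩
      rw [← show s ⁻¹ᵁ Dg = (ha.rep.pullback a).left.basicOpen gs from Scheme.preimage_basicOpen_top s g]
      exact h
  have himg : ∀ r, Points.ofPt a (s r) = Points.ofPt a (t r) := fun r =>
    ofPt_eq_of_scheme_isPullback (ha.rep.isPullback' a).w _ rfl r
  have hmem : ∀ u, u ∈ D ↔ u ∈ Dg ∧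
      ∀ v, Points.ofPt a v = Points.ofPt a u → v ∈ Dg := by
    intro u
    constructor
    · intro hu
      refine ⟨hDle hu, fun v hv => ?_⟩
      obtain ⟨r, hr₁, hr₂⟩ := exists_rel ha.rep v u hv
      have hr₂' : t r = u := hr₂
      have := (hb r (hr₂'.symm ▸ hDle hu)).1 ((hiff u (hDle hu)).1 hu r hr₂')
      exact hr₁ ▸ this
    · rintro ⟨hu, hall⟩
      refine (hiff u hu).2 fun r hr => (hb r (hr.symm ▸ hu)).2 (hall _ ?_)
      rw [himg, hr]
  refine ⟨D, hDa, (hmem η).2 ⟨hFg rfl, fun v hv => hFg hv⟩,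
    Restrict.isFinite_restrict_mono t (O := Dg) hDle, fun r hr => (hmem _).2 ?_⟩
  have h := ((hmem _).1 hr).2
  exact ⟨h _ (himg r), fun v hv => h v (hv.trans (himg r))⟩

end Groth.Agent.Lib.AlgSpDecent.Saturate
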