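import Mathlib.AlgebraicGeometry.AffineScheme
import Mathlib.RingTheory.Ideal.MinimalPrime.Basic
import Mathlib.RingTheory.Spectrum.Prime.Topology

/-!
Topological facts about closed subsets of affine schemes: minimal points, a Baire property for
sequences of open sets, and separation of minimal points from compact opens.
-/

universe u

open CategoryTheory AlgebraicGeometry Topology PrimeSpectrum

namespace Groth.Agent.Lib.AlgSpDecent.SpecTop

variable {A : Type u} [CommRing A]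

theorem exists_minimal_prime {W : Set (PrimeSpectrum A)} (hW : IsClosed W) {w : PrimeSpectrum A}
    (hw : w ∈ W) : ∃ η ∈ W, η ⤳ w ∧ ∀ y ∈ W, y ⤳ η → y = η := by
  obtain ⟨s, rfl⟩ := (isClosed_iff_zeroLocus_ideal W).1 hW
  obtain ⟨P, hP, hle⟩ := Ideal.exists_minimalPrimes_le (J := w.asIdeal) (show s ≤ w.asIdeal from hw)
  refine ⟨⟨P, hP.1.1⟩, hP.1.2, (le_iff_specializes _ _).1 hle, fun y hy hyP => ?_⟩
  have h1 : y.asIdeal ≤ P := (le_iff_specializes _ _).2 hyP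
  exact PrimeSpectrum.ext (le_antisymm h1 (hP.2 ⟨y.isPrime, hy⟩ h1))

theorem exists_open_inter_disjoint {W : Set (PrimeSpectrum A)} (hW : IsClosed W) (hne : W.Nonempty)
    (L : ℕ → Set (PrimeSpectrum A)) (hL : ∀ n, IsOpen (L n)) (hcov : ∀ w ∈ W, ∃ n, w ∉ L n) :
    ∃ (n : ℕ) (O : Set (PrimeSpectrum A)), IsOpen O ∧ (O ∩ W).Nonempty ∧ O ∩ W ∩ L n = ∅ := by
  by_contra hcon
  push Not at hcon
  obtain ⟨I, rfl⟩ := (isClosed_iff_zeroLocus_ideal W).1 hW
  let W := zeroLocus (I : Set A)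
  have key : ∀ (n : ℕ) (f : {f : A // ((basicOpen f : Set (PrimeSpectrum A)) ∩ W).Nonempty}),
      ∃ g : {g : A // ((basicOpen g : Set (PrimeSpectrum A)) ∩ W).Nonempty},
        (basicOpen g.1 : Set (PrimeSpectrum A)) ⊆ basicOpen f.1 ∧
          (basicOpen g.1 : Set (PrimeSpectrum A)) ⊆ L n := by
    intro n f
    obtain ⟨x, ⟨hx, hxW⟩, hxn⟩ := hcon n _ (basicOpen f.1).isOpen f.2
    obtain ⟨_, ⟨g, rfl⟩, hxg, hg⟩ := isTopologicalBasis_basic_opens.exists_subset_of_mem_open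
      (show x ∈ (basicOpen f.1 : Set _) ∩ L n from ⟨hx, hxn⟩) ((basicOpen f.1).isOpen.inter (hL n))
    exact ⟨⟨g, x, hxg, hxW⟩, hg.trans Set.inter_subset_left, hg.trans Set.inter_subset_right⟩
  choose next hnext hnextL using key
  let f : ℕ → {f : A // ((basicOpen f : Set (PrimeSpectrum A)) ∩ W).Nonempty} :=
    fun n => Nat.rec ⟨1, hne.some, by simp, hne.some_mem⟩ next n
  have hanti : ∀ {m n : ℕ}, m ≤ n →
      (basicOpen (f n).1 : Set (PrimeSpectrum A)) ⊆ basicOpen (f m).1 := by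
    intro m n h
    induction h with
    | refl => exact subset_rfl
    | step _ ih => exact (hnext _ _).trans ih
  let M : Submonoid A :=
    { carrier := {a | ∃ n, (basicOpen (f n).1 : Set (PrimeSpectrum A)) ⊆ basicOpen a}
      one_mem' := ⟨0, by simp⟩
      mul_mem' := by
        rintro a b ⟨m, hm⟩ ⟨n, hn⟩
        refine ⟨max m n, ?_⟩
        rw [basicOpen_mul]
        exact fun x hx => ⟨hm (hanti (le_max_left m n) hx), hn (hanti (le_max_right m n) hx)⟩ }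
  have hdis : Disjoint (I : Set A) M := by
    rw [Set.disjoint_left]
    rintro a haI ⟨n, hn⟩
    obtain ⟨x, hx, hxW⟩ := (f n).2
    exact hn hx (hxW haI)
  obtain ⟨P, hP, hIP, hPM⟩ := Ideal.exists_le_prime_disjoint I M hdis
  obtain ⟨n, hn⟩ := hcov ⟨P, hP⟩ hIP
  refine hn (hnextL n (f n) ?_)
  show (f (n + 1)).1 ∉ P
  exact fun h => Set.disjoint_left.1 hPM h ⟨n + 1, subset_rfl⟩

theorem exists_open_disjoint_of_minimal {W : Set (PrimeSpectrum A)} (hW : IsClosed W)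
    {η : PrimeSpectrum A} (hmin : ∀ y ∈ W, y ⤳ η → y = η) {Q : Set (PrimeSpectrum A)}
    (hQo : IsOpen Q) (hQ : IsCompact Q) (hη : η ∉ Q) :
    ∃ N : Set (PrimeSpectrum A), IsOpen N ∧ η ∈ N ∧ N ∩ W ∩ Q = ∅ := by
  obtain ⟨I, rfl⟩ := (isClosed_iff_zeroLocus_ideal W).1 hW
  have key : ∀ k ∈ Q, ∃ g h : A, k ∈ basicOpen g ∧ η ∈ basicOpen h ∧
      (basicOpen g : Set (PrimeSpectrum A)) ∩ basicOpen h ∩ zeroLocus (I : Set A) = ∅ := by
    intro k hk
    obtain ⟨_, ⟨g, rfl⟩, hkg, hg⟩ :=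
      isTopologicalBasis_basic_opens.exists_subset_of_mem_open hk hQo
    have hgη : g ∈ η.asIdeal := by by_contra hc; exact hη (hg hc)
    refine ⟨g, ?_⟩
    by_contra hcon
    push Not at hcon
    let M : Submonoid A := η.asIdeal.primeCompl ⊔ Submonoid.powers g
    have hdis : Disjoint (I : Set A) M := by
      rw [Set.disjoint_left]
      intro a haI haM
      obtain ⟨h, hh, b, ⟨e, rfl⟩, rfl⟩ := Submonoid.mem_sup.1 haM
      obtain ⟨x, ⟨hxg, hxh⟩, hxI⟩ := hcon h hkg hh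
      rcases x.isPrime.mem_or_mem (hxI haI) with hc | hc
      · exact hxh hc
      · exact hxg (x.isPrime.mem_of_pow_mem e hc)
    obtain ⟨P, hP, hIP, hPM⟩ := Ideal.exists_le_prime_disjoint I M hdis
    have hPη : P ≤ η.asIdeal := fun a ha => by
      by_contra hc
      exact Set.disjoint_left.1 hPM ha ((le_sup_left : η.asIdeal.primeCompl ≤ M) hc)
    have := hmin ⟨P, hP⟩ hIP ((le_iff_specializes _ _).1 hPη)
    refine Set.disjoint_left.1 hPM ?_ ((le_sup_right : Submonoid.powers g ≤ M)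
      (Submonoid.mem_powers g))
    rw [show P = η.asIdeal from congrArg PrimeSpectrum.asIdeal this]
    exact hgη
  choose g h hg hh hdisj using key
  obtain ⟨s, hs⟩ := hQ.elim_finite_subcover (fun k : Q => (basicOpen (g k.1 k.2) : Set (PrimeSpectrum A)))
    (fun k => (basicOpen _).isOpen) (fun k hk => Set.mem_iUnion.2 ⟨⟨k, hk⟩, hg k hk⟩)
  refine ⟨⋂ k ∈ s, (basicOpen (h k.1 k.2) : Set (PrimeSpectrum A)), isOpen_biInter_finset fun k _ =>
    (basicOpen _).isOpen, Set.mem_iInter₂.2 fun k _ => hh k.1 k.2, ?_⟩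
  refine Set.eq_empty_iff_forall_notMem.2 ?_
  rintro x ⟨⟨hxN, hxW⟩, hxQ⟩
  obtain ⟨k, hk, hxk⟩ := Set.mem_iUnion₂.1 (hs hxQ)
  have hx : x ∈ (basicOpen (g k.1 k.2) : Set (PrimeSpectrum A)) ∩ basicOpen (h k.1 k.2) ∩
      zeroLocus (I : Set A) := ⟨⟨hxk, Set.mem_iInter₂.1 hxN k hk⟩, hxW⟩
  rw [hdisj k.1 k.2] at hx
  exact hx

section Affine

variable {U : Scheme.{u}} [IsAffine U]

/-- The homeomorphism with the prime spectrum. -/
noncomputable def specHomeo (U : Scheme.{u}) [IsAffine U] : U ≃ₜ PrimeSpectrum Γ(U, ⊤) :=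
  U.isoSpec.schemeIsoToHomeo

theorem exists_minimal {W : Set U} (hW : IsClosed W) {w : U} (hw : w ∈ W) :
    ∃ η ∈ W, η ⤳ w ∧ ∀ y ∈ W, y ⤳ η → y = η := by
  let e := specHomeo U
  obtain ⟨η, hη, hηw, hmin⟩ := exists_minimal_prime (e.isClosed_image.2 hW) (Set.mem_image_of_mem e hw)
  obtain ⟨η', hη', rfl⟩ := hη
  refine ⟨η', hη', e.isInducing.specializes_iff.1 hηw, fun y hy hyη => ?_⟩
  exact e.injective (hmin _ (Set.mem_image_of_mem e hy) (hyη.map e.continuous))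

theorem exists_open_disjoint {W : Set U} (hW : IsClosed W) (hne : W.Nonempty) (L : ℕ → Set U)
    (hL : ∀ n, IsOpen (L n)) (hcov : ∀ w ∈ W, ∃ n, w ∉ L n) :
    ∃ (n : ℕ) (O : Set U), IsOpen O ∧ (O ∩ W).Nonempty ∧ O ∩ W ∩ L n = ∅ := by
  let e := specHomeo U
  obtain ⟨n, O, hO, hOW, hdis⟩ := exists_open_inter_disjoint (e.isClosed_image.2 hW)
    (hne.image e) (fun n => e '' L n) (fun n => e.isOpen_image.2 (hL n)) (by
      rintro _ ⟨w, hw, rfl⟩
      obtain ⟨n, hn⟩ := hcov w hw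
      exact ⟨n, fun ⟨w', hw', h'⟩ => hn (e.injective h' ▸ hw')⟩)
  refine ⟨n, e ⁻¹' O, hO.preimage e.continuous, ?_, ?_⟩
  · obtain ⟨_, hwO, w, hw, rfl⟩ := hOW
    exact ⟨w, hwO, hw⟩
  · refine Set.eq_empty_iff_forall_notMem.2 fun x ⟨⟨h1, h2⟩, h3⟩ => ?_
    exact Set.eq_empty_iff_forall_notMem.1 hdis (e x)
      ⟨⟨h1, Set.mem_image_of_mem e h2⟩, Set.mem_image_of_mem e h3⟩

theorem exists_open_disjoint_compact {W : Set U} (hW : IsClosed W) {η : U}
    (hmin : ∀ y ∈ W, y ⤳ η → y = η) {Q : Set U} (hQo : IsOpen Q) (hQ : IsCompact Q) (hη : η ∉ Q) :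
    ∃ N : Set U, IsOpen N ∧ η ∈ N ∧ N ∩ W ∩ Q = ∅ := by
  let e := specHomeo U
  obtain ⟨N, hN, hηN, hdis⟩ := exists_open_disjoint_of_minimal (e.isClosed_image.2 hW) (η := e η)
    (by
      rintro _ ⟨y, hy, rfl⟩ h
      rw [hmin y hy (e.isInducing.specializes_iff.1 h)])
    (e.isOpen_image.2 hQo) (hQ.image e.continuous) (fun ⟨q, hq, h⟩ => hη (e.injective h ▸ hq))
  refine ⟨e ⁻¹' N, hN.preimage e.continuous, hηN, ?_⟩
  refine Set.eq_empty_iff_forall_notMem.2 fun x ⟨⟨h1, h2⟩, h3⟩ => ?_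
  exact Set.eq_empty_iff_forall_notMem.1 hdis (e x)
    ⟨⟨h1, Set.mem_image_of_mem e h2⟩, Set.mem_image_of_mem e h3⟩

end Affine

end Groth.Agent.Lib.AlgSpDecent.SpecTop
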