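import Groth.Agent.Lib.AlgSpDecent.FiniteFibre
import Groth.Agent.Lib.AlgSpDecent.Levels
import Groth.Agent.Lib.AlgSpDecent.SpecTop

/-!
The self fibre product of an affine etale chart of a decent space: finite fibres over the chart.
-/

universe u

open CategoryTheory CategoryTheory.Limits AlgebraicGeometry Opposite Topology

namespace Groth.Agent.Lib.AlgSpDecent.SelfFibre

open AlgSp Core Fibre Specialize Decent Criteria

variable {S : Scheme.{u}} {F : Sp S} {U : Over S} {a : (yon S).obj U ⟶ F}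

theorem isSeparated_snd (hr : Representable a) [IsAffine U.left] :
    IsSeparated (hr.snd a).left := by
  let R := hr.pullback a
  let s : R ⟶ U := hr.fst' a
  let t : R ⟶ U := hr.snd a
  obtain ⟨m, hm₁, hm₂⟩ : ∃ m : R.left ⟶ pullback U.hom U.hom,
      m ≫ pullback.fst U.hom U.hom = s.left ∧ m ≫ pullback.snd U.hom U.hom = t.left :=
    ⟨pullback.lift s.left t.left ((Over.w s).trans (Over.w t).symm), pullback.lift_fst _ _ _,
      pullback.lift_snd _ _ _⟩
  have : Mono m := by
    refine ⟨fun {Z} g h e => ?_⟩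
    have h1 : g ≫ s.left = h ≫ s.left := by
      rw [← hm₁, ← Category.assoc, e, Category.assoc]
    have h2 : g ≫ t.left = h ≫ t.left := by
      rw [← hm₂, ← Category.assoc, e, Category.assoc]
    have hgh : g ≫ R.hom = h ≫ R.hom := by
      rw [← Over.w t, reassoc_of% h2]
    let g' : Over.mk (g ≫ R.hom) ⟶ R := Over.homMk g rfl
    let h' : Over.mk (g ≫ R.hom) ⟶ R := Over.homMk h hgh.symm
    have hs : g' ≫ s = h' ≫ s := Over.OverMorphism.ext h1
    have ht : g' ≫ t = h' ≫ t := Over.OverMorphism.ext h2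
    have : (yon S).map g' = (yon S).map h' := (hr.isPullback' a).hom_ext
      (by rw [← Functor.map_comp, ← Functor.map_comp, hs])
      (by rw [← Functor.map_comp, ← Functor.map_comp, ht])
    exact congrArg CommaMorphism.left ((yon S).map_injective this)
  have : IsSeparated U.hom := inferInstance
  have e : t.left = m ≫ pullback.snd U.hom U.hom := hm₂.symm
  change IsSeparated t.left
  rw [e]
  infer_instance

/-- Over an affine chart of a decent space the self fibre product has finite fibres. -/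
theorem finite_fibres_snd (hF : IsDecent F) (ha : RepWith @Etale a) [IsAffine U.left]
    (u : ↥U.left) : ((ha.rep.snd a).left ⁻¹' {u}).Finite := by
  let q := FieldPt.ofPt a u
  let i : q.pt ⟶ U := Over.homMk (U.left.fromSpecResidueField u) rfl
  have hqi : q.toHom = (yon S).map i ≫ a := FieldPt.toHom_ofPt a u
  obtain ⟨p, hp, -, hpq⟩ := hF (Points.mk q)
  have : Finite ↥(ha.rep.pullback p.toHom).left := finite_pullback_of_qc p hpq ha
  have : Finite ↥(ha.rep.pullback q.toHom).left := finite_pullback_of_mk_eq ha hp.symm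
  let t := ha.rep.snd a
  let s := ha.rep.fst' a
  have sqP : IsPullback ((yon S).map (pullback.fst t i ≫ s)) ((yon S).map (pullback.snd t i))
      a q.toHom := by
    have := (isPullback_yon_pullback t i).paste_horiz (ha.rep.isPullback' a)
    rw [← Functor.map_comp, ← hqi] at this
    exact this
  let e : ha.rep.pullback q.toHom ≅ pullback t i :=
    (yon S).preimageIso ((ha.rep.isPullback' q.toHom).isoIsPullback _ _ sqP)
  have : Finite ↥(pullback t i).left :=
    Finite.of_equiv ↥(ha.rep.pullback q.toHom).left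
      ((Over.forget S).mapIso e).schemeIsoToHomeo.toEquiv
  refine (Set.finite_range (pullback.fst t i).left).subset fun r hr => ?_
  obtain ⟨pt⟩ := nonempty_pt q
  obtain ⟨z, hz, -⟩ := exists_point_of_scheme_isPullback (isPullback_yon_pullback t i) r pt (by
    rw [ofPt_yon_map, ofPt_yon_map]
    congr 1
    exact (Set.mem_singleton_iff.1 hr).trans (Scheme.fromSpecResidueField_apply u _).symm)
  exact ⟨z, hz⟩

/-- On a nonempty closed subset of an affine chart of a decent space the saturation relation is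
locally quasi-compact somewhere. -/
theorem exists_compact_relation (hF : IsDecent F) (ha : RepWith @Etale a) [IsAffine U.left]
    {W : Set ↥U.left} (hW : IsClosed W) (hne : W.Nonempty) :
    ∃ (O : Set ↥U.left) (R' : Set ↥(ha.rep.pullback a).left), IsOpen O ∧ IsCompact O ∧
      (O ∩ W).Nonempty ∧ IsOpen R' ∧ IsCompact R' ∧
      (ha.rep.snd a).left ⁻¹' (O ∩ W) ⊆ R' := by
  let t := (ha.rep.snd a).left
  have : Etale t := ha.property_snd a
  have : IsSeparated t := isSeparated_snd ha.rep
  classical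
  obtain ⟨n, O, hO, hOW, hdis⟩ := SpecTop.exists_open_disjoint hW hne (fun n => Levels.Lev n t)
    (fun n => Levels.isOpen_lev n t)
    (fun w _ => Levels.exists_notMem_lev t w (finite_fibres_snd hF ha w))
  have hP : ∃ n, ∃ O : Set ↥U.left, IsOpen O ∧ (O ∩ W).Nonempty ∧ O ∩ W ∩ Levels.Lev n t = ∅ :=
    ⟨n, O, hO, hOW, hdis⟩
  obtain ⟨O₁, hO₁, hO₁W, hdis₁⟩ := Nat.find_spec hP
  obtain ⟨m, hm⟩ : ∃ m, Nat.find hP = m + 1 := by
    rcases h : Nat.find hP with _ | m
    · rw [h] at hdis₁
      obtain ⟨x, hx⟩ := hO₁W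
      exact absurd (show x ∈ O₁ ∩ W ∩ Levels.Lev 0 t from ⟨hx, trivial⟩)
        (hdis₁ ▸ Set.notMem_empty x)
    · exact ⟨m, rfl⟩
  have hnot : (O₁ ∩ W ∩ Levels.Lev m t).Nonempty :=
    Set.nonempty_iff_ne_empty.2 fun hc => Nat.find_min hP (m := m) (by omega) ⟨O₁, hO₁, hO₁W, hc⟩
  obtain ⟨w, ⟨hwO, hwW⟩, hwm⟩ := hnot
  obtain ⟨N, hN, hwN, R', hR'o, hR'c, hR'⟩ := Levels.local_bound m t w hwm
  obtain ⟨_, ⟨V, hV, rfl⟩, hwV, hVsub⟩ := U.left.isBasis_affineOpens.exists_subset_of_mem_open
    (show w ∈ O₁ ∩ N from ⟨hwO, hwN⟩) (hO₁.inter hN)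
  change U.left.Opens at V
  refine ⟨V, R', V.isOpen, hV.isCompact, ⟨w, hwV, hwW⟩, hR'o, hR'c, fun r hr => hR' ?_⟩
  refine ⟨(hVsub hr.1).2, fun hc => ?_⟩
  rw [hm] at hdis₁
  exact Set.eq_empty_iff_forall_notMem.1 hdis₁ _ ⟨⟨(hVsub hr.1).1, hr.2⟩, hc⟩

end Groth.Agent.Lib.AlgSpDecent.SelfFibre
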