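import Mathlib.AlgebraicGeometry.Pullbacks
import Mathlib.FieldTheory.PurelyInseparable.Basic
import Mathlib.FieldTheory.IsAlgClosed.AlgebraicClosure
import Mathlib.FieldTheory.SeparableClosure
import Mathlib.RingTheory.Spectrum.Prime.Topology
import Mathlib.RingTheory.TensorProduct.Maps
import Mathlib.LinearAlgebra.TensorProduct.Finiteness

/-!
Clopen sets of an algebraic base change descend to finite separable extensions.
-/

universe u

open CategoryTheory CategoryTheory.Limits AlgebraicGeometry TensorProduct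

namespace Groth.Agent.Lib.AlgSpDecent.SepClopen

variable {κ : Type u} [Field κ] {Ω : Type u} [Field Ω] [Algebra κ Ω]

/-- An idempotent of `A ⊗ Ω` is defined over finitely many separable elements of `Ω`. -/
theorem exists_finite_idempotent [Algebra.IsAlgebraic κ Ω] (A : Type u) [CommRing A] [Algebra κ A]
    {e : A ⊗[κ] Ω} (he : IsIdempotentElem e) :
    ∃ s : Finset Ω, (∀ x ∈ s, IsSeparable κ x) ∧
      ∀ (L : Type u) [Field L] [Algebra κ L] (φ : L →ₐ[κ] Ω), (s : Set Ω) ⊆ Set.range φ →
        ∃ e₀ : A ⊗[κ] L, Algebra.TensorProduct.map (AlgHom.id κ A) φ e₀ = e := by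
  classical
  obtain ⟨q, hq⟩ := ExpChar.exists κ
  obtain ⟨T, hT⟩ := TensorProduct.exists_finset e
  have : IsPurelyInseparable (separableClosure κ Ω) Ω := separableClosure.isPurelyInseparable κ Ω
  have : ExpChar (separableClosure κ Ω) q := expChar_of_injective_algebraMap (algebraMap κ _).injective q
  have : ExpChar Ω q := expChar_of_injective_algebraMap (algebraMap κ Ω).injective q
  choose m hm using fun x : Ω => IsPurelyInseparable.pow_mem (separableClosure κ Ω) q x
  let N := T.sup fun p => m p.2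
  have hN : ∀ p ∈ T, IsSeparable κ (p.2 ^ q ^ N) := fun p hp => by
    obtain ⟨⟨y, hy⟩, hy'⟩ := hm p.2
    have h : p.2 ^ q ^ N ∈ separableClosure κ Ω := by
      have hle : m p.2 ≤ N := Finset.le_sup (f := fun p => m p.2) hp
      rw [← Nat.add_sub_cancel' hle, pow_add, pow_mul]
      refine pow_mem ?_ _
      rw [← hy']
      exact hy
    exact mem_separableClosure_iff.1 h
  refine ⟨T.image fun p => p.2 ^ q ^ N, fun x hx => ?_, fun L _ _ φ hs => ?_⟩
  · obtain ⟨p, hp, rfl⟩ := Finset.mem_image.1 hx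
    exact hN p hp
  · have hr : ∀ p ∈ T, ∃ l, φ l = p.2 ^ q ^ N := fun p hp => hs (Finset.mem_image_of_mem (fun p => p.2 ^ q ^ N) hp)
    choose l hl using hr
    refine ⟨∑ p ∈ T.attach, (p.1.1 ^ q ^ N) ⊗ₜ l p.1 p.2, ?_⟩
    cases subsingleton_or_nontrivial (A ⊗[κ] Ω) with
    | inl h => exact Subsingleton.elim _ _
    | inr h =>
      have : ExpChar (A ⊗[κ] Ω) q := expChar_of_injective_algebraMap (algebraMap κ _).injective q
      have he' : e = e ^ q ^ N := by
        rcases Nat.eq_zero_or_pos (q ^ N) with h0 | h0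
        · exact absurd h0 (pow_ne_zero N (expChar_pos κ q).ne')
        · obtain ⟨k, hk⟩ := Nat.exists_eq_succ_of_ne_zero h0.ne'
          rw [hk, he.pow_succ_eq]
      rw [map_sum, he', hT, sum_pow_char_pow q N, ← Finset.sum_attach T]
      refine Finset.sum_congr rfl fun p _ => ?_
      rw [Algebra.TensorProduct.map_tmul, AlgHom.id_apply, hl, Algebra.TensorProduct.tmul_pow]

/-- A clopen set of an affine scheme after an algebraic extension is saturated for a finite separable
extension. -/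
theorem exists_finite_saturated [Algebra.IsAlgebraic κ Ω] {F : Scheme.{u}} [IsAffine F]
    (t : F ⟶ Spec (CommRingCat.of κ)) {C : Set ↥(pullback t (Spec.map (CommRingCat.ofHom (algebraMap κ Ω))))}
    (hC : IsClopen C) :
    ∃ s : Finset Ω, (∀ x ∈ s, IsSeparable κ x) ∧
      ∀ (L : Type u) [Field L] [Algebra κ L] (φ : L →ₐ[κ] Ω), (s : Set Ω) ⊆ Set.range φ →
        ∀ (m : pullback t (Spec.map (CommRingCat.ofHom (algebraMap κ Ω))) ⟶
            pullback t (Spec.map (CommRingCat.ofHom (algebraMap κ L)))),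
          m ≫ pullback.fst _ _ = pullback.fst _ _ →
          m ≫ pullback.snd _ _ = pullback.snd _ _ ≫ Spec.map (CommRingCat.ofHom φ.toRingHom) →
          ∀ z z', m z = m z' →
          (z ∈ C ↔ z' ∈ C) := by
  obtain ⟨ρ, hρ⟩ := Spec.map_surjective (F.isoSpec.inv ≫ t)
  let A : Type u := Γ(F, ⊤)
  let algA : Algebra κ A := ρ.hom.toAlgebra
  let i : Spec (CommRingCat.of (A ⊗[κ] Ω)) ≅ pullback t (Spec.map (CommRingCat.ofHom (algebraMap κ Ω))) :=
    (pullbackSpecIso κ A Ω).symm ≪≫ asIso (pullback.map _ _ _ _ F.isoSpec.inv (𝟙 _) (𝟙 _)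
      (by rw [Category.comp_id]; exact hρ) (by simp))
  obtain ⟨e, he, hCe⟩ := PrimeSpectrum.exists_idempotent_basicOpen_eq_of_isClopen
    (hC.preimage i.hom.continuous : IsClopen (i.hom ⁻¹' C))
  obtain ⟨s, hs, H⟩ := exists_finite_idempotent A he
  refine ⟨s, hs, fun L _ _ φ hsub n hn₁ hn₂ z z' hzz' => ?_⟩
  obtain ⟨e₀, he₀⟩ := H L φ hsub
  let i' : Spec (CommRingCat.of (A ⊗[κ] L)) ≅ pullback t (Spec.map (CommRingCat.ofHom (algebraMap κ L))) :=
    (pullbackSpecIso κ A L).symm ≪≫ asIso (pullback.map _ _ _ _ F.isoSpec.inv (𝟙 _) (𝟙 _)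
      (by rw [Category.comp_id]; exact hρ) (by simp))
  let m := Algebra.TensorProduct.map (AlgHom.id κ A) φ
  have hm : i.hom ≫ n = Spec.map (CommRingCat.ofHom m.toRingHom) ≫ i'.hom := by
    apply pullback.hom_ext
    · rw [Category.assoc, hn₁]
      simp only [i, i', pullback.map, Iso.trans_hom, Iso.symm_hom, asIso_hom, Category.assoc, pullback.lift_fst,
        pullback.lift_fst_assoc, Category.comp_id, pullbackSpecIso_inv_fst_assoc, ← Spec.map_comp_assoc]
      congr 2
      ext a
      simp [m, Algebra.TensorProduct.map_tmul]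
    · rw [Category.assoc, hn₂]
      simp only [i, i', pullback.map, Iso.trans_hom, Iso.symm_hom, asIso_hom, Category.assoc, pullback.lift_snd,
        pullback.lift_snd_assoc, Category.comp_id, Category.id_comp, pullbackSpecIso_inv_snd_assoc, pullbackSpecIso_inv_snd, ← Spec.map_comp]
      congr 1
  obtain ⟨w, rfl⟩ := i.hom.homeomorph.surjective z
  obtain ⟨w', rfl⟩ := i.hom.homeomorph.surjective z'
  have key : ∀ v, i.hom v ∈ C ↔ e₀ ∉ (PrimeSpectrum.comap m.toRingHom v).asIdeal := fun v => by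
    rw [← Set.mem_preimage, hCe]
    show e ∉ v.asIdeal ↔ e₀ ∉ _
    rw [← he₀]
    rfl
  have e2 : PrimeSpectrum.comap m.toRingHom w = PrimeSpectrum.comap m.toRingHom w' := by
    apply i'.hom.homeomorph.injective
    have h1 := congrArg (fun f => (f : Spec (CommRingCat.of (A ⊗[κ] Ω)) ⟶ _) w) hm
    have h2 := congrArg (fun f => (f : Spec (CommRingCat.of (A ⊗[κ] Ω)) ⟶ _) w') hm
    simp only [Scheme.Hom.comp_apply] at h1 h2
    exact h1.symm.trans (hzz'.trans h2)
  change i.hom w ∈ C ↔ i.hom w' ∈ C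
  rw [key, key, e2]

end Groth.Agent.Lib.AlgSpDecent.SepClopen
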