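import Groth.Agent.Lib.AlgSpDecent.FiniteRel
import Groth.Agent.Lib.AlgSpDecent.DenseQC
import Groth.Agent.Lib.AlgSpMor.LocP
import Groth.Agent.Lib.FFDesc.Lqf
import Groth.Agent.Lib.FibreDeg.Basic
import Groth.Agent.Lib.AlgSpDecent.Saturate
import Mathlib.AlgebraicGeometry.Morphisms.Flat

/-!
Tuples of points of an affine chart with equal image and pairwise distinct.
-/

universe u

open CategoryTheory CategoryTheory.Limits AlgebraicGeometry Opposite Topology

namespace Groth.Agent.Lib.AlgSpDecent.Tuples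

open AlgSp Groth.Agent.Lib.AlgSpace Core FiniteRel

variable {S : Scheme.{u}} {X : Sp S} {U : Over S} {a : (yon S).obj U ⟶ X} {n : ℕ}

/-- A family of maps is pairwise distinct at every point. -/
def Distinct {T : Over S} (x : Fin n → (T ⟶ U)) : Prop :=
  ∀ (z : ↥T.left) (i j : Fin n), res z ≫ x i = res z ≫ x j → i = j

/-- The scheme of distinct tuples. -/
structure IsTuples (a : (yon S).obj U ⟶ X) (W : Over S) (π : Fin (n + 1) → (W ⟶ U)) : Prop where
  comm : ∀ i, (yon S).map (π i) ≫ a = (yon S).map (π 0) ≫ a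
  etale : RepWith @Etale ((yon S).map (π 0) ≫ a)
  separated : W.left.IsSeparated
  distinct : Distinct π
  lift : ∀ {T : Over S} (x : Fin (n + 1) → (T ⟶ U)),
    (∀ i, (yon S).map (x i) ≫ a = (yon S).map (x 0) ≫ a) → Distinct x →
      ∃ l : T ⟶ W, ∀ i, l ≫ π i = x i
  uniq : ∀ {T : Over S} (l l' : T ⟶ W), (∀ i, l ≫ π i = l' ≫ π i) → l = l'

/-- Residue field morphisms can be cancelled. -/
theorem epi_res {T T' : Over S} (g : T' ⟶ T) (z' : ↥T'.left) {A : Over S}
    (x y : T ⟶ A) : res z' ≫ g ≫ x = res z' ≫ g ≫ y ↔ res (g.left z') ≫ x = res (g.left z') ≫ y := by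
  let m : Over.mk (T'.left.fromSpecResidueField z' ≫ T'.hom) ⟶
      Over.mk (T.left.fromSpecResidueField (g.left z') ≫ T.hom) :=
    Over.homMk (Spec.map (g.left.residueFieldMap z')) (by
      show Spec.map _ ≫ T.left.fromSpecResidueField _ ≫ T.hom = _
      rw [← Category.assoc, Scheme.Hom.SpecMap_residueFieldMap_fromSpecResidueField, Category.assoc,
        Over.w g]
      rfl)
  have hm : m ≫ res (g.left z') = res z' ≫ g := Over.OverMorphism.ext
    (Scheme.Hom.SpecMap_residueFieldMap_fromSpecResidueField _ _)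
  have hme : Epi m := by
    have : Flat m.left := FibreDeg.Basic.flat_of_field (K := T.left.residueField (g.left z')) _
    have : Surjective m.left :=
      ⟨fun p => ⟨IsLocalRing.closedPoint (T'.left.residueField z'),
        Subsingleton.elim (α := PrimeSpectrum (T.left.residueField (g.left z'))) _ _⟩⟩
    have : Epi ((Over.forget S).map m) := Flat.epi_of_flat_of_surjective m.left
    exact (Over.forget S).epi_of_epi_map this
  rw [← Category.assoc, ← Category.assoc, ← hm, Category.assoc, Category.assoc, cancel_epi]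

theorem distinct_comp {T T' : Over S} {x : Fin n → (T ⟶ U)} (hx : Distinct x) (g : T' ⟶ T) :
    Distinct fun i => g ≫ x i :=
  fun z i j h => hx (g.left z) i j ((epi_res g z _ _).1 h)

theorem isTuples_one (ha : RepWith @Etale a) [IsAffine U.left] :
    IsTuples (n := 0) a U (fun _ => 𝟙 U) where
  comm _ := rfl
  etale := by rw [CategoryTheory.Functor.map_id, Category.id_comp]; exact ha
  separated := inferInstance
  distinct _ i j _ := Fin.ext (by omega)
  lift x _ _ := ⟨x 0, fun i => by rw [Category.comp_id, Fin.eq_zero i]⟩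
  uniq l l' h := by simpa using h 0

/-- One more point. -/
theorem exists_succ (ha : RepWith @Etale a) [IsAffine U.left] {W : Over S}
    {π : Fin (n + 1) → (W ⟶ U)} (h : IsTuples a W π) :
    ∃ (W' : Over S) (π' : Fin (n + 2) → (W' ⟶ U)), IsTuples a W' π' := by
  let b := (yon S).map (π 0) ≫ a
  let hr := ha.rep
  let R := hr.pullback b
  let f : R ⟶ U := hr.fst' b
  let p : R ⟶ W := hr.snd b
  have sq : IsPullback ((yon S).map f) ((yon S).map p) a b := hr.isPullback' b
  have hpe : Etale p.left := ha.property_snd b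
  have hps : IsSeparated p.left := DenseQC.isSeparated_snd hr b
  have hg : ∀ i, ∃ γ : W ⟶ R, γ ≫ f = π i ∧ γ ≫ p = 𝟙 W := fun i =>
    ⟨hr.lift' (π i) (𝟙 W) (by rw [CategoryTheory.Functor.map_id, Category.id_comp]; exact h.comm i),
      hr.lift'_fst _ _ _, hr.lift'_snd _ _ _⟩
  choose γ hγf hγp using hg
  have hoi : ∀ i, IsOpenImmersion (γ i).left := fun i => by
    have h : (γ i).left ≫ p.left = 𝟙 _ := congrArg CommaMorphism.left (hγp i)
    have : IsSplitMono (γ i).left := ⟨⟨⟨p.left, h⟩⟩⟩
    have : Etale (γ i).left := by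
      have : Etale ((γ i).left ≫ p.left) := by rw [h]; infer_instance
      exact Etale.of_comp (γ i).left p.left
    exact IsOpenImmersion.of_flat_of_mono (γ i).left
  have hcl : ∀ i, IsClosed (Set.range (γ i).left) := fun i => by
    have h : (γ i).left ≫ p.left = 𝟙 _ := congrArg CommaMorphism.left (hγp i)
    have : IsClosedImmersion ((γ i).left ≫ p.left) := by rw [h]; infer_instance
    have := IsClosedImmersion.of_comp (γ i).left p.left
    exact (γ i).left.isClosedEmbedding.isClosed_range
  let O : R.left.Opens :=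
    ⟨(⋃ i, Set.range (γ i).left)ᶜ, (isClosed_iUnion_of_finite hcl).isOpen_compl⟩
  let W' : Over S := Over.mk (O.ι ≫ R.hom)
  let j : W' ⟶ R := Over.homMk O.ι rfl
  let π' : Fin (n + 2) → (W' ⟶ U) := Fin.cons (j ≫ f) fun i => j ≫ p ≫ π i
  have hnew : ∀ (z : ↥W'.left) (i : Fin (n + 1)), res z ≫ j ≫ f ≠ res z ≫ j ≫ p ≫ π i := by
    intro z i e
    apply z.2
    refine Set.mem_iUnion.2 ⟨i, ?_⟩
    have e' : res z ≫ j = (res z ≫ j ≫ p) ≫ γ i := hr.hom_ext'
      (by show (res z ≫ j) ≫ f = ((res z ≫ j ≫ p) ≫ γ i) ≫ f; simp only [Category.assoc, hγf, e])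
      (by show (res z ≫ j) ≫ p = ((res z ≫ j ≫ p) ≫ γ i) ≫ p
          simp only [Category.assoc, hγp, Category.comp_id])
    obtain ⟨pt⟩ : Nonempty ↥(Over.mk (W'.left.fromSpecResidueField z ≫ W'.hom)).left :=
      inferInstanceAs (Nonempty (Spec (W'.left.residueField z)))
    exact ⟨(res z ≫ j ≫ p).left pt, ((res_apply z j pt).symm.trans
      (congrArg (fun m : _ ⟶ R => m.left pt) e')).symm⟩
  have hjoi : IsOpenImmersion j.left := inferInstanceAs (IsOpenImmersion O.ι)
  refine ⟨W', π', ⟨fun i => ?_, ?_, ?_, ?_, fun {T} x hx hd => ?_, fun {T} l l' hl => ?_⟩⟩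
  · induction i using Fin.cases with
    | zero => rfl
    | succ i =>
      simp only [π', Fin.cons_succ, Fin.cons_zero, Functor.map_comp, Category.assoc, h.comm i]
      simp only [b] at sq
      rw [sq.w]
  · have : Etale (j ≫ p).left := by rw [Over.comp_left]; infer_instance
    have := AlgSpMor.LocP.repWith_etale_comp (j ≫ p) h.etale
    convert this using 1
    simp only [π', Fin.cons_zero, Functor.map_comp, Category.assoc]
    rw [sq.w]
  · have := h.separated
    have : IsSeparated (j.left ≫ p.left) := inferInstance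
    exact ⟨by rw [← terminal.comp_from (j.left ≫ p.left)]; infer_instance⟩
  · intro z i k e
    induction i using Fin.cases with
    | zero =>
      induction k using Fin.cases with
      | zero => rfl
      | succ k => exact (hnew z k (by simpa only [π', Fin.cons_succ, Fin.cons_zero] using e)).elim
    | succ i =>
      induction k using Fin.cases with
      | zero => exact (hnew z i (by simpa only [π', Fin.cons_succ, Fin.cons_zero] using e.symm)).elim
      | succ k =>
        exact congrArg Fin.succ (distinct_comp h.distinct (j ≫ p) z i k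
          (by simpa only [π', Fin.cons_succ, Category.assoc] using e))
  · obtain ⟨l, hl⟩ := h.lift (fun i => x i.succ) (fun i => (hx i.succ).trans (hx _).symm)
      (fun z i k e => Fin.succ_injective _ (hd z i.succ k.succ e))
    have hw : (yon S).map (x 0) ≫ a = (yon S).map l ≫ b := by
      simp only [b, ← Category.assoc, ← Functor.map_comp, hl 0]
      exact (hx _).symm
    obtain ⟨c, hc₁, hc₂⟩ : ∃ c : T ⟶ R, c ≫ f = x 0 ∧ c ≫ p = l :=
      ⟨hr.lift' (x 0) l hw, hr.lift'_fst _ _ _, hr.lift'_snd _ _ _⟩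
    have hsub : Set.range c.left ⊆ Set.range j.left := by
      rintro _ ⟨z, rfl⟩
      refine ⟨⟨c.left z, fun hmem => ?_⟩, rfl⟩
      obtain ⟨i, hi⟩ := Set.mem_iUnion.1 hmem
      have := hoi i
      obtain ⟨m, hm⟩ := exists_res_factor (γ i) c z hi
      apply Fin.succ_ne_zero i
      refine hd z i.succ 0 ?_
      calc res z ≫ x i.succ = (res z ≫ c) ≫ p ≫ π i := by
            rw [Category.assoc, reassoc_of% hc₂, hl i]
        _ = m ≫ (γ i ≫ p) ≫ π i := by rw [← hm]; simp only [Category.assoc]
        _ = m ≫ γ i ≫ f := by rw [hγp, Category.id_comp, hγf]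
        _ = res z ≫ x 0 := by rw [← Category.assoc, hm, Category.assoc, hc₁]
    obtain ⟨l', hl'⟩ : ∃ l' : T ⟶ W', l' ≫ j = c := by
      refine ⟨Over.homMk (IsOpenImmersion.lift j.left c.left hsub) ?_,
        Over.OverMorphism.ext (IsOpenImmersion.lift_fac _ _ _)⟩
      rw [← Over.w j, IsOpenImmersion.lift_fac_assoc]
      exact Over.w c
    refine ⟨l', fun i => ?_⟩
    induction i using Fin.cases with
    | zero => simp only [π', Fin.cons_zero, reassoc_of% hl', hc₁]
    | succ i => simp only [π', Fin.cons_succ, reassoc_of% hl', reassoc_of% hc₂, hl i]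
  · have : Mono j := (Over.forget S).mono_of_mono_map (inferInstanceAs (Mono j.left))
    rw [← cancel_mono j]
    refine hr.hom_ext' (by simpa only [π', Fin.cons_zero, Category.assoc] using hl 0) ?_
    exact h.uniq _ _ fun i => by simpa only [π', Fin.cons_succ, Category.assoc] using hl i.succ

/-- Distinct tuples exist. -/
theorem exists_tuples (ha : RepWith @Etale a) [IsAffine U.left] :
    ∀ n : ℕ, ∃ (W : Over S) (π : Fin (n + 1) → (W ⟶ U)), IsTuples a W π
  | 0 => ⟨U, _, isTuples_one ha⟩
  | n + 1 => by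
    obtain ⟨W, π, h⟩ := exists_tuples ha n
    exact exists_succ ha h

/-- Finite sets of tuples lie in affine opens. -/
theorem exists_affineOpen (ha : RepWith @Etale a) [IsAffine U.left] {W : Over S}
    {π : Fin (n + 1) → (W ⟶ U)} (h : IsTuples a W π) {T : Set ↥W.left} (hT : T.Finite) :
    ∃ A : W.left.Opens, IsAffineOpen A ∧ T ⊆ (A : Set ↥W.left) := by
  have hπe : Etale (π 0).left := AlgSpMor.LocP.etale_of_comm h.etale ha (π 0) rfl
  have := h.separated
  have hcov : ∀ w : ↥W.left, ∃ A : W.left.Opens, IsAffineOpen A ∧ w ∈ A := fun w => by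
    obtain ⟨A, hA, hw, -⟩ := exists_isAffineOpen_mem_and_subset (x := w) (U := ⊤) trivial
    exact ⟨A, hA, hw⟩
  choose A hA hwA using hcov
  let O : W.left.Opens := hT.toFinset.sup A
  have hOc : IsCompact (O : Set ↥W.left) := by
    rw [TopologicalSpace.Opens.coe_finset_sup, Finset.sup_set_eq_biUnion]
    exact hT.toFinset.isCompact_biUnion fun w _ => (hA w).isCompact
  have : CompactSpace ↥O.toScheme := isCompact_iff_compactSpace.1 hOc
  let e := O.ι ≫ (π 0).left
  have : QuasiCompact e := inferInstance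
  have : IsSeparated e := inferInstance
  have := locallyQuasiFinite_of_etale e
  obtain ⟨-, hqa⟩ := FFDesc.isQuasiAffine_of_lqf e
  have := hqa ⊤ (isAffineOpen_top _)
  rw [show e ⁻¹ᵁ ⊤ = ⊤ from rfl] at this
  have : Scheme.IsQuasiAffine O.toScheme := Scheme.IsQuasiAffine.of_isImmersion O.toScheme.topIso.inv
  let j := O.toScheme.toSpecΓ
  have hsub : ∀ w ∈ T, w ∈ O := fun w hw =>
    (Finset.le_sup (f := A) (hT.mem_toFinset.2 hw)) (hwA w)
  have hT' : (O.ι ⁻¹' T).Finite := hT.preimage O.ι.isOpenEmbedding.injective.injOn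
  obtain ⟨g, hTg, hgO⟩ := Saturate.exists_basicOpen_supset j.opensRange.isOpen (hT'.image j)
    (by rintro _ ⟨x, -, rfl⟩; exact ⟨x, rfl⟩)
  let B := (Spec Γ(O.toScheme, ⊤)).basicOpen g
  refine ⟨O.ι ''ᵁ (j ⁻¹ᵁ B), ?_, fun w hw => ?_⟩
  · refine IsAffineOpen.image_of_isOpenImmersion ?_ O.ι
    exact ((isAffineOpen_top _).basicOpen g).preimage_of_isOpenImmersion j (fun x hx => hgO hx)
  · exact ⟨⟨w, hsub w hw⟩, hTg ⟨⟨w, hsub w hw⟩, hw, rfl⟩, rfl⟩

end Groth.Agent.Lib.AlgSpDecent.Tuples
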