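import Groth.Agent.S2135
import Groth.Agent.S0537
import Groth.Agent.S0754
import Groth.Agent.S0539
import Groth.Agent.Lib.RelFrobFlat.Main
import Mathlib.RingTheory.Flat.FaithfullyFlat.Basic

/-!
Geometric unibranchness descends along flat local homomorphisms.
-/

universe u

namespace Groth.Agent.Lib.AlgSpDecent.UnibranchFlat

open IsLocalRing

theorem isGeomUnibranch_of_flat {A B : Type u} [CommRing A] [IsLocalRing A] [CommRing B] [IsLocalRing B]
    (φ : A →+* B) [IsLocalHom φ] (hφ : φ.Flat) (h : CAlg2.IsGeomUnibranch B) :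
    CAlg2.IsGeomUnibranch A := by
  obtain ⟨A', _, _, _, _, hA⟩ := Groth.Agent.S0537.result A
  obtain ⟨B', _, _, _, _, hB⟩ := Groth.Agent.S0537.result B
  rw [Groth.Agent.S2135.result (Ash := A')]
  rw [Groth.Agent.S2135.result (Ash := B')] at h
  have := hB.henselian
  have := hA.isSepClosure
  have := hB.isSepClosure
  let f : A →+* B' := (algebraMap B B').comp φ
  have : IsLocalHom f := RingHom.isLocalHom_comp _ _
  letI : Algebra (ResidueField A) (ResidueField B') := (ResidueField.map f).toAlgebra
  have : IsSepClosed (ResidueField B') := IsSepClosure.sep_closed (ResidueField B)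
  have : Algebra.IsSeparable (ResidueField A) (ResidueField A') := IsSepClosure.separable
  let τ : ResidueField A' →ₐ[ResidueField A] ResidueField B' := IsSepClosed.lift
  have hτ : τ.toRingHom.comp (ResidueField.map (algebraMap A A')) = ResidueField.map f :=
    RingHom.ext fun r => τ.commutes r
  obtain ⟨g, ⟨hg1, hg2⟩, -⟩ := hA.universal B' f τ.toRingHom hτ
  have : IsLocalHom g := ⟨fun a ha => by
    by_contra hna
    have h0 : residue A' a = 0 := (residue_eq_zero_iff a).2 hna
    have := hg2 a
    rw [h0, map_zero, residue_eq_zero_iff] at this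
    exact this ha⟩
  have : Algebra.WeaklyEtale A A' := Groth.Agent.Lib.IndEtale.Basic.weaklyEtale
    (Groth.Agent.Lib.IndEtale.Basic.of_algEquiv
      (Groth.Agent.Lib.Henselian.IndEtale.isIndEtale_lim)
      (Groth.Agent.Lib.Henselian.StrictHenselization.equivOfIsStrictHenselization A A'))
  algebraize [φ, f, g]
  have : IsScalarTower A B B' := IsScalarTower.of_algebraMap_eq fun _ => rfl
  have : IsScalarTower A A' B' := IsScalarTower.of_algebraMap_eq fun r => (RingHom.congr_fun hg1 r).symm
  have : Module.Flat B B' := (Groth.Agent.S0539.result B B').toFlat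
  have : Module.Flat A B' := Module.Flat.trans A B B'
  have : Module.Flat A' B' := Groth.Agent.Lib.RelFrobFlat.Main.flat_of_weaklyEtale A A' B'
  have : IsLocalHom (algebraMap A' B') := ‹IsLocalHom g›
  have : Module.FaithfullyFlat A' B' := Module.FaithfullyFlat.of_flat_of_isLocalHom
  obtain ⟨q, hq, hu⟩ := h
  have key : ∀ P, P ∈ minimalPrimes A' → P = q.comap (algebraMap A' B') := by
    intro P hP
    have := hP.1.1
    obtain ⟨Q, hQ⟩ := PrimeSpectrum.comap_surjective_of_faithfullyFlat (B := B') (⟨P, hP.1.1⟩ : PrimeSpectrum A')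
    obtain ⟨m, hm, hmle⟩ := Ideal.exists_minimalPrimes_le (bot_le : ⊥ ≤ Q.asIdeal)
    rw [hu m hm] at hmle
    have hle : q.comap (algebraMap A' B') ≤ P := by
      have := congrArg PrimeSpectrum.asIdeal hQ
      exact le_of_le_of_eq (Ideal.comap_mono hmle) this
    have : q.IsPrime := hq.1.1
    exact le_antisymm (hP.2 ⟨Ideal.IsPrime.comap _, bot_le⟩ hle) hle
  obtain ⟨P, hP, -⟩ := Ideal.exists_minimalPrimes_le (bot_le : ⊥ ≤ maximalIdeal A')
  exact ⟨P, hP, fun P' hP' => (key P' hP').trans (key P hP).symm⟩

end Groth.Agent.Lib.AlgSpDecent.UnibranchFlat
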