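import Groth.Agent.Lib.AlgSpDecent.RelDim
import Groth.Agent.Lib.AlgSpDecent.RelDimBC
import Groth.Agent.Lib.AlgSpDecent.UnramBC
import Mathlib.AlgebraicGeometry.Morphisms.FormallyUnramified

/-!
Unramified at a point for morphisms of algebraic spaces, read on charts.
-/

universe u

open CategoryTheory CategoryTheory.Limits AlgebraicGeometry Opposite Topology

namespace Groth.Agent.Lib.AlgSpDecent.UnramAt

open Groth.Agent.Lib.AlgSpMor.LocP

/-- Formally unramified and locally of finite type near a point. -/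
abbrev UnrAt {U V : Scheme.{u}} (h : U ⟶ V) (u : U) : Prop :=
  ∃ W : U.Opens, u ∈ W ∧ LocallyOfFiniteType (W.ι ≫ h) ∧ FormallyUnramified (W.ι ≫ h)

theorem unrAt_precomp_iff {A B C : Scheme.{u}} (e : A ⟶ B) [Etale e] (g : B ⟶ C) (z : A) :
    UnrAt (e ≫ g) z ↔ UnrAt g (e z) := by
  constructor
  · rintro ⟨W, hz, h1, h2⟩
    let O : B.Opens := ⟨e '' (W : Set A), e.isOpenMap _ W.2⟩
    have hr : Set.range (W.ι ≫ e) ⊆ Set.range O.ι := by
      rw [Scheme.Opens.range_ι]
      rintro _ ⟨w, rfl⟩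
      exact ⟨W.ι w, w.2, rfl⟩
    let q := IsOpenImmersion.lift O.ι (W.ι ≫ e) hr
    have hq : q ≫ O.ι = W.ι ≫ e := IsOpenImmersion.lift_fac _ _ _
    have : Etale (q ≫ O.ι) := hq ▸ inferInstance
    have hqe : Etale q := Etale.of_comp q O.ι
    have hqs : Surjective q := ⟨fun o => by
      obtain ⟨a, ha, hae⟩ := o.2
      refine ⟨⟨a, ha⟩, O.ι.isOpenEmbedding.injective ?_⟩
      rw [← Scheme.Hom.comp_apply, hq]
      exact hae⟩
    have hL := (etaleLocalST_of_list (P := (@LocallyOfFiniteType ⊓ @FormallyUnramified : MorphismProperty Scheme.{u}))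
      (Or.inr (Or.inr (Or.inr (Or.inr (Or.inr (Or.inr fun _ _ _ => Iff.rfl))))))).descends q (O.ι ≫ g)
      hqe hqs (by rw [← Category.assoc, hq, Category.assoc]; exact ⟨h1, h2⟩)
    exact ⟨O, ⟨z, hz, rfl⟩, hL.1, hL.2⟩
  · rintro ⟨O, hz, h1, h2⟩
    refine ⟨e ⁻¹ᵁ O, hz, ?_⟩
    rw [← Category.assoc, ← morphismRestrict_ι, Category.assoc]
    exact ⟨MorphismProperty.comp_mem _ _ _ inferInstance h1, MorphismProperty.comp_mem _ _ _ inferInstance h2⟩

theorem unrAt_postcomp_iff {A B C : Scheme.{u}} (g : A ⟶ B) (e : B ⟶ C) [Etale e] (z : A) :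
    UnrAt (g ≫ e) z ↔ UnrAt g z := by
  refine exists_congr fun W => and_congr_right fun _ => ?_
  rw [← Category.assoc]
  constructor
  · rintro ⟨h1, h2⟩
    exact ⟨locallyOfFiniteType_of_comp _ e, FormallyUnramified.of_comp _ e⟩
  · rintro ⟨h1, h2⟩
    exact ⟨inferInstance, MorphismProperty.comp_mem _ _ _ h2 inferInstance⟩

open AlgSp Groth.Agent.Lib.AlgSpace Groth.Agent.Lib.AlgSpDecent.Core FiniteNhd

variable {S : Scheme.{u}} {X Y : Sp S} {f : X ⟶ Y}

/-- Unramifiedness at a point can be read off any chart diagram. -/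
theorem unrAt_iff_chart (hX : IsAlgSpace X) (hY : IsAlgSpace Y) {U V : Over S}
    {a : (yon S).obj U ⟶ X} {b : (yon S).obj V ⟶ Y} {h : U ⟶ V}
    (ha : RepWith @Etale a) (hb : RepWith @Etale b) (w : a ≫ f = (yon S).map h ≫ b) (u : ↥U.left) :
    HasAtMor (fun _ _ g v => UnrAt g v) f (Points.ofPt a u) ↔ UnrAt h.left u := by
  refine ⟨?_, fun hd => ⟨U, V, a, b, h, u, ha, hb, w, rfl, hd⟩⟩
  rintro ⟨U', V', a', b', h', u', ha', hb', w', hu, hd⟩
  obtain ⟨U'', p, q, sq⟩ := exists_isPullback_yon hX.diag a a'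
  obtain ⟨W, r, r', sqW⟩ := exists_isPullback_yon hY.diag b b'
  have : Etale p.left := repWith_property ha' sq.flip
  have : Etale q.left := repWith_property ha sq
  have : Etale r.left := repWith_property hb' sqW.flip
  have : Etale r'.left := repWith_property hb sqW
  obtain ⟨k, hk⟩ := (yon S).map_surjective (sqW.lift ((yon S).map (p ≫ h)) ((yon S).map (q ≫ h'))
    (by rw [Functor.map_comp, Functor.map_comp, Category.assoc, Category.assoc, ← w, ← w',
      reassoc_of% sq.w]))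
  have k1 : k.left ≫ r.left = p.left ≫ h.left := by
    rw [← Over.comp_left, ← Over.comp_left]
    exact congrArg CommaMorphism.left ((yon S).map_injective (by rw [Functor.map_comp, hk, sqW.lift_fst]))
  have k2 : k.left ≫ r'.left = q.left ≫ h'.left := by
    rw [← Over.comp_left, ← Over.comp_left]
    exact congrArg CommaMorphism.left ((yon S).map_injective (by rw [Functor.map_comp, hk, sqW.lift_snd]))
  obtain ⟨z, rfl, rfl⟩ := (ofPt_eq_ofPt_iff_of_isPullback sq u u').1 hu.symm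
  rw [← unrAt_precomp_iff p.left, ← k1, unrAt_postcomp_iff, ← unrAt_postcomp_iff k.left r'.left, k2,
    unrAt_precomp_iff q.left]
  exact hd

theorem isOpen_unrAt : IsOpen {x : Points X | HasAtMor (fun _ _ g v => UnrAt g v) f x} := by
  rw [isOpen_iff_forall_mem_open]
  rintro x ⟨U, V, a, b, h, u, ha, hb, w, rfl, W, hu, h1, h2⟩
  refine ⟨Points.ofPt a '' (W : Set ↥U.left), ?_, Core.isOpenMap_ofPt ha _ W.2, ⟨u, hu, rfl⟩⟩
  rintro _ ⟨u', hu', rfl⟩
  exact ⟨U, V, a, b, h, u', ha, hb, w, rfl, W, hu', h1, h2⟩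

/-- Unramifiedness at a point is compatible with base change. -/
theorem unrAt_of_isPullback {Y' X' : Sp S} {g : Y' ⟶ Y} {g' : X' ⟶ X} {f' : X' ⟶ Y'}
    (hX : IsAlgSpace X) (hY : IsAlgSpace Y) (hY' : IsAlgSpace Y') (sq : IsPullback g' f' f g)
    (hf : LocP @LocallyOfFiniteType f) (x' : Points X') :
    HasAtMor (fun _ _ g v => UnrAt g v) f' x' ↔
      HasAtMor (fun _ _ g v => UnrAt g v) f (Points.map g' x') := by
  obtain ⟨U, V, W₀, T, Q, a, b, c, a', h, t₁, t₂, u₁, u₂, ha, has, hb, -, hc, -, ha', has', ht₂, w, -, sqL,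
    w', wa⟩ := RelDimBC.exists_bc_chart hX hY hY' sq
  have hX' : IsAlgSpace X' := isAlgSpace_of_isPullback sq hY.diag hX hY'
  have : LocallyOfFiniteType h.left := hf a b h ha hb w
  have hu₂ : LocallyOfFiniteType u₂.left := MorphismProperty.of_isPullback sqL ‹_›
  obtain ⟨z, rfl⟩ := Core.surjective_ofPt has' x'
  rw [← Core.ofPt_comp, wa, Core.ofPt_map_comp, unrAt_iff_chart hX' hY' ha' hc w',
    unrAt_iff_chart hX hY ha hb w, Over.comp_left, unrAt_postcomp_iff]
  constructor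
  · rintro ⟨W, hz, -, h2⟩
    obtain ⟨O, hO, hu⟩ := UnramBC.exists_unramified_nhd sqL z ⟨W, hz, h2⟩
    exact ⟨O, hO, inferInstance, hu⟩
  · rintro ⟨O, hO, -, h2⟩
    obtain ⟨W, hW, hu⟩ := UnramBC.exists_unramified_nhd_bc sqL z ⟨O, hO, h2⟩
    exact ⟨W, hW, inferInstance, hu⟩

end Groth.Agent.Lib.AlgSpDecent.UnramAt
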