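import Groth.Agent.Lib.AlgSpDecent.SpecTop
import Mathlib.AlgebraicGeometry.Morphisms.ClosedImmersion
import Mathlib.AlgebraicGeometry.Morphisms.Affine
import Mathlib.AlgebraicGeometry.Morphisms.Separated
import Mathlib.AlgebraicGeometry.Morphisms.Immersion
import Mathlib.AlgebraicGeometry.Limits

/-!
Quasi-separated schemes all of whose points are minimal.
-/

universe u

open CategoryTheory CategoryTheory.Limits AlgebraicGeometry Opposite Topology TopologicalSpace

namespace Groth.Agent.Lib.AlgSpDecent.ZeroDim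

variable {X : Scheme.{u}}

theorem isAffineOpen_of_closed_in {V W : X.Opens} (hV : IsAffineOpen V) (hWV : W ≤ V)
    (hcl : IsClosed (V.ι ⁻¹' (W : Set X))) : IsAffineOpen W := by
  have : IsClosedImmersion (X.homOfLE hWV) := by
    refine .of_isPreimmersion _ ?_
    have : Set.range (X.homOfLE hWV) = V.ι ⁻¹' (W : Set X) := by
      apply V.ι.isOpenEmbedding.injective.image_injective
      rw [← Set.range_comp, Set.image_preimage_eq_inter_range, Scheme.Opens.range_ι,
        Set.inter_eq_left.2 hWV]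
      have := congrArg (fun m : W.toScheme ⟶ X => Set.range ⇑m) (X.homOfLE_ι hWV)
      simp only [Scheme.Hom.comp_base, TopCat.coe_comp, Scheme.Opens.range_ι] at this
      exact this
    rw [this]; exact hcl
  have : IsAffine (V : Scheme.{u}) := hV
  exact isAffine_of_isAffineHom (X.homOfLE hWV)

theorem diagonal_comp_map {W T : Scheme.{u}} (i : W ⟶ X) (f : X ⟶ T) :
    pullback.diagonal (i ≫ f) ≫ pullback.map (i ≫ f) (i ≫ f) f f i i (𝟙 T) (by simp) (by simp) =
      i ≫ pullback.diagonal f := by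
  apply pullback.hom_ext
  · simp only [Category.assoc, pullback.diagonal_fst, Category.comp_id i]
    refine (congrArg (pullback.diagonal _ ≫ ·) (pullback.lift_fst _ _ _)).trans ?_
    exact pullback.diagonal_fst_assoc _ i
  · simp only [Category.assoc, pullback.diagonal_snd, Category.comp_id i]
    refine (congrArg (pullback.diagonal _ ≫ ·) (pullback.lift_snd _ _ _)).trans ?_
    exact pullback.diagonal_snd_assoc _ i

variable [QuasiSeparatedSpace X]

theorem isAffineOpen_sup (hmin : ∀ x y : X, y ⤳ x → y = x) {U V : X.Opens}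
    (hU : IsAffineOpen U) (hV : IsCompact (V : Set X)) :
    IsClosed (U.ι ⁻¹' (V : Set X)) := by
  have : IsAffine (U : Scheme.{u}) := hU
  have hc : IsCompact (U.ι ⁻¹' (V : Set X)) := by
    rw [U.ι.isOpenEmbedding.isEmbedding.isCompact_iff, Set.image_preimage_eq_inter_range,
      Scheme.Opens.range_ι]
    exact hV.inter_of_isOpen hU.isCompact V.isOpen U.isOpen
  rw [← isOpen_compl_iff]
  refine isOpen_iff_forall_mem_open.2 fun η hη => ?_
  obtain ⟨N, hN, hηN, hdis⟩ := SpecTop.exists_open_disjoint_compact (U := (U : Scheme.{u}))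
    isClosed_univ (η := η)
    (fun y _ hy => U.ι.isOpenEmbedding.injective (hmin _ _ (hy.map U.ι.continuous)))
    (V.isOpen.preimage U.ι.continuous) hc hη
  exact ⟨N, fun z hz hzV => Set.eq_empty_iff_forall_notMem.1 hdis z ⟨⟨hz, trivial⟩, hzV⟩, hN, hηN⟩

/-- The union of two affine opens is affine. -/
theorem isAffineOpen_union (hmin : ∀ x y : X, y ⤳ x → y = x) {U V : X.Opens}
    (hU : IsAffineOpen U) (hV : IsAffineOpen V) : IsAffineOpen (U ⊔ V) := by
  have hcl := isAffineOpen_sup hmin hV hU.isCompact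
  have : IsAffine (V : Scheme.{u}) := hV
  let C : Set ↥(V : Scheme.{u}) := V.ι ⁻¹' (U : Set X)
  have hCc : IsCompact C := hcl.isCompact
  have hCo : IsOpen C := U.isOpen.preimage V.ι.continuous
  let W : X.Opens := ⟨V.ι '' Cᶜ, V.ι.isOpenEmbedding.isOpenMap _ hcl.isOpen_compl⟩
  have hWV : W ≤ V := by
    rintro _ ⟨z, -, rfl⟩
    exact z.2
  have hpre : V.ι ⁻¹' (W : Set X) = Cᶜ := V.ι.isOpenEmbedding.injective.preimage_image _
  have hW : IsAffineOpen W := isAffineOpen_of_closed_in hV hWV (by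
    rw [hpre]; exact hCo.isClosed_compl)
  have hdis : Disjoint U W := by
    rw [← Opens.coe_disjoint, Set.disjoint_right]
    rintro _ ⟨z, hz, rfl⟩ h
    exact hz h
  have heq : U ⊔ V = U ⊔ W := by
    refine le_antisymm (sup_le le_sup_left ?_) (sup_le le_sup_left (le_sup_of_le_right hWV))
    intro z hz
    by_cases h : z ∈ U
    · exact Or.inl h
    · exact Or.inr ⟨⟨z, hz⟩, h, rfl⟩
  rw [heq]
  exact hU.sup_of_disjoint hW hdis

/-- Compact opens are affine. -/
theorem isAffineOpen_of_isCompact (hmin : ∀ x y : X, y ⤳ x → y = x) (V : X.Opens)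
    (hV : IsCompact (V : Set X)) : IsAffineOpen V := by
  obtain ⟨s, hs⟩ := hV.elim_finite_subcover
    (fun U : {U : X.affineOpens // U.1 ≤ V} => (U.1.1 : Set X)) (fun U => U.1.1.isOpen) (fun x hx => by
      obtain ⟨_, ⟨U, hU, rfl⟩, hxU, hUV⟩ := X.isBasis_affineOpens.exists_subset_of_mem_open
        hx V.isOpen
      exact Set.mem_iUnion.2 ⟨⟨⟨U, hU⟩, hUV⟩, hxU⟩)
  have hle : s.sup (fun U => U.1.1) ≤ V := Finset.sup_le fun U _ => U.2
  have heq : V = s.sup (fun U => U.1.1) := by
    refine le_antisymm ?_ hle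
    intro x hx
    obtain ⟨U, hU, hxU⟩ := Set.mem_iUnion₂.1 (hs hx)
    exact (Finset.le_sup (f := fun U : {U : X.affineOpens // U.1 ≤ V} => U.1.1) hU) hxU
  rw [heq]
  clear hle heq hs
  classical
  induction s using Finset.induction with
  | empty => rw [Finset.sup_empty]; exact isAffineOpen_bot X
  | insert a s _ ih => rw [Finset.sup_insert]; exact isAffineOpen_union hmin a.1.2 ih

/-- Such a scheme is separated. -/
theorem isSeparated (hmin : ∀ x y : X, y ⤳ x → y = x) : X.IsSeparated := by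
  refine ⟨⟨?_⟩⟩
  refine .of_isPreimmersion _ ?_
  rw [← isOpen_compl_iff]
  refine isOpen_iff_forall_mem_open.2 fun z hz => ?_
  let f := terminal.from X
  obtain ⟨_, ⟨U₁, hU₁, rfl⟩, h₁, -⟩ := X.isBasis_affineOpens.exists_subset_of_mem_open
    (Set.mem_univ ((pullback.fst f f) z)) isOpen_univ
  obtain ⟨_, ⟨U₂, hU₂, rfl⟩, h₂, -⟩ := X.isBasis_affineOpens.exists_subset_of_mem_open
    (Set.mem_univ ((pullback.snd f f) z)) isOpen_univ
  change X.Opens at U₁ U₂
  let W : X.Opens := U₁ ⊔ U₂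
  have hW : IsAffineOpen W := isAffineOpen_union hmin hU₁ hU₂
  have : IsAffine (W : Scheme.{u}) := hW
  let g : pullback (W.ι ≫ f) (W.ι ≫ f) ⟶ pullback f f :=
    pullback.map _ _ _ _ W.ι W.ι (𝟙 _) (by simp) (by simp)
  have hz' : z ∈ Set.range g := by
    rw [AlgebraicGeometry.Scheme.Pullback.range_map]
    simp only [Set.mem_inter_iff, Set.mem_preimage, Scheme.Opens.range_ι]
    exact ⟨Or.inl h₁, Or.inr h₂⟩
  have : IsSeparated (W.ι ≫ f) := inferInstance
  have hcl : IsClosed (Set.range (pullback.diagonal (W.ι ≫ f))) :=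
    (pullback.diagonal (W.ι ≫ f)).isClosedEmbedding.isClosed_range
  refine ⟨g '' (Set.range (pullback.diagonal (W.ι ≫ f)))ᶜ, ?_,
    g.isOpenEmbedding.isOpenMap _ hcl.isOpen_compl, ?_⟩
  · rintro _ ⟨w, hw, rfl⟩ ⟨x, hx⟩
    apply hw
    have hxW : x ∈ Set.range W.ι := by
      have h : (pullback.diagonal f ≫ pullback.fst f f) x = (g ≫ pullback.fst f f) w :=
        congrArg (fun q => (pullback.fst f f) q) hx
      rw [pullback.diagonal_fst, show g ≫ pullback.fst f f = pullback.fst _ _ ≫ W.ι from pullback.lift_fst _ _ _] at h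
      exact ⟨_, h.symm⟩
    obtain ⟨x₀, rfl⟩ := hxW
    refine ⟨x₀, g.isOpenEmbedding.injective ?_⟩
    rw [← hx, ← Scheme.Hom.comp_apply, ← Scheme.Hom.comp_apply]
    refine congrArg (fun m : W.toScheme ⟶ pullback f f => m x₀) ?_
    exact diagonal_comp_map W.ι f
  · obtain ⟨w, rfl⟩ := hz'
    exact ⟨w, fun ⟨x, hx⟩ => hz ⟨W.ι x, by
      rw [← hx, ← Scheme.Hom.comp_apply, ← Scheme.Hom.comp_apply]
      refine congrArg (fun m : W.toScheme ⟶ pullback f f => m x) ?_
      exact (diagonal_comp_map W.ι f).symm⟩, rfl⟩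

end Groth.Agent.Lib.AlgSpDecent.ZeroDim
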